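import Mathlib

/-!
# Representation-level lemmas used by the character library (any field).
-/

set_option autoImplicit false

namespace Cfsg.Agent.Char

open Representation Module

section General

variable {k G V W : Type*} [Field k] [Monoid G] [AddCommGroup V] [Module k V]
  [AddCommGroup W] [Module k W]

/-- Transport of a representation along a linear equivalence. -/
noncomputable def repConj (ρ : Representation k G V) (e : V ≃ₗ[k] W) : Representation k G W where
  toFun g := e.conj (ρ g)
  map_one' := by ext w; simp [LinearEquiv.conj_apply]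
  map_mul' g h := by
    ext w
    simp [LinearEquiv.conj_apply]

theorem repConj_apply (ρ : Representation k G V) (e : V ≃ₗ[k] W) (g : G) (w : W) :
    repConj ρ e g w = e (ρ g (e.symm w)) := rfl

/-- The transported representation is equivalent to the original one. -/
noncomputable def repConjEquiv (ρ : Representation k G V) (e : V ≃ₗ[k] W) :
    ρ.Equiv (repConj ρ e) :=
  Representation.Equiv.mk e (fun g => by ext v; simp [repConj_apply])

theorem equiv_apply_rep {ρ : Representation k G V} {σ : Representation k G W} (e : ρ.Equiv σ)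
    (g : G) (v : V) : e (ρ g v) = σ g (e v) :=
  e.toIntertwiningMap.isIntertwining ρ σ g v

theorem subrep_eq_bot_iff {ρ : Representation k G V} (U : Subrepresentation ρ) :
    U = ⊥ ↔ U.toSubmodule = ⊥ :=
  ⟨fun h => by rw [h]; rfl, fun h => Subrepresentation.ext h⟩

theorem subrep_eq_top_iff {ρ : Representation k G V} (U : Subrepresentation ρ) :
    U = ⊤ ↔ U.toSubmodule = ⊤ :=
  ⟨fun h => by rw [h]; rfl, fun h => Subrepresentation.ext h⟩

theorem nontrivial_of_isIrreducible (ρ : Representation k G V) [h : ρ.IsIrreducible] :
    Nontrivial V := by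
  by_contra hV
  rw [not_nontrivial_iff_subsingleton] at hV
  have : (⊥ : Subrepresentation ρ) = ⊤ := by
    apply Subrepresentation.ext
    exact Subsingleton.elim _ _
  exact bot_ne_top this

/-- Irreducibility in terms of invariant subspaces. -/
theorem isIrreducible_iff (ρ : Representation k G V) :
    ρ.IsIrreducible ↔ Nontrivial V ∧
      ∀ U : Submodule k V, (∀ g, ∀ v ∈ U, ρ g v ∈ U) → U = ⊥ ∨ U = ⊤ := by
  constructor
  · intro h
    refine ⟨nontrivial_of_isIrreducible ρ, fun U hU => ?_⟩
    let U' : Subrepresentation ρ := ⟨U, fun g v hv => hU g v hv⟩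
    rcases eq_bot_or_eq_top U' with h1 | h1
    · exact Or.inl ((subrep_eq_bot_iff U').1 h1)
    · exact Or.inr ((subrep_eq_top_iff U').1 h1)
  · rintro ⟨hV, h⟩
    have hne : (⊥ : Subrepresentation ρ) ≠ ⊤ := by
      intro h1
      have h2 : (⊥ : Submodule k V) = ⊤ := congrArg Subrepresentation.toSubmodule h1
      exact bot_ne_top h2
    have : Nontrivial (Subrepresentation ρ) := ⟨⟨_, _, hne⟩⟩
    refine ⟨fun U => ?_⟩
    rcases h U.toSubmodule (fun g v hv => U.apply_mem_toSubmodule g hv) with h1 | h1
    · exact Or.inl ((subrep_eq_bot_iff U).2 h1)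
    · exact Or.inr ((subrep_eq_top_iff U).2 h1)

theorem isIrreducible_of_equiv {ρ : Representation k G V} {σ : Representation k G W}
    (e : ρ.Equiv σ) (h : ρ.IsIrreducible) : σ.IsIrreducible := by
  rw [isIrreducible_iff] at h ⊢
  obtain ⟨hV, h⟩ := h
  refine ⟨e.toLinearEquiv.symm.toEquiv.nontrivial, fun U hU => ?_⟩
  have he : ∀ g v, e.toLinearEquiv (ρ g v) = σ g (e.toLinearEquiv v) := equiv_apply_rep e
  generalize e.toLinearEquiv = f at he
  have := h (U.comap f.toLinearMap) (fun g v hv => by
    simp only [Submodule.mem_comap, LinearEquiv.coe_coe] at hv ⊢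
    rw [he]
    exact hU g _ hv)
  rcases this with h1 | h1
  · left
    rw [eq_bot_iff]
    intro w hw
    have : f.symm w ∈ U.comap f.toLinearMap := by
      simpa using hw
    rw [h1] at this
    simpa using this
  · right
    rw [eq_top_iff]
    intro w _
    have : f.symm w ∈ U.comap f.toLinearMap := by
      rw [h1]; trivial
    simpa using this

theorem isCompl_toSubmodule {ρ : Representation k G V} {U U' : Subrepresentation ρ}
    (h : IsCompl U U') : IsCompl U.toSubmodule U'.toSubmodule := by
  constructor
  · rw [disjoint_iff, ← Subrepresentation.toSubmodule_inf, h.inf_eq_bot]; rfl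
  · rw [codisjoint_iff, ← Subrepresentation.toSubmodule_sup, h.sup_eq_top]; rfl

/-- The equivalence `U × U' ≃ V` for complementary subrepresentations. -/
noncomputable def prodEquivOfIsCompl {ρ : Representation k G V} {U U' : Subrepresentation ρ}
    (h : IsCompl U U') : (U.toRepresentation.prod U'.toRepresentation).Equiv ρ :=
  Representation.Equiv.mk (Submodule.prodEquivOfIsCompl _ _ (isCompl_toSubmodule h)) (fun g => by
    apply LinearMap.ext
    rintro ⟨x, y⟩
    simp [Subrepresentation.toRepresentation])

theorem char_prod [FiniteDimensional k V] [FiniteDimensional k W]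
    (ρ : Representation k G V) (σ : Representation k G W) :
    (ρ.prod σ).character = ρ.character + σ.character := by
  ext g
  exact LinearMap.trace_prodMap' (ρ g) (σ g)

theorem char_eq_add_of_isCompl [FiniteDimensional k V] {ρ : Representation k G V}
    {U U' : Subrepresentation ρ} (h : IsCompl U U') :
    ρ.character = U.toRepresentation.character + U'.toRepresentation.character := by
  rw [← char_prod, char_iso (prodEquivOfIsCompl h)]

theorem char_eq_zero_of_subsingleton [Subsingleton V] (ρ : Representation k G V) :
    ρ.character = 0 := by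
  ext g
  have : ρ g = 0 := Subsingleton.elim _ _
  simp [character, this]

theorem char_comp {H : Type*} [Monoid H] (ρ : Representation k G V) (f : H →* G) :
    Representation.character (ρ.comp f : Representation k H V) = fun h => ρ.character (f h) := rfl

theorem isIrreducible_comp_of_surjective {H : Type*} [Monoid H] (ρ : Representation k G V)
    (f : H →* G) (hf : Function.Surjective f) (h : ρ.IsIrreducible) :
    Representation.IsIrreducible (ρ.comp f : Representation k H V) := by
  rw [isIrreducible_iff] at h ⊢
  refine ⟨h.1, fun U hU => h.2 U fun g v hv => ?_⟩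
  obtain ⟨x, rfl⟩ := hf g
  exact hU x v hv

theorem isIrreducible_of_comp {H : Type*} [Monoid H] (ρ : Representation k G V)
    (f : H →* G) (h : Representation.IsIrreducible (ρ.comp f : Representation k H V)) :
    ρ.IsIrreducible := by
  rw [isIrreducible_iff] at h ⊢
  exact ⟨h.1, fun U hU => h.2 U fun g v hv => hU (f g) v hv⟩

theorem isIrreducible_of_finrank_eq_one (ρ : Representation k G V) (h : finrank k V = 1) :
    ρ.IsIrreducible := by
  rw [isIrreducible_iff]
  have := isSimpleModule_iff_finrank_eq_one.2 h
  exact ⟨IsSimpleModule.nontrivial k V, fun U _ => eq_bot_or_eq_top U⟩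

/-- Schur's lemma: an endomorphism commuting with an irreducible representation is a scalar. -/
theorem schur_scalar [IsAlgClosed k] [FiniteDimensional k V] (ρ : Representation k G V)
    [ρ.IsIrreducible] (T : V →ₗ[k] V) (hT : ∀ g, T * ρ g = ρ g * T) :
    ∃ c : k, T = c • (1 : V →ₗ[k] V) := by
  let T' : IntertwiningMap ρ ρ := ⟨T, hT⟩
  obtain ⟨c, hc⟩ :=
    (IsIrreducible.algebraMap_intertwiningMap_bijective_of_isAlgClosed (ρ := ρ)).2 T'
  refine ⟨c, ?_⟩
  exact (congrArg IntertwiningMap.toLinearMap hc).symm

end General

section Induction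

universe v

variable {k G : Type*} [Field k] [Group G] [Finite G] [NeZero (Nat.card G : k)]

/-- Induction principle coming from Maschke's theorem. -/
theorem rep_induction (P : (G → k) → Prop) (h0 : P 0)
    (hirr : ∀ (V : Type v) [AddCommGroup V] [Module k V] [FiniteDimensional k V]
      (ρ : Representation k G V), ρ.IsIrreducible → P ρ.character)
    (hadd : ∀ (V W : Type v) [AddCommGroup V] [Module k V] [FiniteDimensional k V]
      [AddCommGroup W] [Module k W] [FiniteDimensional k W]
      (ρ : Representation k G V) (σ : Representation k G W),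
      P ρ.character → P σ.character → P (ρ.character + σ.character))
    (V : Type v) [AddCommGroup V] [Module k V] [FiniteDimensional k V]
    (ρ : Representation k G V) : P ρ.character := by
  induction hn : finrank k V using Nat.strong_induction_on generalizing V with
  | _ n ih =>
  by_cases hV : Nontrivial V
  swap
  · rw [not_nontrivial_iff_subsingleton] at hV
    rw [char_eq_zero_of_subsingleton]; exact h0
  by_cases hρ : ρ.IsIrreducible
  · exact hirr V ρ hρ
  rw [isIrreducible_iff] at hρ
  push Not at hρ
  obtain ⟨U, hU, hU1, hU2⟩ := hρ hV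
  let U₁ : Subrepresentation ρ := ⟨U, fun g v hv => hU g v hv⟩
  obtain ⟨U₂, h⟩ := exists_isCompl U₁
  have h' := isCompl_toSubmodule h
  have hsum := Submodule.finrank_add_eq_of_isCompl h'
  have hlt1 : finrank k U₁.toSubmodule < n := hn ▸ Submodule.finrank_lt hU2
  have hpos : 0 < finrank k U₁.toSubmodule := by
    rw [Nat.pos_iff_ne_zero]
    intro h0
    exact hU1 (Submodule.finrank_eq_zero.1 h0)
  have hlt2 : finrank k U₂.toSubmodule < n := by omega
  rw [char_eq_add_of_isCompl h]
  exact hadd _ _ _ _ (ih _ hlt1 _ _ rfl) (ih _ hlt2 _ _ rfl)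

/-- A representation whose endomorphism algebra is one-dimensional is irreducible. -/
theorem isIrreducible_of_finrank_intertwining_eq_one {V : Type*} [AddCommGroup V] [Module k V]
    [FiniteDimensional k V] (ρ : Representation k G V)
    (h : finrank k (IntertwiningMap ρ ρ) = 1) : ρ.IsIrreducible := by
  rw [isIrreducible_iff]
  have hV : Nontrivial V := by
    by_contra hV
    rw [not_nontrivial_iff_subsingleton] at hV
    have : Subsingleton (IntertwiningMap ρ ρ) :=
      ⟨fun f g => IntertwiningMap.ext (Subsingleton.elim _ _)⟩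
    rw [finrank_zero_of_subsingleton] at h
    exact zero_ne_one h
  refine ⟨hV, fun U hU => ?_⟩
  let U₁ : Subrepresentation ρ := ⟨U, fun g v hv => hU g v hv⟩
  obtain ⟨U₂, hc⟩ := exists_isCompl U₁
  have h' := isCompl_toSubmodule hc
  let p : V →ₗ[k] V := U₁.toSubmodule.projection U₂.toSubmodule h'
  have hp1 : ∀ v ∈ U₁.toSubmodule, p v = v := fun v hv => by
    simp [p, Submodule.projection_apply_of_mem_left, hv]
  have hp2 : ∀ v ∈ U₂.toSubmodule, p v = 0 := fun v hv => by
    simp [p, hv]
  let p' : IntertwiningMap ρ ρ := ⟨p, fun g => by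
    ext v
    have : v ∈ U₁.toSubmodule ⊔ U₂.toSubmodule := by rw [h'.sup_eq_top]; trivial
    obtain ⟨a, ha, b, hb, rfl⟩ := Submodule.mem_sup.1 this
    simp [hp1 a ha, hp2 b hb, hp1 _ (U₁.apply_mem_toSubmodule g ha),
      hp2 _ (U₂.apply_mem_toSubmodule g hb)]⟩
  have hid : (IntertwiningMap.id ρ) ≠ 0 := by
    intro h0
    obtain ⟨v, hv⟩ := exists_ne (0 : V)
    exact hv (by simpa using congrArg (fun f : IntertwiningMap ρ ρ => f v) h0)
  obtain ⟨c, hc⟩ := (finrank_eq_one_iff_of_nonzero' _ hid).1 h p'
  have hc' : ∀ v, p v = c • v := fun v => by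
    have := congrArg (fun f : IntertwiningMap ρ ρ => f v) hc
    exact this.symm
  by_cases hc0 : c = 0
  · left
    rw [eq_bot_iff]
    intro v hv
    have := hp1 v hv
    rw [hc', hc0, zero_smul] at this
    exact this.symm ▸ Submodule.zero_mem _
  · right
    have : U₂.toSubmodule = ⊥ := by
      rw [eq_bot_iff]
      intro v hv
      have := hp2 v hv
      rw [hc'] at this
      exact (smul_eq_zero.1 this).resolve_left hc0
    have h2 := h'.sup_eq_top
    rw [this, sup_bot_eq] at h2
    exact h2

end Induction

end Cfsg.Agent.Char
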