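import Mathlib
import Cfsg.Prelude.Def_Characters
import Cfsg.Agent.Char.Rep

/-!
# Basic API for characters: closure properties, linear characters, values.
-/

set_option autoImplicit false

namespace Cfsg.Agent.Char

open Representation Module Cfsg
open scoped ComplexConjugate

section Closure

variable {G : Type*} [Group G]

theorem isCharacter_rep {V : Type*} [AddCommGroup V] [Module ℂ V] [FiniteDimensional ℂ V]
    (ρ : Representation ℂ G V) : IsCharacter G ρ.character :=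
  ⟨finrank ℂ V, repConj ρ (Module.finBasis ℂ V).equivFun,
    (char_iso (repConjEquiv ρ (Module.finBasis ℂ V).equivFun)).symm⟩

theorem isIrrCharacter_rep {V : Type*} [AddCommGroup V] [Module ℂ V] [FiniteDimensional ℂ V]
    (ρ : Representation ℂ G V) (h : ρ.IsIrreducible) : IsIrrCharacter G ρ.character :=
  ⟨finrank ℂ V, repConj ρ (Module.finBasis ℂ V).equivFun,
    isIrreducible_of_equiv (repConjEquiv ρ (Module.finBasis ℂ V).equivFun) h,
    (char_iso (repConjEquiv ρ (Module.finBasis ℂ V).equivFun)).symm⟩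

theorem _root_.Cfsg.IsIrrCharacter.isCharacter {χ : G → ℂ} (h : IsIrrCharacter G χ) :
    IsCharacter G χ := by
  obtain ⟨n, ρ, _, h⟩ := h
  exact ⟨n, ρ, h⟩

theorem _root_.Cfsg.IsCharacter.isClassFunction {χ : G → ℂ} (h : IsCharacter G χ) :
    IsClassFunction G χ := by
  obtain ⟨n, ρ, rfl⟩ := h
  exact fun g h => char_conj ρ g h

theorem _root_.Cfsg.IsIrrCharacter.isClassFunction {χ : G → ℂ} (h : IsIrrCharacter G χ) :
    IsClassFunction G χ := h.isCharacter.isClassFunction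

theorem isCharacter_zero : IsCharacter G 0 :=
  ⟨0, 1, char_eq_zero_of_subsingleton _⟩

theorem _root_.Cfsg.IsCharacter.add {χ ψ : G → ℂ} (h : IsCharacter G χ) (h' : IsCharacter G ψ) :
    IsCharacter G (χ + ψ) := by
  obtain ⟨n, ρ, rfl⟩ := h
  obtain ⟨m, σ, rfl⟩ := h'
  rw [← char_prod]
  exact isCharacter_rep _

theorem _root_.Cfsg.IsCharacter.mul {χ ψ : G → ℂ} (h : IsCharacter G χ) (h' : IsCharacter G ψ) :
    IsCharacter G (χ * ψ) := by
  obtain ⟨n, ρ, rfl⟩ := h
  obtain ⟨m, σ, rfl⟩ := h'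
  rw [← char_tensor]
  exact isCharacter_rep _

theorem _root_.Cfsg.IsCharacter.nsmul {χ : G → ℂ} (h : IsCharacter G χ) (n : ℕ) :
    IsCharacter G (n • χ) := by
  induction n with
  | zero => simpa using isCharacter_zero
  | succ n ih => rw [succ_nsmul]; exact ih.add h

theorem _root_.Cfsg.IsCharacter.natCast_smul {χ : G → ℂ} (h : IsCharacter G χ) (n : ℕ) :
    IsCharacter G ((n : ℂ) • χ) := by
  rw [Nat.cast_smul_eq_nsmul]; exact h.nsmul n

theorem isCharacter_sum {ι : Type*} (s : Finset ι) (f : ι → G → ℂ)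
    (h : ∀ i ∈ s, IsCharacter G (f i)) : IsCharacter G (∑ i ∈ s, f i) :=
  Finset.sum_induction f (IsCharacter G) (fun _ _ => IsCharacter.add) isCharacter_zero h

theorem _root_.Cfsg.IsCharacter.comp {H : Type*} [Group H] {χ : G → ℂ} (h : IsCharacter G χ)
    (f : H →* G) : IsCharacter H (fun x => χ (f x)) := by
  obtain ⟨n, ρ, rfl⟩ := h
  exact ⟨n, ρ.comp f, rfl⟩

theorem _root_.Cfsg.IsCharacter.restrict {χ : G → ℂ} (h : IsCharacter G χ) (H : Subgroup G) :
    IsCharacter H (fun x : H => χ x) := h.comp H.subtype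

theorem _root_.Cfsg.IsIrrCharacter.comp_of_surjective {H : Type*} [Group H] {χ : G → ℂ}
    (h : IsIrrCharacter G χ) (f : H →* G) (hf : Function.Surjective f) :
    IsIrrCharacter H (fun x => χ (f x)) := by
  obtain ⟨n, ρ, hρ, rfl⟩ := h
  exact ⟨n, ρ.comp f, isIrreducible_comp_of_surjective ρ f hf hρ, rfl⟩

theorem _root_.Cfsg.IsIrrCharacter.comp_equiv {H : Type*} [Group H] {χ : G → ℂ}
    (h : IsIrrCharacter G χ) (f : H ≃* G) : IsIrrCharacter H (fun x => χ (f x)) :=
  h.comp_of_surjective f.toMonoidHom f.surjective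

theorem _root_.Cfsg.IsCharacter.comp_inv {χ : G → ℂ} (h : IsCharacter G χ) :
    IsCharacter G (fun g => χ g⁻¹) := by
  obtain ⟨n, ρ, rfl⟩ := h
  have := isCharacter_rep ρ.dual
  convert this using 2
  simp

theorem _root_.Cfsg.IsCharacter.exists_nat {χ : G → ℂ} (h : IsCharacter G χ) :
    ∃ n : ℕ, χ 1 = n := by
  obtain ⟨n, ρ, rfl⟩ := h
  exact ⟨n, by simp⟩

theorem _root_.Cfsg.IsCharacter.eq_zero_of_one_eq_zero {χ : G → ℂ} (h : IsCharacter G χ)
    (h1 : χ 1 = 0) : χ = 0 := by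
  obtain ⟨n, ρ, rfl⟩ := h
  have hn : n = 0 := by simpa using h1
  subst hn
  exact char_eq_zero_of_subsingleton _

theorem _root_.Cfsg.IsIrrCharacter.exists_nat {χ : G → ℂ} (h : IsIrrCharacter G χ) :
    ∃ n : ℕ, 0 < n ∧ χ 1 = n := by
  obtain ⟨n, ρ, hρ, rfl⟩ := h
  refine ⟨n, ?_, by simp⟩
  have := nontrivial_of_isIrreducible ρ
  have h2 : 0 < finrank ℂ (Fin n → ℂ) := finrank_pos
  simpa using h2

theorem _root_.Cfsg.IsIrrCharacter.one_ne_zero {χ : G → ℂ} (h : IsIrrCharacter G χ) :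
    χ 1 ≠ 0 := by
  obtain ⟨n, hn, h⟩ := h.exists_nat
  rw [h]; exact_mod_cast hn.ne'

theorem _root_.Cfsg.IsIrrCharacter.ne_zero {χ : G → ℂ} (h : IsIrrCharacter G χ) : χ ≠ 0 := by
  intro h0
  exact h.one_ne_zero (by rw [h0]; rfl)

theorem _root_.Cfsg.IsClassFunction.of_isConj {θ : G → ℂ} (h : IsClassFunction G θ) {a b : G}
    (hab : IsConj a b) : θ a = θ b := by
  obtain ⟨c, hc⟩ := isConj_iff.1 hab
  rw [← hc, h]

theorem _root_.Cfsg.IsClassFunction.conj' {θ : G → ℂ} (h : IsClassFunction G θ) (g x : G) :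
    θ (x⁻¹ * g * x) = θ g := by
  simpa using h g x⁻¹

theorem _root_.Cfsg.IsClassFunction.mul_comm {θ : G → ℂ} (h : IsClassFunction G θ) (a b : G) :
    θ (a * b) = θ (b * a) := by
  rw [← h (a * b) b]; congr 1; group

theorem isClassFunction_const (c : ℂ) : IsClassFunction G (fun _ => c) := fun _ _ => rfl

theorem isClassFunction_zero : IsClassFunction G 0 := fun _ _ => rfl

theorem _root_.Cfsg.IsClassFunction.add {θ φ : G → ℂ} (h : IsClassFunction G θ)
    (h' : IsClassFunction G φ) : IsClassFunction G (θ + φ) := fun g x => by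
  simp [h g x, h' g x]

theorem _root_.Cfsg.IsClassFunction.sub {θ φ : G → ℂ} (h : IsClassFunction G θ)
    (h' : IsClassFunction G φ) : IsClassFunction G (θ - φ) := fun g x => by
  simp [h g x, h' g x]

theorem _root_.Cfsg.IsClassFunction.neg {θ : G → ℂ} (h : IsClassFunction G θ) :
    IsClassFunction G (-θ) := fun g x => by
  simp [h g x]

theorem _root_.Cfsg.IsClassFunction.mul {θ φ : G → ℂ} (h : IsClassFunction G θ)
    (h' : IsClassFunction G φ) : IsClassFunction G (θ * φ) := fun g x => by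
  simp [h g x, h' g x]

theorem _root_.Cfsg.IsClassFunction.smul {θ : G → ℂ} (h : IsClassFunction G θ) (c : ℂ) :
    IsClassFunction G (c • θ) := fun g x => by
  simp [h g x]

theorem _root_.Cfsg.IsClassFunction.conj {θ : G → ℂ} (h : IsClassFunction G θ) :
    IsClassFunction G (fun g => conj (θ g)) := fun g x => by
  simp [h g x]

theorem _root_.Cfsg.IsClassFunction.comp {H : Type*} [Group H] {θ : G → ℂ}
    (h : IsClassFunction G θ) (f : H →* G) : IsClassFunction H (fun x => θ (f x)) :=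
  fun g x => by simp [h (f g) (f x)]

theorem _root_.Cfsg.IsClassFunction.restrict {θ : G → ℂ} (h : IsClassFunction G θ)
    (H : Subgroup G) : IsClassFunction H (fun x : H => θ x) := h.comp H.subtype

theorem isClassFunction_sum {ι : Type*} (s : Finset ι) (f : ι → G → ℂ)
    (h : ∀ i ∈ s, IsClassFunction G (f i)) : IsClassFunction G (∑ i ∈ s, f i) :=
  Finset.sum_induction f (IsClassFunction G) (fun _ _ => IsClassFunction.add)
    isClassFunction_zero h

/-- Induction over characters: every character is a sum of irreducible ones. -/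
theorem _root_.Cfsg.IsCharacter.induction_on [Finite G] {P : (G → ℂ) → Prop} {χ : G → ℂ}
    (hχ : IsCharacter G χ) (h0 : P 0) (hirr : ∀ ψ, IsIrrCharacter G ψ → P ψ)
    (hadd : ∀ φ ψ, IsCharacter G φ → IsCharacter G ψ → P φ → P ψ → P (φ + ψ)) : P χ := by
  obtain ⟨n, ρ, rfl⟩ := hχ
  have : NeZero (Nat.card G : ℂ) := ⟨by exact_mod_cast Nat.card_pos.ne'⟩
  exact rep_induction P h0 (fun V _ _ _ ρ h => hirr _ (isIrrCharacter_rep ρ h))
    (fun V W _ _ _ _ _ _ ρ σ h1 h2 => hadd _ _ (isCharacter_rep ρ) (isCharacter_rep σ) h1 h2) _ ρ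

end Closure

section Linear

variable {G : Type*} [Group G]

/-- The one-dimensional representation attached to a homomorphism to `ℂˣ`. -/
noncomputable def linRep (l : G →* ℂˣ) : Representation ℂ G ℂ where
  toFun g := (l g : ℂ) • LinearMap.id
  map_one' := by ext; simp
  map_mul' g h := by ext; simp [mul_comm]

theorem linRep_character (l : G →* ℂˣ) : (linRep l).character = fun g => (l g : ℂ) := by
  ext g
  simp [linRep, character]

theorem isIrrCharacter_hom (l : G →* ℂˣ) : IsIrrCharacter G (fun g => (l g : ℂ)) := by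
  rw [← linRep_character]
  exact isIrrCharacter_rep _ (isIrreducible_of_finrank_eq_one _ (by simp))

theorem isCharacter_hom (l : G →* ℂˣ) : IsCharacter G (fun g => (l g : ℂ)) :=
  (isIrrCharacter_hom l).isCharacter

theorem isIrrCharacter_one : IsIrrCharacter G (fun _ => 1) := isIrrCharacter_hom 1

theorem isCharacter_one : IsCharacter G (fun _ => 1) := isIrrCharacter_one.isCharacter

theorem isCharacter_natCast (n : ℕ) : IsCharacter G (fun _ => (n : ℂ)) := by
  have := (isCharacter_one (G := G)).natCast_smul n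
  convert this using 1
  ext; simp

theorem _root_.Cfsg.IsCharacter.pow {χ : G → ℂ} (h : IsCharacter G χ) (n : ℕ) :
    IsCharacter G (χ ^ n) := by
  induction n with
  | zero => rw [pow_zero]; exact isCharacter_one
  | succ n ih => rw [pow_succ]; exact ih.mul h

theorem isCharacter_prod {ι : Type*} (s : Finset ι) (f : ι → G → ℂ)
    (h : ∀ i ∈ s, IsCharacter G (f i)) : IsCharacter G (∏ i ∈ s, f i) :=
  Finset.prod_induction f (IsCharacter G) (fun _ _ => IsCharacter.mul) isCharacter_one h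

/-- A character of degree one is multiplicative. -/
theorem _root_.Cfsg.IsCharacter.map_mul_of_one {χ : G → ℂ} (h : IsCharacter G χ) (h1 : χ 1 = 1)
    (a b : G) : χ (a * b) = χ a * χ b := by
  obtain ⟨n, ρ, rfl⟩ := h
  have hn : n = 1 := by
    have : (n : ℂ) = 1 := by simpa using h1
    exact_mod_cast this
  subst hn
  have key : ∀ f : (Fin 1 → ℂ) →ₗ[ℂ] (Fin 1 → ℂ),
      LinearMap.trace ℂ _ f = LinearMap.det f := fun f => by
    rw [LinearMap.trace_eq_matrix_trace ℂ (Pi.basisFun ℂ (Fin 1)),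
      ← LinearMap.det_toMatrix (Pi.basisFun ℂ (Fin 1)), Matrix.det_fin_one, Matrix.trace_fin_one]
  simp only [character, key, map_mul]

/-- The homomorphism to `ℂˣ` given by a character of degree one. -/
noncomputable def homOfLinear {χ : G → ℂ} (h : IsCharacter G χ) (h1 : χ 1 = 1) : G →* ℂˣ :=
  MonoidHom.toHomUnits
    { toFun := χ, map_one' := h1, map_mul' := h.map_mul_of_one h1 }

@[simp] theorem homOfLinear_apply {χ : G → ℂ} (h : IsCharacter G χ) (h1 : χ 1 = 1) (g : G) :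
    (homOfLinear h h1 g : ℂ) = χ g := rfl

theorem _root_.Cfsg.IsCharacter.exists_hom {χ : G → ℂ} (h : IsCharacter G χ) (h1 : χ 1 = 1) :
    ∃ l : G →* ℂˣ, χ = fun g => (l g : ℂ) :=
  ⟨homOfLinear h h1, rfl⟩

theorem _root_.Cfsg.IsCharacter.isIrr_of_one {χ : G → ℂ} (h : IsCharacter G χ) (h1 : χ 1 = 1) :
    IsIrrCharacter G χ := by
  obtain ⟨l, rfl⟩ := h.exists_hom h1
  exact isIrrCharacter_hom l

theorem _root_.Cfsg.IsIrrCharacter.one_eq_one_of_comm {χ : G → ℂ} (h : IsIrrCharacter G χ)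
    (hG : ∀ a b : G, a * b = b * a) : χ 1 = 1 := by
  obtain ⟨n, ρ, hρ, rfl⟩ := h
  have : IsMulCommutative G := ⟨⟨hG⟩⟩
  have := IsIrreducible.finrank_eq_one_of_isMulCommutative ρ
  rw [char_one, this, Nat.cast_one]

theorem _root_.Cfsg.IsIrrCharacter.exists_hom_of_comm {χ : G → ℂ} (h : IsIrrCharacter G χ)
    (hG : ∀ a b : G, a * b = b * a) : ∃ l : G →* ℂˣ, χ = fun g => (l g : ℂ) :=
  h.isCharacter.exists_hom (h.one_eq_one_of_comm hG)

theorem hom_pow_card [Finite G] (l : G →* ℂˣ) (g : G) : (l g : ℂ) ^ Nat.card G = 1 := by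
  rw [← Units.val_pow_eq_pow_val, ← map_pow, pow_card_eq_one', map_one, Units.val_one]

theorem hom_pow_orderOf (l : G →* ℂˣ) (g : G) : (l g : ℂ) ^ orderOf g = 1 := by
  rw [← Units.val_pow_eq_pow_val, ← map_pow, pow_orderOf_eq_one, map_one, Units.val_one]

theorem norm_hom [Finite G] (l : G →* ℂˣ) (g : G) : ‖(l g : ℂ)‖ = 1 :=
  Complex.norm_eq_one_of_pow_eq_one (hom_pow_card l g) Nat.card_pos.ne'

theorem hom_inv_eq_conj [Finite G] (l : G →* ℂˣ) (g : G) : (l g⁻¹ : ℂ) = conj (l g : ℂ) := by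
  rw [map_inv, Units.val_inv_eq_inv_val, Complex.inv_def, Complex.normSq_eq_norm_sq, norm_hom]
  simp

theorem hom_mul_conj [Finite G] (l : G →* ℂˣ) (g : G) : (l g : ℂ) * conj (l g : ℂ) = 1 := by
  rw [← hom_inv_eq_conj, ← Units.val_mul, ← map_mul, mul_inv_cancel, map_one, Units.val_one]

/-- A character of an abelian group is a sum of linear characters. -/
theorem _root_.Cfsg.IsCharacter.exists_sum_hom_of_comm [Finite G] {χ : G → ℂ}
    (h : IsCharacter G χ) (hG : ∀ a b : G, a * b = b * a) :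
    ∃ (n : ℕ) (l : Fin n → (G →* ℂˣ)), χ 1 = n ∧ ∀ g, χ g = ∑ i, (l i g : ℂ) := by
  refine h.induction_on (P := fun χ => ∃ (n : ℕ) (l : Fin n → (G →* ℂˣ)), χ 1 = n ∧
    ∀ g, χ g = ∑ i, (l i g : ℂ)) ?_ ?_ ?_
  · exact ⟨0, Fin.elim0, by simp, by simp⟩
  · intro ψ hψ
    obtain ⟨l, rfl⟩ := hψ.exists_hom_of_comm hG
    exact ⟨1, fun _ => l, by simp, by simp⟩
  · rintro φ ψ - - ⟨n, l, h1, h2⟩ ⟨m, l', h1', h2'⟩
    refine ⟨n + m, Fin.append l l', by simp [h1, h1'], fun g => ?_⟩
    simp [Fin.sum_univ_add, h2, h2']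

/-- The eigenvalues of `g`: the values of a character on the powers of `g` are power sums of
roots of unity. -/
theorem _root_.Cfsg.IsCharacter.exists_eigenvalues [Finite G] {χ : G → ℂ} (h : IsCharacter G χ)
    (g : G) : ∃ (n : ℕ) (ε : Fin n → ℂ), χ 1 = n ∧ (∀ i, ε i ^ orderOf g = 1) ∧
      (∀ k : ℕ, χ (g ^ k) = ∑ i, ε i ^ k) ∧ ∀ k : ℤ, χ (g ^ k) = ∑ i, ε i ^ k := by
  obtain ⟨n, l, h1, h2⟩ := (h.restrict (Subgroup.zpowers g)).exists_sum_hom_of_comm
    (fun a b => mul_comm' a b)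
  let g' : Subgroup.zpowers g := ⟨g, Subgroup.mem_zpowers g⟩
  refine ⟨n, fun i => l i g', h1, fun i => ?_, fun k => ?_, fun k => ?_⟩
  · have : orderOf g = orderOf g' := (Subgroup.orderOf_mk g _).symm
    rw [this]; exact hom_pow_orderOf _ _
  · have := h2 (g' ^ k)
    simpa using this
  · have := h2 (g' ^ k)
    simpa using this

theorem norm_eq_one_of_pow_orderOf [Finite G] {g : G} {z : ℂ} (h : z ^ orderOf g = 1) :
    ‖z‖ = 1 :=
  Complex.norm_eq_one_of_pow_eq_one h (orderOf_pos g).ne'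

theorem _root_.Cfsg.IsCharacter.apply_inv [Finite G] {χ : G → ℂ} (h : IsCharacter G χ) (g : G) :
    χ g⁻¹ = conj (χ g) := by
  obtain ⟨n, ε, -, h1, h2, h3⟩ := h.exists_eigenvalues g
  have e1 := h3 (-1)
  have e2 := h2 1
  rw [zpow_neg_one] at e1
  rw [pow_one] at e2
  rw [e1, e2, map_sum]
  refine Finset.sum_congr rfl fun i _ => ?_
  rw [zpow_neg_one, pow_one, Complex.inv_def, Complex.normSq_eq_norm_sq,
    norm_eq_one_of_pow_orderOf (h1 i)]
  simp

theorem _root_.Cfsg.IsCharacter.conj_apply_one {χ : G → ℂ} (h : IsCharacter G χ) :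
    conj (χ 1) = χ 1 := by
  obtain ⟨n, hn⟩ := h.exists_nat
  rw [hn]; simp

theorem _root_.Cfsg.IsCharacter.conj [Finite G] {χ : G → ℂ} (h : IsCharacter G χ) :
    IsCharacter G (fun g => conj (χ g)) := by
  have := h.comp_inv
  simpa only [h.apply_inv] using this

theorem _root_.Cfsg.IsCharacter.norm_le [Finite G] {χ : G → ℂ} (h : IsCharacter G χ) (g : G) :
    ‖χ g‖ ≤ ‖χ 1‖ := by
  obtain ⟨n, ε, h0, h1, h2, -⟩ := h.exists_eigenvalues g
  have e2 := h2 1
  rw [pow_one] at e2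
  rw [e2, h0]
  refine (norm_sum_le _ _).trans ?_
  simp [norm_eq_one_of_pow_orderOf (h1 _)]

theorem isIntegral_of_pow_eq_one {z : ℂ} {n : ℕ} (hn : n ≠ 0) (h : z ^ n = 1) :
    IsIntegral ℤ z :=
  IsIntegral.of_pow (Nat.pos_of_ne_zero hn) (h ▸ isIntegral_one)

theorem _root_.Cfsg.IsCharacter.isIntegral [Finite G] {χ : G → ℂ} (h : IsCharacter G χ) (g : G) :
    IsIntegral ℤ (χ g) := by
  obtain ⟨n, ε, -, h1, h2, -⟩ := h.exists_eigenvalues g
  have e2 := h2 1
  rw [pow_one] at e2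
  rw [e2]
  refine IsIntegral.sum _ fun i _ => ?_
  rw [pow_one]
  exact isIntegral_of_pow_eq_one (orderOf_pos g).ne' (h1 i)

end Linear

end Cfsg.Agent.Char
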