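import Mathlib
import Cfsg.Prelude.Def_Characters
import Cfsg.Agent.Char.Basic

/-!
# The inner product of class functions, orthogonality relations, the basis of irreducibles.
-/

set_option autoImplicit false

namespace Cfsg.Agent.Char

open Representation Module Cfsg
open scoped ComplexConjugate

theorem card_ne_zero (G : Type*) [Finite G] [Nonempty G] : (Nat.card G : ℂ) ≠ 0 := by
  exact_mod_cast Nat.card_pos.ne'

section InnerBasic

variable {G : Type*} [Group G] [Fintype G]

theorem classInner_def (φ ψ : G → ℂ) :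
    classInner φ ψ = (Nat.card G : ℂ)⁻¹ * ∑ g, φ g * conj (ψ g) := rfl

theorem card_mul_classInner (φ ψ : G → ℂ) :
    (Nat.card G : ℂ) * classInner φ ψ = ∑ g, φ g * conj (ψ g) := by
  rw [classInner, ← mul_assoc, mul_inv_cancel₀ (card_ne_zero G), one_mul]

omit [Fintype G] in
theorem classInner_congr_fintype (i j : Fintype G) (φ ψ : G → ℂ) :
    @classInner G _ i φ ψ = @classInner G _ j φ ψ := by
  rw [Subsingleton.elim i j]

theorem classInner_add_left (φ φ' ψ : G → ℂ) :
    classInner (φ + φ') ψ = classInner φ ψ + classInner φ' ψ := by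
  simp [classInner, add_mul, Finset.sum_add_distrib, mul_add]

theorem classInner_add_right (φ ψ ψ' : G → ℂ) :
    classInner φ (ψ + ψ') = classInner φ ψ + classInner φ ψ' := by
  simp [classInner, Finset.sum_add_distrib, mul_add]

theorem classInner_sub_left (φ φ' ψ : G → ℂ) :
    classInner (φ - φ') ψ = classInner φ ψ - classInner φ' ψ := by
  simp [classInner, sub_mul, Finset.sum_sub_distrib, mul_sub]

theorem classInner_sub_right (φ ψ ψ' : G → ℂ) :
    classInner φ (ψ - ψ') = classInner φ ψ - classInner φ ψ' := by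
  simp [classInner, Finset.sum_sub_distrib, mul_sub]

theorem classInner_neg_left (φ ψ : G → ℂ) : classInner (-φ) ψ = -classInner φ ψ := by
  simp [classInner]

theorem classInner_neg_right (φ ψ : G → ℂ) : classInner φ (-ψ) = -classInner φ ψ := by
  simp [classInner]

theorem classInner_smul_left (c : ℂ) (φ ψ : G → ℂ) :
    classInner (c • φ) ψ = c * classInner φ ψ := by
  simp only [classInner, Pi.smul_apply, smul_eq_mul, mul_assoc, ← Finset.mul_sum]
  ring

theorem classInner_smul_right (c : ℂ) (φ ψ : G → ℂ) :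
    classInner φ (c • ψ) = conj c * classInner φ ψ := by
  simp only [classInner, Pi.smul_apply, smul_eq_mul, map_mul, Finset.mul_sum]
  refine Finset.sum_congr rfl fun g _ => by ring

theorem classInner_zsmul_left (c : ℤ) (φ ψ : G → ℂ) :
    classInner (c • φ) ψ = c * classInner φ ψ := by
  rw [← Int.cast_smul_eq_zsmul ℂ, classInner_smul_left]

theorem classInner_zsmul_right (c : ℤ) (φ ψ : G → ℂ) :
    classInner φ (c • ψ) = c * classInner φ ψ := by
  rw [← Int.cast_smul_eq_zsmul ℂ, classInner_smul_right]; simp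

theorem classInner_nsmul_left (c : ℕ) (φ ψ : G → ℂ) :
    classInner (c • φ) ψ = c * classInner φ ψ := by
  rw [← Nat.cast_smul_eq_nsmul ℂ, classInner_smul_left]

theorem classInner_nsmul_right (c : ℕ) (φ ψ : G → ℂ) :
    classInner φ (c • ψ) = c * classInner φ ψ := by
  rw [← Nat.cast_smul_eq_nsmul ℂ, classInner_smul_right]; simp

@[simp] theorem classInner_zero_left (ψ : G → ℂ) : classInner 0 ψ = 0 := by
  simp [classInner]

@[simp] theorem classInner_zero_right (ψ : G → ℂ) : classInner ψ 0 = 0 := by
  simp [classInner]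

theorem classInner_sum_left {ι : Type*} (s : Finset ι) (f : ι → G → ℂ) (ψ : G → ℂ) :
    classInner (∑ i ∈ s, f i) ψ = ∑ i ∈ s, classInner (f i) ψ := by
  classical
  induction s using Finset.induction_on with
  | empty => simp
  | insert a s ha ih => rw [Finset.sum_insert ha, Finset.sum_insert ha, classInner_add_left, ih]

theorem classInner_sum_right {ι : Type*} (s : Finset ι) (f : ι → G → ℂ) (ψ : G → ℂ) :
    classInner ψ (∑ i ∈ s, f i) = ∑ i ∈ s, classInner ψ (f i) := by
  classical
  induction s using Finset.induction_on with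
  | empty => simp
  | insert a s ha ih => rw [Finset.sum_insert ha, Finset.sum_insert ha, classInner_add_right, ih]

theorem conj_classInner (φ ψ : G → ℂ) : conj (classInner φ ψ) = classInner ψ φ := by
  simp [classInner, mul_comm]

theorem classInner_eq_zero_comm {φ ψ : G → ℂ} : classInner φ ψ = 0 ↔ classInner ψ φ = 0 := by
  rw [← conj_classInner φ ψ, map_eq_zero]

theorem classInner_conj_conj (φ ψ : G → ℂ) :
    classInner (fun g => conj (φ g)) (fun g => conj (ψ g)) = classInner ψ φ := by
  simp [classInner, mul_comm]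

theorem classInner_mul_left (φ θ ψ : G → ℂ) :
    classInner (φ * θ) ψ = classInner φ (ψ * fun g => conj (θ g)) := by
  simp only [classInner, Pi.mul_apply, map_mul, Complex.conj_conj]
  congr 1
  refine Finset.sum_congr rfl fun g _ => by ring

theorem classInner_mul_right (φ θ ψ : G → ℂ) :
    classInner φ (ψ * θ) = classInner (φ * fun g => conj (θ g)) ψ := by
  simp only [classInner, Pi.mul_apply, map_mul]
  congr 1
  refine Finset.sum_congr rfl fun g _ => by ring

theorem classInner_eq_one_right (φ ψ : G → ℂ) :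
    classInner φ ψ = classInner (φ * fun g => conj (ψ g)) (fun _ => 1) := by
  simp [classInner]

theorem classInner_one_right (φ : G → ℂ) :
    classInner φ (fun _ => 1) = (Nat.card G : ℂ)⁻¹ * ∑ g, φ g := by
  simp [classInner]

theorem classInner_self_eq (φ : G → ℂ) :
    classInner φ φ = (((Nat.card G : ℝ)⁻¹ * ∑ g, ‖φ g‖ ^ 2 : ℝ) : ℂ) := by
  simp [classInner, Complex.mul_conj, Complex.normSq_eq_norm_sq]

theorem classInner_self_re (φ : G → ℂ) :
    (classInner φ φ).re = (Nat.card G : ℝ)⁻¹ * ∑ g, ‖φ g‖ ^ 2 := by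
  rw [classInner_self_eq, Complex.ofReal_re]

theorem classInner_self_re_nonneg (φ : G → ℂ) : 0 ≤ (classInner φ φ).re := by
  rw [classInner_self_re]; positivity

theorem classInner_self_eq_zero {φ : G → ℂ} : classInner φ φ = 0 ↔ φ = 0 := by
  refine ⟨fun h => ?_, fun h => by simp [h]⟩
  rw [classInner_self_eq, Complex.ofReal_eq_zero, mul_eq_zero] at h
  have hc : (Nat.card G : ℝ)⁻¹ ≠ 0 := inv_ne_zero (by exact_mod_cast Nat.card_pos.ne')
  have h := h.resolve_left hc
  rw [Finset.sum_eq_zero_iff_of_nonneg (fun _ _ => by positivity)] at h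
  ext g
  simpa using h g (Finset.mem_univ g)

theorem classInner_comp_equiv {H : Type*} [Group H] [Fintype H] (e : H ≃ G) (φ ψ : G → ℂ) :
    classInner (fun x => φ (e x)) (fun x => ψ (e x)) = classInner φ ψ := by
  simp only [classInner, Nat.card_congr e]
  congr 1
  exact e.sum_comp (fun g => φ g * conj (ψ g))

theorem sum_comp_of_surjective {H : Type*} [Group H] [Fintype H] (f : H →* G)
    (hf : Function.Surjective f) (F : G → ℂ) :
    ∑ x, F (f x) = (Nat.card f.ker : ℂ) * ∑ g, F g := by
  classical
  rw [← Finset.sum_fiberwise (s := Finset.univ) (g := f), Finset.mul_sum]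
  refine Finset.sum_congr rfl fun g _ => ?_
  rw [Finset.sum_congr rfl (g := fun _ => F g) (fun x hx => by rw [(Finset.mem_filter.1 hx).2])]
  rw [Finset.sum_const, nsmul_eq_mul]
  congr 2
  obtain ⟨y, rfl⟩ := hf g
  rw [← Fintype.card_subtype, ← Nat.card_eq_fintype_card]
  refine Nat.card_congr ⟨fun x => ⟨y⁻¹ * x.1, ?_⟩, fun x => ⟨y * x.1, ?_⟩, fun x => ?_, fun x => ?_⟩
  · simp [MonoidHom.mem_ker, x.2]
  · have := x.2
    rw [MonoidHom.mem_ker] at this
    simp [this]
  · simp
  · simp

theorem classInner_comp_of_surjective {H : Type*} [Group H] [Fintype H] (f : H →* G)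
    (hf : Function.Surjective f) (φ ψ : G → ℂ) :
    classInner (fun x => φ (f x)) (fun x => ψ (f x)) = classInner φ ψ := by
  simp only [classInner]
  rw [sum_comp_of_surjective f hf (fun g => φ g * conj (ψ g))]
  have h1 : Nat.card H = Nat.card f.ker * Nat.card G := by
    rw [← Subgroup.card_mul_index f.ker, Subgroup.index_ker, MonoidHom.range_eq_top.2 hf,
      Subgroup.card_top]
  rw [h1]
  have := card_ne_zero f.ker
  push_cast
  field_simp

end InnerBasic

section Orth

variable {G : Type*} [Group G]

theorem classInner_rep [Fintype G] {V W : Type*} [AddCommGroup V] [Module ℂ V]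
    [FiniteDimensional ℂ V] [AddCommGroup W] [Module ℂ W] [FiniteDimensional ℂ W]
    (ρ : Representation ℂ G V) (σ : Representation ℂ G W) :
    classInner σ.character ρ.character = finrank ℂ (IntertwiningMap ρ σ) := by
  have := invertibleOfNonzero (card_ne_zero G)
  rw [← card_inv_mul_sum_char_mul_char_eq_finrank, classInner]
  simp only [(isCharacter_rep ρ).apply_inv]

theorem classInner_one_rep [Fintype G] {V : Type*} [AddCommGroup V] [Module ℂ V]
    [FiniteDimensional ℂ V] (ρ : Representation ℂ G V) :
    classInner ρ.character (fun _ => 1) = finrank ℂ ρ.invariants := by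
  have := invertibleOfNonzero (card_ne_zero G)
  rw [← card_inv_mul_sum_char_eq_finrank, classInner_one_right]

theorem _root_.Cfsg.IsCharacter.classInner_nat [Fintype G] {χ ψ : G → ℂ} (h : IsCharacter G χ)
    (h' : IsCharacter G ψ) : ∃ n : ℕ, classInner χ ψ = n := by
  obtain ⟨n, ρ, rfl⟩ := h
  obtain ⟨m, σ, rfl⟩ := h'
  exact ⟨_, classInner_rep _ _⟩

theorem _root_.Cfsg.IsCharacter.classInner_comm [Fintype G] {χ ψ : G → ℂ} (h : IsCharacter G χ)
    (h' : IsCharacter G ψ) : classInner χ ψ = classInner ψ χ := by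
  obtain ⟨n, hn⟩ := h.classInner_nat h'
  rw [← conj_classInner χ ψ, hn]; simp

theorem _root_.Cfsg.IsIrrCharacter.classInner_self [Fintype G] {χ : G → ℂ}
    (h : IsIrrCharacter G χ) : classInner χ χ = 1 := by
  obtain ⟨n, ρ, hρ, rfl⟩ := h
  rw [classInner_rep]; simp

theorem _root_.Cfsg.IsIrrCharacter.classInner_of_ne [Fintype G] {χ ψ : G → ℂ}
    (h : IsIrrCharacter G χ) (h' : IsIrrCharacter G ψ) (hne : χ ≠ ψ) : classInner χ ψ = 0 := by
  obtain ⟨n, ρ, hρ, rfl⟩ := h
  obtain ⟨m, σ, hσ, rfl⟩ := h'
  rw [classInner_rep]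
  have : IsEmpty (σ.Equiv ρ) := ⟨fun e => hne (char_iso e).symm⟩
  rw [finrank_zero_of_subsingleton, Nat.cast_zero]

open Classical in
theorem _root_.Cfsg.IsIrrCharacter.classInner_eq [Fintype G] {χ ψ : G → ℂ}
    (h : IsIrrCharacter G χ) (h' : IsIrrCharacter G ψ) :
    classInner χ ψ = if χ = ψ then 1 else 0 := by
  split_ifs with hne
  · subst hne; exact h.classInner_self
  · exact h.classInner_of_ne h' hne

theorem _root_.Cfsg.IsIrrCharacter.eq_of_classInner_ne_zero [Fintype G] {χ ψ : G → ℂ}
    (h : IsIrrCharacter G χ) (h' : IsIrrCharacter G ψ) (hne : classInner χ ψ ≠ 0) : χ = ψ := by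
  by_contra h0
  exact hne (h.classInner_of_ne h' h0)

open Classical in
theorem irr_classInner [Fintype G] (χ ψ : IrrCharacter G) :
    classInner (χ : G → ℂ) ψ = if χ = ψ then 1 else 0 := by
  rw [χ.2.classInner_eq ψ.2]
  simp only [Subtype.ext_iff]

theorem isIrreducible_of_classInner_eq_one [Fintype G] {V : Type*} [AddCommGroup V] [Module ℂ V]
    [FiniteDimensional ℂ V] (ρ : Representation ℂ G V)
    (h : classInner ρ.character ρ.character = 1) : ρ.IsIrreducible := by
  rw [classInner_rep] at h
  have : NeZero (Nat.card G : ℂ) := ⟨card_ne_zero G⟩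
  exact isIrreducible_of_finrank_intertwining_eq_one ρ (by exact_mod_cast h)

theorem _root_.Cfsg.IsCharacter.isIrr_of_classInner_eq_one [Fintype G] {χ : G → ℂ}
    (h : IsCharacter G χ) (h1 : classInner χ χ = 1) : IsIrrCharacter G χ := by
  obtain ⟨n, ρ, rfl⟩ := h
  exact ⟨n, ρ, isIrreducible_of_classInner_eq_one ρ h1, rfl⟩

theorem isIrrCharacter_iff [Fintype G] {χ : G → ℂ} :
    IsIrrCharacter G χ ↔ IsCharacter G χ ∧ classInner χ χ = 1 :=
  ⟨fun h => ⟨h.isCharacter, h.classInner_self⟩, fun h => h.1.isIrr_of_classInner_eq_one h.2⟩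

/-- A representation whose character is irreducible is irreducible. -/
theorem isIrreducible_of_isIrrCharacter [Finite G] {V : Type*} [AddCommGroup V] [Module ℂ V]
    [FiniteDimensional ℂ V] (ρ : Representation ℂ G V) (h : IsIrrCharacter G ρ.character) :
    ρ.IsIrreducible := by
  have := Fintype.ofFinite G
  exact isIrreducible_of_classInner_eq_one ρ h.classInner_self

theorem _root_.Cfsg.IsIrrCharacter.conj [Finite G] {χ : G → ℂ} (h : IsIrrCharacter G χ) :
    IsIrrCharacter G (fun g => conj (χ g)) := by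
  have := Fintype.ofFinite G
  refine h.isCharacter.conj.isIrr_of_classInner_eq_one ?_
  rw [classInner_conj_conj, h.classInner_self]

theorem _root_.Cfsg.IsIrrCharacter.comp_inv [Finite G] {χ : G → ℂ} (h : IsIrrCharacter G χ) :
    IsIrrCharacter G (fun g => χ g⁻¹) := by
  simpa only [h.isCharacter.apply_inv] using h.conj

theorem _root_.Cfsg.IsIrrCharacter.mul_hom [Finite G] {χ : G → ℂ} (h : IsIrrCharacter G χ)
    (l : G →* ℂˣ) : IsIrrCharacter G (χ * fun g => (l g : ℂ)) := by
  have := Fintype.ofFinite G
  refine (h.isCharacter.mul (isCharacter_hom l)).isIrr_of_classInner_eq_one ?_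
  rw [classInner_mul_left, ← h.classInner_self]
  congr 1
  ext g
  simp only [Pi.mul_apply, mul_assoc, hom_mul_conj, mul_one]

theorem _root_.Cfsg.IsIrrCharacter.mul_linear [Finite G] {χ l : G → ℂ} (h : IsIrrCharacter G χ)
    (hl : IsCharacter G l) (h1 : l 1 = 1) : IsIrrCharacter G (χ * l) := by
  obtain ⟨l, rfl⟩ := hl.exists_hom h1
  exact h.mul_hom l

/-- A character whose restriction along a homomorphism is irreducible is irreducible. -/
theorem _root_.Cfsg.IsCharacter.isIrr_of_comp {H : Type*} [Group H] [Finite H] {χ : G → ℂ}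
    (h : IsCharacter G χ) (f : H →* G) (hf : IsIrrCharacter H (fun x => χ (f x))) :
    IsIrrCharacter G χ := by
  obtain ⟨n, ρ, rfl⟩ := h
  exact ⟨n, ρ, isIrreducible_of_comp ρ f (isIrreducible_of_isIrrCharacter _ hf), rfl⟩

theorem linearIndependent_irr [Finite G] :
    LinearIndependent ℂ (fun χ : IrrCharacter G => (χ : G → ℂ)) := by
  classical
  have := Fintype.ofFinite G
  rw [linearIndependent_iff']
  intro s c hc χ hχ
  have := congrArg (fun φ => classInner φ (χ : G → ℂ)) hc
  simp only [classInner_sum_left, classInner_smul_left, irr_classInner, classInner_zero_left,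
    mul_ite, mul_one, mul_zero] at this
  rwa [Finset.sum_ite_eq' s χ, if_pos hχ] at this

instance irrFinite [Finite G] : Finite (IrrCharacter G) :=
  (linearIndependent_irr (G := G)).finite

noncomputable instance irrFintype [Finite G] : Fintype (IrrCharacter G) := Fintype.ofFinite _

/-- The principal character as an element of `IrrCharacter G`. -/
def irrOne (G : Type*) [Group G] : IrrCharacter G := ⟨fun _ => 1, isIrrCharacter_one⟩

@[simp] theorem irrOne_coe : (irrOne G : G → ℂ) = fun _ => 1 := rfl

instance irrNonempty : Nonempty (IrrCharacter G) := ⟨irrOne G⟩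

/-- A class function acts as a scalar on an irreducible representation. -/
theorem sum_smul_rep_eq [Fintype G] {V : Type*} [AddCommGroup V] [Module ℂ V]
    [FiniteDimensional ℂ V] (ρ : Representation ℂ G V) [ρ.IsIrreducible] {f : G → ℂ}
    (hf : IsClassFunction G f) :
    ∑ g, f g • ρ g = ((∑ g, f g * ρ.character g) / ρ.character 1) • (1 : V →ₗ[ℂ] V) := by
  obtain ⟨c, hc⟩ := schur_scalar ρ (∑ g, f g • ρ g) (fun x => by
    rw [Finset.sum_mul, Finset.mul_sum]
    refine Fintype.sum_equiv (MulAut.conj x⁻¹).toEquiv _ _ fun g => ?_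
    simp only [MulEquiv.toEquiv_eq_coe, EquivLike.coe_coe, MulAut.conj_apply, inv_inv,
      Algebra.smul_mul_assoc, Algebra.mul_smul_comm, ← map_mul]
    rw [hf.conj' g x]
    congr 2
    group)
  have h1 := congrArg (LinearMap.trace ℂ V) hc
  simp only [map_sum, map_smul, smul_eq_mul, LinearMap.trace_one] at h1
  have hd : ρ.character 1 ≠ 0 := (isIrrCharacter_rep ρ inferInstance).one_ne_zero
  rw [hc]
  congr 1
  rw [eq_div_iff hd, char_one, ← h1]
  rfl

/-- Convolution of a class function with an irreducible character. -/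
theorem _root_.Cfsg.IsIrrCharacter.sum_mul_apply_mul [Fintype G] {χ f : G → ℂ}
    (h : IsIrrCharacter G χ) (hf : IsClassFunction G f) (x : G) :
    ∑ g, f g * χ (g * x) = (∑ g, f g * χ g) * χ x / χ 1 := by
  obtain ⟨n, ρ, hρ, rfl⟩ := h
  have h1 := congrArg (fun T => LinearMap.trace ℂ _ (T * ρ x)) (sum_smul_rep_eq ρ hf)
  simp only [Finset.sum_mul, Algebra.smul_mul_assoc, map_sum, map_smul, smul_eq_mul, one_mul,
    ← map_mul] at h1
  have : ∑ g, f g * ρ.character (g * x) = _ := h1
  rw [this]
  simp only [character]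
  ring

/-- The regular character. -/
theorem isCharacter_regular [Finite G] [DecidableEq G] :
    IsCharacter G (fun g => if g = 1 then (Nat.card G : ℂ) else 0) := by
  have := Fintype.ofFinite G
  have h := isCharacter_rep (G := G) (V := G → ℂ)
    { toFun := fun g => LinearMap.funLeft ℂ ℂ (fun x => g⁻¹ * x)
      map_one' := by ext; simp
      map_mul' := fun a b => by ext; simp [mul_assoc] }
  convert h using 2 with g
  simp only [character, MonoidHom.coe_mk, OneHom.coe_mk]
  rw [LinearMap.trace_eq_matrix_trace ℂ (Pi.basisFun ℂ G)]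
  simp only [Matrix.trace, Matrix.diag, LinearMap.toMatrix_apply, Pi.basisFun_apply,
    Pi.basisFun_repr, LinearMap.funLeft_apply, Pi.single_apply]
  split_ifs with hg
  · simp [hg]
  · simp [hg]

/-- Completeness: a class function orthogonal to all irreducible characters vanishes. -/
theorem _root_.Cfsg.IsClassFunction.eq_zero_of_orthogonal [Fintype G] {f : G → ℂ}
    (hf : IsClassFunction G f) (h : ∀ χ, IsIrrCharacter G χ → classInner f χ = 0) : f = 0 := by
  classical
  have key : ∀ χ, IsCharacter G χ → ∀ x, ∑ g, f g * χ (g * x) = 0 := by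
    intro χ hχ
    refine hχ.induction_on (P := fun χ => ∀ x, ∑ g, f g * χ (g * x) = 0) (by simp) ?_ ?_
    · intro ψ hψ x
      have h1 := h _ hψ.conj
      rw [classInner, mul_eq_zero] at h1
      have h2 := h1.resolve_left (inv_ne_zero (card_ne_zero G))
      simp only [Complex.conj_conj] at h2
      rw [hψ.sum_mul_apply_mul hf, h2]; simp
    · intro φ ψ _ _ h1 h2 x
      simp [mul_add, Finset.sum_add_distrib, h1 x, h2 x]
  ext x
  have := key _ isCharacter_regular x⁻¹
  simp only [mul_inv_eq_one, mul_ite, mul_zero, Finset.sum_ite_eq', Finset.mem_univ,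
    if_true] at this
  exact (mul_eq_zero.1 this).resolve_right (card_ne_zero G)

theorem classInner_sum_irr [Fintype G] (c : IrrCharacter G → ℂ) (χ : IrrCharacter G) :
    classInner (∑ ψ : IrrCharacter G, c ψ • (ψ : G → ℂ)) χ = c χ := by
  classical
  simp [classInner_sum_left, classInner_smul_left, irr_classInner]

/-- Expansion of a class function in the basis of irreducible characters. -/
theorem _root_.Cfsg.IsClassFunction.eq_sum_irr [Fintype G] {f : G → ℂ}
    (hf : IsClassFunction G f) :
    f = ∑ χ : IrrCharacter G, classInner f χ • (χ : G → ℂ) := by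
  rw [← sub_eq_zero]
  refine IsClassFunction.eq_zero_of_orthogonal
    (hf.sub (isClassFunction_sum _ _ fun χ _ => χ.2.isClassFunction.smul _)) fun χ hχ => ?_
  rw [classInner_sub_left, classInner_sum_irr _ ⟨χ, hχ⟩, sub_self]

theorem _root_.Cfsg.IsClassFunction.apply_eq_sum_irr [Fintype G] {f : G → ℂ}
    (hf : IsClassFunction G f) (g : G) :
    f g = ∑ χ : IrrCharacter G, classInner f χ * (χ : G → ℂ) g := by
  conv_lhs => rw [hf.eq_sum_irr]
  simp

theorem _root_.Cfsg.IsClassFunction.ext_irr [Fintype G] {f f' : G → ℂ}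
    (hf : IsClassFunction G f) (hf' : IsClassFunction G f')
    (h : ∀ χ, IsIrrCharacter G χ → classInner f χ = classInner f' χ) : f = f' := by
  rw [← sub_eq_zero]
  exact (hf.sub hf').eq_zero_of_orthogonal fun χ hχ => by rw [classInner_sub_left, h χ hχ, sub_self]

/-- Parseval's identity. -/
theorem _root_.Cfsg.IsClassFunction.classInner_eq_sum_irr [Fintype G] {f : G → ℂ}
    (hf : IsClassFunction G f) (f' : G → ℂ) :
    classInner f f' = ∑ χ : IrrCharacter G, classInner f χ * conj (classInner f' χ) := by
  conv_lhs => rw [hf.eq_sum_irr]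
  simp only [classInner_sum_left, classInner_smul_left, conj_classInner]

theorem _root_.Cfsg.IsClassFunction.exists_irr_classInner_ne_zero [Fintype G] {f : G → ℂ}
    (hf : IsClassFunction G f) (h : f ≠ 0) : ∃ χ, IsIrrCharacter G χ ∧ classInner f χ ≠ 0 := by
  by_contra h1
  push Not at h1
  exact h (hf.eq_zero_of_orthogonal h1)

end Orth

end Cfsg.Agent.Char
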