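import Mathlib
import Cfsg.Prelude.Def_Characters
import Cfsg.Agent.Char.Inner

/-!
# Generalized characters, decomposition of characters, constituents.
-/

set_option autoImplicit false

namespace Cfsg.Agent.Char

open Representation Module Cfsg
open scoped ComplexConjugate

section GenClosure

variable {G : Type*} [Group G]

theorem _root_.Cfsg.IsCharacter.isGen {χ : G → ℂ} (h : IsCharacter G χ) :
    IsGeneralizedCharacter G χ := ⟨χ, 0, h, isCharacter_zero, (sub_zero _).symm⟩

theorem _root_.Cfsg.IsIrrCharacter.isGen {χ : G → ℂ} (h : IsIrrCharacter G χ) :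
    IsGeneralizedCharacter G χ := h.isCharacter.isGen

theorem isGen_zero : IsGeneralizedCharacter G 0 := isCharacter_zero.isGen

theorem isGen_one : IsGeneralizedCharacter G (fun _ => 1) := isCharacter_one.isGen

theorem _root_.Cfsg.IsGeneralizedCharacter.isClassFunction {θ : G → ℂ}
    (h : IsGeneralizedCharacter G θ) : IsClassFunction G θ := by
  obtain ⟨χ, ψ, h1, h2, rfl⟩ := h
  exact h1.isClassFunction.sub h2.isClassFunction

theorem _root_.Cfsg.IsGeneralizedCharacter.add {θ φ : G → ℂ} (h : IsGeneralizedCharacter G θ)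
    (h' : IsGeneralizedCharacter G φ) : IsGeneralizedCharacter G (θ + φ) := by
  obtain ⟨χ, ψ, h1, h2, rfl⟩ := h
  obtain ⟨χ', ψ', h1', h2', rfl⟩ := h'
  exact ⟨χ + χ', ψ + ψ', h1.add h1', h2.add h2', by ring⟩

theorem _root_.Cfsg.IsGeneralizedCharacter.neg {θ : G → ℂ} (h : IsGeneralizedCharacter G θ) :
    IsGeneralizedCharacter G (-θ) := by
  obtain ⟨χ, ψ, h1, h2, rfl⟩ := h
  exact ⟨ψ, χ, h2, h1, by ring⟩

theorem _root_.Cfsg.IsGeneralizedCharacter.sub {θ φ : G → ℂ} (h : IsGeneralizedCharacter G θ)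
    (h' : IsGeneralizedCharacter G φ) : IsGeneralizedCharacter G (θ - φ) := by
  rw [sub_eq_add_neg]; exact h.add h'.neg

theorem _root_.Cfsg.IsGeneralizedCharacter.mul {θ φ : G → ℂ} (h : IsGeneralizedCharacter G θ)
    (h' : IsGeneralizedCharacter G φ) : IsGeneralizedCharacter G (θ * φ) := by
  obtain ⟨χ, ψ, h1, h2, rfl⟩ := h
  obtain ⟨χ', ψ', h1', h2', rfl⟩ := h'
  exact ⟨χ * χ' + ψ * ψ', χ * ψ' + ψ * χ', (h1.mul h1').add (h2.mul h2'),
    (h1.mul h2').add (h2.mul h1'), by ring⟩

theorem _root_.Cfsg.IsGeneralizedCharacter.nsmul {θ : G → ℂ} (h : IsGeneralizedCharacter G θ)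
    (n : ℕ) : IsGeneralizedCharacter G (n • θ) := by
  obtain ⟨χ, ψ, h1, h2, rfl⟩ := h
  exact ⟨n • χ, n • ψ, h1.nsmul n, h2.nsmul n, smul_sub _ _ _⟩

theorem _root_.Cfsg.IsGeneralizedCharacter.zsmul {θ : G → ℂ} (h : IsGeneralizedCharacter G θ)
    (n : ℤ) : IsGeneralizedCharacter G (n • θ) := by
  obtain ⟨n, rfl | rfl⟩ := n.eq_nat_or_neg
  · simpa using h.nsmul n
  · simpa using (h.nsmul n).neg

theorem _root_.Cfsg.IsGeneralizedCharacter.intCast_smul {θ : G → ℂ}
    (h : IsGeneralizedCharacter G θ) (n : ℤ) : IsGeneralizedCharacter G ((n : ℂ) • θ) := by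
  rw [Int.cast_smul_eq_zsmul]; exact h.zsmul n

theorem _root_.Cfsg.IsGeneralizedCharacter.natCast_smul {θ : G → ℂ}
    (h : IsGeneralizedCharacter G θ) (n : ℕ) : IsGeneralizedCharacter G ((n : ℂ) • θ) := by
  rw [Nat.cast_smul_eq_nsmul]; exact h.nsmul n

theorem isGen_sum {ι : Type*} (s : Finset ι) (f : ι → G → ℂ)
    (h : ∀ i ∈ s, IsGeneralizedCharacter G (f i)) : IsGeneralizedCharacter G (∑ i ∈ s, f i) :=
  Finset.sum_induction f (IsGeneralizedCharacter G) (fun _ _ => IsGeneralizedCharacter.add)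
    isGen_zero h

theorem _root_.Cfsg.IsGeneralizedCharacter.comp {H : Type*} [Group H] {θ : G → ℂ}
    (h : IsGeneralizedCharacter G θ) (f : H →* G) :
    IsGeneralizedCharacter H (fun x => θ (f x)) := by
  obtain ⟨χ, ψ, h1, h2, rfl⟩ := h
  exact ⟨_, _, h1.comp f, h2.comp f, rfl⟩

theorem _root_.Cfsg.IsGeneralizedCharacter.restrict {θ : G → ℂ}
    (h : IsGeneralizedCharacter G θ) (H : Subgroup G) :
    IsGeneralizedCharacter H (fun x : H => θ x) := h.comp H.subtype

theorem _root_.Cfsg.IsGeneralizedCharacter.conj [Finite G] {θ : G → ℂ}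
    (h : IsGeneralizedCharacter G θ) : IsGeneralizedCharacter G (fun g => conj (θ g)) := by
  obtain ⟨χ, ψ, h1, h2, rfl⟩ := h
  exact ⟨_, _, h1.conj, h2.conj, by ext; simp⟩

theorem _root_.Cfsg.IsGeneralizedCharacter.apply_inv [Finite G] {θ : G → ℂ}
    (h : IsGeneralizedCharacter G θ) (g : G) : θ g⁻¹ = conj (θ g) := by
  obtain ⟨χ, ψ, h1, h2, rfl⟩ := h
  simp [h1.apply_inv, h2.apply_inv]

theorem _root_.Cfsg.IsGeneralizedCharacter.isIntegral [Finite G] {θ : G → ℂ}
    (h : IsGeneralizedCharacter G θ) (g : G) : IsIntegral ℤ (θ g) := by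
  obtain ⟨χ, ψ, h1, h2, rfl⟩ := h
  exact (h1.isIntegral g).sub (h2.isIntegral g)

theorem _root_.Cfsg.IsGeneralizedCharacter.exists_int {θ : G → ℂ}
    (h : IsGeneralizedCharacter G θ) : ∃ n : ℤ, θ 1 = n := by
  obtain ⟨χ, ψ, h1, h2, rfl⟩ := h
  obtain ⟨n, hn⟩ := h1.exists_nat
  obtain ⟨m, hm⟩ := h2.exists_nat
  exact ⟨n - m, by simp [hn, hm]⟩

theorem mem_span_isGen {S : Set (G → ℂ)} (hS : ∀ χ ∈ S, IsGeneralizedCharacter G χ)
    {θ : G → ℂ} (h : θ ∈ Submodule.span ℤ S) : IsGeneralizedCharacter G θ := by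
  induction h using Submodule.span_induction with
  | mem x hx => exact hS x hx
  | zero => exact isGen_zero
  | add x y _ _ hx hy => exact hx.add hy
  | smul a x _ hx => exact hx.zsmul a

end GenClosure

section GenInner

variable {G : Type*} [Group G] [Fintype G]

theorem _root_.Cfsg.IsGeneralizedCharacter.classInner_int {θ φ : G → ℂ}
    (h : IsGeneralizedCharacter G θ) (h' : IsGeneralizedCharacter G φ) :
    ∃ n : ℤ, classInner θ φ = n := by
  obtain ⟨χ, ψ, h1, h2, rfl⟩ := h
  obtain ⟨χ', ψ', h1', h2', rfl⟩ := h'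
  obtain ⟨a, ha⟩ := h1.classInner_nat h1'
  obtain ⟨b, hb⟩ := h1.classInner_nat h2'
  obtain ⟨c, hc⟩ := h2.classInner_nat h1'
  obtain ⟨d, hd⟩ := h2.classInner_nat h2'
  exact ⟨a - b - (c - d), by
    simp [classInner_sub_left, classInner_sub_right, ha, hb, hc, hd]; ring⟩

theorem _root_.Cfsg.IsGeneralizedCharacter.classInner_comm {θ φ : G → ℂ}
    (h : IsGeneralizedCharacter G θ) (h' : IsGeneralizedCharacter G φ) :
    classInner θ φ = classInner φ θ := by
  obtain ⟨n, hn⟩ := h.classInner_int h'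
  rw [← conj_classInner θ φ, hn]; simp

omit [Fintype G] in
theorem isCharacter_sum_irr [Finite G] (m : IrrCharacter G → ℕ) :
    IsCharacter G (∑ χ : IrrCharacter G, (m χ : ℂ) • (χ : G → ℂ)) :=
  isCharacter_sum _ _ fun χ _ => χ.2.isCharacter.natCast_smul _

omit [Fintype G] in
theorem isGen_sum_irr [Finite G] (m : IrrCharacter G → ℤ) :
    IsGeneralizedCharacter G (∑ χ : IrrCharacter G, (m χ : ℂ) • (χ : G → ℂ)) :=
  isGen_sum _ _ fun χ _ => χ.2.isGen.intCast_smul _

theorem _root_.Cfsg.IsClassFunction.isCharacter_of_classInner {f : G → ℂ}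
    (hf : IsClassFunction G f) (h : ∀ χ, IsIrrCharacter G χ → ∃ n : ℕ, classInner f χ = n) :
    IsCharacter G f := by
  choose m hm using h
  rw [hf.eq_sum_irr]
  convert isCharacter_sum_irr (fun χ : IrrCharacter G => m χ χ.2) using 3 with χ
  exact hm _ _

theorem _root_.Cfsg.IsClassFunction.isGen_of_classInner {f : G → ℂ}
    (hf : IsClassFunction G f) (h : ∀ χ, IsIrrCharacter G χ → ∃ n : ℤ, classInner f χ = n) :
    IsGeneralizedCharacter G f := by
  choose m hm using h
  rw [hf.eq_sum_irr]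
  convert isGen_sum_irr (fun χ : IrrCharacter G => m χ χ.2) using 3 with χ
  exact hm _ _

theorem _root_.Cfsg.IsCharacter.exists_mult {f : G → ℂ} (hf : IsCharacter G f) :
    ∃ m : IrrCharacter G → ℕ, (∀ χ : IrrCharacter G, classInner f χ = m χ) ∧
      f = ∑ χ : IrrCharacter G, (m χ : ℂ) • (χ : G → ℂ) := by
  choose m hm using fun χ : IrrCharacter G => hf.classInner_nat χ.2.isCharacter
  refine ⟨m, hm, ?_⟩
  conv_lhs => rw [hf.isClassFunction.eq_sum_irr]
  simp only [hm]

theorem _root_.Cfsg.IsGeneralizedCharacter.exists_mult {f : G → ℂ}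
    (hf : IsGeneralizedCharacter G f) :
    ∃ m : IrrCharacter G → ℤ, (∀ χ : IrrCharacter G, classInner f χ = m χ) ∧
      f = ∑ χ : IrrCharacter G, (m χ : ℂ) • (χ : G → ℂ) := by
  choose m hm using fun χ : IrrCharacter G => hf.classInner_int χ.2.isGen
  refine ⟨m, hm, ?_⟩
  conv_lhs => rw [hf.isClassFunction.eq_sum_irr]
  simp only [hm]

theorem classInner_sum_irr_sum_irr (c d : IrrCharacter G → ℂ) :
    classInner (∑ χ : IrrCharacter G, c χ • (χ : G → ℂ))
      (∑ χ : IrrCharacter G, d χ • (χ : G → ℂ)) = ∑ χ, c χ * conj (d χ) := by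
  simp only [classInner_sum_right, classInner_smul_right, classInner_sum_irr]
  exact Finset.sum_congr rfl fun _ _ => mul_comm _ _

/-- A generalized character with nonnegative multiplicities is a character. -/
theorem _root_.Cfsg.IsGeneralizedCharacter.isCharacter_of_nonneg {f : G → ℂ}
    (hf : IsGeneralizedCharacter G f)
    (h : ∀ χ, IsIrrCharacter G χ → 0 ≤ (classInner f χ).re) : IsCharacter G f := by
  refine hf.isClassFunction.isCharacter_of_classInner fun χ hχ => ?_
  obtain ⟨n, hn⟩ := hf.classInner_int hχ.isGen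
  have := h χ hχ
  rw [hn] at this
  have h0 : 0 ≤ n := by exact_mod_cast this
  lift n to ℕ using h0
  exact ⟨n, by simpa using hn⟩

theorem _root_.Cfsg.IsGeneralizedCharacter.exists_mult_norm {f : G → ℂ}
    (hf : IsGeneralizedCharacter G f) :
    ∃ m : IrrCharacter G → ℤ, (∀ χ : IrrCharacter G, classInner f χ = m χ) ∧
      f = ∑ χ : IrrCharacter G, (m χ : ℂ) • (χ : G → ℂ) ∧
      classInner f f = ((∑ χ, m χ ^ 2 : ℤ) : ℂ) := by
  obtain ⟨m, h1, h2⟩ := hf.exists_mult
  refine ⟨m, h1, h2, ?_⟩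
  rw [hf.isClassFunction.classInner_eq_sum_irr]
  simp [h1, sq]

theorem int_sum_sq_eq_one {ι : Type*} [Fintype ι] [DecidableEq ι] (m : ι → ℤ)
    (h : ∑ i, m i ^ 2 = 1) : ∃ i, (m i = 1 ∨ m i = -1) ∧ ∀ j, j ≠ i → m j = 0 := by
  have : ∃ i, m i ≠ 0 := by
    by_contra h0
    push Not at h0
    simp [h0] at h
  obtain ⟨i, hi⟩ := this
  rw [← Finset.add_sum_erase _ _ (Finset.mem_univ i)] at h
  have h1 : 0 ≤ ∑ j ∈ Finset.univ.erase i, m j ^ 2 := Finset.sum_nonneg fun _ _ => sq_nonneg _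
  have h2 : 1 ≤ m i ^ 2 := by
    have := sq_pos_of_ne_zero hi
    omega
  have h3 : m i ^ 2 = 1 := by omega
  have h4 : ∑ j ∈ Finset.univ.erase i, m j ^ 2 = 0 := by omega
  refine ⟨i, sq_eq_one_iff.1 h3, fun j hj => ?_⟩
  rw [Finset.sum_eq_zero_iff_of_nonneg (fun _ _ => sq_nonneg _)] at h4
  simpa using h4 j (by simp [hj])

/-- A generalized character of norm one is, up to sign, irreducible. -/
theorem _root_.Cfsg.IsGeneralizedCharacter.irr_or_neg_irr {f : G → ℂ}
    (hf : IsGeneralizedCharacter G f) (h : classInner f f = 1) :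
    IsIrrCharacter G f ∨ IsIrrCharacter G (-f) := by
  classical
  obtain ⟨m, -, h2, h3⟩ := hf.exists_mult_norm
  rw [h] at h3
  obtain ⟨χ, h4, h5⟩ := int_sum_sq_eq_one m (by exact_mod_cast h3.symm)
  rw [Finset.sum_eq_single χ (fun j _ hj => by simp [h5 j hj]) (by simp)] at h2
  rcases h4 with h4 | h4
  · left; rw [h2, h4]; simpa using χ.2
  · right; rw [h2, h4]; simpa using χ.2

theorem _root_.Cfsg.IsGeneralizedCharacter.isIrr_of_re_pos {f : G → ℂ}
    (hf : IsGeneralizedCharacter G f) (h : classInner f f = 1) (h1 : 0 ≤ (f 1).re) :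
    IsIrrCharacter G f := by
  refine (hf.irr_or_neg_irr h).resolve_right fun h2 => ?_
  obtain ⟨n, hn, h3⟩ := h2.exists_nat
  have : f 1 = -n := by rw [← h3]; simp
  rw [this] at h1
  have : (0 : ℝ) < n := by exact_mod_cast hn
  simp at h1
  linarith

theorem _root_.Cfsg.IsCharacter.exists_irr_constituent {f : G → ℂ} (hf : IsCharacter G f)
    (h : f ≠ 0) : ∃ χ, IsIrrCharacter G χ ∧ classInner f χ ≠ 0 :=
  hf.isClassFunction.exists_irr_classInner_ne_zero h

/-- Removing the full isotypic part of an irreducible constituent leaves a character. -/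
theorem _root_.Cfsg.IsCharacter.sub_mult_smul {f χ : G → ℂ} (hf : IsCharacter G f)
    (hχ : IsIrrCharacter G χ) : IsCharacter G (f - classInner f χ • χ) := by
  classical
  refine (hf.isClassFunction.sub (hχ.isClassFunction.smul _)).isCharacter_of_classInner
    fun ψ hψ => ?_
  rw [classInner_sub_left, classInner_smul_left, hχ.classInner_eq hψ]
  split_ifs with h
  · subst h; exact ⟨0, by simp⟩
  · simpa using hf.classInner_nat hψ.isCharacter

/-- Removing one copy of an irreducible constituent leaves a character. -/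
theorem _root_.Cfsg.IsCharacter.sub_irr {f χ : G → ℂ} (hf : IsCharacter G f)
    (hχ : IsIrrCharacter G χ) (h : classInner f χ ≠ 0) : IsCharacter G (f - χ) := by
  classical
  refine (hf.isClassFunction.sub hχ.isClassFunction).isCharacter_of_classInner
    fun ψ hψ => ?_
  rw [classInner_sub_left, hχ.classInner_eq hψ]
  obtain ⟨n, hn⟩ := hf.classInner_nat hψ.isCharacter
  split_ifs with h1
  · subst h1
    rw [hn] at h ⊢
    have : n ≠ 0 := by exact_mod_cast h
    obtain ⟨n, rfl⟩ := Nat.exists_eq_succ_of_ne_zero this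
    exact ⟨n, by simp⟩
  · exact ⟨n, by simp [hn]⟩

/-- If `f - χ` is a character then degrees compare, with equality only when `f = χ`. -/
theorem _root_.Cfsg.IsCharacter.eq_of_sub_of_one_eq {G : Type*} [Group G] {f χ : G → ℂ}
    (h : IsCharacter G (f - χ)) (h1 : f 1 = χ 1) : f = χ := by
  have := h.eq_zero_of_one_eq_zero (by simp [h1])
  exact sub_eq_zero.1 this

theorem _root_.Cfsg.IsCharacter.re_one_nonneg {G : Type*} [Group G] {f : G → ℂ}
    (h : IsCharacter G f) : 0 ≤ (f 1).re := by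
  obtain ⟨n, hn⟩ := h.exists_nat
  rw [hn]; simp

theorem _root_.Cfsg.IsIrrCharacter.one_le_re_one {G : Type*} [Group G] {f : G → ℂ}
    (h : IsIrrCharacter G f) : 1 ≤ (f 1).re := by
  obtain ⟨n, hn, h⟩ := h.exists_nat
  rw [h]; simpa using Nat.succ_le_of_lt hn

theorem _root_.Cfsg.IsCharacter.classInner_re_nonneg {f χ : G → ℂ} (hf : IsCharacter G f)
    (hχ : IsCharacter G χ) : 0 ≤ (classInner f χ).re := by
  obtain ⟨n, hn⟩ := hf.classInner_nat hχ
  rw [hn]; simp

/-- The multiplicity of a constituent times its degree is at most the degree. -/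
theorem _root_.Cfsg.IsCharacter.mult_mul_degree_le {f χ : G → ℂ} (hf : IsCharacter G f)
    (hχ : IsIrrCharacter G χ) {m a b : ℕ} (hm : classInner f χ = m) (ha : χ 1 = a)
    (hb : f 1 = b) : m * a ≤ b := by
  have := (hf.sub_mult_smul hχ).re_one_nonneg
  simp only [Pi.sub_apply, Pi.smul_apply, hm, ha, hb, smul_eq_mul] at this
  have h2 : ((b : ℂ) - m * a).re = (b : ℝ) - m * a := by simp
  rw [h2] at this
  have : (m : ℝ) * a ≤ b := by linarith
  exact_mod_cast this

theorem _root_.Cfsg.IsCharacter.degree_le_of_constituent {f χ : G → ℂ} (hf : IsCharacter G f)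
    (hχ : IsIrrCharacter G χ) (h : classInner f χ ≠ 0) : (χ 1).re ≤ (f 1).re := by
  have := (hf.sub_irr hχ h).re_one_nonneg
  simpa using this

theorem _root_.Cfsg.IsCharacter.eq_of_constituent_of_one_eq {f χ : G → ℂ} (hf : IsCharacter G f)
    (hχ : IsIrrCharacter G χ) (h : classInner f χ ≠ 0) (h1 : f 1 = χ 1) : f = χ :=
  (hf.sub_irr hχ h).eq_of_sub_of_one_eq h1

/-- A character all of whose constituents equal `χ` is a multiple of `χ`. -/
theorem _root_.Cfsg.IsClassFunction.eq_smul_of_unique {f χ : G → ℂ} (hf : IsClassFunction G f)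
    (hχ : IsIrrCharacter G χ)
    (h : ∀ ψ, IsIrrCharacter G ψ → classInner f ψ ≠ 0 → ψ = χ) : f = classInner f χ • χ := by
  classical
  refine hf.ext_irr (hχ.isClassFunction.smul _) fun ψ hψ => ?_
  rw [classInner_smul_left, hχ.classInner_eq hψ]
  split_ifs with h1
  · subst h1; simp
  · by_contra h2
    rw [mul_zero] at h2
    exact h1 (h ψ hψ h2).symm

/-- Inner products of characters are monotone: a nonzero product with a summand stays nonzero. -/
theorem classInner_add_ne_zero_left {f f' χ : G → ℂ} (hf : IsCharacter G f)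
    (hf' : IsCharacter G f') (hχ : IsCharacter G χ) (h : classInner f χ ≠ 0) :
    classInner (f + f') χ ≠ 0 := by
  obtain ⟨a, ha⟩ := hf.classInner_nat hχ
  obtain ⟨b, hb⟩ := hf'.classInner_nat hχ
  rw [classInner_add_left, ha, hb]
  rw [ha] at h
  have : a ≠ 0 := by exact_mod_cast h
  exact_mod_cast (by omega : a + b ≠ 0)

/-- Two characters with nonzero inner product have a common irreducible constituent. -/
theorem _root_.Cfsg.IsClassFunction.exists_common_constituent {f f' : G → ℂ}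
    (hf : IsClassFunction G f) (h : classInner f f' ≠ 0) :
    ∃ χ, IsIrrCharacter G χ ∧ classInner f χ ≠ 0 ∧ classInner f' χ ≠ 0 := by
  rw [hf.classInner_eq_sum_irr] at h
  obtain ⟨χ, -, hχ⟩ := Finset.exists_ne_zero_of_sum_ne_zero h
  refine ⟨χ, χ.2, left_ne_zero_of_mul hχ, ?_⟩
  have := right_ne_zero_of_mul hχ
  simpa using this

/-- If `χ` is a constituent of both characters `f` and `f'` then their inner product is nonzero. -/
theorem classInner_ne_zero_of_common {f f' χ : G → ℂ} (hf : IsCharacter G f)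
    (hf' : IsCharacter G f') (hχ : IsIrrCharacter G χ) (h : classInner f χ ≠ 0)
    (h' : classInner f' χ ≠ 0) : classInner f f' ≠ 0 := by
  have h1 : f = χ + (f - χ) := by ring
  rw [h1]
  refine classInner_add_ne_zero_left hχ.isCharacter (hf.sub_irr hχ h) hf' ?_
  rwa [Ne, classInner_eq_zero_comm]

end GenInner

end Cfsg.Agent.Char
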