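import Mathlib
import Cfsg.Prelude.Def_Characters
import Cfsg.Agent.Char.Gen

/-!
# Induced class functions.
-/

set_option autoImplicit false

namespace Cfsg.Agent.Char

open Representation Module Cfsg
open scoped ComplexConjugate

section Ext

variable {G : Type*} [Group G] (H : Subgroup G)

@[simp] theorem extendByZero_coe (θ : H → ℂ) (x : H) : extendByZero H θ x = θ x :=
  Subtype.val_injective.extend_apply _ _ x

theorem extendByZero_of_mem (θ : H → ℂ) {x : G} (hx : x ∈ H) : extendByZero H θ x = θ ⟨x, hx⟩ :=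
  extendByZero_coe H θ ⟨x, hx⟩

theorem extendByZero_of_not_mem (θ : H → ℂ) {x : G} (hx : x ∉ H) : extendByZero H θ x = 0 := by
  unfold extendByZero
  rw [Function.extend_apply']
  · rfl
  · rintro ⟨a, rfl⟩
    exact hx a.2

open Classical in
theorem extendByZero_apply (θ : H → ℂ) (x : G) :
    extendByZero H θ x = if hx : x ∈ H then θ ⟨x, hx⟩ else 0 := by
  split_ifs with hx
  · exact extendByZero_of_mem H θ hx
  · exact extendByZero_of_not_mem H θ hx

theorem extendByZero_add (θ φ : H → ℂ) :
    extendByZero H (θ + φ) = extendByZero H θ + extendByZero H φ := by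
  ext x; simp only [Pi.add_apply, extendByZero_apply]; split_ifs <;> simp

theorem extendByZero_smul (c : ℂ) (θ : H → ℂ) :
    extendByZero H (c • θ) = c • extendByZero H θ := by
  ext x; simp only [Pi.smul_apply, extendByZero_apply]; split_ifs <;> simp

theorem extendByZero_mul_restrict (θ : H → ℂ) (φ : G → ℂ) :
    extendByZero H (θ * fun x : H => φ x) = extendByZero H θ * φ := by
  ext x; simp only [Pi.mul_apply, extendByZero_apply]; split_ifs <;> simp

theorem extendByZero_conj (θ : H → ℂ) (x : G) :
    extendByZero H (fun h => conj (θ h)) x = conj (extendByZero H θ x) := by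
  simp only [extendByZero_apply]; split_ifs <;> simp

theorem extendByZero_conj_mem {θ : H → ℂ} (hθ : IsClassFunction H θ) {h : G} (hh : h ∈ H)
    (x : G) : extendByZero H θ (h * x * h⁻¹) = extendByZero H θ x := by
  by_cases hx : x ∈ H
  · have := hθ ⟨x, hx⟩ ⟨h, hh⟩
    rw [extendByZero_of_mem H θ hx, ← this, ← extendByZero_coe H θ]
    rfl
  · rw [extendByZero_of_not_mem H θ hx, extendByZero_of_not_mem H θ]
    intro h1
    apply hx
    have := H.mul_mem (H.mul_mem (H.inv_mem hh) h1) hh
    simpa [mul_assoc] using this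

theorem sum_extendByZero_mul [Fintype G] [Fintype H] (θ : H → ℂ) (F : G → ℂ) :
    ∑ g, extendByZero H θ g * F g = ∑ h : H, θ h * F h := by
  classical
  symm
  refine Finset.sum_of_injOn Subtype.val (Subtype.val_injective.injOn) (by simp) ?_ (by simp)
  intro x _ hx
  rw [extendByZero_of_not_mem, zero_mul]
  intro h
  exact hx ⟨⟨x, h⟩, by simp, rfl⟩

theorem sum_extendByZero [Fintype G] [Fintype H] (θ : H → ℂ) :
    ∑ g, extendByZero H θ g = ∑ h : H, θ h := by
  simpa using sum_extendByZero_mul H θ (fun _ => 1)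

end Ext

section Ind

variable {G : Type*} [Group G] [Fintype G] (H : Subgroup G)

theorem indFun_apply (θ : H → ℂ) (g : G) :
    indFun H θ g = (Nat.card H : ℂ)⁻¹ * ∑ x : G, extendByZero H θ (x⁻¹ * g * x) := rfl

theorem indFun_apply' (θ : H → ℂ) (g : G) :
    indFun H θ g = (Nat.card H : ℂ)⁻¹ * ∑ x : G, extendByZero H θ (x * g * x⁻¹) := by
  rw [indFun_apply]
  congr 1
  exact Fintype.sum_equiv (Equiv.inv G) _ _ (by simp)

omit [Fintype G] in
theorem indFun_congr_fintype (i j : Fintype G) (θ : H → ℂ) :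
    @indFun G _ i H θ = @indFun G _ j H θ := by
  rw [Subsingleton.elim i j]

theorem isClassFunction_indFun (θ : H → ℂ) : IsClassFunction G (indFun H θ) := by
  intro g y
  simp only [indFun_apply]
  congr 1
  refine Fintype.sum_equiv (Equiv.mulLeft y⁻¹) _ _ fun x => ?_
  simp [mul_assoc]

theorem indFun_add (θ φ : H → ℂ) : indFun H (θ + φ) = indFun H θ + indFun H φ := by
  ext g; simp [indFun_apply, extendByZero_add, Finset.sum_add_distrib, mul_add]

theorem indFun_smul (c : ℂ) (θ : H → ℂ) : indFun H (c • θ) = c • indFun H θ := by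
  ext g
  simp only [indFun_apply, extendByZero_smul, Pi.smul_apply, smul_eq_mul, ← Finset.mul_sum]
  ring

/-- Induction as a linear map. -/
noncomputable def indLin : (H → ℂ) →ₗ[ℂ] (G → ℂ) where
  toFun := indFun H
  map_add' := indFun_add H
  map_smul' := indFun_smul H

theorem indLin_apply (θ : H → ℂ) : indLin H θ = indFun H θ := rfl

@[simp] theorem indFun_zero : indFun H 0 = 0 := (indLin H).map_zero

theorem indFun_neg (θ : H → ℂ) : indFun H (-θ) = -indFun H θ := (indLin H).map_neg θ

theorem indFun_sub (θ φ : H → ℂ) : indFun H (θ - φ) = indFun H θ - indFun H φ :=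
  (indLin H).map_sub θ φ

theorem indFun_zsmul (c : ℤ) (θ : H → ℂ) : indFun H (c • θ) = c • indFun H θ :=
  map_zsmul (indLin H) c θ

theorem indFun_nsmul (c : ℕ) (θ : H → ℂ) : indFun H (c • θ) = c • indFun H θ :=
  map_nsmul (indLin H) c θ

theorem indFun_sum {ι : Type*} (s : Finset ι) (f : ι → H → ℂ) :
    indFun H (∑ i ∈ s, f i) = ∑ i ∈ s, indFun H (f i) := map_sum (indLin H) f s

theorem indFun_one (θ : H → ℂ) : indFun H θ 1 = H.index * θ 1 := by
  have h1 : extendByZero H θ 1 = θ 1 := extendByZero_coe H θ 1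
  simp only [indFun_apply, mul_one, inv_mul_cancel, h1, Finset.sum_const, Finset.card_univ,
    nsmul_eq_mul, ← Nat.card_eq_fintype_card]
  rw [← Subgroup.card_mul_index H]
  have := card_ne_zero H
  push_cast
  field_simp

theorem indFun_conj (θ : H → ℂ) :
    indFun H (fun h => conj (θ h)) = fun g => conj (indFun H θ g) := by
  ext g
  simp [indFun_apply, extendByZero_conj]

/-- The projection formula. -/
theorem indFun_mul_restrict (θ : H → ℂ) {φ : G → ℂ} (hφ : IsClassFunction G φ) :
    indFun H (θ * fun x : H => φ x) = indFun H θ * φ := by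
  ext g
  simp only [indFun_apply, extendByZero_mul_restrict, Pi.mul_apply, mul_assoc,
    Finset.sum_mul]
  simp only [← mul_assoc, hφ.conj']

theorem indFun_restrict {φ : G → ℂ} (hφ : IsClassFunction G φ) :
    indFun H (fun x : H => φ x) = indFun H (fun _ => 1) * φ := by
  rw [← indFun_mul_restrict H _ hφ]
  congr 1
  ext; simp

theorem indFun_eq_zero_of_not_conj (θ : H → ℂ) {g : G} (hg : ∀ x, x⁻¹ * g * x ∉ H) :
    indFun H θ g = 0 := by
  simp [indFun_apply, extendByZero_of_not_mem H θ (hg _)]

theorem indFun_eq_zero_of_normal [hH : H.Normal] (θ : H → ℂ) {g : G} (hg : g ∉ H) :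
    indFun H θ g = 0 := by
  refine indFun_eq_zero_of_not_conj H θ fun x hx => hg ?_
  simpa [mul_assoc] using hH.conj_mem _ hx x

theorem indFun_of_normal [hH : H.Normal] (θ : H → ℂ) (n : H) :
    indFun H θ n = (Nat.card H : ℂ)⁻¹ * ∑ x : G, θ ⟨x * n * x⁻¹, hH.conj_mem n n.2 x⟩ := by
  rw [indFun_apply']
  congr 1
  exact Finset.sum_congr rfl fun x _ => extendByZero_of_mem H θ _

/-- Frobenius reciprocity. -/
theorem classInner_indFun_left [Fintype H] (θ : H → ℂ) {χ : G → ℂ} (hχ : IsClassFunction G χ) :
    classInner (indFun H θ) χ = classInner θ (fun h : H => χ h) := by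
  simp only [classInner, indFun_apply, mul_assoc, ← Finset.mul_sum, Finset.sum_mul]
  rw [Finset.sum_comm]
  have : ∀ x : G, ∑ g, extendByZero H θ (x⁻¹ * (g * x)) * conj (χ g) =
      ∑ h : H, θ h * conj (χ h) := fun x => by
    rw [← sum_extendByZero_mul H θ (fun g => conj (χ g))]
    refine Fintype.sum_equiv (MulAut.conj x⁻¹).toEquiv _ _ fun g => ?_
    simp [mul_assoc, ← hχ.conj' g x]
  simp only [this, Finset.sum_const, Finset.card_univ, nsmul_eq_mul, ← Nat.card_eq_fintype_card]
  have := card_ne_zero G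
  field_simp

theorem classInner_indFun_right [Fintype H] (θ : H → ℂ) {χ : G → ℂ} (hχ : IsClassFunction G χ) :
    classInner χ (indFun H θ) = classInner (fun h : H => χ h) θ := by
  rw [← conj_classInner, classInner_indFun_left H θ hχ, conj_classInner]

variable {H}

theorem _root_.Cfsg.IsCharacter.indFun {θ : H → ℂ} (hθ : IsCharacter H θ) :
    IsCharacter G (indFun H θ) := by
  have := Fintype.ofFinite H
  refine (isClassFunction_indFun H θ).isCharacter_of_classInner fun χ hχ => ?_
  rw [classInner_indFun_left H θ hχ.isClassFunction]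
  exact hθ.classInner_nat (hχ.isCharacter.restrict H)

theorem _root_.Cfsg.IsGeneralizedCharacter.indFun {θ : H → ℂ} (hθ : IsGeneralizedCharacter H θ) :
    IsGeneralizedCharacter G (indFun H θ) := by
  obtain ⟨χ, ψ, h1, h2, rfl⟩ := hθ
  exact ⟨_, _, h1.indFun, h2.indFun, indFun_sub H _ _⟩

/-- Transitivity of induction. -/
theorem indFun_indFun {K : Subgroup G} [Fintype K] (hHK : H ≤ K) (θ : H → ℂ) :
    indFun K (indFun (H.subgroupOf K)
      (fun x => θ ⟨(x : K), Subgroup.mem_subgroupOf.mp x.2⟩)) = indFun H θ := by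
  classical
  ext g
  have hcard : Nat.card (H.subgroupOf K) = Nat.card H :=
    Nat.card_congr (Subgroup.subgroupOfEquivOfLe hHK).toEquiv
  have h1 : ∀ y : G, extendByZero K (indFun (H.subgroupOf K)
      (fun x => θ ⟨(x : K), Subgroup.mem_subgroupOf.mp x.2⟩)) y =
      (Nat.card H : ℂ)⁻¹ * ∑ k : K, extendByZero H θ ((k : G)⁻¹ * y * k) := fun y => by
    by_cases hy : y ∈ K
    · rw [extendByZero_of_mem K _ hy, indFun_apply, hcard]
      congr 1
      refine Finset.sum_congr rfl fun k _ => ?_
      simp only [extendByZero_apply, Subgroup.mem_subgroupOf]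
      rfl
    · rw [extendByZero_of_not_mem K _ hy, Finset.sum_eq_zero, mul_zero]
      intro k _
      refine extendByZero_of_not_mem H _ fun h => hy ?_
      have := K.mul_mem (K.mul_mem k.2 (hHK h)) (K.inv_mem k.2)
      simpa [mul_assoc] using this
  simp only [indFun_apply, h1, ← Finset.mul_sum]
  rw [Finset.sum_comm]
  have h2 : ∀ k : K, ∑ x : G, extendByZero H θ ((k : G)⁻¹ * (x⁻¹ * g * x) * k) =
      ∑ x : G, extendByZero H θ (x⁻¹ * g * x) := fun k => by
    refine Fintype.sum_equiv (Equiv.mulRight (k : G)) _ _ fun x => ?_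
    simp [mul_assoc]
  simp only [h2, Finset.sum_const, Finset.card_univ, nsmul_eq_mul, ← Nat.card_eq_fintype_card]
  have := card_ne_zero K
  field_simp

/-- Transitivity of induction for a subgroup of a subgroup. -/
theorem indFun_indFun_map {K : Subgroup G} [Fintype K] (L : Subgroup K) (θ : L → ℂ) :
    indFun K (indFun L θ) = indFun (L.map K.subtype)
      (fun x => θ ((L.equivMapOfInjective K.subtype K.subtype_injective).symm x)) := by
  rw [← indFun_indFun (K := K) (H := L.map K.subtype) (Subgroup.map_subtype_le L)]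
  have hL : (L.map K.subtype).subgroupOf K = L :=
    Subgroup.comap_map_eq_self_of_injective K.subtype_injective L
  congr 1
  ext k
  simp only [indFun_apply]
  rw [show Nat.card ((L.map K.subtype).subgroupOf K) = Nat.card L by rw [hL]]
  congr 1
  refine Finset.sum_congr rfl fun x _ => ?_
  by_cases hx : x⁻¹ * k * x ∈ L
  · rw [extendByZero_of_mem _ _ hx, extendByZero_of_mem _ _ (hL.symm ▸ hx)]
    congr 1
    rw [MulEquiv.eq_symm_apply]
    rfl
  · rw [extendByZero_of_not_mem _ _ hx, extendByZero_of_not_mem _ _ (hL.symm ▸ hx)]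

theorem indFun_top (θ : (⊤ : Subgroup G) → ℂ) (hθ : IsClassFunction (⊤ : Subgroup G) θ) (g : G) :
    indFun ⊤ θ g = θ ⟨g, trivial⟩ := by
  rw [indFun_apply']
  simp only [extendByZero_conj_mem ⊤ hθ (Subgroup.mem_top _), Finset.sum_const, Finset.card_univ,
    nsmul_eq_mul, ← Nat.card_eq_fintype_card, Subgroup.card_top]
  rw [extendByZero_of_mem _ _ (Subgroup.mem_top g), ← mul_assoc, inv_mul_cancel₀ (card_ne_zero G),
    one_mul]

theorem indFun_of_eq_top (hH : H = ⊤) (θ : H → ℂ) (hθ : IsClassFunction H θ) (g : G) :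
    indFun H θ g = θ ⟨g, hH ▸ trivial⟩ := by
  subst hH
  exact indFun_top θ hθ g

/-- Induction commutes with isomorphisms of the ambient group. -/
theorem indFun_comp_equiv {G' : Type*} [Group G'] [Fintype G'] (e : G' ≃* G) (θ : H → ℂ) :
    (fun g => indFun H θ (e g)) =
      indFun (H.comap e.toMonoidHom) (fun x => θ ⟨e x, x.2⟩) := by
  ext g
  simp only [indFun_apply]
  have hc : Nat.card (H.comap e.toMonoidHom) = Nat.card H := by
    refine Nat.card_congr ⟨fun x => ⟨e x, x.2⟩, fun y => ⟨e.symm y, by simp⟩, ?_, ?_⟩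
    · intro x; ext; simp
    · intro x; ext; simp
  rw [hc]
  congr 1
  symm
  refine Fintype.sum_equiv e.toEquiv _ _ fun x => ?_
  by_cases hx : x⁻¹ * g * x ∈ H.comap e.toMonoidHom
  · rw [extendByZero_of_mem _ _ hx, extendByZero_of_mem _ _ (by simpa using hx)]
    simp
  · rw [extendByZero_of_not_mem _ _ hx, extendByZero_of_not_mem _ _ (by simpa using hx)]

/-- Induction commutes with inflation along a surjective homomorphism. -/
theorem indFun_comp_surjective {G' : Type*} [Group G'] [Fintype G'] (f : G' →* G)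
    (hf : Function.Surjective f) (θ : H → ℂ) :
    (fun g => indFun H θ (f g)) = indFun (H.comap f) (fun x => θ ⟨f x, x.2⟩) := by
  ext g
  simp only [indFun_apply]
  have h1 : ∀ x : G', extendByZero (H.comap f) (fun x => θ ⟨f x, x.2⟩) (x⁻¹ * g * x) =
      extendByZero H θ ((f x)⁻¹ * f g * f x) := fun x => by
    by_cases hx : x⁻¹ * g * x ∈ H.comap f
    · rw [extendByZero_of_mem _ _ hx, extendByZero_of_mem _ _ (by simpa using hx)]
      simp
    · rw [extendByZero_of_not_mem _ _ hx, extendByZero_of_not_mem _ _ (by simpa using hx)]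
  simp only [h1]
  rw [sum_comp_of_surjective f hf (fun y => extendByZero H θ (y⁻¹ * f g * y))]
  have h2 : Nat.card (H.comap f) = Nat.card f.ker * Nat.card H := by
    have e1 := Subgroup.card_mul_index (H.comap f)
    have e2 := Subgroup.card_mul_index H
    have e3 : Nat.card G' = Nat.card f.ker * Nat.card G := by
      rw [← Subgroup.card_mul_index f.ker, Subgroup.index_ker, MonoidHom.range_eq_top.2 hf,
        Subgroup.card_top]
    rw [H.index_comap_of_surjective hf, e3, ← e2, ← mul_assoc] at e1
    exact Nat.eq_of_mul_eq_mul_right (Nat.pos_of_ne_zero H.index_ne_zero_of_finite) e1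
  rw [h2]
  have := card_ne_zero f.ker
  push_cast
  field_simp

theorem card_mul_indFun_one_apply (g : G) :
    (Nat.card H : ℂ) * indFun H (fun _ => 1) g = Nat.card {x : G // x⁻¹ * g * x ∈ H} := by
  classical
  rw [indFun_apply, ← mul_assoc, mul_inv_cancel₀ (card_ne_zero H), one_mul]
  simp only [extendByZero_apply, dite_eq_ite, Finset.sum_boole]
  rw [Nat.card_eq_fintype_card, Fintype.card_subtype]

end Ind

end Cfsg.Agent.Char
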