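import Mathlib
import Cfsg.Prelude.Def_Characters
import Cfsg.Agent.Char.Induce

/-!
# Column orthogonality, number of irreducible characters, kernels, centres and quotients.
-/

set_option autoImplicit false

namespace Cfsg.Agent.Char

open Representation Module Cfsg
open scoped ComplexConjugate

section Classes

variable {G : Type*} [Group G]

theorem card_isConj_eq_index (a : G) :
    Nat.card {x : G // IsConj a x} = (Subgroup.centralizer ({a} : Set G)).index := by
  rw [Subgroup.index]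
  symm
  refine Nat.card_congr (Equiv.ofBijective (fun q => Quotient.liftOn' q
    (fun g => (⟨g * a * g⁻¹, isConj_iff.2 ⟨g, rfl⟩⟩ : {x : G // IsConj a x})) ?_) ⟨?_, ?_⟩)
  · intro g h hgh
    rw [QuotientGroup.leftRel_apply, Subgroup.mem_centralizer_singleton_iff] at hgh
    ext
    show g * a * g⁻¹ = h * a * h⁻¹
    calc g * a * g⁻¹ = g * (a * (g⁻¹ * h)) * h⁻¹ := by group
      _ = h * a * h⁻¹ := by rw [← hgh]; group
  · intro p q
    induction p using Quotient.inductionOn' with | _ g => ?_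
    induction q using Quotient.inductionOn' with | _ h => ?_
    intro hgh
    have h1 : g * a * g⁻¹ = h * a * h⁻¹ := congrArg Subtype.val hgh
    apply Quotient.sound'
    rw [QuotientGroup.leftRel_apply, Subgroup.mem_centralizer_singleton_iff]
    calc g⁻¹ * h * a = g⁻¹ * (h * a * h⁻¹) * h := by group
      _ = a * (g⁻¹ * h) := by rw [← h1]; group
  · rintro ⟨x, hx⟩
    obtain ⟨g, rfl⟩ := isConj_iff.1 hx
    exact ⟨Quotient.mk'' g, rfl⟩

theorem card_isConj_mul_card_centralizer (a : G) :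
    Nat.card {x : G // IsConj a x} * Nat.card (Subgroup.centralizer ({a} : Set G)) =
      Nat.card G := by
  rw [card_isConj_eq_index, mul_comm, Subgroup.card_mul_index]

open Classical in
theorem card_filter_isConj [Fintype G] (a : G) :
    (Finset.univ.filter (fun x => IsConj a x)).card =
      (Subgroup.centralizer ({a} : Set G)).index := by
  rw [← card_isConj_eq_index, Nat.card_eq_fintype_card, Fintype.card_subtype]

open Classical in
theorem card_filter_conj_eq [Fintype G] {a y : G} (h : IsConj a y) :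
    (Finset.univ.filter (fun x => x * a * x⁻¹ = y)).card =
      Nat.card (Subgroup.centralizer ({a} : Set G)) := by
  obtain ⟨c, rfl⟩ := isConj_iff.1 h
  rw [← Fintype.card_subtype, ← Nat.card_eq_fintype_card]
  refine Nat.card_congr ⟨fun x => ⟨c⁻¹ * x.1, ?_⟩, fun x => ⟨c * x.1, ?_⟩, fun x => ?_, fun x => ?_⟩
  · rw [Subgroup.mem_centralizer_singleton_iff]
    calc c⁻¹ * x.1 * a = c⁻¹ * (x.1 * a * x.1⁻¹) * x.1 := by group
      _ = _ := by rw [x.2]; group
  · have := x.2
    rw [Subgroup.mem_centralizer_singleton_iff] at this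
    calc c * x.1 * a * (c * x.1)⁻¹ = c * (x.1 * a) * (c * x.1)⁻¹ := by group
      _ = _ := by rw [this]; group
  · simp
  · simp

open Classical in
/-- Summing a function over all conjugates of `a`. -/
theorem sum_conj_eq [Fintype G] (a : G) (F : G → ℂ) :
    ∑ x, F (x * a * x⁻¹) = (Nat.card (Subgroup.centralizer ({a} : Set G)) : ℂ) *
      ∑ y ∈ Finset.univ.filter (fun y => IsConj a y), F y := by
  rw [← Finset.sum_fiberwise_of_maps_to (s := Finset.univ)
    (t := Finset.univ.filter (fun y => IsConj a y)) (g := fun x => x * a * x⁻¹)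
    (fun x _ => by simp), Finset.mul_sum]
  refine Finset.sum_congr rfl fun y hy => ?_
  rw [Finset.sum_congr rfl (g := fun _ => F y) (fun x hx => by rw [(Finset.mem_filter.1 hx).2]),
    Finset.sum_const, nsmul_eq_mul, card_filter_conj_eq (Finset.mem_filter.1 hy).2]

open Classical in
/-- The indicator function of the conjugacy class of `a`. -/
noncomputable def classInd (a : G) : G → ℂ := fun g => if IsConj a g then 1 else 0

theorem isClassFunction_classInd (a : G) : IsClassFunction G (classInd a) := by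
  intro g h
  have : IsConj a (h * g * h⁻¹) ↔ IsConj a g :=
    ⟨fun h1 => h1.trans (isConj_iff.2 ⟨h, rfl⟩).symm, fun h1 => h1.trans (isConj_iff.2 ⟨h, rfl⟩)⟩
  unfold classInd
  rw [this]

theorem sum_classInd_mul [Fintype G] (a : G) {χ : G → ℂ} (hχ : IsClassFunction G χ) :
    ∑ g, classInd a g * χ g = (Subgroup.centralizer ({a} : Set G)).index * χ a := by
  classical
  simp only [classInd, ite_mul, one_mul, zero_mul]
  rw [← Finset.sum_filter, Finset.sum_congr rfl (g := fun _ => χ a)
    (fun x hx => (hχ.of_isConj (Finset.mem_filter.1 hx).2).symm), Finset.sum_const,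
    card_filter_isConj, nsmul_eq_mul]

theorem classInner_classInd [Fintype G] (a : G) {χ : G → ℂ} (hχ : IsClassFunction G χ) :
    classInner (classInd a) χ =
      (Nat.card (Subgroup.centralizer ({a} : Set G)) : ℂ)⁻¹ * conj (χ a) := by
  rw [classInner, sum_classInd_mul a hχ.conj,
    ← Subgroup.card_mul_index (Subgroup.centralizer ({a} : Set G))]
  have h1 := card_ne_zero (Subgroup.centralizer ({a} : Set G))
  have h2 : ((Subgroup.centralizer ({a} : Set G)).index : ℂ) ≠ 0 := by
    exact_mod_cast Subgroup.index_ne_zero_of_finite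
  push_cast
  field_simp

theorem card_centralizer_eq_of_isConj [Finite G] {a b : G} (h : IsConj a b) :
    Nat.card (Subgroup.centralizer ({a} : Set G)) =
      Nat.card (Subgroup.centralizer ({b} : Set G)) := by
  have h1 := card_isConj_mul_card_centralizer a
  have h2 := card_isConj_mul_card_centralizer b
  have h3 : Nat.card {x : G // IsConj a x} = Nat.card {x : G // IsConj b x} :=
    Nat.card_congr (Equiv.subtypeEquivRight fun x => ⟨fun h' => h.symm.trans h', h.trans⟩)
  have : Nonempty {x : G // IsConj b x} := ⟨⟨b, IsConj.refl b⟩⟩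
  rw [h3, ← h2] at h1
  exact Nat.eq_of_mul_eq_mul_left Nat.card_pos h1

open Classical in
/-- Column orthogonality. -/
theorem sum_irr_mul_conj [Finite G] (g h : G) :
    ∑ χ : IrrCharacter G, (χ : G → ℂ) g * conj ((χ : G → ℂ) h) =
      if IsConj g h then (Nat.card (Subgroup.centralizer ({g} : Set G)) : ℂ) else 0 := by
  have := Fintype.ofFinite G
  have h1 := (isClassFunction_classInd h).apply_eq_sum_irr g
  simp only [classInner_classInd h (IsIrrCharacter.isClassFunction (Subtype.prop _)), mul_assoc,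
    ← Finset.mul_sum] at h1
  have h2 := card_ne_zero (Subgroup.centralizer ({h} : Set G))
  rw [eq_inv_mul_iff_mul_eq₀ h2] at h1
  simp only [mul_comm ((_ : G → ℂ) g)]
  rw [← h1, classInd]
  by_cases hc : IsConj g h
  · rw [if_pos hc, if_pos hc.symm, card_centralizer_eq_of_isConj hc, mul_one]
  · rw [if_neg hc, if_neg (fun h' => hc h'.symm), mul_zero]

theorem sum_irr_mul_conj_self [Finite G] (g : G) :
    ∑ χ : IrrCharacter G, (χ : G → ℂ) g * conj ((χ : G → ℂ) g) =
      (Nat.card (Subgroup.centralizer ({g} : Set G)) : ℂ) := by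
  rw [sum_irr_mul_conj, if_pos (IsConj.refl g)]

theorem sum_irr_norm_sq [Finite G] (g : G) :
    ∑ χ : IrrCharacter G, ‖(χ : G → ℂ) g‖ ^ 2 =
      (Nat.card (Subgroup.centralizer ({g} : Set G)) : ℝ) := by
  have := sum_irr_mul_conj_self g
  simp only [Complex.mul_conj, Complex.normSq_eq_norm_sq] at this
  exact_mod_cast this

open Classical in
theorem sum_irr_one_mul [Finite G] (g : G) :
    ∑ χ : IrrCharacter G, (χ : G → ℂ) 1 * (χ : G → ℂ) g =
      if g = 1 then (Nat.card G : ℂ) else 0 := by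
  have := sum_irr_mul_conj g 1
  simp only [IsCharacter.conj_apply_one (IsIrrCharacter.isCharacter (Subtype.prop _)),
    isConj_one_left] at this
  simp only [mul_comm ((_ : G → ℂ) 1)]
  rw [this]
  split_ifs with hg
  · subst hg; simp
  · rfl

theorem sum_irr_one_sq [Finite G] :
    ∑ χ : IrrCharacter G, (χ : G → ℂ) 1 ^ 2 = (Nat.card G : ℂ) := by
  have := sum_irr_one_mul (1 : G)
  rw [if_pos rfl] at this
  simpa [sq] using this

theorem isConj_iff_irr [Finite G] (g h : G) :
    IsConj g h ↔ ∀ χ : IrrCharacter G, (χ : G → ℂ) g = (χ : G → ℂ) h := by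
  refine ⟨fun hc χ => χ.2.isClassFunction.of_isConj hc, fun H => ?_⟩
  by_contra hc
  have h1 := sum_irr_mul_conj g h
  rw [if_neg hc] at h1
  simp only [H, sum_irr_mul_conj_self] at h1
  exact card_ne_zero _ h1

/-- Class functions as functions on conjugacy classes. -/
noncomputable def classFunEquiv (G : Type*) [Group G] : (ConjClasses G → ℂ) →ₗ[ℂ] (G → ℂ) :=
  LinearMap.funLeft ℂ ℂ ConjClasses.mk

theorem classFunEquiv_injective : Function.Injective (classFunEquiv G) :=
  LinearMap.funLeft_injective_of_surjective ℂ ℂ _ ConjClasses.mk_surjective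

theorem mem_range_classFunEquiv (f : G → ℂ) :
    f ∈ LinearMap.range (classFunEquiv G) ↔ IsClassFunction G f := by
  constructor
  · rintro ⟨F, rfl⟩ g h
    simp only [classFunEquiv, LinearMap.funLeft_apply]
    congr 1
    exact ConjClasses.mk_eq_mk_iff_isConj.2 (isConj_iff.2 ⟨h, rfl⟩).symm
  · intro hf
    exact ⟨fun C => Quotient.liftOn C f (fun a b hab => hf.of_isConj hab), rfl⟩

theorem span_irr_eq [Finite G] :
    Submodule.span ℂ (Set.range (fun χ : IrrCharacter G => (χ : G → ℂ))) =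
      LinearMap.range (classFunEquiv G) := by
  have := Fintype.ofFinite G
  apply le_antisymm
  · rw [Submodule.span_le]
    rintro _ ⟨χ, rfl⟩
    exact (mem_range_classFunEquiv _).2 χ.2.isClassFunction
  · intro f hf
    rw [((mem_range_classFunEquiv _).1 hf).eq_sum_irr]
    exact Submodule.sum_mem _ fun χ _ => Submodule.smul_mem _ _ (Submodule.subset_span ⟨χ, rfl⟩)

theorem card_irr_eq_card_conjClasses [Finite G] :
    Nat.card (IrrCharacter G) = Nat.card (ConjClasses G) := by
  have := Fintype.ofFinite (ConjClasses G)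
  have h1 := finrank_span_eq_card (linearIndependent_irr (G := G))
  rw [span_irr_eq, LinearMap.finrank_range_of_inj classFunEquiv_injective, finrank_fintype_fun_eq_card]
    at h1
  rw [Nat.card_eq_fintype_card, Nat.card_eq_fintype_card, h1]

end Classes

section Kernel

variable {G : Type*} [Group G]

theorem eq_of_norm_sum_eq_card {n : ℕ} (ε : Fin n → ℂ) (h : ∀ i, ‖ε i‖ = 1)
    (hs : ‖∑ i, ε i‖ = n) : ∃ ω : ℂ, ‖ω‖ = 1 ∧ ∀ i, ε i = ω := by
  rcases Nat.eq_zero_or_pos n with rfl | hn
  · exact ⟨1, by simp, fun i => i.elim0⟩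
  have hn' : (n : ℝ) ≠ 0 := by exact_mod_cast hn.ne'
  have hn'' : (n : ℂ) ≠ 0 := by exact_mod_cast hn.ne'
  set ω : ℂ := (∑ i, ε i) / n with hω
  have hω1 : ‖ω‖ = 1 := by rw [hω, norm_div, hs]; simp [hn']
  refine ⟨ω, hω1, ?_⟩
  have hsum : ∑ i, ε i = n * ω := by rw [hω]; field_simp
  have h2 : ∑ i, ‖ε i - ω‖ ^ 2 = 0 := by
    have : ∀ i, ‖ε i - ω‖ ^ 2 = 2 - 2 * (ε i * conj ω).re := fun i => by
      rw [← Complex.normSq_eq_norm_sq, Complex.normSq_sub, Complex.normSq_eq_norm_sq,
        Complex.normSq_eq_norm_sq, h i, hω1]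
      ring
    simp only [this, Finset.sum_sub_distrib, ← Finset.mul_sum, ← Complex.re_sum, ← Finset.sum_mul,
      hsum, mul_assoc, Complex.mul_conj, Complex.normSq_eq_norm_sq, hω1]
    simp
    ring
  rw [Finset.sum_eq_zero_iff_of_nonneg (fun _ _ => sq_nonneg _)] at h2
  intro i
  have := h2 i (Finset.mem_univ i)
  simpa [sub_eq_zero] using this

theorem rep_eq_id_of_forall_char_eq [Finite G] {V : Type*} [AddCommGroup V] [Module ℂ V]
    [FiniteDimensional ℂ V] (ρ : Representation ℂ G V)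
    (h : ∀ g, ρ.character g = finrank ℂ V) (g : G) : ρ g = LinearMap.id := by
  have := Fintype.ofFinite G
  have h1 := classInner_one_rep ρ
  rw [classInner_one_right] at h1
  simp only [h, Finset.sum_const, Finset.card_univ, nsmul_eq_mul, ← Nat.card_eq_fintype_card] at h1
  rw [← mul_assoc, inv_mul_cancel₀ (card_ne_zero G), one_mul, Nat.cast_inj] at h1
  have h2 := Submodule.eq_top_of_finrank_eq h1.symm
  ext v
  have : v ∈ ρ.invariants := h2 ▸ Submodule.mem_top
  exact this g

/-- An element where the character has absolute value the degree acts as a scalar. -/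
theorem rep_eq_smul_of_norm_char_eq [Finite G] {V : Type*} [AddCommGroup V] [Module ℂ V]
    [FiniteDimensional ℂ V] (ρ : Representation ℂ G V) (g : G)
    (h : ‖ρ.character g‖ = finrank ℂ V) :
    ∃ ω : ℂ, ‖ω‖ = 1 ∧ ρ g = ω • (LinearMap.id : V →ₗ[ℂ] V) := by
  let C := Subgroup.zpowers g
  let g' : C := ⟨g, Subgroup.mem_zpowers g⟩
  obtain ⟨n, l, h1, h2⟩ := ((isCharacter_rep ρ).restrict C).exists_sum_hom_of_comm
    (fun a b => mul_comm' a b)
  have hn : n = finrank ℂ V := by
    have : (finrank ℂ V : ℂ) = n := by simpa using h1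
    exact_mod_cast this.symm
  rcases Nat.eq_zero_or_pos n with h0 | hpos
  · have : Subsingleton V := by
      rw [← Module.finrank_zero_iff (R := ℂ), ← hn, h0]
    exact ⟨1, by simp, Subsingleton.elim _ _⟩
  obtain ⟨ω, hω, h3⟩ := eq_of_norm_sum_eq_card (fun i => (l i g' : ℂ)) (fun i => norm_hom _ _)
    (by rw [← h2 g', hn]; exact h)
  let l₀ := l ⟨0, hpos⟩
  have hl : ∀ i, l i = l₀ := fun i => by
    ext ⟨x, k, rfl⟩
    have e : (⟨g ^ k, k, rfl⟩ : C) = g' ^ k := rfl
    have : l i g' = l₀ g' := Units.ext (by rw [h3 i, h3 ⟨0, hpos⟩])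
    simp only [e, map_zpow, this]
  let σ : Representation ℂ C V :=
    { toFun := fun c => ((l₀ c)⁻¹ : ℂˣ) • ρ c
      map_one' := by simp
      map_mul' := fun a b => by
        simp only [map_mul, Subgroup.coe_mul, mul_inv, smul_mul_smul_comm] }
  have hσ : ∀ c, σ.character c = finrank ℂ V := fun c => by
    have e : σ.character c = ((l₀ c)⁻¹ : ℂˣ) * ρ.character c := by
      simp only [character, σ, MonoidHom.coe_mk, OneHom.coe_mk, Units.smul_def, map_smul,
        smul_eq_mul]
    rw [e, h2 c]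
    simp [hl, hn, mul_left_comm]
  have := rep_eq_id_of_forall_char_eq σ hσ g'
  refine ⟨ω, hω, ?_⟩
  have e : σ g' = ((l₀ g')⁻¹ : ℂˣ) • ρ g := rfl
  rw [e, inv_smul_eq_iff] at this
  rw [this, Units.smul_def, h3 ⟨0, hpos⟩]

theorem rep_eq_id_iff [Finite G] {V : Type*} [AddCommGroup V] [Module ℂ V]
    [FiniteDimensional ℂ V] (ρ : Representation ℂ G V) (g : G) :
    ρ.character g = finrank ℂ V ↔ ρ g = LinearMap.id := by
  constructor
  · intro h
    obtain ⟨ω, -, h2⟩ := rep_eq_smul_of_norm_char_eq ρ g (by rw [h]; simp)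
    rcases subsingleton_or_nontrivial V with hV | hV
    · exact Subsingleton.elim _ _
    have : (finrank ℂ V : ℂ) ≠ 0 := by exact_mod_cast (finrank_pos (R := ℂ) (M := V)).ne'
    rw [character, h2] at h
    simp only [map_smul, LinearMap.trace_id, smul_eq_mul] at h
    have : ω = 1 := by simpa [this] using h
    rw [h2, this, one_smul]
  · intro h
    rw [character, h, LinearMap.trace_id]

theorem rep_eq_one_iff [Finite G] {V : Type*} [AddCommGroup V] [Module ℂ V]
    [FiniteDimensional ℂ V] (ρ : Representation ℂ G V) (g : G) :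
    ρ.character g = ρ.character 1 ↔ ρ g = 1 := by
  rw [char_one]; exact rep_eq_id_iff ρ g

/-- The kernel of a function on a group, as a subgroup: the elements `g` with
`χ (g * x) = χ x` for all `x`.  For a character it is `{g | χ g = χ 1}`. -/
def charKer (χ : G → ℂ) : Subgroup G where
  carrier := {g | ∀ x, χ (g * x) = χ x}
  one_mem' := by simp
  mul_mem' := fun {a b} ha hb x => by rw [mul_assoc, ha, hb]
  inv_mem' := fun {a} ha x => by rw [← ha, mul_inv_cancel_left]

theorem mem_charKer' {χ : G → ℂ} {g : G} : g ∈ charKer χ ↔ ∀ x, χ (g * x) = χ x := Iff.rfl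

theorem _root_.Cfsg.IsClassFunction.charKer_normal {χ : G → ℂ} (h : IsClassFunction G χ) :
    (charKer χ).Normal := ⟨fun a ha g x => by
  rw [← h.conj' _ g, ← h.conj' x g, ← ha (g⁻¹ * x * g)]
  congr 1
  group⟩

theorem charKer_rep [Finite G] {V : Type*} [AddCommGroup V] [Module ℂ V]
    [FiniteDimensional ℂ V] (ρ : Representation ℂ G V) : charKer ρ.character = ρ.ker := by
  ext g
  rw [MonoidHom.mem_ker, ← rep_eq_one_iff]
  refine ⟨fun h => by simpa using h 1, fun h x => ?_⟩
  rw [rep_eq_one_iff] at h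
  simp [character, h]

theorem _root_.Cfsg.IsCharacter.mem_charKer [Finite G] {χ : G → ℂ} (h : IsCharacter G χ) {g : G} :
    g ∈ charKer χ ↔ χ g = χ 1 := by
  obtain ⟨n, ρ, rfl⟩ := h
  rw [charKer_rep, MonoidHom.mem_ker, rep_eq_one_iff]

theorem _root_.Cfsg.IsCharacter.apply_mul_of_eq_one [Finite G] {χ : G → ℂ} (h : IsCharacter G χ)
    {g : G} (hg : χ g = χ 1) (x : G) : χ (g * x) = χ x := (h.mem_charKer.2 hg) x

theorem _root_.Cfsg.IsCharacter.apply_mul_of_eq_one' [Finite G] {χ : G → ℂ} (h : IsCharacter G χ)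
    {g : G} (hg : χ g = χ 1) (x : G) : χ (x * g) = χ x := by
  rw [h.isClassFunction.mul_comm, h.apply_mul_of_eq_one hg]

/-- The kernel of a character is contained in the kernel of each of its constituents. -/
theorem _root_.Cfsg.IsCharacter.apply_eq_of_add [Finite G] {χ ψ : G → ℂ} (h : IsCharacter G χ)
    (h' : IsCharacter G ψ) {g : G} (hg : (χ + ψ) g = (χ + ψ) 1) : χ g = χ 1 := by
  obtain ⟨n, ρ, rfl⟩ := h
  obtain ⟨m, σ, rfl⟩ := h'
  rw [← char_prod, rep_eq_one_iff] at hg
  rw [rep_eq_one_iff]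
  apply LinearMap.ext
  intro v
  exact congrArg (fun T => (T (v, 0)).1) hg

theorem _root_.Cfsg.IsCharacter.apply_eq_of_constituent [Fintype G] {χ ψ : G → ℂ}
    (h : IsCharacter G χ) (h' : IsIrrCharacter G ψ) (hc : classInner χ ψ ≠ 0) {g : G}
    (hg : χ g = χ 1) : ψ g = ψ 1 :=
  h'.isCharacter.apply_eq_of_add (h.sub_irr h' hc) (by simpa using hg)

theorem eq_one_of_forall_irr [Finite G] {g : G}
    (h : ∀ χ, IsIrrCharacter G χ → χ g = χ 1) : g = 1 := by
  have := (isConj_iff_irr g 1).2 fun χ => h χ χ.2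
  simpa using this

theorem _root_.Cfsg.IsIrrCharacter.eq_one_of_forall_eq [Finite G] {χ : G → ℂ}
    (h : IsIrrCharacter G χ) (h1 : ∀ g, χ g = χ 1) : χ = fun _ => 1 := by
  have := Fintype.ofFinite G
  refine h.eq_of_classInner_ne_zero isIrrCharacter_one ?_
  rw [classInner_one_right]
  simp only [h1, Finset.sum_const, Finset.card_univ, nsmul_eq_mul, ← Nat.card_eq_fintype_card]
  exact mul_ne_zero (inv_ne_zero (card_ne_zero G)) (mul_ne_zero (card_ne_zero G) h.one_ne_zero)

/-- A character with `N` in its kernel comes from a character of the target of a surjection with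
kernel `N`. -/
theorem _root_.Cfsg.IsCharacter.exists_of_surjective [Finite G] {Q : Type*} [Group Q]
    {χ : G → ℂ} (h : IsCharacter G χ) (f : G →* Q) (hf : Function.Surjective f)
    (hker : ∀ n ∈ f.ker, χ n = χ 1) : ∃ χ' : Q → ℂ, IsCharacter Q χ' ∧ ∀ g, χ' (f g) = χ g := by
  obtain ⟨n, ρ, rfl⟩ := h
  have hle : f.ker ≤ ρ.toHomUnits.ker := fun x hx => by
    rw [MonoidHom.mem_ker]
    ext1
    exact (rep_eq_one_iff ρ x).1 (hker x hx)
  let σ := f.liftOfSurjective hf ⟨ρ.toHomUnits, hle⟩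
  refine ⟨_, ⟨n, (Units.coeHom _).comp σ, rfl⟩, fun g => ?_⟩
  simp [character, σ]

theorem _root_.Cfsg.IsIrrCharacter.exists_of_surjective [Finite G] {Q : Type*} [Group Q]
    {χ : G → ℂ} (h : IsIrrCharacter G χ) (f : G →* Q) (hf : Function.Surjective f)
    (hker : ∀ n ∈ f.ker, χ n = χ 1) :
    ∃ χ' : Q → ℂ, IsIrrCharacter Q χ' ∧ ∀ g, χ' (f g) = χ g := by
  obtain ⟨χ', h1, h2⟩ := h.isCharacter.exists_of_surjective f hf hker
  refine ⟨χ', h1.isIrr_of_comp f ?_, h2⟩
  simpa only [h2] using h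

theorem _root_.Cfsg.IsCharacter.exists_quotient [Finite G] {χ : G → ℂ} (h : IsCharacter G χ)
    (N : Subgroup G) [N.Normal] (hker : ∀ n ∈ N, χ n = χ 1) :
    ∃ χ' : G ⧸ N → ℂ, IsCharacter (G ⧸ N) χ' ∧ ∀ g : G, χ' g = χ g :=
  h.exists_of_surjective (QuotientGroup.mk' N) (QuotientGroup.mk'_surjective N)
    (by simpa using hker)

theorem _root_.Cfsg.IsIrrCharacter.exists_quotient [Finite G] {χ : G → ℂ} (h : IsIrrCharacter G χ)
    (N : Subgroup G) [N.Normal] (hker : ∀ n ∈ N, χ n = χ 1) :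
    ∃ χ' : G ⧸ N → ℂ, IsIrrCharacter (G ⧸ N) χ' ∧ ∀ g : G, χ' g = χ g :=
  h.exists_of_surjective (QuotientGroup.mk' N) (QuotientGroup.mk'_surjective N)
    (by simpa using hker)

theorem _root_.Cfsg.IsIrrCharacter.inflate {N : Subgroup G} [N.Normal] {χ : G ⧸ N → ℂ}
    (h : IsIrrCharacter (G ⧸ N) χ) : IsIrrCharacter G (fun g => χ (g : G ⧸ N)) :=
  h.comp_of_surjective (QuotientGroup.mk' N) (QuotientGroup.mk'_surjective N)

theorem _root_.Cfsg.IsCharacter.inflate {N : Subgroup G} [N.Normal] {χ : G ⧸ N → ℂ}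
    (h : IsCharacter (G ⧸ N) χ) : IsCharacter G (fun g => χ (g : G ⧸ N)) :=
  h.comp (QuotientGroup.mk' N)

/-- Elements where a character attains its degree in absolute value act as scalars. -/
theorem _root_.Cfsg.IsCharacter.exists_scalar_of_norm_eq [Finite G] {χ : G → ℂ}
    (h : IsCharacter G χ) {g : G} (hg : ‖χ g‖ = ‖χ 1‖) :
    ∃ ω : ℂ, ‖ω‖ = 1 ∧ ∀ x, χ (g * x) = ω * χ x := by
  obtain ⟨n, ρ, rfl⟩ := h
  obtain ⟨ω, h1, h2⟩ := rep_eq_smul_of_norm_char_eq ρ g (by rw [hg]; simp)
  refine ⟨ω, h1, fun x => ?_⟩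
  simp [character, h2, ← Module.End.one_eq_id]

theorem _root_.Cfsg.IsCharacter.commutator_of_norm_eq [Finite G] {χ : G → ℂ}
    (h : IsCharacter G χ) {g : G} (hg : ‖χ g‖ = ‖χ 1‖) (x : G) :
    χ (g * x * g⁻¹ * x⁻¹) = χ 1 := by
  obtain ⟨ω, h1, h2⟩ := h.exists_scalar_of_norm_eq hg
  have e1 : χ (g * x * g⁻¹ * x⁻¹) = ω * χ g⁻¹ := by
    rw [mul_assoc, mul_assoc, h2, ← mul_assoc, h.isClassFunction]
  rw [e1, ← h2, mul_inv_cancel]

/-- A central element acts as a scalar in an irreducible representation. -/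
theorem _root_.Cfsg.IsIrrCharacter.apply_mul_of_comm {χ : G → ℂ}
    (h : IsIrrCharacter G χ) {z : G} (hz : ∀ g, z * g = g * z) (x : G) :
    χ (z * x) = χ z * χ x / χ 1 := by
  have h0 := h.one_ne_zero
  obtain ⟨n, ρ, hρ, rfl⟩ := h
  obtain ⟨c, hc⟩ := schur_scalar ρ (ρ z) (fun g => by rw [← map_mul, ← map_mul, hz])
  have e1 : ∀ y, ρ.character (z * y) = c * ρ.character y := fun y => by
    simp [character, hc]
  have e2 := e1 1
  rw [mul_one] at e2
  rw [e1, e2]
  field_simp

/-- Version of `apply_mul_of_comm` for elements that are central modulo the kernel. -/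
theorem _root_.Cfsg.IsIrrCharacter.apply_mul_of_commutator [Finite G] {χ : G → ℂ}
    (h : IsIrrCharacter G χ) {z : G} (hz : ∀ g, χ (z * g * z⁻¹ * g⁻¹) = χ 1) (x : G) :
    χ (z * x) = χ z * χ x / χ 1 := by
  have h0 := h.one_ne_zero
  obtain ⟨n, ρ, hρ, rfl⟩ := h
  obtain ⟨c, hc⟩ := schur_scalar ρ (ρ z) (fun g => by
    have := (rep_eq_one_iff ρ _).1 (hz g)
    rw [← map_mul, ← map_mul, ← one_mul (ρ (g * z)), ← this, ← map_mul]
    congr 1
    group)
  have e1 : ∀ y, ρ.character (z * y) = c * ρ.character y := fun y => by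
    simp [character, hc]
  have e2 := e1 1
  rw [mul_one] at e2
  rw [e1, e2]
  field_simp

theorem _root_.Cfsg.IsIrrCharacter.norm_eq_of_commutator [Finite G] {χ : G → ℂ}
    (h : IsIrrCharacter G χ) {z : G} (hz : ∀ g, χ (z * g * z⁻¹ * g⁻¹) = χ 1) :
    ‖χ z‖ = ‖χ 1‖ := by
  have h1 := h.apply_mul_of_commutator hz z⁻¹
  rw [mul_inv_cancel, h.isCharacter.apply_inv, Complex.mul_conj, eq_div_iff h.one_ne_zero,
    Complex.normSq_eq_norm_sq] at h1
  have h2 := congrArg Norm.norm h1
  rw [norm_mul, ← sq] at h2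
  simp only [Complex.ofReal_pow, norm_pow, Complex.norm_real, norm_norm] at h2
  exact ((pow_left_inj₀ (norm_nonneg _) (norm_nonneg _) two_ne_zero).1 h2).symm

theorem _root_.Cfsg.IsIrrCharacter.norm_eq_of_comm [Finite G] {χ : G → ℂ}
    (h : IsIrrCharacter G χ) {z : G} (hz : ∀ g, z * g = g * z) : ‖χ z‖ = ‖χ 1‖ :=
  h.norm_eq_of_commutator fun g => by rw [hz g]; simp

/-- The restriction of an irreducible character to a central subgroup is a multiple of a linear
character. -/
theorem _root_.Cfsg.IsIrrCharacter.exists_hom_of_central {χ : G → ℂ}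
    (h : IsIrrCharacter G χ) {Z : Type*} [Group Z] (f : Z →* G)
    (hz : ∀ z g, f z * g = g * f z) :
    ∃ l : Z →* ℂˣ, ∀ z x, χ (f z * x) = l z * χ x := by
  have h0 := h.one_ne_zero
  refine ⟨MonoidHom.toHomUnits ⟨⟨fun z => χ (f z) / χ 1, by simp [h0]⟩, fun a b => ?_⟩,
    fun z x => ?_⟩
  · simp only [map_mul]
    rw [h.apply_mul_of_comm (hz a)]
    field_simp
  · rw [h.apply_mul_of_comm (hz z)]
    simp only [MonoidHom.coe_toHomUnits, MonoidHom.coe_mk, OneHom.coe_mk]
    ring

end Kernel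

end Cfsg.Agent.Char
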