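import Mathlib
import Cfsg.Prelude.Def_Characters
import Cfsg.Agent.Char.Column

/-!
# Permutation characters, symmetric squares, Brauer's permutation lemma, direct products.
-/

set_option autoImplicit false

namespace Cfsg.Agent.Char

open Representation Module Cfsg
open scoped ComplexConjugate

variable {G : Type*} [Group G]

section Perm

theorem isCharacter_perm (X : Type*) [MulAction G X] [Finite X] :
    IsCharacter G (fun g => (Nat.card (MulAction.fixedBy X g) : ℂ)) := by
  classical
  have := Fintype.ofFinite X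
  have h := isCharacter_rep (G := G) (V := X → ℂ)
    { toFun := fun g => LinearMap.funLeft ℂ ℂ (fun x => g⁻¹ • x)
      map_one' := by ext; simp
      map_mul' := fun a b => by ext; simp [mul_smul] }
  convert h using 2 with g
  simp only [character, MonoidHom.coe_mk, OneHom.coe_mk]
  rw [LinearMap.trace_eq_matrix_trace ℂ (Pi.basisFun ℂ X)]
  simp only [Matrix.trace, Matrix.diag, LinearMap.toMatrix_apply, Pi.basisFun_apply,
    Pi.basisFun_repr, LinearMap.funLeft_apply, Pi.single_apply, inv_smul_eq_iff, Finset.sum_boole]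
  rw [Nat.card_eq_fintype_card, Fintype.card_subtype]
  congr 2
  ext x
  simp [eq_comm]

theorem classInner_perm_one [Fintype G] (X : Type*) [MulAction G X] [Finite X] :
    classInner (fun g : G => (Nat.card (MulAction.fixedBy X g) : ℂ)) (fun _ => 1) =
      Nat.card (Quotient (MulAction.orbitRel G X)) := by
  classical
  have := Fintype.ofFinite X
  have := Fintype.ofFinite (Quotient (MulAction.orbitRel G X))
  rw [classInner_one_right]
  have h := MulAction.sum_card_fixedBy_eq_card_orbits_mul_card_group G X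
  simp only [← Nat.card_eq_fintype_card] at h
  rw [← Nat.cast_sum, h]
  have := card_ne_zero G
  push_cast
  field_simp

theorem sum_smul_eq_of_pretransitive [Fintype G] {X : Type*} [MulAction G X] [Fintype X]
    [MulAction.IsPretransitive G X] (x : X) (F : X → ℂ) :
    ∑ t : G, F (t • x) = (Nat.card (MulAction.stabilizer G x) : ℂ) * ∑ y, F y := by
  classical
  rw [← Finset.sum_fiberwise (s := Finset.univ) (g := fun t : G => t • x), Finset.mul_sum]
  refine Finset.sum_congr rfl fun y _ => ?_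
  rw [Finset.sum_congr rfl (g := fun _ => F y) (fun t ht => by rw [(Finset.mem_filter.1 ht).2])]
  rw [Finset.sum_const, nsmul_eq_mul]
  congr 2
  obtain ⟨c, rfl⟩ := MulAction.exists_smul_eq G x y
  rw [← Fintype.card_subtype, ← Nat.card_eq_fintype_card]
  refine Nat.card_congr ⟨fun t => ⟨c⁻¹ * t.1, ?_⟩, fun t => ⟨c * t.1, ?_⟩, fun t => ?_, fun t => ?_⟩
  · simp [MulAction.mem_stabilizer_iff, mul_smul, t.2]
  · have := t.2
    rw [MulAction.mem_stabilizer_iff] at this
    simp [mul_smul, this]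
  · simp
  · simp

theorem perm_eq_indFun [Fintype G] (X : Type*) [MulAction G X] [Finite X]
    [MulAction.IsPretransitive G X] (x : X) :
    (fun g : G => (Nat.card (MulAction.fixedBy X g) : ℂ)) =
      indFun (MulAction.stabilizer G x) (fun _ => 1) := by
  classical
  have := Fintype.ofFinite X
  ext g
  have h := sum_smul_eq_of_pretransitive (G := G) x (fun y => if g • y = y then 1 else 0)
  rw [indFun_apply, eq_inv_mul_iff_mul_eq₀ (card_ne_zero _)]
  simp only [extendByZero_apply, dite_eq_ite, MulAction.mem_stabilizer_iff, mul_smul,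
    inv_smul_eq_iff]
  rw [h, Finset.sum_boole, Nat.card_eq_fintype_card (α := MulAction.fixedBy X g),
    Fintype.card_subtype]
  rfl

end Perm

section Proj

/-- The trace against an equivariant projection is a character. -/
theorem isCharacter_trace_mul_proj {V : Type*} [AddCommGroup V] [Module ℂ V]
    [FiniteDimensional ℂ V] (ρ : Representation ℂ G V) (p : V →ₗ[ℂ] V) (hp : p * p = p)
    (hc : ∀ g, p * ρ g = ρ g * p) : IsCharacter G (fun g => LinearMap.trace ℂ V (ρ g * p)) := by
  let U : Subrepresentation ρ := ⟨LinearMap.range p, by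
    rintro g _ ⟨v, rfl⟩
    exact ⟨ρ g v, congrArg (fun T : V →ₗ[ℂ] V => T v) (hc g)⟩⟩
  convert isCharacter_rep U.toRepresentation using 2 with g
  have h1 : ∀ x, (ρ g * p) x ∈ LinearMap.range p := fun x => U.apply_mem_toSubmodule g ⟨x, rfl⟩
  rw [← LinearMap.trace_restrict_eq_of_forall_mem (LinearMap.range p) (ρ g * p) h1, character]
  congr 1
  ext ⟨_, v, rfl⟩
  have : p (p v) = p v := congrArg (fun T : V →ₗ[ℂ] V => T v) hp
  simp [Subrepresentation.toRepresentation, this]

theorem trace_map_mul_comm {n : ℕ} (f : (Fin n → ℂ) →ₗ[ℂ] (Fin n → ℂ)) :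
    LinearMap.trace ℂ _ (TensorProduct.map f f *
      (TensorProduct.comm ℂ (Fin n → ℂ) (Fin n → ℂ)).toLinearMap) =
      LinearMap.trace ℂ _ (f * f) := by
  rw [LinearMap.trace_eq_matrix_trace ℂ
    ((Pi.basisFun ℂ (Fin n)).tensorProduct (Pi.basisFun ℂ (Fin n))),
    LinearMap.trace_eq_matrix_trace ℂ (Pi.basisFun ℂ (Fin n)),
    LinearMap.toMatrix_mul (Pi.basisFun ℂ (Fin n))]
  simp only [Matrix.trace, Matrix.diag, LinearMap.toMatrix_apply, Matrix.mul_apply,
    Fintype.sum_prod_type]
  refine Finset.sum_congr rfl fun i _ => Finset.sum_congr rfl fun j _ => ?_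
  simp [Basis.tensorProduct_apply, mul_comm]

theorem _root_.Cfsg.IsCharacter.sym_alt {χ : G → ℂ} (h : IsCharacter G χ) (ε : ℂ)
    (hε : ε * ε = 1) : IsCharacter G (fun g => (χ g ^ 2 + ε * χ (g * g)) / 2) := by
  obtain ⟨n, ρ, rfl⟩ := h
  let τ := (TensorProduct.comm ℂ (Fin n → ℂ) (Fin n → ℂ)).toLinearMap
  have hτ : τ * τ = 1 := by ext; simp [τ]
  have hc : ∀ g, τ * (ρ.tprod ρ) g = (ρ.tprod ρ) g * τ := fun g => by ext; simp [τ]
  have := isCharacter_trace_mul_proj (ρ.tprod ρ) ((2 : ℂ)⁻¹ • (1 + ε • τ)) (by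
    simp only [smul_mul_smul_comm, add_mul, mul_add, one_mul, mul_one, hτ, hε, one_smul]
    module) (fun g => by
    simp only [smul_mul_assoc, mul_smul_comm, add_mul, mul_add, one_mul, mul_one, hc])
  convert this using 2 with g
  simp only [mul_smul_comm, mul_add, mul_one, map_smul, map_add, smul_eq_mul]
  have e1 : LinearMap.trace ℂ _ ((ρ.tprod ρ) g) = ρ.character g * ρ.character g :=
    congrFun (char_tensor ρ ρ) g
  have e2 : LinearMap.trace ℂ _ ((ρ.tprod ρ) g * τ) = ρ.character (g * g) := by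
    rw [character, map_mul ρ]; exact trace_map_mul_comm (ρ g)
  rw [e1, e2]
  ring

theorem _root_.Cfsg.IsCharacter.sym {χ : G → ℂ} (h : IsCharacter G χ) :
    IsCharacter G (fun g => (χ g ^ 2 + χ (g * g)) / 2) := by
  simpa using h.sym_alt 1 (by simp)

theorem _root_.Cfsg.IsCharacter.alt {χ : G → ℂ} (h : IsCharacter G χ) :
    IsCharacter G (fun g => (χ g ^ 2 - χ (g * g)) / 2) := by
  simpa [sub_eq_add_neg] using h.sym_alt (-1) (by simp)

omit [Group G] in
theorem real_iff_conj_eq {χ : G → ℂ} : (∀ g, (χ g).im = 0) ↔ (fun g => conj (χ g)) = χ := by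
  simp only [funext_iff, Complex.conj_eq_iff_im]

open Classical in
/-- The Frobenius–Schur indicator: multiplicities of the principal character in the symmetric and
alternating squares. -/
theorem _root_.Cfsg.IsIrrCharacter.frobenius_schur [Fintype G] {χ : G → ℂ}
    (h : IsIrrCharacter G χ) : ∃ a b : ℕ, (Nat.card G : ℂ)⁻¹ * ∑ s, χ (s * s) = (a : ℂ) - b ∧
      a + b = (if ∀ g, (χ g).im = 0 then 1 else 0) ∧
      classInner (fun g => (χ g ^ 2 + χ (g * g)) / 2) (fun _ => 1) = a ∧
      classInner (fun g => (χ g ^ 2 - χ (g * g)) / 2) (fun _ => 1) = b := by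
  obtain ⟨a, ha⟩ := h.isCharacter.sym.classInner_nat isCharacter_one
  obtain ⟨b, hb⟩ := h.isCharacter.alt.classInner_nat isCharacter_one
  refine ⟨a, b, ?_, ?_, ha, hb⟩
  · rw [← ha, ← hb, ← classInner_sub_left, classInner_one_right]
    congr 1
    exact Finset.sum_congr rfl fun g _ => by simp; ring
  · have : ((a + b : ℕ) : ℂ) = classInner χ (fun g => conj (χ g)) := by
      rw [Nat.cast_add, ← ha, ← hb, ← classInner_add_left, classInner_one_right, classInner]
      congr 1
      exact Finset.sum_congr rfl fun g _ => by simp; ring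
    rw [h.classInner_eq h.conj] at this
    simp only [real_iff_conj_eq]
    split_ifs with h1
    · rw [if_pos h1.symm] at this; exact_mod_cast this
    · rw [if_neg (fun h2 => h1 h2.symm)] at this; exact_mod_cast this

/-- In a group of odd order the only real irreducible character is the principal one. -/
theorem _root_.Cfsg.IsIrrCharacter.eq_one_of_real [Finite G] {χ : G → ℂ} (h : IsIrrCharacter G χ)
    (hodd : Odd (Nat.card G)) (hreal : ∀ g, (χ g).im = 0) : χ = fun _ => 1 := by
  have := Fintype.ofFinite G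
  obtain ⟨a, b, h1, h2, -, -⟩ := h.frobenius_schur
  rw [if_pos hreal] at h2
  refine h.eq_of_classInner_ne_zero isIrrCharacter_one ?_
  have hc : (Nat.card G).Coprime 2 := (Nat.coprime_two_right).2 hodd
  have : ∑ s, χ (s * s) = ∑ s, χ s :=
    Fintype.sum_equiv (powCoprime hc) _ _ fun s => by simp [sq]
  rw [classInner_one_right, ← this, h1, sub_ne_zero]
  exact_mod_cast (by omega : a ≠ b)

theorem _root_.Cfsg.IsIrrCharacter.conj_ne_of_odd [Finite G] {χ : G → ℂ} (h : IsIrrCharacter G χ)
    (hodd : Odd (Nat.card G)) (h1 : χ ≠ fun _ => 1) : (fun g => conj (χ g)) ≠ χ :=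
  fun h2 => h1 (h.eq_one_of_real hodd (real_iff_conj_eq.2 h2))

end Proj

section Brauer

theorem sum_mk_mul_card_centralizer [Fintype G] [Fintype (ConjClasses G)]
    (F : ConjClasses G → ℂ) :
    ∑ g : G, F (ConjClasses.mk g) * (Nat.card (Subgroup.centralizer ({g} : Set G)) : ℂ) =
      (Nat.card G : ℂ) * ∑ C, F C := by
  classical
  rw [← Finset.sum_fiberwise (s := Finset.univ) (g := ConjClasses.mk), Finset.mul_sum]
  refine Finset.sum_congr rfl fun C _ => ?_
  obtain ⟨a, rfl⟩ := ConjClasses.mk_surjective C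
  rw [Finset.sum_congr rfl (g := fun _ => F (ConjClasses.mk a) *
    (Nat.card (Subgroup.centralizer ({a} : Set G)) : ℂ)) (fun x hx => by
      have := (Finset.mem_filter.1 hx).2
      rw [this, card_centralizer_eq_of_isConj (ConjClasses.mk_eq_mk_iff_isConj.1 this)])]
  rw [Finset.sum_const, nsmul_eq_mul]
  have : (Finset.univ.filter (fun x => ConjClasses.mk x = ConjClasses.mk a)) =
      Finset.univ.filter (fun x => IsConj a x) := by
    ext x
    simp only [Finset.mem_filter, Finset.mem_univ, true_and, ConjClasses.mk_eq_mk_iff_isConj]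
    exact ⟨IsConj.symm, IsConj.symm⟩
  rw [this, card_filter_isConj, ← Subgroup.card_mul_index (Subgroup.centralizer ({a} : Set G))]
  push_cast
  ring

/-- Brauer's permutation lemma. -/
theorem card_fixed_irr_eq [Finite G] (σ : IrrCharacter G → IrrCharacter G) (t : G → G)
    (h : ∀ (χ : IrrCharacter G) (g : G), (σ χ : G → ℂ) g = (χ : G → ℂ) (t g))
    (P : ConjClasses G → Prop) (hP : ∀ g, P (ConjClasses.mk g) ↔ IsConj (t g) g) :
    Nat.card {χ : IrrCharacter G // σ χ = χ} = Nat.card {C : ConjClasses G // P C} := by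
  classical
  have := Fintype.ofFinite G
  have := Fintype.ofFinite (ConjClasses G)
  have h1 : (Nat.card {χ : IrrCharacter G // σ χ = χ} : ℂ) =
      ∑ χ : IrrCharacter G, classInner (σ χ : G → ℂ) χ := by
    simp only [irr_classInner, Finset.sum_boole]
    rw [Nat.card_eq_fintype_card, Fintype.card_subtype]
  have h2 : (Nat.card {C : ConjClasses G // P C} : ℂ) = ∑ C, if P C then 1 else 0 := by
    simp only [Finset.sum_boole]
    rw [Nat.card_eq_fintype_card, Fintype.card_subtype]
  have h3 := sum_mk_mul_card_centralizer (G := G) (fun C => if P C then 1 else 0)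
  rw [← h2] at h3
  simp only [classInner, ← Finset.mul_sum, h] at h1
  rw [Finset.sum_comm] at h1
  simp only [sum_irr_mul_conj] at h1
  have h4 : ∀ g : G, (if IsConj (t g) g then
      (Nat.card (Subgroup.centralizer ({t g} : Set G)) : ℂ) else 0) =
      (if P (ConjClasses.mk g) then 1 else 0) *
        (Nat.card (Subgroup.centralizer ({g} : Set G)) : ℂ) := fun g => by
    rw [hP]
    split_ifs with hc
    · rw [card_centralizer_eq_of_isConj hc, one_mul]
    · rw [zero_mul]
  rw [Finset.sum_congr rfl (fun g _ => by convert h4 g), h3, ← mul_assoc, inv_mul_cancel₀ (card_ne_zero G), one_mul] at h1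
  exact_mod_cast h1

theorem card_fixed_irr_aut [Finite G] (α : G ≃* G) (P : ConjClasses G → Prop)
    (hP : ∀ g, P (ConjClasses.mk g) ↔ IsConj (α g) g) :
    Nat.card {χ : IrrCharacter G // (χ : G → ℂ) ∘ α = χ} = Nat.card {C : ConjClasses G // P C} := by
  rw [← card_fixed_irr_eq (fun χ => ⟨_, χ.2.comp_equiv α⟩) α (fun _ _ => rfl) P hP]
  exact Nat.card_congr (Equiv.subtypeEquivRight fun χ => by rw [Subtype.ext_iff]; rfl)

/-- An automorphism fixing no nontrivial class fixes no nonprincipal irreducible character. -/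
theorem _root_.Cfsg.IsIrrCharacter.eq_one_of_aut_fixed [Finite G] {χ : G → ℂ}
    (h : IsIrrCharacter G χ) (α : G ≃* G) (hα : ∀ g, IsConj (α g) g → g = 1)
    (hχ : ∀ g, χ (α g) = χ g) : χ = fun _ => 1 := by
  have h1 := card_fixed_irr_aut α (fun C => C = ConjClasses.mk 1) (fun g => by
    rw [ConjClasses.mk_eq_mk_iff_isConj, isConj_one_left]
    exact ⟨fun hg => by simp [hg], hα g⟩)
  have h0 : Nat.card {C : ConjClasses G // C = ConjClasses.mk 1} = 1 := by
    rw [Nat.card_eq_one_iff_unique]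
    exact ⟨⟨fun a b => Subtype.ext (a.2.trans b.2.symm)⟩, ⟨⟨_, rfl⟩⟩⟩
  rw [h0, Nat.card_eq_one_iff_unique] at h1
  have := h1.1.elim ⟨⟨χ, h⟩, funext hχ⟩ ⟨irrOne G, rfl⟩
  exact congrArg (fun x => x.1.1) this

end Brauer

section Sums

theorem _root_.Cfsg.IsIrrCharacter.sum_conj_mul [Fintype G] {χ : G → ℂ} (h : IsIrrCharacter G χ)
    (b y : G) : ∑ a, χ (a * b * a⁻¹ * y) = Nat.card G * χ b * χ y / χ 1 := by
  classical
  rw [sum_conj_eq b (fun x => χ (x * y))]
  have h1 := h.sum_mul_apply_mul (isClassFunction_classInd b) y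
  rw [sum_classInd_mul b h.isClassFunction] at h1
  simp only [classInd, ite_mul, one_mul, zero_mul] at h1
  rw [← Finset.sum_filter] at h1
  rw [h1, ← Subgroup.card_mul_index (Subgroup.centralizer ({b} : Set G))]
  push_cast
  ring

theorem _root_.Cfsg.IsIrrCharacter.sum_inv_mul_mul [Fintype G] {χ : G → ℂ}
    (h : IsIrrCharacter G χ) (y : G) : ∑ a, χ a⁻¹ * χ (a * y) = Nat.card G * χ y / χ 1 := by
  rw [h.sum_mul_apply_mul h.comp_inv.isClassFunction y]
  have := card_mul_classInner χ χ
  rw [h.classInner_self, mul_one] at this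
  simp only [h.isCharacter.apply_inv, this, mul_comm (conj _)]

theorem _root_.Cfsg.IsIrrCharacter.sum_inv_mul_mul_of_ne [Fintype G] {χ ψ : G → ℂ}
    (h : IsIrrCharacter G χ) (h' : IsIrrCharacter G ψ) (hne : χ ≠ ψ) (y : G) :
    ∑ a, ψ a⁻¹ * χ (a * y) = 0 := by
  rw [h.sum_mul_apply_mul h'.comp_inv.isClassFunction y]
  have := card_mul_classInner χ ψ
  rw [h.classInner_of_ne h' hne, mul_zero] at this
  simp only [h'.isCharacter.apply_inv, mul_comm (conj _), ← this]
  simp

theorem _root_.Cfsg.IsIrrCharacter.sum_normal_mul [Finite G] {χ : G → ℂ} (h : IsIrrCharacter G χ)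
    (N : Subgroup G) [hN : N.Normal] [Fintype N] (x : G) :
    ∑ n : N, χ (n * x) = (∑ n : N, χ n) * χ x / χ 1 := by
  classical
  have := Fintype.ofFinite G
  have hf : IsClassFunction G (extendByZero N (fun _ => 1)) := fun g y => by
    simp only [extendByZero_apply, dite_eq_ite]
    congr 1
    exact propext ⟨fun h1 => by simpa [mul_assoc] using hN.conj_mem _ h1 y⁻¹,
      fun h1 => hN.conj_mem _ h1 y⟩
  have h1 := h.sum_mul_apply_mul hf x
  simpa only [sum_extendByZero_mul N _ (fun g => χ (g * x)), sum_extendByZero_mul N _ χ,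
    one_mul] using h1

theorem _root_.Cfsg.IsIrrCharacter.sum_normal_eq_zero [Finite G] {χ : G → ℂ}
    (h : IsIrrCharacter G χ) (N : Subgroup G) [N.Normal] [Fintype N]
    (hker : ∃ n ∈ N, χ n ≠ χ 1) : ∑ n : N, χ n = 0 := by
  obtain ⟨y, hy, hne⟩ := hker
  have h1 := h.sum_normal_mul N y
  have h2 : ∑ n : N, χ (n * y) = ∑ n : N, χ n :=
    Fintype.sum_equiv (Equiv.mulRight (⟨y, hy⟩ : N)) _ _ fun n => rfl
  rw [h2, eq_div_iff h.one_ne_zero] at h1
  by_contra h0
  exact hne (mul_left_cancel₀ h0 h1).symm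

theorem _root_.Cfsg.IsIrrCharacter.sum_normal_mul_eq_zero [Finite G] {χ : G → ℂ}
    (h : IsIrrCharacter G χ) (N : Subgroup G) [N.Normal] [Fintype N]
    (hker : ∃ n ∈ N, χ n ≠ χ 1) (x : G) : ∑ n : N, χ (n * x) = 0 := by
  rw [h.sum_normal_mul, h.sum_normal_eq_zero N hker]; simp

/-- If the principal character occurs in the restriction to a normal subgroup then that subgroup
lies in the kernel. -/
theorem _root_.Cfsg.IsIrrCharacter.apply_eq_of_classInner_one [Finite G] {χ : G → ℂ}
    (h : IsIrrCharacter G χ) (N : Subgroup G) [N.Normal] [Fintype N]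
    (hc : classInner (fun n : N => χ n) (fun _ => 1) ≠ 0) {n : G} (hn : n ∈ N) : χ n = χ 1 := by
  by_contra hne
  apply hc
  rw [classInner_one_right, h.sum_normal_eq_zero N ⟨n, hn, hne⟩, mul_zero]

theorem exists_conj_of_centralizer_trivial [Finite G] (H : Subgroup G) {g : G}
    (hn : ∀ h ∈ H, g * h * g⁻¹ ∈ H) (hg : ∀ h ∈ H, h * g = g * h → h = 1) {h : G} (hh : h ∈ H) :
    ∃ k ∈ H, k * g * k⁻¹ = h * g := by
  let f : H → H := fun k => ⟨k * (g * k⁻¹ * g⁻¹), H.mul_mem k.2 (hn _ (H.inv_mem k.2))⟩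
  have hinj : Function.Injective f := fun a b hab => by
    have e : (a : G) * (g * a⁻¹ * g⁻¹) = b * (g * b⁻¹ * g⁻¹) := congrArg Subtype.val hab
    have := hg ((b : G)⁻¹ * a) (H.mul_mem (H.inv_mem b.2) a.2) (by
      calc (b : G)⁻¹ * a * g = (b : G)⁻¹ * (a * (g * a⁻¹ * g⁻¹)) * g * a := by
            simp only [Subgroup.coe_inv]; group
        _ = _ := by rw [e]; simp only [Subgroup.coe_inv]; group)
    exact Subtype.ext (inv_mul_eq_one.1 this).symm
  obtain ⟨k, hk⟩ := (Finite.injective_iff_surjective.1 hinj) ⟨h, hh⟩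
  refine ⟨k, k.2, ?_⟩
  have e : (k : G) * (g * k⁻¹ * g⁻¹) = h := congrArg Subtype.val hk
  rw [← e]; simp only [Subgroup.coe_inv]; group

theorem _root_.Cfsg.IsIrrCharacter.eq_zero_of_centralizer_trivial [Finite G] {χ : G → ℂ}
    (h : IsIrrCharacter G χ) (N : Subgroup G) [hN : N.Normal] (hker : ∃ n ∈ N, χ n ≠ χ 1) {g : G}
    (hg : ∀ n ∈ N, n * g = g * n → n = 1) : χ g = 0 := by
  have := Fintype.ofFinite N
  have h1 := h.sum_normal_mul_eq_zero N hker g
  have h2 : ∀ n : N, χ (n * g) = χ g := fun n => by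
    obtain ⟨k, -, hk⟩ := exists_conj_of_centralizer_trivial N (fun x hx => hN.conj_mem x hx g)
      hg n.2
    rw [← hk, h.isClassFunction]
  simp only [h2, Finset.sum_const, Finset.card_univ, nsmul_eq_mul, ← Nat.card_eq_fintype_card,
    mul_eq_zero] at h1
  exact h1.resolve_left (card_ne_zero N)

end Sums

section Prod

variable {H : Type*} [Group H]

theorem classInner_prod [Fintype G] [Fintype H] (φ φ' : G → ℂ) (ψ ψ' : H → ℂ) :
    classInner (fun x : G × H => φ x.1 * ψ x.2) (fun x => φ' x.1 * ψ' x.2) =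
      classInner φ φ' * classInner ψ ψ' := by
  simp only [classInner, Nat.card_prod, Fintype.sum_prod_type, map_mul, Nat.cast_mul, mul_inv]
  rw [mul_mul_mul_comm, Finset.sum_mul_sum]
  congr 1
  exact Finset.sum_congr rfl fun _ _ => Finset.sum_congr rfl fun _ _ => by ring

theorem _root_.Cfsg.IsCharacter.prod {φ : G → ℂ} {ψ : H → ℂ} (h : IsCharacter G φ)
    (h' : IsCharacter H ψ) : IsCharacter (G × H) (fun x => φ x.1 * ψ x.2) :=
  (h.comp (MonoidHom.fst G H)).mul (h'.comp (MonoidHom.snd G H))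

theorem _root_.Cfsg.IsIrrCharacter.prod [Finite G] [Finite H] {φ : G → ℂ} {ψ : H → ℂ}
    (h : IsIrrCharacter G φ) (h' : IsIrrCharacter H ψ) :
    IsIrrCharacter (G × H) (fun x => φ x.1 * ψ x.2) := by
  have := Fintype.ofFinite G
  have := Fintype.ofFinite H
  refine (h.isCharacter.prod h'.isCharacter).isIrr_of_classInner_eq_one ?_
  rw [classInner_prod, h.classInner_self, h'.classInner_self, mul_one]

theorem classInner_regular [Fintype G] [DecidableEq G] (φ : G → ℂ) :
    classInner φ (fun g => if g = 1 then (Nat.card G : ℂ) else 0) = φ 1 := by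
  have := card_ne_zero G
  simp only [classInner, apply_ite conj, map_natCast, map_zero, mul_ite, mul_zero,
    Finset.sum_ite_eq', Finset.mem_univ, if_true]
  field_simp

theorem regular_eq_sum_irr [Finite G] [DecidableEq G] :
    (fun g => if g = 1 then (Nat.card G : ℂ) else 0) =
      ∑ χ : IrrCharacter G, (χ : G → ℂ) 1 • (χ : G → ℂ) := by
  ext g
  have := sum_irr_one_mul g
  simp only [Finset.sum_apply, Pi.smul_apply, smul_eq_mul, this]
  congr

theorem _root_.Cfsg.IsIrrCharacter.exists_prod [Finite G] [Finite H] {θ : G × H → ℂ}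
    (h : IsIrrCharacter (G × H) θ) : ∃ (φ : G → ℂ) (ψ : H → ℂ), IsIrrCharacter G φ ∧
      IsIrrCharacter H ψ ∧ θ = fun x => φ x.1 * ψ x.2 := by
  classical
  have := Fintype.ofFinite G
  have := Fintype.ofFinite H
  by_contra hne
  push Not at hne
  apply h.one_ne_zero
  rw [← classInner_regular θ]
  have : (fun g : G × H => if g = 1 then (Nat.card (G × H) : ℂ) else 0) =
      ∑ φ : IrrCharacter G, ∑ ψ : IrrCharacter H, ((φ : G → ℂ) 1 * (ψ : H → ℂ) 1) •
        fun x : G × H => (φ : G → ℂ) x.1 * (ψ : H → ℂ) x.2 := by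
    ext ⟨a, b⟩
    simp only [Finset.sum_apply, Pi.smul_apply, smul_eq_mul, mul_mul_mul_comm _ ((_ : H → ℂ) 1),
      ← Finset.sum_mul_sum, sum_irr_one_mul, Prod.mk_eq_one, Nat.card_prod]
    by_cases ha : a = 1 <;> by_cases hb : b = 1 <;> simp [ha, hb]
  rw [this]
  simp only [classInner_sum_right, classInner_smul_right]
  refine Finset.sum_eq_zero fun φ _ => Finset.sum_eq_zero fun ψ _ => ?_
  rw [h.classInner_of_ne (φ.2.prod ψ.2) (hne _ _ φ.2 ψ.2), mul_zero]

end Prod

section Lin

theorem hom_coe_injective : Function.Injective (fun l : G →* ℂˣ => fun g => (l g : ℂ)) :=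
  fun l l' h => by ext g; exact congrFun h g

instance homFinite [Finite G] : Finite (G →* ℂˣ) :=
  Finite.of_injective (fun l : G →* ℂˣ => (⟨_, isIrrCharacter_hom l⟩ : IrrCharacter G))
    fun _ _ h => hom_coe_injective (congrArg Subtype.val h)

theorem card_hom_eq_index_commutator [Finite G] :
    Nat.card (G →* ℂˣ) = (commutator G).index := by
  have : NeZero ((Monoid.exponent (Abelianization G) : ℕ) : ℂ) :=
    ⟨by exact_mod_cast Monoid.exponent_ne_zero_of_finite⟩
  rw [Nat.card_congr (Abelianization.lift (G := G) (A := ℂˣ)),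
    CommGroup.card_monoidHom_of_hasEnoughRootsOfUnity]
  rfl

theorem card_hom_of_comm [Finite G] (hG : ∀ a b : G, a * b = b * a) :
    Nat.card (G →* ℂˣ) = Nat.card G := by
  have : IsMulCommutative G := ⟨⟨hG⟩⟩
  rw [card_hom_eq_index_commutator, commutator_eq_bot, Subgroup.index_bot]

theorem card_linear_irr [Finite G] :
    Nat.card {χ : IrrCharacter G // (χ : G → ℂ) 1 = 1} = (commutator G).index := by
  rw [← card_hom_eq_index_commutator]
  symm
  refine Nat.card_congr (Equiv.ofBijective
    (fun l => ⟨⟨_, isIrrCharacter_hom l⟩, by simp⟩) ⟨fun l l' h => ?_, fun χ => ?_⟩)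
  · exact hom_coe_injective (congrArg (fun x => x.1.1) h)
  · exact ⟨homOfLinear χ.1.2.isCharacter χ.2, rfl⟩

open Classical in
theorem classInner_hom [Fintype G] (l l' : G →* ℂˣ) :
    classInner (fun g => (l g : ℂ)) (fun g => (l' g : ℂ)) = if l = l' then 1 else 0 := by
  rw [(isIrrCharacter_hom l).classInner_eq (isIrrCharacter_hom l')]
  exact if_congr hom_coe_injective.eq_iff rfl rfl

theorem _root_.Cfsg.IsCharacter.commutator_eq_of_one {χ : G → ℂ} (h : IsCharacter G χ)
    (h1 : χ 1 = 1) (a b : G) : χ (a * b * a⁻¹ * b⁻¹) = 1 := by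
  obtain ⟨l, rfl⟩ := h.exists_hom h1
  simp

theorem exists_hom_apply_ne_one [Finite G] (hG : ∀ a b : G, a * b = b * a) {g : G} (hg : g ≠ 1) :
    ∃ l : G →* ℂˣ, l g ≠ 1 := by
  by_contra h
  push Not at h
  refine hg (eq_one_of_forall_irr fun χ hχ => ?_)
  obtain ⟨l, rfl⟩ := hχ.exists_hom_of_comm hG
  simp [h]

end Lin

end Cfsg.Agent.Char
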