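import Mathlib
import Cfsg.Prelude.Def_Characters
import Cfsg.Agent.Char.Misc

/-!
# Trivial-intersection sets, exceptional characters, Frobenius' theorem.
-/

set_option autoImplicit false

namespace Cfsg.Agent.Char

open Representation Module Cfsg
open scoped ComplexConjugate

variable {G : Type*} [Group G]

section TI

variable [Fintype G] {H : Subgroup G}

theorem indFun_apply_eq_of_forall {ψ : H → ℂ} (hψ : IsClassFunction H ψ) (x : H)
    (h : ∀ g, g ∉ H → extendByZero H ψ (g * x * g⁻¹) = 0) : indFun H ψ x = ψ x := by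
  classical
  rw [indFun_apply', ← Finset.sum_filter_add_sum_filter_not Finset.univ (· ∈ H),
    Finset.sum_eq_zero (s := Finset.univ.filter (¬ · ∈ H))
      (fun g hg => h g (Finset.mem_filter.1 hg).2), add_zero,
    Finset.sum_congr rfl (g := fun _ => ψ x) (fun g hg => by
      rw [extendByZero_conj_mem H hψ (Finset.mem_filter.1 hg).2, extendByZero_coe]),
    Finset.sum_const, nsmul_eq_mul, ← Fintype.card_subtype, ← Nat.card_eq_fintype_card,
    ← mul_assoc, inv_mul_cancel₀ (card_ne_zero H), one_mul]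

theorem indFun_apply_TI {T : Set G} (hTI : ∀ g, g ∉ H → ∀ t ∈ T, g * t * g⁻¹ ∈ T → t = 1)
    {ψ : H → ℂ} (hψ : IsClassFunction H ψ) (hψT : ∀ x : H, (x : G) ∉ T → ψ x = 0) (t : H)
    (ht : (t : G) ∈ T) (ht1 : t ≠ 1) : indFun H ψ t = ψ t := by
  refine indFun_apply_eq_of_forall hψ t fun g hg => ?_
  by_cases h1 : g * t * g⁻¹ ∈ H
  · rw [extendByZero_of_mem H ψ h1]
    exact hψT _ fun h2 => ht1 (Subtype.ext (hTI g hg t ht h2))
  · exact extendByZero_of_not_mem H ψ h1

theorem classInner_indFun_TI [Fintype H] {T : Set G}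
    (hTI : ∀ g, g ∉ H → ∀ t ∈ T, g * t * g⁻¹ ∈ T → t = 1) {ψ θ : H → ℂ}
    (hθ : IsClassFunction H θ) (hψT : ∀ x : H, (x : G) ∉ T → ψ x = 0)
    (hθT : ∀ x : H, (x : G) ∉ T → θ x = 0) (hψ1 : ψ 1 = 0) :
    classInner (indFun H ψ) (indFun H θ) = classInner ψ θ := by
  rw [classInner_indFun_left H ψ (isClassFunction_indFun H θ)]
  simp only [classInner]
  congr 1
  refine Finset.sum_congr rfl fun x _ => ?_
  by_cases h1 : x = 1
  · rw [h1, hψ1, zero_mul, zero_mul]
  by_cases h2 : (x : G) ∈ T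
  · rw [indFun_apply_TI hTI hθ hθT x h2 h1]
  · rw [hψT x h2, zero_mul, zero_mul]

end TI

section Exceptional

theorem int_sum_sq_eq_two {ι : Type*} [Fintype ι] [DecidableEq ι] (m : ι → ℤ)
    (h : ∑ i, m i ^ 2 = 2) : ∃ i j, i ≠ j ∧ (m i = 1 ∨ m i = -1) ∧ (m j = 1 ∨ m j = -1) ∧
      ∀ k, k ≠ i → k ≠ j → m k = 0 := by
  have : ∃ i, m i ≠ 0 := by
    by_contra h0
    push Not at h0
    simp [h0] at h
  obtain ⟨i, hi⟩ := this
  have h1 : m i ^ 2 ≤ 2 := h ▸ Finset.single_le_sum (fun j _ => sq_nonneg (m j)) (Finset.mem_univ i)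
  have h2 : m i = 1 ∨ m i = -1 := by
    have : -1 ≤ m i := by nlinarith
    have : m i ≤ 1 := by nlinarith
    omega
  have h3 : m i ^ 2 = 1 := sq_eq_one_iff.2 h2
  obtain ⟨j, hj, hj'⟩ := int_sum_sq_eq_one (Function.update m i 0) (by
    rw [← Finset.add_sum_erase _ _ (Finset.mem_univ i)] at h ⊢
    rw [Finset.sum_congr rfl (g := fun k => m k ^ 2) (fun k hk => by
      rw [Function.update_of_ne (Finset.ne_of_mem_erase hk)])]
    simp only [Function.update_self]
    omega)
  have hij : i ≠ j := by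
    rintro rfl
    simp at hj
  rw [Function.update_of_ne hij.symm] at hj
  refine ⟨i, j, hij, h2, hj, fun k hki hkj => ?_⟩
  have := hj' k hkj
  rwa [Function.update_of_ne hki] at this

variable [Fintype G]

/-- A generalized character of norm two. -/
theorem _root_.Cfsg.IsGeneralizedCharacter.exists_of_norm_two {τ : G → ℂ}
    (h : IsGeneralizedCharacter G τ) (h2 : classInner τ τ = 2) :
    ∃ (μ ν : G → ℂ) (a b : ℤ), IsIrrCharacter G μ ∧ IsIrrCharacter G ν ∧ μ ≠ ν ∧
      (a = 1 ∨ a = -1) ∧ (b = 1 ∨ b = -1) ∧ τ = (a : ℂ) • μ + (b : ℂ) • ν := by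
  classical
  obtain ⟨m, -, e, h3⟩ := h.exists_mult_norm
  rw [h2] at h3
  obtain ⟨i, j, hij, hi, hj, hk⟩ := int_sum_sq_eq_two m (by exact_mod_cast h3.symm)
  refine ⟨i, j, m i, m j, i.2, j.2, fun h => hij (Subtype.ext h), hi, hj, ?_⟩
  rw [e, Finset.sum_eq_add i j hij (fun k _ h => by simp [hk k h.1 h.2]) (by simp) (by simp)]

theorem _root_.Cfsg.IsGeneralizedCharacter.exists_sub_of_norm_two {τ : G → ℂ}
    (h : IsGeneralizedCharacter G τ) (h2 : classInner τ τ = 2) (h1 : τ 1 = 0) :
    ∃ μ ν : G → ℂ, IsIrrCharacter G μ ∧ IsIrrCharacter G ν ∧ μ ≠ ν ∧ τ = μ - ν := by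
  obtain ⟨μ, ν, a, b, hμ, hν, hne, ha, hb, rfl⟩ := h.exists_of_norm_two h2
  obtain ⟨c, hc0, hc⟩ := hμ.exists_nat
  obtain ⟨d, hd0, hd⟩ := hν.exists_nat
  simp only [Pi.add_apply, Pi.smul_apply, hc, hd, smul_eq_mul] at h1
  have h1' : a * c + b * d = 0 := by exact_mod_cast h1
  rcases ha with rfl | rfl <;> rcases hb with rfl | rfl
  · omega
  · exact ⟨μ, ν, hμ, hν, hne, by simp [sub_eq_add_neg]⟩
  · exact ⟨ν, μ, hν, hμ, hne.symm, by simp [sub_eq_add_neg, add_comm]⟩
  · omega

theorem classInner_sub_sub_eq_one {a b c d : G → ℂ} (ha : IsIrrCharacter G a)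
    (hb : IsIrrCharacter G b) (hc : IsIrrCharacter G c) (hd : IsIrrCharacter G d) (hab : a ≠ b)
    (hcd : c ≠ d) (h : classInner (a - b) (c - d) = 1) : (a = c ∧ b ≠ d) ∨ (b = d ∧ a ≠ c) := by
  rw [classInner_sub_left, classInner_sub_right, classInner_sub_right, ha.classInner_eq hc,
    ha.classInner_eq hd, hb.classInner_eq hc, hb.classInner_eq hd] at h
  by_cases h1 : a = c <;> by_cases h2 : b = d
  · subst h1 h2; simp [hab, hab.symm] at h
  · exact Or.inl ⟨h1, h2⟩
  · exact Or.inr ⟨h2, h1⟩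
  · exfalso
    simp only [h1, h2, if_false] at h
    split_ifs at h <;> norm_num at h

/-- The isometry lemma behind exceptional characters. -/
theorem exists_exceptional {ι : Type*} (i₀ : ι) (τ : ι → G → ℂ) (h0 : τ i₀ = 0)
    (hgen : ∀ i, IsGeneralizedCharacter G (τ i)) (hone : ∀ i, τ i 1 = 0)
    (hdiag : ∀ i, i ≠ i₀ → classInner (τ i) (τ i) = 2)
    (hoff : ∀ i j, i ≠ i₀ → j ≠ i₀ → i ≠ j → classInner (τ i) (τ j) = 1) :
    ∃ ε : ℂ, (ε = 1 ∨ ε = -1) ∧ ∃ μ : ι → G → ℂ, (∀ i, IsIrrCharacter G (μ i)) ∧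
      Function.Injective μ ∧ ∀ i, τ i = ε • (μ i - μ i₀) := by
  classical
  choose a b ha hb hab e using fun i (hi : i ≠ i₀) =>
    (hgen i).exists_sub_of_norm_two (hdiag i hi) (hone i)
  have key : ∀ i j (hi : i ≠ i₀) (hj : j ≠ i₀), i ≠ j →
      (a i hi = a j hj ∧ b i hi ≠ b j hj) ∨ (b i hi = b j hj ∧ a i hi ≠ a j hj) :=
    fun i j hi hj hij => classInner_sub_sub_eq_one (ha i hi) (hb i hi) (ha j hj) (hb j hj)
      (hab i hi) (hab j hj) (by rw [← e, ← e, hoff i j hi hj hij])
  suffices ∃ ε : ℂ, (ε = 1 ∨ ε = -1) ∧ ∃ ν, IsIrrCharacter G ν ∧ ∀ i, i ≠ i₀ →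
      ∃ μ, IsIrrCharacter G μ ∧ μ ≠ ν ∧ τ i = ε • (μ - ν) by
    obtain ⟨ε, hε, ν, hν, h⟩ := this
    choose μ hμ hne hτ using h
    refine ⟨ε, hε, fun i => if hi : i = i₀ then ν else μ i hi, fun i => ?_, fun i j hij => ?_,
      fun i => ?_⟩
    · dsimp only; split_ifs
      · exact hν
      · exact hμ _ _
    · dsimp only at hij
      by_cases hi : i = i₀ <;> by_cases hj : j = i₀
      · rw [hi, hj]
      · rw [dif_pos hi, dif_neg hj] at hij; exact (hne j hj hij.symm).elim
      · rw [dif_neg hi, dif_pos hj] at hij; exact (hne i hi hij).elim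
      · rw [dif_neg hi, dif_neg hj] at hij
        by_contra hc
        have h1 := hoff i j hi hj hc
        rw [hτ j hj, ← hij, ← hτ i hi, hdiag i hi] at h1
        norm_num at h1
    · dsimp only
      by_cases hi : i = i₀
      · subst hi; simp [h0]
      · rw [dif_neg hi, dif_pos rfl]; exact hτ i hi
  by_cases hA : ∀ i j (hi : i ≠ i₀) (hj : j ≠ i₀), b i hi = b j hj
  · by_cases hex : ∃ i, i ≠ i₀
    · obtain ⟨i, hi⟩ := hex
      exact ⟨1, Or.inl rfl, b i hi, hb i hi, fun j hj =>
        ⟨a j hj, ha j hj, hA i j hi hj ▸ hab j hj, by rw [one_smul, hA i j hi hj]; exact e j hj⟩⟩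
    · exact ⟨1, Or.inl rfl, _, isIrrCharacter_one, fun j hj => (hex ⟨j, hj⟩).elim⟩
  · push Not at hA
    obtain ⟨i, j, hi, hj, hne⟩ := hA
    have hij : i ≠ j := by rintro rfl; exact hne rfl
    have h1 : a i hi = a j hj := ((key i j hi hj hij).resolve_right fun h => hne h.1).1
    have h2 : ∀ k (hk : k ≠ i₀), a k hk = a i hi := fun k hk => by
      by_contra h3
      have hki : k ≠ i := by rintro rfl; exact h3 rfl
      have hkj : k ≠ j := by rintro rfl; exact h3 h1.symm
      have h4 := ((key k i hk hi hki).resolve_left fun h => h3 h.1).1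
      have h5 := ((key k j hk hj hkj).resolve_left fun h => h3 (h.1.trans h1.symm)).1
      exact hne (h4.symm.trans h5)
    exact ⟨-1, Or.inr rfl, a i hi, ha i hi, fun k hk =>
      ⟨b k hk, hb k hk, h2 k hk ▸ (hab k hk).symm, by rw [← h2 k hk, e k hk]; simp⟩⟩

/-- Exceptional characters attached to a family of irreducible characters of equal degree vanishing
off a TI-set. -/
theorem exists_exceptional_TI {H : Subgroup G} {T : Set G}
    (hTI : ∀ g, g ∉ H → ∀ t ∈ T, g * t * g⁻¹ ∈ T → t = 1) {ι : Type*} (χ : ι → H → ℂ)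
    (hirr : ∀ i, IsIrrCharacter H (χ i)) (hinj : Function.Injective χ)
    (hvan : ∀ i j, ∀ x : H, (x : G) ∉ T → χ i x = χ j x) (hdeg : ∀ i j, χ i 1 = χ j 1) :
    ∃ ε : ℂ, (ε = 1 ∨ ε = -1) ∧ ∃ μ : ι → G → ℂ, (∀ i, IsIrrCharacter G (μ i)) ∧
      Function.Injective μ ∧ ∀ i j, indFun H (χ i - χ j) = ε • (μ i - μ j) := by
  have := Fintype.ofFinite H
  rcases isEmpty_or_nonempty ι with hι | ⟨⟨i₀⟩⟩
  · exact ⟨1, Or.inl rfl, fun i => isEmptyElim i, fun i => isEmptyElim i, fun i => isEmptyElim i,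
      fun i => isEmptyElim i⟩
  have hin : ∀ i j, classInner (indFun H (χ i - χ i₀)) (indFun H (χ j - χ i₀)) =
      classInner (χ i - χ i₀) (χ j - χ i₀) := fun i j =>
    classInner_indFun_TI hTI ((hirr j).isClassFunction.sub (hirr i₀).isClassFunction)
      (fun x hx => by simp [hvan i i₀ x hx]) (fun x hx => by simp [hvan j i₀ x hx])
      (by simp [hdeg i i₀])
  obtain ⟨ε, hε, μ, h1, h2, h3⟩ := exists_exceptional i₀ (fun i => indFun H (χ i - χ i₀)) (by simp)
    (fun i => ((hirr i).isGen.sub (hirr i₀).isGen).indFun)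
    (fun i => by simp [indFun_one, hdeg i i₀])
    (fun i hi => by
      rw [hin, classInner_sub_left, classInner_sub_right, classInner_sub_right,
        (hirr i).classInner_self, (hirr i₀).classInner_self,
        (hirr i).classInner_of_ne (hirr i₀) (hinj.ne hi),
        (hirr i₀).classInner_of_ne (hirr i) (hinj.ne hi.symm)]
      norm_num)
    (fun i j hi hj hij => by
      rw [hin, classInner_sub_left, classInner_sub_right, classInner_sub_right,
        (hirr i₀).classInner_self, (hirr i).classInner_of_ne (hirr j) (hinj.ne hij),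
        (hirr i).classInner_of_ne (hirr i₀) (hinj.ne hi),
        (hirr i₀).classInner_of_ne (hirr j) (hinj.ne hj.symm)]
      norm_num)
  refine ⟨ε, hε, μ, h1, h2, fun i j => ?_⟩
  have : χ i - χ j = (χ i - χ i₀) - (χ j - χ i₀) := by ring
  rw [this, indFun_sub, h3, h3, ← smul_sub]
  congr 1
  ring

end Exceptional

section Frobenius

/-- In the Frobenius situation every irreducible character of `H` extends to an irreducible
character of `G` that is constant on the elements not conjugate into `H`. -/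
theorem exists_irr_extension_of_TI [Finite G] {H : Subgroup G}
    (hTI : ∀ g, g ∉ H → ∀ h ∈ H, g * h * g⁻¹ ∈ H → h = 1) {θ : H → ℂ} (hθ : IsIrrCharacter H θ) :
    ∃ χ, IsIrrCharacter G χ ∧ (∀ h : H, χ h = θ h) ∧
      ∀ x, (∀ g, g * x * g⁻¹ ∉ H) → χ x = χ 1 := by
  have := Fintype.ofFinite G
  have := Fintype.ofFinite H
  obtain ⟨d, hd0, hd⟩ := hθ.exists_nat
  let φ : H → ℂ := θ - fun _ => (d : ℂ)
  have hφ : IsGeneralizedCharacter H φ := hθ.isGen.sub (isCharacter_natCast d).isGen
  have hφ1 : φ 1 = 0 := by simp [φ, hd]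
  have hres : ∀ h : H, indFun H φ h = φ h := fun h => by
    by_cases h1 : h = 1
    · rw [h1, hφ1, OneMemClass.coe_one, indFun_one, hφ1, mul_zero]
    · exact indFun_apply_TI (T := H) hTI hφ.isClassFunction (fun x hx => (hx x.2).elim) h h.2 h1
  let χ : G → ℂ := indFun H φ + fun _ => (d : ℂ)
  have hχ : IsGeneralizedCharacter G χ := hφ.indFun.add (isCharacter_natCast d).isGen
  have hχH : ∀ h : H, χ h = θ h := fun h => by simp [χ, hres, φ]
  have hχ1 : χ 1 = d := (hχH 1).trans hd
  refine ⟨χ, hχ.isIrr_of_re_pos ?_ (by rw [hχ1]; simp), hχH, fun x hx => ?_⟩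
  · have e1 : classInner (indFun H φ) χ = classInner φ θ := by
      rw [classInner_indFun_left H φ hχ.isClassFunction]
      simp only [hχH]
    have e2 : classInner (fun _ : G => (d : ℂ)) (indFun H φ) =
        classInner (fun _ : H => (d : ℂ)) φ :=
      classInner_indFun_right H φ (isClassFunction_const _)
    have e3 : classInner (fun _ : G => (d : ℂ)) (fun _ => (d : ℂ)) =
        classInner (fun _ : H => (d : ℂ)) (fun _ => (d : ℂ)) := by
      have := card_ne_zero G
      have := card_ne_zero H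
      simp only [classInner, Finset.sum_const, Finset.card_univ, ← Nat.card_eq_fintype_card,
        nsmul_eq_mul]
      field_simp
    have e4 : θ = φ + fun _ => (d : ℂ) := by simp [φ]
    calc classInner χ χ = classInner (indFun H φ) χ + classInner (fun _ => (d : ℂ)) χ :=
          classInner_add_left _ _ _
      _ = classInner φ θ + classInner (fun _ : H => (d : ℂ)) θ := by
          rw [e1, classInner_add_right, e2, e3, ← classInner_add_right, ← e4]
      _ = 1 := by rw [← classInner_add_left, ← e4, hθ.classInner_self]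
  · rw [hχ1]
    simp only [χ, Pi.add_apply, add_eq_right]
    exact indFun_eq_zero_of_not_conj H φ fun y => by simpa using hx y⁻¹

/-- Frobenius' theorem. -/
theorem frobenius_kernel [Finite G] (H : Subgroup G)
    (hTI : ∀ g, g ∉ H → ∀ h ∈ H, g * h * g⁻¹ ∈ H → h = 1) :
    ∃ N : Subgroup G, N.Normal ∧ (∀ x, x ∈ N ↔ x = 1 ∨ ∀ g, g * x * g⁻¹ ∉ H) ∧
      Subgroup.IsComplement' N H := by
  classical
  have := Fintype.ofFinite G
  have := Fintype.ofFinite H
  choose χ h1 h2 h3 using fun θ : IrrCharacter H => exists_irr_extension_of_TI hTI θ.2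
  let N : Subgroup G := ⨅ θ, charKer (χ θ)
  have hN : N.Normal := Subgroup.normal_iInf_normal fun θ => (h1 θ).isClassFunction.charKer_normal
  have hNH : ∀ x ∈ N, x ∈ H → x = 1 := fun x hx hxH => by
    have : (⟨x, hxH⟩ : H) = 1 := eq_one_of_forall_irr fun θ hθ => by
      have := (h1 ⟨θ, hθ⟩).isCharacter.mem_charKer.1 (Subgroup.mem_iInf.1 hx ⟨θ, hθ⟩)
      exact (h2 ⟨θ, hθ⟩ ⟨x, hxH⟩).symm.trans (this.trans (h2 ⟨θ, hθ⟩ 1))
    exact congrArg Subtype.val this
  have hmem : ∀ x, x ∈ N ↔ x = 1 ∨ ∀ g, g * x * g⁻¹ ∉ H := fun x => by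
    constructor
    · intro hx
      by_contra hc
      push Not at hc
      obtain ⟨hx1, g, hg⟩ := hc
      exact hx1 (by simpa using hNH _ (hN.conj_mem x hx g) hg)
    · rintro (rfl | hx)
      · exact N.one_mem
      · exact Subgroup.mem_iInf.2 fun θ => (h1 θ).isCharacter.mem_charKer.2 (h3 θ x hx)
  refine ⟨N, hN, hmem, Subgroup.isComplement'_of_card_mul_and_disjoint ?_ ?_⟩
  · have e1 := classInner_indFun_left H (fun _ => 1) (isClassFunction_const (G := G) 1)
    rw [isIrrCharacter_one.classInner_self, classInner_one_right,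
      inv_mul_eq_iff_eq_mul₀ (card_ne_zero G), mul_one] at e1
    have e2 : ∀ x, indFun H (fun _ => 1) x =
        (if x = 1 then (H.index : ℂ) else 0) + 1 - (if x ∈ N then 1 else 0) := fun x => by
      by_cases hx1 : x = 1
      · simp [hx1, indFun_one]
      by_cases hx : x ∈ N
      · rw [if_neg hx1, if_pos hx, indFun_eq_zero_of_not_conj H _ fun y => by
          simpa using ((hmem x).1 hx).resolve_left hx1 y⁻¹]
        simp
      · rw [if_neg hx1, if_neg hx]
        rw [hmem] at hx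
        push Not at hx
        obtain ⟨g, hg⟩ := hx.2
        rw [← isClassFunction_indFun H _ x g]
        have := indFun_apply_TI (T := H) hTI (isClassFunction_const 1) (fun x hx => (hx x.2).elim)
          ⟨_, hg⟩ hg (fun h => hx1 (by simpa using congrArg Subtype.val h))
        simpa using this
    simp only [e2, Finset.sum_sub_distrib, Finset.sum_add_distrib, Finset.sum_ite_eq',
      Finset.mem_univ, if_true, Finset.sum_const, Finset.card_univ, nsmul_eq_mul, mul_one,
      Finset.sum_boole, ← Fintype.card_subtype, ← Nat.card_eq_fintype_card] at e1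
    have e3 : (Nat.card N : ℂ) = H.index := by linear_combination -e1
    have e4 : Nat.card N = H.index := by exact_mod_cast e3
    rw [e4, Subgroup.index_mul_card]
  · rw [Subgroup.disjoint_def]
    exact fun hx hxH => hNH _ hx hxH

end Frobenius

end Cfsg.Agent.Char
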