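import Mathlib
import Cfsg.Prelude.Def_Characters
import Cfsg.Agent.Char.Misc

/-!
# Clifford theory: conjugate characters, inertia groups, the Clifford correspondence, Gallagher.
-/

set_option autoImplicit false

namespace Cfsg.Agent.Char

open Representation Module Cfsg
open scoped ComplexConjugate

variable {G : Type*} [Group G]

section Conj

variable {N : Subgroup G} [hN : N.Normal]

/-- The conjugate of a function on a normal subgroup. -/
def conjBy (θ : N → ℂ) (g : G) : N → ℂ := fun n => θ ⟨g * n * g⁻¹, hN.conj_mem n n.2 g⟩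

theorem conjBy_apply (θ : N → ℂ) (g : G) (n : N) :
    conjBy θ g n = θ ⟨g * n * g⁻¹, hN.conj_mem n n.2 g⟩ := rfl

theorem conjBy_eq_comp (θ : N → ℂ) (g : G) :
    conjBy θ g = fun n => θ (MulAut.conjNormal g n) := rfl

@[simp] theorem conjBy_one (θ : N → ℂ) : conjBy θ 1 = θ := by
  ext n; simp [conjBy]

theorem conjBy_mul (θ : N → ℂ) (g h : G) : conjBy θ (g * h) = conjBy (conjBy θ g) h := by
  ext n; simp [conjBy, mul_assoc]

@[simp] theorem conjBy_conjBy_inv (θ : N → ℂ) (g : G) : conjBy (conjBy θ g) g⁻¹ = θ := by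
  rw [← conjBy_mul, mul_inv_cancel, conjBy_one]

@[simp] theorem conjBy_inv_conjBy (θ : N → ℂ) (g : G) : conjBy (conjBy θ g⁻¹) g = θ := by
  rw [← conjBy_mul, inv_mul_cancel, conjBy_one]

theorem conjBy_left_injective (g : G) : Function.Injective fun θ : N → ℂ => conjBy θ g :=
  fun θ φ h => by simpa using congrArg (fun ψ => conjBy ψ g⁻¹) h

@[simp] theorem conjBy_apply_one (θ : N → ℂ) (g : G) : conjBy θ g 1 = θ 1 := by
  rw [conjBy_eq_comp]; simp

theorem conjBy_mul_fun (θ φ : N → ℂ) (g : G) : conjBy (θ * φ) g = conjBy θ g * conjBy φ g := rfl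

theorem conjBy_add (θ φ : N → ℂ) (g : G) : conjBy (θ + φ) g = conjBy θ g + conjBy φ g := rfl

theorem conjBy_smul (c : ℂ) (θ : N → ℂ) (g : G) : conjBy (c • θ) g = c • conjBy θ g := rfl

theorem conjBy_conj (θ : N → ℂ) (g : G) :
    conjBy (fun n => conj (θ n)) g = fun n => conj (conjBy θ g n) := rfl

@[simp] theorem conjBy_const (c : ℂ) (g : G) : conjBy (fun _ : N => c) g = fun _ => c := rfl

theorem _root_.Cfsg.IsClassFunction.conjBy {θ : N → ℂ} (h : IsClassFunction N θ) (g : G) :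
    IsClassFunction N (conjBy θ g) := h.comp (MulAut.conjNormal g).toMonoidHom

theorem _root_.Cfsg.IsCharacter.conjBy {θ : N → ℂ} (h : IsCharacter N θ) (g : G) :
    IsCharacter N (conjBy θ g) := h.comp (MulAut.conjNormal g).toMonoidHom

theorem _root_.Cfsg.IsGeneralizedCharacter.conjBy {θ : N → ℂ} (h : IsGeneralizedCharacter N θ)
    (g : G) : IsGeneralizedCharacter N (conjBy θ g) := h.comp (MulAut.conjNormal g).toMonoidHom

theorem _root_.Cfsg.IsIrrCharacter.conjBy {θ : N → ℂ} (h : IsIrrCharacter N θ) (g : G) :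
    IsIrrCharacter N (conjBy θ g) := h.comp_equiv (MulAut.conjNormal g)

theorem conjBy_of_mem {θ : N → ℂ} (h : IsClassFunction N θ) {g : G} (hg : g ∈ N) :
    conjBy θ g = θ := by
  ext n; exact h n ⟨g, hg⟩

theorem conjBy_restrict {χ : G → ℂ} (h : IsClassFunction G χ) (g : G) :
    conjBy (fun n : N => χ n) g = fun n : N => χ n := by
  ext n; exact h n g

theorem classInner_conjBy [Fintype N] (θ φ : N → ℂ) (g : G) :
    classInner (conjBy θ g) (conjBy φ g) = classInner θ φ :=
  classInner_comp_equiv (MulAut.conjNormal g).toEquiv θ φ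

theorem classInner_restrict_conjBy [Fintype N] {χ : G → ℂ} (h : IsClassFunction G χ) (θ : N → ℂ)
    (g : G) : classInner (fun n : N => χ n) (conjBy θ g) = classInner (fun n : N => χ n) θ := by
  rw [← classInner_conjBy (fun n : N => χ n) θ g, conjBy_restrict h]

/-- The inertia group of a function on a normal subgroup. -/
def inertia (θ : N → ℂ) : Subgroup G where
  carrier := {g | conjBy θ g = θ}
  one_mem' := conjBy_one θ
  mul_mem' := fun {a b} ha hb => by
    simp only [Set.mem_ofPred_eq] at *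
    rw [conjBy_mul, ha, hb]
  inv_mem' := fun {a} ha => by
    simp only [Set.mem_ofPred_eq] at *
    conv_lhs => rw [← ha]
    exact conjBy_conjBy_inv θ a

theorem mem_inertia {θ : N → ℂ} {g : G} : g ∈ inertia θ ↔ conjBy θ g = θ := Iff.rfl

theorem mem_inertia' {θ : N → ℂ} {g : G} :
    g ∈ inertia θ ↔ ∀ n : N, θ ⟨g * n * g⁻¹, hN.conj_mem n n.2 g⟩ = θ n := funext_iff

theorem le_inertia {θ : N → ℂ} (h : IsClassFunction N θ) : N ≤ inertia θ :=
  fun _ hg => conjBy_of_mem h hg

theorem inertia_eq_top_iff {θ : N → ℂ} : inertia θ = ⊤ ↔ ∀ g, conjBy θ g = θ := by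
  simp [Subgroup.eq_top_iff', mem_inertia]

theorem conjBy_eq_iff {θ : N → ℂ} {g h : G} : conjBy θ g = conjBy θ h ↔ g * h⁻¹ ∈ inertia θ := by
  rw [mem_inertia, conjBy_mul]
  constructor
  · intro e; rw [e, conjBy_conjBy_inv]
  · intro e; simpa using congrArg (fun ψ => conjBy ψ h) e

theorem card_conjBy_eq (θ : N → ℂ) (h : G) :
    Nat.card {g // conjBy θ g = conjBy θ h} = Nat.card (inertia θ) :=
  Nat.card_congr ⟨fun g => ⟨g * h⁻¹, conjBy_eq_iff.1 g.2⟩,
    fun t => ⟨t * h, conjBy_eq_iff.2 (by simp)⟩, fun g => by simp, fun t => by simp⟩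

theorem sum_ite_eq_card {X : Type*} [Fintype X] (P : X → Prop) {_ : DecidablePred P} :
    ∑ x, (if P x then (1 : ℂ) else 0) = Nat.card {x // P x} := by
  rw [Finset.sum_boole, Nat.card_eq_fintype_card, Fintype.card_subtype]

open Classical in
/-- The set of conjugates of `θ`. -/
noncomputable def conjOrbit [Finite G] (θ : N → ℂ) : Finset (N → ℂ) :=
  haveI := Fintype.ofFinite G
  Finset.univ.image (conjBy θ)

theorem mem_conjOrbit [Finite G] {θ φ : N → ℂ} : φ ∈ conjOrbit θ ↔ ∃ g, conjBy θ g = φ := by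
  simp [conjOrbit]

theorem self_mem_conjOrbit [Finite G] (θ : N → ℂ) : θ ∈ conjOrbit θ :=
  mem_conjOrbit.2 ⟨1, conjBy_one θ⟩

theorem sum_conjBy [Fintype G] {M : Type*} [AddCommMonoid M] (θ : N → ℂ) (F : (N → ℂ) → M) :
    ∑ g, F (conjBy θ g) = Nat.card (inertia θ) • ∑ φ ∈ conjOrbit θ, F φ := by
  classical
  rw [← Finset.sum_fiberwise_of_maps_to (s := Finset.univ) (t := conjOrbit θ) (g := conjBy θ)
    (fun g _ => mem_conjOrbit.2 ⟨g, rfl⟩), Finset.smul_sum]
  refine Finset.sum_congr rfl fun φ hφ => ?_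
  obtain ⟨h, rfl⟩ := mem_conjOrbit.1 hφ
  rw [Finset.sum_congr rfl (g := fun _ => F (conjBy θ h))
    (fun g hg => by rw [(Finset.mem_filter.1 hg).2]), Finset.sum_const]
  rw [← Fintype.card_subtype, ← Nat.card_eq_fintype_card, card_conjBy_eq]

theorem card_conjOrbit [Finite G] (θ : N → ℂ) : (conjOrbit θ).card = (inertia θ).index := by
  have := Fintype.ofFinite G
  have h := sum_conjBy θ (fun _ => (1 : ℕ))
  simp only [Finset.sum_const, Finset.card_univ, smul_eq_mul, mul_one,
    ← Nat.card_eq_fintype_card] at h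
  rw [← (inertia θ).card_mul_index] at h
  exact (Nat.eq_of_mul_eq_mul_left Nat.card_pos h).symm

theorem conjOrbit_of_invariant [Finite G] {θ : N → ℂ} (h : ∀ g, conjBy θ g = θ) :
    conjOrbit θ = {θ} := by
  ext φ; simp [mem_conjOrbit, h, eq_comm]

variable [Fintype G]

theorem restrict_indFun (θ : N → ℂ) :
    (fun n : N => indFun N θ n) = (Nat.card N : ℂ)⁻¹ • ∑ g, conjBy θ g := by
  ext n
  rw [indFun_of_normal]
  simp [conjBy_apply]

theorem restrict_indFun' (θ : N → ℂ) (h : IsClassFunction N θ) :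
    (fun n : N => indFun N θ n) = (N.relIndex (inertia θ) : ℂ) • ∑ φ ∈ conjOrbit θ, φ := by
  rw [restrict_indFun, sum_conjBy θ (fun φ => φ), ← Nat.cast_smul_eq_nsmul ℂ, smul_smul]
  congr 1
  rw [← (N.subgroupOf (inertia θ)).card_mul_index,
    Nat.card_congr (Subgroup.subgroupOfEquivOfLe (le_inertia h)).toEquiv, Nat.cast_mul,
    ← mul_assoc, inv_mul_cancel₀ (card_ne_zero N), one_mul]
  rfl

theorem restrict_indFun_of_invariant {θ : N → ℂ} (h : ∀ g, conjBy θ g = θ) :
    (fun n : N => indFun N θ n) = (N.index : ℂ) • θ := by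
  rw [restrict_indFun]
  simp only [h, Finset.sum_const, Finset.card_univ, ← Nat.card_eq_fintype_card,
    ← Nat.cast_smul_eq_nsmul ℂ, smul_smul]
  rw [← N.card_mul_index, Nat.cast_mul, ← mul_assoc, inv_mul_cancel₀ (card_ne_zero N), one_mul]

theorem indFun_conjBy (θ : N → ℂ) (g : G) : indFun N (conjBy θ g) = indFun N θ := by
  ext x
  by_cases hx : x ∈ N
  · have h1 := congrFun (restrict_indFun (conjBy θ g)) ⟨x, hx⟩
    have h2 := congrFun (restrict_indFun θ) ⟨x, hx⟩
    simp only [← conjBy_mul] at h1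
    rw [h1, h2, Fintype.sum_equiv (Equiv.mulLeft g) (fun x => conjBy θ (g * x)) (conjBy θ)
      (fun _ => rfl)]
  · rw [indFun_eq_zero_of_normal N _ hx, indFun_eq_zero_of_normal N _ hx]

theorem classInner_indFun_indFun {θ φ : N → ℂ} (hθ : IsIrrCharacter N θ)
    (hφ : IsIrrCharacter N φ) : classInner (indFun N θ) (indFun N φ) =
      (Nat.card N : ℂ)⁻¹ * Nat.card {g // conjBy θ g = φ} := by
  have := Fintype.ofFinite N
  rw [classInner_indFun_right N φ (isClassFunction_indFun N θ), restrict_indFun,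
    classInner_smul_left, classInner_sum_left]
  simp only [(hθ.conjBy _).classInner_eq hφ]
  rw [sum_ite_eq_card]

theorem classInner_indFun_self {θ : N → ℂ} (hθ : IsIrrCharacter N θ) :
    classInner (indFun N θ) (indFun N θ) = N.relIndex (inertia θ) := by
  rw [classInner_indFun_indFun hθ hθ]
  change _ * (Nat.card (inertia θ) : ℂ) = _
  rw [← (N.subgroupOf (inertia θ)).card_mul_index,
    Nat.card_congr (Subgroup.subgroupOfEquivOfLe (le_inertia hθ.isClassFunction)).toEquiv,
    Nat.cast_mul, ← mul_assoc, inv_mul_cancel₀ (card_ne_zero N), one_mul]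
  rfl

theorem classInner_indFun_indFun_eq_zero {θ φ : N → ℂ} (hθ : IsIrrCharacter N θ)
    (hφ : IsIrrCharacter N φ) (h : ∀ g, conjBy θ g ≠ φ) :
    classInner (indFun N θ) (indFun N φ) = 0 := by
  rw [classInner_indFun_indFun hθ hφ]
  simp [h]

theorem exists_conjBy_eq_of_classInner_indFun {θ φ : N → ℂ} (hθ : IsIrrCharacter N θ)
    (hφ : IsIrrCharacter N φ) (h : classInner (indFun N θ) (indFun N φ) ≠ 0) :
    ∃ g, conjBy θ g = φ := by
  by_contra h1
  push Not at h1
  exact h (classInner_indFun_indFun_eq_zero hθ hφ h1)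

theorem _root_.Cfsg.IsIrrCharacter.indFun_of_inertia_le {θ : N → ℂ} (hθ : IsIrrCharacter N θ)
    (h : inertia θ ≤ N) : IsIrrCharacter G (indFun N θ) := by
  refine hθ.isCharacter.indFun.isIrr_of_classInner_eq_one ?_
  rw [classInner_indFun_self hθ, Subgroup.relIndex_eq_one.2 h, Nat.cast_one]

theorem _root_.Cfsg.IsIrrCharacter.inertia_le_of_indFun {θ : N → ℂ} (hθ : IsIrrCharacter N θ)
    (h : IsIrrCharacter G (indFun N θ)) : inertia θ ≤ N := by
  have := h.classInner_self
  rw [classInner_indFun_self hθ] at this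
  exact Subgroup.relIndex_eq_one.1 (by exact_mod_cast this)

theorem classInner_indFun_self_of_invariant {θ : N → ℂ} (hθ : IsIrrCharacter N θ)
    (h : ∀ g, conjBy θ g = θ) : classInner (indFun N θ) (indFun N θ) = N.index := by
  rw [classInner_indFun_self hθ, inertia_eq_top_iff.2 h, Subgroup.relIndex_top_right]

end Conj

section Clifford

variable {N : Subgroup G} [hN : N.Normal] [Finite G] [Fintype N]

theorem _root_.Cfsg.IsIrrCharacter.exists_conjBy_eq {χ : G → ℂ} (hχ : IsIrrCharacter G χ)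
    {θ φ : N → ℂ} (hθ : IsIrrCharacter N θ) (hφ : IsIrrCharacter N φ)
    (h1 : classInner (fun n : N => χ n) θ ≠ 0) (h2 : classInner (fun n : N => χ n) φ ≠ 0) :
    ∃ g, conjBy θ g = φ := by
  have := Fintype.ofFinite G
  refine exists_conjBy_eq_of_classInner_indFun hθ hφ
    (classInner_ne_zero_of_common hθ.isCharacter.indFun hφ.isCharacter.indFun hχ ?_ ?_)
  · rwa [Ne, classInner_eq_zero_comm, classInner_indFun_right N θ hχ.isClassFunction]
  · rwa [Ne, classInner_eq_zero_comm, classInner_indFun_right N φ hχ.isClassFunction]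

/-- Clifford's theorem. -/
theorem _root_.Cfsg.IsIrrCharacter.clifford {χ : G → ℂ} (hχ : IsIrrCharacter G χ)
    {θ : N → ℂ} (hθ : IsIrrCharacter N θ) (h1 : classInner (fun n : N => χ n) θ ≠ 0) :
    (fun n : N => χ n) = classInner (fun n : N => χ n) θ • ∑ φ ∈ conjOrbit θ, φ := by
  classical
  have hirr : ∀ φ ∈ conjOrbit θ, IsIrrCharacter N φ := fun φ hφ => by
    obtain ⟨g, rfl⟩ := mem_conjOrbit.1 hφ
    exact hθ.conjBy g
  refine (hχ.isClassFunction.restrict N).ext_irr
    ((isClassFunction_sum _ _ fun φ hφ => (hirr φ hφ).isClassFunction).smul _) fun ψ hψ => ?_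
  rw [classInner_smul_left, classInner_sum_left,
    Finset.sum_congr rfl (fun φ hφ => (hirr φ hφ).classInner_eq hψ)]
  by_cases h : ψ ∈ conjOrbit θ
  · rw [Finset.sum_ite_eq', if_pos h, mul_one]
    obtain ⟨g, rfl⟩ := mem_conjOrbit.1 h
    exact classInner_restrict_conjBy hχ.isClassFunction θ g
  · rw [Finset.sum_ite_eq', if_neg h, mul_zero]
    by_contra h2
    exact h (mem_conjOrbit.2 (hχ.exists_conjBy_eq hθ hψ h1 h2))

theorem _root_.Cfsg.IsIrrCharacter.clifford_degree {χ : G → ℂ} (hχ : IsIrrCharacter G χ)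
    {θ : N → ℂ} (hθ : IsIrrCharacter N θ) (h1 : classInner (fun n : N => χ n) θ ≠ 0) :
    χ 1 = classInner (fun n : N => χ n) θ * (inertia θ).index * θ 1 := by
  have := congrFun (hχ.clifford hθ h1) 1
  simp only [OneMemClass.coe_one, Pi.smul_apply, Finset.sum_apply, smul_eq_mul] at this
  rw [Finset.sum_congr rfl (g := fun _ => θ 1) (fun φ hφ => by
    obtain ⟨g, rfl⟩ := mem_conjOrbit.1 hφ
    exact conjBy_apply_one θ g), Finset.sum_const, card_conjOrbit, nsmul_eq_mul] at this
  rw [this, mul_assoc]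

theorem _root_.Cfsg.IsIrrCharacter.clifford_invariant {χ : G → ℂ} (hχ : IsIrrCharacter G χ)
    {θ : N → ℂ} (hθ : IsIrrCharacter N θ) (hinv : ∀ g, conjBy θ g = θ)
    (h1 : classInner (fun n : N => χ n) θ ≠ 0) :
    (fun n : N => χ n) = classInner (fun n : N => χ n) θ • θ := by
  conv_lhs => rw [hχ.clifford hθ h1, conjOrbit_of_invariant hinv, Finset.sum_singleton]

omit [Finite G] [Fintype N] in
theorem invariant_of_restrict_eq_smul {χ : G → ℂ} (hχ : IsClassFunction G χ) {θ : N → ℂ} {c : ℂ}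
    (hc : c ≠ 0) (h : (fun n : N => χ n) = c • θ) (g : G) : conjBy θ g = θ := by
  have := conjBy_restrict (N := N) hχ g
  rw [h, conjBy_smul] at this
  exact smul_right_injective _ hc this

omit hN [Finite G] in
theorem _root_.Cfsg.IsIrrCharacter.exists_restrict_constituent {χ : G → ℂ}
    (hχ : IsIrrCharacter G χ) :
    ∃ θ, IsIrrCharacter N θ ∧ classInner (fun n : N => χ n) θ ≠ 0 :=
  (hχ.isCharacter.restrict N).exists_irr_constituent fun h =>
    hχ.one_ne_zero (by simpa using congrFun h 1)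

omit hN in
theorem _root_.Cfsg.IsIrrCharacter.exists_over {θ : N → ℂ} (hθ : IsIrrCharacter N θ) :
    ∃ χ, IsIrrCharacter G χ ∧ classInner (fun n : N => χ n) θ ≠ 0 := by
  have := Fintype.ofFinite G
  obtain ⟨χ, hχ, h⟩ := (hθ.isCharacter.indFun (G := G)).exists_irr_constituent fun h => by
    have := congrFun h 1
    rw [indFun_one] at this
    exact mul_ne_zero (by exact_mod_cast N.index_ne_zero_of_finite) hθ.one_ne_zero this
  refine ⟨χ, hχ, ?_⟩
  rwa [Ne, classInner_eq_zero_comm, classInner_indFun_right N θ hχ.isClassFunction] at h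

end Clifford

section Hom

variable {N : Type*} [Group N] [Fintype N] [Finite G]

/-- Clifford's theorem in the invariant case, for a normal subgroup given by an embedding. -/
theorem _root_.Cfsg.IsIrrCharacter.clifford_hom {χ : G → ℂ} (hχ : IsIrrCharacter G χ)
    (ι : N →* G) (hι : Function.Injective ι) {θ : N → ℂ} (hθ : IsIrrCharacter N θ)
    (hinv : ∀ x n, ∃ n', x * ι n * x⁻¹ = ι n' ∧ θ n' = θ n)
    (h1 : classInner (fun n => χ (ι n)) θ ≠ 0) :
    (fun n => χ (ι n)) = classInner (fun n => χ (ι n)) θ • θ := by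
  have hK : ι.range.Normal := ⟨by
    rintro _ ⟨n, rfl⟩ x
    obtain ⟨n', h, -⟩ := hinv x n
    exact ⟨n', h.symm⟩⟩
  have := Fintype.ofFinite ι.range
  let e := MonoidHom.ofInjective hι
  have he : classInner (fun n : ι.range => χ n) (fun n => θ (e.symm n)) =
      classInner (fun n => χ (ι n)) θ := by
    rw [← classInner_comp_equiv e.toEquiv]
    simp [e, MonoidHom.ofInjective_apply]
  have h2 := hχ.clifford_invariant (hθ.comp_equiv e.symm) (fun g => by
    ext n
    obtain ⟨n, rfl⟩ := e.surjective n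
    obtain ⟨n', h, h'⟩ := hinv g n
    have : (⟨g * e n * g⁻¹, hK.conj_mem _ (e n).2 g⟩ : ι.range) = e n' := Subtype.ext h
    rw [conjBy_apply, this]
    simpa using h') (by rwa [he])
  ext n
  have := congrFun h2 (e n)
  rw [he] at this
  simpa [e, MonoidHom.ofInjective_apply] using this

end Hom

section Corr

variable {N : Subgroup G} [hN : N.Normal] [Fintype G] [Fintype N] {T : Subgroup G}

omit [Fintype G] in
theorem _root_.Cfsg.IsIrrCharacter.clifford_le [Finite G] (hNT : N ≤ T) {ψ : T → ℂ}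
    (hψ : IsIrrCharacter T ψ) {θ : N → ℂ} (hθ : IsIrrCharacter N θ) (hT : T ≤ inertia θ)
    (h1 : classInner (fun n : N => ψ ⟨n, hNT n.2⟩) θ ≠ 0) :
    (fun n : N => ψ ⟨n, hNT n.2⟩) = classInner (fun n : N => ψ ⟨n, hNT n.2⟩) θ • θ :=
  hψ.clifford_hom (Subgroup.inclusion hNT) (Subgroup.inclusion_injective hNT) hθ
    (fun x n => ⟨⟨x * n * (x : G)⁻¹, hN.conj_mem _ n.2 _⟩, rfl, congrFun (hT x.2) n⟩) h1

omit [Fintype N] in
theorem restrict_indFun_of_le (hNT : N ≤ T) (ψ : T → ℂ) :
    (fun n : N => indFun T ψ n) =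
      (Nat.card T : ℂ)⁻¹ • ∑ g, conjBy (fun n : N => ψ ⟨n, hNT n.2⟩) g := by
  ext n
  rw [indFun_apply']
  simp only [Pi.smul_apply, Finset.sum_apply, smul_eq_mul, conjBy_apply]
  congr 1
  exact Finset.sum_congr rfl fun g _ => extendByZero_of_mem T ψ _

theorem classInner_restrict_indFun_inertia {θ : N → ℂ} (hθ : IsIrrCharacter N θ)
    (hT : T = inertia θ) (hNT : N ≤ T) {ψ : T → ℂ} (hψ : IsIrrCharacter T ψ)
    (h1 : classInner (fun n : N => ψ ⟨n, hNT n.2⟩) θ ≠ 0) :
    classInner (fun n : N => indFun T ψ n) θ = classInner (fun n : N => ψ ⟨n, hNT n.2⟩) θ := by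
  classical
  rw [restrict_indFun_of_le hNT, classInner_smul_left, classInner_sum_left]
  conv_lhs => rw [hψ.clifford_le hNT hθ hT.le h1]
  simp only [conjBy_smul, classInner_smul_left, (hθ.conjBy _).classInner_eq hθ, ← Finset.mul_sum]
  rw [sum_ite_eq_card]
  change _ * (_ * (Nat.card (inertia θ) : ℂ)) = _
  rw [← hT, mul_left_comm, inv_mul_cancel₀ (card_ne_zero T), mul_one]

theorem classInner_indFun_inertia [Fintype T] {θ : N → ℂ} (hθ : IsIrrCharacter N θ)
    (hT : T = inertia θ) (hNT : N ≤ T) {ψ ψ' : T → ℂ} (hψ : IsIrrCharacter T ψ)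
    (hψ' : IsIrrCharacter T ψ') (h1 : classInner (fun n : N => ψ ⟨n, hNT n.2⟩) θ ≠ 0)
    (h2 : classInner (fun n : N => ψ' ⟨n, hNT n.2⟩) θ ≠ 0) :
    classInner (indFun T ψ) (indFun T ψ') = classInner ψ ψ' := by
  have hc := hψ.isCharacter.indFun (G := G)
  have h3 : classInner (fun t : T => indFun T ψ t) ψ ≠ 0 := by
    rw [← classInner_indFun_right T ψ hc.isClassFunction, Ne, classInner_self_eq_zero]
    intro h
    have := congrFun h 1
    rw [indFun_one] at this
    exact mul_ne_zero (by exact_mod_cast T.index_ne_zero_of_finite) hψ.one_ne_zero this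
  have h4 := (hc.restrict T).sub_irr hψ h3
  rw [classInner_indFun_right T ψ' hc.isClassFunction, ← sub_eq_zero, ← classInner_sub_left]
  by_contra h5
  have h6 := (h4.sub_irr hψ' h5).comp (Subgroup.inclusion hNT)
  have h7 := classInner_add_ne_zero_left (hψ'.isCharacter.comp (Subgroup.inclusion hNT)) h6
    hθ.isCharacter h2
  apply h7
  rw [← sub_eq_zero.2 (classInner_restrict_indFun_inertia hθ hT hNT hψ h1), ← classInner_sub_left]
  congr 1
  ext n
  simp [Subgroup.inclusion]

/-- Clifford correspondence: induction from the inertia group gives irreducible characters. -/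
theorem _root_.Cfsg.IsIrrCharacter.indFun_inertia {θ : N → ℂ} (hθ : IsIrrCharacter N θ)
    (hT : T = inertia θ) (hNT : N ≤ T) {ψ : T → ℂ} (hψ : IsIrrCharacter T ψ)
    (h1 : classInner (fun n : N => ψ ⟨n, hNT n.2⟩) θ ≠ 0) : IsIrrCharacter G (indFun T ψ) := by
  have := Fintype.ofFinite T
  refine hψ.isCharacter.indFun.isIrr_of_classInner_eq_one ?_
  rw [classInner_indFun_inertia hθ hT hNT hψ hψ h1 h1, hψ.classInner_self]

theorem indFun_inertia_injective {θ : N → ℂ} (hθ : IsIrrCharacter N θ)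
    (hT : T = inertia θ) (hNT : N ≤ T) {ψ ψ' : T → ℂ} (hψ : IsIrrCharacter T ψ)
    (hψ' : IsIrrCharacter T ψ') (h1 : classInner (fun n : N => ψ ⟨n, hNT n.2⟩) θ ≠ 0)
    (h2 : classInner (fun n : N => ψ' ⟨n, hNT n.2⟩) θ ≠ 0) (h : indFun T ψ = indFun T ψ') :
    ψ = ψ' := by
  have := Fintype.ofFinite T
  refine hψ.eq_of_classInner_ne_zero hψ' ?_
  rw [← classInner_indFun_inertia hθ hT hNT hψ hψ' h1 h2, ← h,
    (hθ.indFun_inertia hT hNT hψ h1).classInner_self]
  exact one_ne_zero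

omit hN [Fintype G] in
theorem _root_.Cfsg.IsCharacter.exists_constituent_over [Fintype T] (hNT : N ≤ T) {χ : T → ℂ}
    (hχ : IsCharacter T χ) {θ : N → ℂ}
    (h1 : classInner (fun n : N => χ ⟨n, hNT n.2⟩) θ ≠ 0) :
    ∃ ψ, IsIrrCharacter T ψ ∧ classInner χ ψ ≠ 0 ∧
      classInner (fun n : N => ψ ⟨n, hNT n.2⟩) θ ≠ 0 := by
  by_contra h
  push Not at h
  apply h1
  have : (fun n : N => χ ⟨n, hNT n.2⟩) = ∑ ψ : IrrCharacter T,
      classInner χ ψ • fun n : N => (ψ : T → ℂ) ⟨n, hNT n.2⟩ := by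
    ext n
    simpa using hχ.isClassFunction.apply_eq_sum_irr _
  rw [this, classInner_sum_left]
  refine Finset.sum_eq_zero fun ψ _ => ?_
  rw [classInner_smul_left]
  by_cases h2 : classInner χ ψ = 0
  · rw [h2, zero_mul]
  · rw [h _ ψ.2 h2, mul_zero]

/-- Clifford correspondence: every irreducible character over `θ` is induced from the inertia
group. -/
theorem _root_.Cfsg.IsIrrCharacter.exists_indFun_inertia {θ : N → ℂ} (hθ : IsIrrCharacter N θ)
    (hT : T = inertia θ) (hNT : N ≤ T) {χ : G → ℂ} (hχ : IsIrrCharacter G χ)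
    (h1 : classInner (fun n : N => χ n) θ ≠ 0) :
    ∃ ψ, IsIrrCharacter T ψ ∧ indFun T ψ = χ ∧
      classInner (fun n : N => ψ ⟨n, hNT n.2⟩) θ = classInner (fun n : N => χ n) θ := by
  have := Fintype.ofFinite T
  obtain ⟨ψ, hψ, h2, h3⟩ := (hχ.isCharacter.restrict T).exists_constituent_over hNT h1
  have h4 : indFun T ψ = χ := by
    refine ((hθ.indFun_inertia hT hNT hψ h3).eq_of_classInner_ne_zero hχ ?_)
    rwa [Ne, classInner_eq_zero_comm, classInner_indFun_right T ψ hχ.isClassFunction]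
  exact ⟨ψ, hψ, h4, by rw [← h4, classInner_restrict_indFun_inertia hθ hT hNT hψ h3]⟩

omit [Fintype N] in
/-- Either the restriction to `N` is homogeneous or the character is induced from a proper
subgroup containing `N`. -/
theorem _root_.Cfsg.IsIrrCharacter.homogeneous_or_induced {χ : G → ℂ} (hχ : IsIrrCharacter G χ)
    (N : Subgroup G) [N.Normal] :
    (∃ (θ : N → ℂ) (e : ℕ), IsIrrCharacter N θ ∧ (fun n : N => χ n) = (e : ℂ) • θ) ∨
      ∃ (T : Subgroup G) (ψ : T → ℂ), N ≤ T ∧ T ≠ ⊤ ∧ IsIrrCharacter T ψ ∧ indFun T ψ = χ := by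
  have := Fintype.ofFinite N
  obtain ⟨θ, hθ, h1⟩ := hχ.exists_restrict_constituent (N := N)
  by_cases hT : inertia θ = ⊤
  · obtain ⟨e, he⟩ := (hχ.isCharacter.restrict N).classInner_nat hθ.isCharacter
    exact Or.inl ⟨θ, e, hθ, by rw [← he]; exact hχ.clifford_invariant hθ (inertia_eq_top_iff.1 hT) h1⟩
  · obtain ⟨ψ, hψ, h2, -⟩ := hθ.exists_indFun_inertia rfl (le_inertia hθ.isClassFunction) hχ h1
    exact Or.inr ⟨_, ψ, le_inertia hθ.isClassFunction, hT, hψ, h2⟩

end Corr

section Gallagher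

variable [Fintype G]

theorem classInner_mul_mul_of_norm_eq {f χ : G → ℂ} (hf : IsCharacter G f) (hχ : IsCharacter G χ)
    (hχ1 : χ 1 ≠ 0) (h : classInner (f * χ) (f * χ) = classInner f f) {β γ : G → ℂ}
    (hβ : IsIrrCharacter G β) (hγ : IsIrrCharacter G γ) (hfβ : classInner f β ≠ 0)
    (hfγ : classInner f γ ≠ 0) : classInner (β * χ) (γ * χ) = classInner β γ := by
  classical
  obtain ⟨m, hm, hf'⟩ := hf.exists_mult
  choose k hk using fun β γ : IrrCharacter G =>
    (β.2.isCharacter.mul hχ).classInner_nat (γ.2.isCharacter.mul hχ)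
  have hk1 : ∀ β, 1 ≤ k β β := fun β => by
    rw [Nat.one_le_iff_ne_zero]
    intro h0
    have := hk β β
    rw [h0, Nat.cast_zero, classInner_self_eq_zero] at this
    exact mul_ne_zero β.2.one_ne_zero hχ1 (congrFun this 1)
  have h1 : ∑ x : IrrCharacter G × IrrCharacter G, m x.1 * m x.2 * (if x.1 = x.2 then 1 else 0) =
      ∑ x : IrrCharacter G × IrrCharacter G, m x.1 * m x.2 * k x.1 x.2 := by
    have e1 : f * χ = ∑ β : IrrCharacter G, (m β : ℂ) • ((β : G → ℂ) * χ) := by
      conv_lhs => rw [hf']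
      rw [Finset.sum_mul]
      simp
    rw [e1] at h
    conv_rhs at h => rw [hf']
    simp only [classInner_sum_left, classInner_sum_right, classInner_smul_left,
      classInner_smul_right, hk, irr_classInner, map_natCast] at h
    rw [Fintype.sum_prod_type_right, Fintype.sum_prod_type_right]
    apply Nat.cast_injective (R := ℂ)
    push_cast
    simp only [Finset.mul_sum] at h
    convert h.symm using 3 <;> ring
  have h2 := (Finset.sum_eq_sum_iff_of_le (fun x _ => Nat.mul_le_mul_left _ (by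
    split_ifs with e
    · rw [← e]; exact hk1 _
    · exact Nat.zero_le _))).1 h1 (⟨β, hβ⟩, ⟨γ, hγ⟩) (Finset.mem_univ _)
  have h3 : m ⟨β, hβ⟩ * m ⟨γ, hγ⟩ ≠ 0 := by
    refine mul_ne_zero (fun e => hfβ ?_) (fun e => hfγ ?_)
    · rw [hm ⟨β, hβ⟩, e, Nat.cast_zero]
    · rw [hm ⟨γ, hγ⟩, e, Nat.cast_zero]
  have h4 := Nat.eq_of_mul_eq_mul_left (Nat.pos_of_ne_zero h3) h2
  rw [hk ⟨β, hβ⟩ ⟨γ, hγ⟩, ← h4, irr_classInner ⟨β, hβ⟩ ⟨γ, hγ⟩]
  split_ifs <;> simp

variable {N : Subgroup G} [hN : N.Normal]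

theorem gallagher_classInner {φ : N → ℂ} (hφ : IsIrrCharacter N φ) (hinv : ∀ g, conjBy φ g = φ)
    {χ : G → ℂ} (hχ : IsCharacter G χ) (hprod : IsIrrCharacter N (φ * fun n : N => χ n))
    {β γ : G → ℂ} (hβ : IsIrrCharacter G β) (hγ : IsIrrCharacter G γ)
    (h1 : classInner (indFun N φ) β ≠ 0) (h2 : classInner (indFun N φ) γ ≠ 0) :
    classInner (β * χ) (γ * χ) = classInner β γ := by
  refine classInner_mul_mul_of_norm_eq hφ.isCharacter.indFun hχ (fun h => hprod.one_ne_zero ?_)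
    ?_ hβ hγ h1 h2
  · simp [h]
  · rw [← indFun_mul_restrict N φ hχ.isClassFunction, classInner_indFun_self_of_invariant hφ hinv,
      classInner_indFun_self_of_invariant hprod]
    intro g
    rw [conjBy_mul_fun, hinv, conjBy_restrict hχ.isClassFunction]

theorem gallagher_exists_gen {φ : N → ℂ} (hφ : IsIrrCharacter N φ) (hinv : ∀ g, conjBy φ g = φ)
    {χ : G → ℂ} (hχ : IsCharacter G χ) (hprod : IsIrrCharacter N (φ * fun n : N => χ n))
    {ψ : G → ℂ} (hψ : IsIrrCharacter G ψ)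
    (h : classInner (indFun N (φ * fun n : N => χ n)) ψ ≠ 0) :
    ∃ β, IsIrrCharacter G β ∧ classInner (indFun N φ) β ≠ 0 ∧ β * χ = ψ := by
  rw [indFun_mul_restrict N φ hχ.isClassFunction,
    (isClassFunction_indFun N φ).eq_sum_irr, Finset.sum_mul, classInner_sum_left] at h
  obtain ⟨β, -, hβ⟩ := Finset.exists_ne_zero_of_sum_ne_zero h
  rw [smul_mul_assoc, classInner_smul_left] at hβ
  have h1 := left_ne_zero_of_mul hβ
  refine ⟨β, β.2, h1, IsIrrCharacter.eq_of_classInner_ne_zero ?_ hψ (right_ne_zero_of_mul hβ)⟩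
  refine (β.2.isCharacter.mul hχ).isIrr_of_classInner_eq_one ?_
  rw [gallagher_classInner hφ hinv hχ hprod β.2 β.2 h1 h1, β.2.classInner_self]

theorem classInner_indFun_one_ne_zero_iff {β : G → ℂ} (hβ : IsIrrCharacter G β) :
    classInner (indFun N fun _ => 1) β ≠ 0 ↔ ∀ n ∈ N, β n = β 1 := by
  have := Fintype.ofFinite N
  rw [Ne, classInner_eq_zero_comm, classInner_indFun_right N _ hβ.isClassFunction]
  refine ⟨fun h n hn => hβ.apply_eq_of_classInner_one N h hn, fun h => ?_⟩
  rw [classInner_one_right, Finset.sum_congr rfl (g := fun _ => β 1) (fun (n : N) _ => h n n.2)]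
  simp [hβ.one_ne_zero]

omit [Fintype G] in
/-- Gallagher's theorem: the products are irreducible and distinct. -/
theorem gallagher_mul [Finite G] {χ : G → ℂ} (hχ : IsCharacter G χ)
    (hχN : IsIrrCharacter N fun n : N => χ n) {β : G → ℂ} (hβ : IsIrrCharacter G β)
    (h : ∀ n ∈ N, β n = β 1) : IsIrrCharacter G (β * χ) := by
  have := Fintype.ofFinite G
  refine (hβ.isCharacter.mul hχ).isIrr_of_classInner_eq_one ?_
  have h1 := (classInner_indFun_one_ne_zero_iff hβ).2 h
  rw [gallagher_classInner isIrrCharacter_one (fun _ => rfl) hχ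
    (by simpa [← Pi.one_def] using hχN) hβ hβ h1 h1, hβ.classInner_self]

omit [Fintype G] in
theorem gallagher_inj [Finite G] {χ : G → ℂ} (hχ : IsCharacter G χ)
    (hχN : IsIrrCharacter N fun n : N => χ n) {β γ : G → ℂ} (hβ : IsIrrCharacter G β)
    (hγ : IsIrrCharacter G γ) (h : ∀ n ∈ N, β n = β 1) (h' : ∀ n ∈ N, γ n = γ 1)
    (e : β * χ = γ * χ) : β = γ := by
  have := Fintype.ofFinite G
  refine hβ.eq_of_classInner_ne_zero hγ ?_
  rw [← gallagher_classInner isIrrCharacter_one (fun _ => rfl) hχ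
    (by simpa [← Pi.one_def] using hχN) hβ hγ ((classInner_indFun_one_ne_zero_iff hβ).2 h)
    ((classInner_indFun_one_ne_zero_iff hγ).2 h'), ← e,
    (gallagher_mul hχ hχN hβ h).classInner_self]
  exact one_ne_zero

omit [Fintype G] in
theorem gallagher_exists [Finite G] [Fintype N] {χ : G → ℂ} (hχ : IsCharacter G χ)
    (hχN : IsIrrCharacter N fun n : N => χ n) {ψ : G → ℂ} (hψ : IsIrrCharacter G ψ)
    (h : classInner (fun n : N => ψ n) (fun n : N => χ n) ≠ 0) :
    ∃ β, IsIrrCharacter G β ∧ (∀ n ∈ N, β n = β 1) ∧ β * χ = ψ := by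
  have := Fintype.ofFinite G
  obtain ⟨β, hβ, h1, h2⟩ := gallagher_exists_gen isIrrCharacter_one (fun _ => rfl) hχ
    (by simpa [← Pi.one_def] using hχN) hψ (by
      rw [Ne, classInner_eq_zero_comm, classInner_indFun_right N _ hψ.isClassFunction]
      simpa [← Pi.one_def] using h)
  exact ⟨β, hβ, (classInner_indFun_one_ne_zero_iff hβ).1 h1, h2⟩

omit [Fintype G] in
/-- Two extensions of an irreducible character of a normal subgroup differ by a linear
character. -/
theorem gallagher_extension [Finite G] {χ ψ : G → ℂ} (hχ : IsCharacter G χ)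
    (hχN : IsIrrCharacter N fun n : N => χ n) (hψ : IsCharacter G ψ) (h : ∀ n ∈ N, ψ n = χ n) :
    ∃ l : G →* ℂˣ, (∀ n ∈ N, l n = 1) ∧ ∀ g, ψ g = l g * χ g := by
  have := Fintype.ofFinite N
  have e : (fun n : N => ψ n) = fun n : N => χ n := funext fun n => h n n.2
  obtain ⟨β, hβ, h1, h2⟩ := gallagher_exists hχ hχN
    (hψ.isIrr_of_comp N.subtype (by simpa [e] using hχN))
    (by rw [e, hχN.classInner_self]; exact one_ne_zero)
  have h3 : β 1 = 1 := by
    have := congrFun h2 1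
    rw [h 1 N.one_mem] at this
    exact (mul_eq_right₀ hχN.one_ne_zero).1 this
  obtain ⟨l, rfl⟩ := hβ.isCharacter.exists_hom h3
  refine ⟨l, fun n hn => Units.ext (by simpa using h1 n hn), fun g => by rw [← h2]; rfl⟩

end Gallagher

section GallagherHom

variable {N : Type*} [Group N] [Finite G]

omit [Finite G] in
theorem isIrr_range_iff [Finite N] (ι : N →* G) {χ : G → ℂ} (hχ : IsCharacter G χ) :
    IsIrrCharacter ι.range (fun n => χ n) ↔ IsIrrCharacter N (fun n => χ (ι n)) :=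
  ⟨fun h => h.comp_of_surjective ι.rangeRestrict ι.rangeRestrict_surjective,
    fun h => (hχ.restrict _).isIrr_of_comp ι.rangeRestrict h⟩

theorem gallagher_exists_hom [Fintype N] (ι : N →* G) (hι : ι.range.Normal) {χ : G → ℂ}
    (hχ : IsCharacter G χ) (hχN : IsIrrCharacter N fun n => χ (ι n)) {ψ : G → ℂ}
    (hψ : IsIrrCharacter G ψ) (h : classInner (fun n => ψ (ι n)) (fun n => χ (ι n)) ≠ 0) :
    ∃ β, IsIrrCharacter G β ∧ (∀ n, β (ι n) = β 1) ∧ β * χ = ψ := by
  have := Fintype.ofFinite ι.range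
  obtain ⟨β, hβ, h1, h2⟩ := gallagher_exists hχ ((isIrr_range_iff ι hχ).2 hχN) hψ (by
    rw [← classInner_comp_of_surjective ι.rangeRestrict ι.rangeRestrict_surjective]
    exact h)
  exact ⟨β, hβ, fun n => h1 _ ⟨n, rfl⟩, h2⟩

theorem gallagher_extension_hom [Finite N] (ι : N →* G) (hι : ι.range.Normal) {χ ψ : G → ℂ}
    (hχ : IsCharacter G χ) (hχN : IsIrrCharacter N fun n => χ (ι n)) (hψ : IsCharacter G ψ)
    (h : ∀ n, ψ (ι n) = χ (ι n)) :
    ∃ l : G →* ℂˣ, (∀ n, l (ι n) = 1) ∧ ∀ g, ψ g = l g * χ g := by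
  obtain ⟨l, h1, h2⟩ := gallagher_extension hχ ((isIrr_range_iff ι hχ).2 hχN) hψ
    (by rintro _ ⟨n, rfl⟩; exact h n)
  exact ⟨l, fun n => h1 _ ⟨n, rfl⟩, h2⟩

end GallagherHom

end Cfsg.Agent.Char
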