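import Mathlib
import Cfsg.Prelude.Def_Characters
import Cfsg.Agent.Char.Column

/-!
# Automorphisms of `ℂ` and the Galois action on characters.
-/

set_option autoImplicit false

namespace Cfsg.Agent.Char

open Representation Module Cfsg Polynomial
open scoped ComplexConjugate

section Aut

theorem exists_ringEquiv_extend (K : IntermediateField ℚ ℂ) (τ : K ≃+* K) :
    ∃ σ : ℂ ≃+* ℂ, ∀ x : K, σ x = τ x := by
  obtain ⟨s, hs⟩ := exists_isTranscendenceBasis K ℂ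
  have := IsAlgClosed.isAlgClosure_of_transcendence_basis _ hs
  let e : Algebra.adjoin K (Set.range ((↑) : s → ℂ)) ≃+* Algebra.adjoin K (Set.range ((↑) : s → ℂ)) :=
    (hs.1.aevalEquiv.symm.toRingEquiv.trans (MvPolynomial.mapEquiv s τ)).trans
      hs.1.aevalEquiv.toRingEquiv
  refine ⟨IsAlgClosure.equivOfEquiv ℂ ℂ e, fun x => ?_⟩
  have h1 : (x : ℂ) = algebraMap (Algebra.adjoin K (Set.range ((↑) : s → ℂ))) ℂ
      (hs.1.aevalEquiv (MvPolynomial.C x)) := by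
    rw [AlgebraicIndependent.algebraMap_aevalEquiv]; simp
  rw [h1, IsAlgClosure.equivOfEquiv_algebraMap]
  simp [e]

theorem isGalois_algebraicClosure : IsGalois ℚ (algebraicClosure ℚ ℂ) := by
  have : IsAlgClosure ℚ (algebraicClosure ℚ ℂ) := algebraicClosure.isAlgClosure ℚ ℂ
  infer_instance

theorem exists_ringEquiv_of_root {z w : ℂ} (hz : IsIntegral ℚ z)
    (hw : aeval w (minpoly ℚ z) = 0) : ∃ σ : ℂ ≃+* ℂ, σ z = w := by
  let K := algebraicClosure ℚ ℂ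
  have hw' : IsIntegral ℚ w := ⟨minpoly ℚ z, minpoly.monic hz, hw⟩
  let z' : K := ⟨z, mem_algebraicClosure_iff'.2 hz⟩
  let w' : K := ⟨w, mem_algebraicClosure_iff'.2 hw'⟩
  have hmin : minpoly ℚ z' = minpoly ℚ z := (IntermediateField.minpoly_eq z')
  have : IsGalois ℚ K := isGalois_algebraicClosure
  obtain ⟨τ, hτ⟩ := minpoly.exists_algEquiv_of_root' (K := ℚ) (x := w') (y := z')
    (Algebra.IsAlgebraic.isAlgebraic _) (by
      apply (algebraMap K ℂ).injective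
      rw [← aeval_algebraMap_apply, hmin, map_zero]
      exact hw)
  obtain ⟨σ, hσ⟩ := exists_ringEquiv_extend K τ.toRingEquiv
  exact ⟨σ, (hσ z').trans (congrArg Subtype.val hτ)⟩

theorem exists_ringEquiv_pow {n m : ℕ} (hn : n ≠ 0) (h : m.Coprime n) :
    ∃ σ : ℂ ≃+* ℂ, ∀ z : ℂ, z ^ n = 1 → σ z = z ^ m := by
  have hζ := Complex.isPrimitiveRoot_exp n hn
  set ζ := Complex.exp (2 * Real.pi * Complex.I / n)
  have hζm := hζ.pow_of_coprime m h
  have hpos := Nat.pos_of_ne_zero hn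
  obtain ⟨σ, hσ⟩ := exists_ringEquiv_of_root (z := ζ) (w := ζ ^ m)
    (hζ.isIntegral hpos).tower_top (by
      rw [← cyclotomic_eq_minpoly_rat hζ hpos, cyclotomic_eq_minpoly_rat hζm hpos]
      exact minpoly.aeval _ _)
  refine ⟨σ, fun z hz => ?_⟩
  have : NeZero n := ⟨hn⟩
  obtain ⟨i, -, rfl⟩ := hζ.eq_pow_of_pow_eq_one hz
  rw [map_pow, hσ, ← pow_mul, ← pow_mul, mul_comm]

theorem ringHom_exists_pow (σ : ℂ →+* ℂ) {n : ℕ} (hn : n ≠ 0) :
    ∃ m : ℕ, m.Coprime n ∧ ∀ z : ℂ, z ^ n = 1 → σ z = z ^ m := by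
  have hζ := Complex.isPrimitiveRoot_exp n hn
  set ζ := Complex.exp (2 * Real.pi * Complex.I / n)
  have : NeZero n := ⟨hn⟩
  have h1 := hζ.map_of_injective σ.injective
  obtain ⟨m, -, hm⟩ := hζ.eq_pow_of_pow_eq_one h1.pow_eq_one
  refine ⟨m, ?_, fun z hz => ?_⟩
  · rw [← hm] at h1
    exact (hζ.pow_iff_coprime (Nat.pos_of_ne_zero hn) m).1 h1
  · obtain ⟨i, -, rfl⟩ := hζ.eq_pow_of_pow_eq_one hz
    rw [map_pow, ← hm, ← pow_mul, ← pow_mul, mul_comm]

theorem exists_rat_of_fixed {z : ℂ} (hz : IsIntegral ℚ z) (h : ∀ σ : ℂ ≃+* ℂ, σ z = z) :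
    ∃ q : ℚ, z = q := by
  let K := algebraicClosure ℚ ℂ
  let z' : K := ⟨z, mem_algebraicClosure_iff'.2 hz⟩
  have : IsGalois ℚ K := isGalois_algebraicClosure
  obtain ⟨q, hq⟩ := (InfiniteGalois.mem_range_algebraMap_iff_fixed (k := ℚ) z').2 fun τ => by
    obtain ⟨σ, hσ⟩ := exists_ringEquiv_extend K τ.toRingEquiv
    exact Subtype.ext ((hσ z').symm.trans (h σ))
  exact ⟨q, (congrArg Subtype.val hq).symm⟩

theorem exists_int_of_isIntegral_rat {q : ℚ} (h : IsIntegral ℤ (q : ℂ)) :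
    ∃ n : ℤ, (q : ℂ) = n := by
  have h1 : IsIntegral ℤ q :=
    (isIntegral_algebraMap_iff (R := ℤ) (A := ℚ) (B := ℂ) (algebraMap ℚ ℂ).injective).1 h
  obtain ⟨n, hn⟩ := IsIntegrallyClosed.isIntegral_iff.1 h1
  exact ⟨n, by rw [← hn]; simp⟩

theorem exists_int_of_fixed {z : ℂ} (hz : IsIntegral ℤ z) (h : ∀ σ : ℂ ≃+* ℂ, σ z = z) :
    ∃ n : ℤ, z = n := by
  obtain ⟨q, rfl⟩ := exists_rat_of_fixed hz.tower_top h
  exact exists_int_of_isIntegral_rat hz

theorem int_dvd_of_isIntegral_div {a b : ℤ} (hb : b ≠ 0) (h : IsIntegral ℤ ((a : ℂ) / b)) :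
    b ∣ a := by
  obtain ⟨n, hn⟩ := exists_int_of_isIntegral_rat (q := (a : ℚ) / b) (by simpa using h)
  have hb' : (b : ℂ) ≠ 0 := by exact_mod_cast hb
  push_cast at hn
  rw [div_eq_iff hb'] at hn
  exact ⟨n, by rw [mul_comm]; exact_mod_cast hn⟩

theorem nat_dvd_of_isIntegral_div {a b : ℕ} (hb : b ≠ 0) (h : IsIntegral ℤ ((a : ℂ) / b)) :
    b ∣ a := by
  have := int_dvd_of_isIntegral_div (a := a) (b := b) (by exact_mod_cast hb) (by simpa using h)
  exact_mod_cast this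

/-- Kronecker: an algebraic integer with all conjugates in the unit disc is zero or a root of
unity. -/
theorem eq_zero_or_pow_eq_one {z : ℂ} (hz : IsIntegral ℤ z) (h : ∀ σ : ℂ ≃+* ℂ, ‖σ z‖ ≤ 1) :
    z = 0 ∨ ∃ n, 0 < n ∧ z ^ n = 1 := by
  by_cases hz0 : z = 0
  · exact Or.inl hz0
  right
  let K := IntermediateField.adjoin ℚ {z}
  have : NumberField K :=
    { to_charZero := K.charZero
      to_finiteDimensional := IntermediateField.adjoin.finiteDimensional hz.tower_top }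
  let y : K := ⟨z, IntermediateField.mem_adjoin_simple_self ℚ z⟩
  suffices ∃ (n : ℕ) (_ : 0 < n), y ^ n = 1 by
    obtain ⟨n, hn₀, hn₁⟩ := this
    exact ⟨n, hn₀, congrArg (algebraMap K ℂ) hn₁⟩
  refine NumberField.Embeddings.pow_eq_one_of_norm_le_one (x := y) K ℂ
    (Subtype.coe_ne_coe.mp hz0) (IntermediateField.coe_isIntegral_iff.mp hz) fun φ => ?_
  obtain ⟨σ, hσ⟩ := exists_ringEquiv_of_root (z := z) (w := φ y) hz.tower_top (by
    have h1 : minpoly ℚ y = minpoly ℚ z := IntermediateField.minpoly_eq y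
    rw [← h1]
    have := aeval_algHom_apply φ.toRatAlgHom y (minpoly ℚ y)
    rw [minpoly.aeval, map_zero] at this
    exact this)
  rw [← hσ]
  exact h σ

theorem eq_zero_or_norm_eq_one {z : ℂ} (hz : IsIntegral ℤ z) (h : ∀ σ : ℂ ≃+* ℂ, ‖σ z‖ ≤ 1) :
    z = 0 ∨ ‖z‖ = 1 := by
  rcases eq_zero_or_pow_eq_one hz h with h1 | ⟨n, hn, h1⟩
  · exact Or.inl h1
  · exact Or.inr (Complex.norm_eq_one_of_pow_eq_one h1 hn.ne')

end Aut

section Char

variable {G : Type*} [Group G]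

theorem _root_.Cfsg.IsCharacter.map_ringHom {χ : G → ℂ} (h : IsCharacter G χ) (σ : ℂ →+* ℂ) :
    IsCharacter G (fun g => σ (χ g)) := by
  obtain ⟨n, ρ, rfl⟩ := h
  let τ : Representation ℂ G (Fin n → ℂ) :=
    ((Matrix.toLinAlgEquiv' (R := ℂ) (n := Fin n)).toMulEquiv.toMonoidHom.comp
      (σ.mapMatrix.toMonoidHom.comp
        ((LinearMap.toMatrixAlgEquiv' (R := ℂ) (n := Fin n)).toMulEquiv.toMonoidHom.comp ρ)))
  refine ⟨n, τ, ?_⟩
  ext g
  have e1 : τ g = Matrix.toLin' ((LinearMap.toMatrix' (ρ g)).map σ) := rfl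
  simp only [character, e1, Matrix.trace_toLin'_eq]
  rw [LinearMap.trace_eq_matrix_trace ℂ (Pi.basisFun ℂ (Fin n)), LinearMap.toMatrix_eq_toMatrix']
  simp [Matrix.trace]

theorem _root_.Cfsg.IsGeneralizedCharacter.map_ringHom {χ : G → ℂ}
    (h : IsGeneralizedCharacter G χ) (σ : ℂ →+* ℂ) :
    IsGeneralizedCharacter G (fun g => σ (χ g)) := by
  obtain ⟨φ, ψ, h1, h2, rfl⟩ := h
  exact ⟨_, _, h1.map_ringHom σ, h2.map_ringHom σ, by ext; simp⟩

theorem ringHom_classInner [Fintype G] (φ : G → ℂ) {ψ : G → ℂ} (h : IsGeneralizedCharacter G ψ)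
    (σ : ℂ →+* ℂ) :
    σ (classInner φ ψ) = classInner (fun g => σ (φ g)) (fun g => σ (ψ g)) := by
  simp only [classInner, ← h.apply_inv, ← (h.map_ringHom σ).apply_inv]
  simp

theorem classInner_map_ringHom [Fintype G] {φ ψ : G → ℂ} (h' : IsGeneralizedCharacter G φ)
    (h : IsGeneralizedCharacter G ψ) (σ : ℂ →+* ℂ) :
    classInner (fun g => σ (φ g)) (fun g => σ (ψ g)) = classInner φ ψ := by
  rw [← ringHom_classInner φ h]
  obtain ⟨n, hn⟩ := h'.classInner_int h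
  rw [hn]; simp

theorem _root_.Cfsg.IsIrrCharacter.map_ringHom [Finite G] {χ : G → ℂ} (h : IsIrrCharacter G χ)
    (σ : ℂ →+* ℂ) : IsIrrCharacter G (fun g => σ (χ g)) := by
  have := Fintype.ofFinite G
  refine (h.isCharacter.map_ringHom σ).isIrr_of_classInner_eq_one ?_
  rw [classInner_map_ringHom h.isGen h.isGen, h.classInner_self]

theorem _root_.Cfsg.IsCharacter.ringHom_apply [Finite G] {χ : G → ℂ} (h : IsCharacter G χ)
    (σ : ℂ →+* ℂ) {g : G} {m : ℕ} (hσ : ∀ z : ℂ, z ^ orderOf g = 1 → σ z = z ^ m) :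
    σ (χ g) = χ (g ^ m) := by
  obtain ⟨n, ε, -, h1, h2, -⟩ := h.exists_eigenvalues g
  have e := h2 1
  rw [pow_one] at e
  rw [e, h2 m, map_sum]
  exact Finset.sum_congr rfl fun i _ => by rw [pow_one, hσ _ (h1 i)]

theorem _root_.Cfsg.IsGeneralizedCharacter.ringHom_apply [Finite G] {χ : G → ℂ}
    (h : IsGeneralizedCharacter G χ)
    (σ : ℂ →+* ℂ) {g : G} {m : ℕ} (hσ : ∀ z : ℂ, z ^ orderOf g = 1 → σ z = z ^ m) :
    σ (χ g) = χ (g ^ m) := by
  obtain ⟨φ, ψ, h1, h2, rfl⟩ := h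
  simp [h1.ringHom_apply σ hσ, h2.ringHom_apply σ hσ]

theorem pow_eq_one_of_pow_orderOf {g : G} {z : ℂ} {n : ℕ} (hn : orderOf g ∣ n)
    (h : z ^ orderOf g = 1) : z ^ n = 1 := by
  obtain ⟨k, rfl⟩ := hn
  rw [pow_mul, h, one_pow]

theorem _root_.Cfsg.IsGeneralizedCharacter.ringHom_apply' [Finite G] {χ : G → ℂ}
    (h : IsGeneralizedCharacter G χ) (σ : ℂ →+* ℂ) {n m : ℕ}
    (hσ : ∀ z : ℂ, z ^ n = 1 → σ z = z ^ m) {g : G} (hg : orderOf g ∣ n) :
    σ (χ g) = χ (g ^ m) :=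
  h.ringHom_apply σ fun z hz => hσ z (pow_eq_one_of_pow_orderOf hg hz)

/-- Every automorphism of `ℂ` acts on character values through a power map. -/
theorem ringHom_exists_pow_char [Finite G] (σ : ℂ →+* ℂ) :
    ∃ m : ℕ, m.Coprime (Nat.card G) ∧
      ∀ χ, IsGeneralizedCharacter G χ → ∀ g, σ (χ g) = χ (g ^ m) := by
  obtain ⟨m, h1, h2⟩ := ringHom_exists_pow σ (n := Nat.card G) Nat.card_pos.ne'
  exact ⟨m, h1, fun χ hχ g => hχ.ringHom_apply' σ h2 (orderOf_dvd_natCard g)⟩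

theorem exists_ringEquiv_pow_char [Finite G] {m : ℕ} (hm : m.Coprime (Nat.card G)) :
    ∃ σ : ℂ ≃+* ℂ, ∀ χ, IsGeneralizedCharacter G χ → ∀ g, σ (χ g) = χ (g ^ m) := by
  obtain ⟨σ, hσ⟩ := exists_ringEquiv_pow (n := Nat.card G) Nat.card_pos.ne' hm
  exact ⟨σ, fun χ hχ g => hχ.ringHom_apply' σ.toRingHom hσ (orderOf_dvd_natCard g)⟩

theorem _root_.Cfsg.IsCharacter.comp_pow [Finite G] {χ : G → ℂ} (h : IsCharacter G χ) {m : ℕ}
    (hm : m.Coprime (Nat.card G)) : IsCharacter G (fun g => χ (g ^ m)) := by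
  obtain ⟨σ, hσ⟩ := exists_ringEquiv_pow_char hm
  simpa only [← hσ χ h.isGen] using! h.map_ringHom σ.toRingHom

theorem _root_.Cfsg.IsIrrCharacter.comp_pow [Finite G] {χ : G → ℂ} (h : IsIrrCharacter G χ)
    {m : ℕ} (hm : m.Coprime (Nat.card G)) : IsIrrCharacter G (fun g => χ (g ^ m)) := by
  obtain ⟨σ, hσ⟩ := exists_ringEquiv_pow_char hm
  simpa only [← hσ χ h.isGen] using! h.map_ringHom σ.toRingHom

/-- A generalized character value fixed by all power maps is an integer. -/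
theorem _root_.Cfsg.IsGeneralizedCharacter.exists_int_of_pow [Finite G] {χ : G → ℂ}
    (h : IsGeneralizedCharacter G χ) (g : G)
    (hg : ∀ m : ℕ, m.Coprime (orderOf g) → χ (g ^ m) = χ g) : ∃ n : ℤ, χ g = n := by
  refine exists_int_of_fixed (h.isIntegral g) fun σ => ?_
  obtain ⟨m, h1, h2⟩ := ringHom_exists_pow σ.toRingHom (orderOf_pos g).ne'
  exact (h.ringHom_apply σ.toRingHom h2).trans (hg m h1)

end Char

end Cfsg.Agent.Char
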