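import Mathlib
import Cfsg.Prelude.Def_Characters
import Cfsg.Agent.Char.Galois

/-!
# Integrality: central characters, degrees, Burnside's theorems.
-/

set_option autoImplicit false

namespace Cfsg.Agent.Char

open Representation Module Cfsg
open scoped ComplexConjugate

variable {G : Type*} [Group G]

theorem sum_eq_sum_cosets {M : Type*} [AddCommMonoid M] [Fintype G] (H : Subgroup G) [Fintype H]
    [Fintype (G ⧸ H)] (F : G → M) : ∑ g, F g = ∑ q : G ⧸ H, ∑ h : H, F (q.out * h) := by
  rw [← Fintype.sum_prod_type']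
  symm
  refine Fintype.sum_bijective (fun p : (G ⧸ H) × H => p.1.out * p.2) ?_ _ _ (fun _ => rfl)
  rw [Fintype.bijective_iff_injective_and_card]
  constructor
  · rintro ⟨q, h⟩ ⟨q', h'⟩ e
    have e1 : q = q' := by
      have := congrArg (QuotientGroup.mk (s := H)) e
      simpa using this
    subst e1
    simpa using e
  · rw [Fintype.card_prod, ← Nat.card_eq_fintype_card, ← Nat.card_eq_fintype_card,
      ← Nat.card_eq_fintype_card, ← Subgroup.card_eq_card_quotient_mul_card_subgroup]

theorem isIntegral_sum_smul_rep [Finite G] {V : Type*} [AddCommGroup V] [Module ℂ V]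
    (ρ : Representation ℂ G V) {ι : Type*} (s : Finset ι) (c : ι → ℂ) (t : ι → G)
    (hc : ∀ i, IsIntegral ℤ (c i)) : IsIntegral ℤ (∑ i ∈ s, c i • ρ (t i)) := by
  let A := integralClosure ℤ ℂ
  let x : MonoidAlgebra A G := ∑ i ∈ s, MonoidAlgebra.single (t i) ⟨c i, hc i⟩
  have hx : IsIntegral A x := Algebra.IsIntegral.isIntegral x
  have hx' := hx.map (MonoidAlgebra.lift A (Module.End ℂ V) G ρ)
  have := isIntegral_trans (R := ℤ) _ hx'
  convert this
  simp [x, Subalgebra.smul_def]

theorem isIntegral_of_smul_one {V : Type*} [AddCommGroup V] [Module ℂ V] [Nontrivial V] {c : ℂ}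
    (h : IsIntegral ℤ (c • (1 : V →ₗ[ℂ] V))) : IsIntegral ℤ c := by
  rw [← Algebra.algebraMap_eq_smul_one] at h
  exact (isIntegral_algebraMap_iff (algebraMap ℂ (Module.End ℂ V)).injective).1 h

/-- Central characters take algebraic integer values. -/
theorem _root_.Cfsg.IsIrrCharacter.isIntegral_sum_div [Fintype G] {χ f : G → ℂ}
    (h : IsIrrCharacter G χ) (hf : IsClassFunction G f) (hi : ∀ g, IsIntegral ℤ (f g)) :
    IsIntegral ℤ ((∑ g, f g * χ g) / χ 1) := by
  obtain ⟨n, ρ, hρ, rfl⟩ := h
  have := nontrivial_of_isIrreducible ρ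
  have h1 := isIntegral_sum_smul_rep ρ Finset.univ f id hi
  simp only [id] at h1
  rw [sum_smul_rep_eq ρ hf] at h1
  exact isIntegral_of_smul_one h1

theorem _root_.Cfsg.IsIrrCharacter.isIntegral_central [Finite G] {χ : G → ℂ}
    (h : IsIrrCharacter G χ) (g : G) :
    IsIntegral ℤ (((Subgroup.centralizer ({g} : Set G)).index : ℂ) * χ g / χ 1) := by
  have := Fintype.ofFinite G
  rw [← sum_classInd_mul g h.isClassFunction]
  refine h.isIntegral_sum_div (isClassFunction_classInd g) fun x => ?_
  unfold classInd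
  split_ifs
  · exact isIntegral_one
  · exact isIntegral_zero

/-- The degree of an irreducible character divides the index of any subgroup acting by scalars. -/
theorem _root_.Cfsg.IsIrrCharacter.degree_dvd_index [Finite G] {χ : G → ℂ}
    (h : IsIrrCharacter G χ) {d : ℕ} (hd : χ 1 = d) (A : Subgroup G)
    (hA : ∀ a ∈ A, ‖χ a‖ = ‖χ 1‖) : d ∣ A.index := by
  have := Fintype.ofFinite G
  have := Fintype.ofFinite A
  have := Fintype.ofFinite (G ⧸ A)
  have h0 := h.one_ne_zero
  have hχ := h.isCharacter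
  have hself := h.classInner_self
  obtain ⟨n, ρ, hρ, rfl⟩ := h
  have := nontrivial_of_isIrreducible ρ
  have h1 := isIntegral_sum_smul_rep ρ Finset.univ (fun q : G ⧸ A => conj (ρ.character q.out))
    (fun q => q.out) (fun q => hχ.conj.isIntegral _)
  have h2 := sum_smul_rep_eq ρ hχ.isClassFunction.conj
  have h3 : ∑ g, conj (ρ.character g) * ρ.character g = Nat.card G := by
    have := card_mul_classInner ρ.character ρ.character
    rw [hself, mul_one] at this
    rw [this]
    exact Finset.sum_congr rfl fun _ _ => mul_comm _ _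
  rw [h3, sum_eq_sum_cosets A] at h2
  have h4 : ∀ (t : G) (a : A), conj (ρ.character (t * a)) • ρ (t * a) =
      conj (ρ.character t) • ρ t := fun t a => by
    obtain ⟨ω, hω, e⟩ := rep_eq_smul_of_norm_char_eq ρ a (by rw [hA a a.2]; simp)
    have e1 : ρ (t * a) = ω • ρ t := by simp [e, ← Module.End.one_eq_id]
    have e2 : ρ.character (t * a) = ω * ρ.character t := by simp [character, e1]
    rw [e1, e2, smul_smul, map_mul, mul_right_comm, mul_comm (conj ω), Complex.mul_conj,
      Complex.normSq_eq_norm_sq, hω]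
    simp
  simp only [h4, Finset.sum_const, Finset.card_univ, ← Finset.smul_sum,
    ← Nat.card_eq_fintype_card] at h2
  have h5 : ∑ q : G ⧸ A, conj (ρ.character q.out) • ρ q.out =
      ((A.index : ℂ) / d) • (1 : (Fin n → ℂ) →ₗ[ℂ] (Fin n → ℂ)) := by
    have hA0 := card_ne_zero A
    rw [← Nat.cast_smul_eq_nsmul ℂ, ← eq_inv_smul_iff₀ hA0, smul_smul] at h2
    rw [h2, ← Subgroup.card_mul_index A, hd]
    congr 1
    push_cast
    field_simp
  rw [h5] at h1
  refine nat_dvd_of_isIntegral_div ?_ (isIntegral_of_smul_one h1)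
  rw [hd] at h0
  exact_mod_cast h0

theorem _root_.Cfsg.IsIrrCharacter.degree_dvd_card [Finite G] {χ : G → ℂ}
    (h : IsIrrCharacter G χ) {d : ℕ} (hd : χ 1 = d) : d ∣ Nat.card G := by
  have := h.degree_dvd_index hd ⊥ (by simp)
  simpa using this

theorem _root_.Cfsg.IsIrrCharacter.degree_dvd_index_center [Finite G] {χ : G → ℂ}
    (h : IsIrrCharacter G χ) {d : ℕ} (hd : χ 1 = d) : d ∣ (Subgroup.center G).index :=
  h.degree_dvd_index hd _ fun _ ha =>
    h.norm_eq_of_comm fun g => (Subgroup.mem_center_iff.1 ha g).symm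

/-- Burnside's lemma on character values. -/
theorem _root_.Cfsg.IsIrrCharacter.eq_zero_or_norm_eq [Finite G] {χ : G → ℂ}
    (h : IsIrrCharacter G χ) {d : ℕ} (hd : χ 1 = d) (g : G)
    (hcop : d.Coprime (Subgroup.centralizer ({g} : Set G)).index) :
    χ g = 0 ∨ ‖χ g‖ = d := by
  have h0 := h.one_ne_zero
  have hd0 : (d : ℂ) ≠ 0 := hd ▸ h0
  have hd1 : (0 : ℝ) < d := by
    have : d ≠ 0 := by exact_mod_cast hd0
    positivity
  obtain ⟨a, b, hab⟩ := Nat.isCoprime_iff_coprime.2 hcop
  have hint : IsIntegral ℤ (χ g / d) := by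
    have e : χ g / d = a * χ g +
        b * (((Subgroup.centralizer ({g} : Set G)).index : ℂ) * χ g / χ 1) := by
      have : (a : ℂ) * d + b * (Subgroup.centralizer ({g} : Set G)).index = 1 := by
        exact_mod_cast hab
      rw [hd]
      field_simp
      linear_combination (-χ g) * this
    rw [e]
    exact ((isIntegral_intCast a).mul (h.isCharacter.isIntegral g)).add
      ((isIntegral_intCast b).mul (h.isIntegral_central g))
  rcases eq_zero_or_norm_eq_one hint (fun σ => by
    obtain ⟨m, -, hm⟩ := ringHom_exists_pow_char (G := G) σ.toRingHom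
    have e : σ (χ g) = χ (g ^ m) := hm χ h.isGen g
    rw [map_div₀, e, map_natCast, norm_div, Complex.norm_natCast, div_le_one hd1]
    have := h.isCharacter.norm_le (g ^ m)
    rwa [hd, Complex.norm_natCast] at this) with h1 | h1
  · left; simpa [hd0] using h1
  · right
    rwa [norm_div, Complex.norm_natCast, div_eq_one_iff_eq hd1.ne'] at h1

/-- In a nonabelian simple group a nonprincipal irreducible character has trivial centre. -/
theorem _root_.Cfsg.IsIrrCharacter.charKer_eq_bot_of_simple [Finite G] [IsSimpleGroup G]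
    {χ : G → ℂ} (h : IsIrrCharacter G χ) (h1 : χ ≠ fun _ => 1) : charKer χ = ⊥ := by
  rcases h.isClassFunction.charKer_normal.eq_bot_or_eq_top with h2 | h2
  · exact h2
  · exfalso
    exact h1 (h.eq_one_of_forall_eq fun g => h.isCharacter.mem_charKer.1 (h2 ▸ Subgroup.mem_top g))

theorem comm_of_simple_of_prime_pow_class [Finite G] [IsSimpleGroup G] {p k : ℕ} (hp : p.Prime)
    {g : G} (hg : g ≠ 1) (hclass : (Subgroup.centralizer ({g} : Set G)).index = p ^ k) :
    ∀ a b : G, a * b = b * a := by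
  classical
  by_contra hab
  have hz : Subgroup.center G = ⊥ := by
    rcases (inferInstance : (Subgroup.center G).Normal).eq_bot_or_eq_top with h | h
    · exact h
    · exact (hab fun a b => Subgroup.mem_center_iff.1 (h ▸ Subgroup.mem_top b) a).elim
  have key : ∀ χ : IrrCharacter G, χ ≠ irrOne G →
      IsIntegral ℤ ((χ : G → ℂ) 1 * (χ : G → ℂ) g / p) := fun χ hχ => by
    obtain ⟨d, hd0, hd⟩ := χ.2.exists_nat
    have hp0 : (p : ℂ) ≠ 0 := by exact_mod_cast hp.ne_zero
    by_cases hpd : p ∣ d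
    · obtain ⟨e, rfl⟩ := hpd
      have : (χ : G → ℂ) 1 * (χ : G → ℂ) g / p = e * (χ : G → ℂ) g := by
        rw [hd]; push_cast; field_simp
      rw [this]
      exact (isIntegral_natCast e).mul (χ.2.isCharacter.isIntegral g)
    · have hcop : d.Coprime (Subgroup.centralizer ({g} : Set G)).index := by
        rw [hclass]
        exact ((Nat.Prime.coprime_iff_not_dvd hp).2 hpd).symm.pow_right k
      rcases χ.2.eq_zero_or_norm_eq hd g hcop with h1 | h1
      · rw [h1]; simpa using isIntegral_zero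
      · exfalso
        apply hg
        rw [← Subgroup.mem_bot, ← hz, Subgroup.mem_center_iff]
        intro x
        have h2 := χ.2.isCharacter.commutator_of_norm_eq (g := g) (by rw [h1, hd]; simp) x
        rw [← χ.2.isCharacter.mem_charKer,
          χ.2.charKer_eq_bot_of_simple (fun h => hχ (Subtype.ext h)), Subgroup.mem_bot] at h2
        calc x * g = 1 * (x * g) := (one_mul _).symm
          _ = g * x := by rw [← h2]; group
  have h1 := sum_irr_one_mul g
  rw [if_neg hg, ← Finset.add_sum_erase _ _ (Finset.mem_univ (irrOne G))] at h1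
  have h2 : IsIntegral ℤ (((-1 : ℤ) : ℂ) / (p : ℤ)) := by
    have : ((-1 : ℤ) : ℂ) / (p : ℤ) = ∑ χ ∈ Finset.univ.erase (irrOne G),
        (χ : G → ℂ) 1 * (χ : G → ℂ) g / p := by
      rw [← Finset.sum_div]
      congr 1
      · simp only [irrOne_coe, mul_one] at h1
        push_cast
        linear_combination -h1
    rw [this]
    exact IsIntegral.sum _ fun χ hχ => key χ (Finset.ne_of_mem_erase hχ)
  have h3 := int_dvd_of_isIntegral_div (by exact_mod_cast hp.ne_zero) h2
  have h4 : p ∣ 1 := by
    have := Int.natAbs_dvd_natAbs.2 h3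
    simpa using this
  exact hp.one_lt.ne' (Nat.dvd_one.1 h4)

/-- Burnside: a nonlinear irreducible character vanishes somewhere. -/
theorem _root_.Cfsg.IsIrrCharacter.exists_eq_zero [Finite G] {χ : G → ℂ} (h : IsIrrCharacter G χ)
    (h1 : χ 1 ≠ 1) : ∃ g, χ g = 0 := by
  classical
  have := Fintype.ofFinite G
  by_contra hne
  push Not at hne
  let s := Finset.univ.erase (1 : G)
  let β : ℂ := ∏ g ∈ s, χ g * χ g⁻¹
  have hβ : IsIntegral ℤ β := IsIntegral.prod _ fun g _ =>
    (h.isCharacter.isIntegral g).mul (h.isCharacter.isIntegral _)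
  obtain ⟨n, hn⟩ := exists_int_of_fixed hβ fun σ => by
    obtain ⟨m, hm1, hm⟩ := ringHom_exists_pow_char (G := G) σ.toRingHom
    have e : ∀ g, σ (χ g) = χ (g ^ m) := hm χ h.isGen
    simp only [β, map_prod, map_mul, e, inv_pow]
    refine Finset.prod_equiv (powCoprime hm1.symm) (fun g => ?_) (fun g _ => rfl)
    simp only [s, Finset.mem_erase, Finset.mem_univ, and_true, ne_eq]
    rw [← (powCoprime hm1.symm).injective.eq_iff]
    simp
  have hβ2 : β = ((∏ g ∈ s, ‖χ g‖ ^ 2 : ℝ) : ℂ) := by
    simp [β, h.isCharacter.apply_inv, Complex.mul_conj, Complex.normSq_eq_norm_sq]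
  have hn' : ∏ g ∈ s, ‖χ g‖ ^ 2 = n := by
    rw [hβ2] at hn; exact_mod_cast hn
  have hpos : 0 < ∏ g ∈ s, ‖χ g‖ ^ 2 :=
    Finset.prod_pos fun g _ => pow_pos (norm_pos_iff.2 (hne g)) 2
  have hge : (1 : ℝ) ≤ ∏ g ∈ s, ‖χ g‖ ^ 2 := by
    rw [hn'] at hpos ⊢
    have : 0 < n := by exact_mod_cast hpos
    exact_mod_cast this
  -- `log x ≤ x - 1`
  have hlog : 0 ≤ ∑ g ∈ s, (‖χ g‖ ^ 2 - 1) := by
    have := Real.log_nonneg hge
    rw [Real.log_prod (fun g _ => (pow_pos (norm_pos_iff.2 (hne g)) 2).ne')] at this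
    exact this.trans (Finset.sum_le_sum fun g _ =>
      Real.log_le_sub_one_of_pos (pow_pos (norm_pos_iff.2 (hne g)) 2))
  have hsum : ∑ g, ‖χ g‖ ^ 2 = Nat.card G := by
    have e := classInner_self_re χ
    rw [h.classInner_self, Complex.one_re] at e
    have : (Nat.card G : ℝ) ≠ 0 := by exact_mod_cast Nat.card_pos.ne'
    field_simp at e
    exact e.symm
  rw [← Finset.add_sum_erase _ _ (Finset.mem_univ (1 : G))] at hsum
  rw [Finset.sum_sub_distrib, Finset.sum_const, Finset.card_erase_of_mem (Finset.mem_univ _),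
    Finset.card_univ, ← Nat.card_eq_fintype_card, nsmul_eq_mul, mul_one,
    Nat.cast_sub Nat.card_pos, Nat.cast_one] at hlog
  obtain ⟨d, hd0, hd⟩ := h.exists_nat
  rw [hd, Complex.norm_natCast] at hsum
  have hd1 : d ≠ 1 := by rintro rfl; exact h1 (by simpa using hd)
  have : (2 : ℝ) ≤ d := by exact_mod_cast (by omega : 2 ≤ d)
  nlinarith

end Cfsg.Agent.Char
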