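import Mathlib
import Cfsg.Prelude.Def_Characters
import Cfsg.Agent.Char.Clifford
import Cfsg.Agent.Char.Integral

/-!
# More Clifford theory: coset averages, fully ramified characters, Itô's theorem, Frobenius groups.
-/

set_option autoImplicit false

namespace Cfsg.Agent.Char

open Representation Module Cfsg
open scoped ComplexConjugate

variable {G : Type*} [Group G]

section Vanish

variable [Fintype G] {H : Subgroup G} [Fintype H]

theorem sum_eq_sum_subgroup {F : G → ℂ} (h : ∀ g, g ∉ H → F g = 0) : ∑ g, F g = ∑ x : H, F x := by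
  rw [← sum_extendByZero H (fun x : H => F x)]
  refine Finset.sum_congr rfl fun g _ => ?_
  by_cases hg : g ∈ H
  · rw [extendByZero_of_mem H _ hg]
  · rw [extendByZero_of_not_mem H _ hg, h g hg]

theorem classInner_restrict_of_vanish {χ : G → ℂ} (h : ∀ g, g ∉ H → χ g = 0) (ψ : G → ℂ) :
    classInner (fun x : H => χ x) (fun x : H => ψ x) = H.index * classInner χ ψ := by
  simp only [classInner]
  rw [sum_eq_sum_subgroup (H := H) (fun g hg => by rw [h g hg, zero_mul]), ← H.card_mul_index,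
    Nat.cast_mul]
  have := card_ne_zero H
  have : (H.index : ℂ) ≠ 0 := by exact_mod_cast H.index_ne_zero_of_finite
  field_simp

theorem sum_subgroup_add_sum_compl [DecidablePred (· ∈ H)] {M : Type*} [AddCommMonoid M]
    (F : G → M) : ∑ x : H, F x + ∑ g ∈ Finset.univ.filter (· ∉ H), F g = ∑ g, F g := by
  rw [← Finset.sum_filter_add_sum_filter_not Finset.univ (· ∈ H)]
  congr 1
  exact (Finset.sum_subtype _ (by simp) F).symm

theorem classInner_restrict_self_le (χ : G → ℂ) :
    (classInner (fun x : H => χ x) (fun x : H => χ x)).re ≤ H.index * (classInner χ χ).re := by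
  classical
  rw [classInner_self_re, classInner_self_re, ← sum_subgroup_add_sum_compl (H := H),
    ← H.card_mul_index, Nat.cast_mul]
  have h1 : (0 : ℝ) < Nat.card H := by exact_mod_cast Nat.card_pos
  have h2 : (0 : ℝ) < H.index := by exact_mod_cast Nat.pos_of_ne_zero H.index_ne_zero_of_finite
  have h3 : 0 ≤ ∑ g ∈ Finset.univ.filter (· ∉ H), ‖χ g‖ ^ 2 := by positivity
  rw [mul_inv, mul_comm (Nat.card H : ℝ)⁻¹ (H.index : ℝ)⁻¹, mul_assoc, ← mul_assoc (H.index : ℝ),
    mul_inv_cancel₀ h2.ne', one_mul]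
  gcongr
  linarith

theorem vanish_of_classInner_restrict {χ : G → ℂ}
    (h : classInner (fun x : H => χ x) (fun x : H => χ x) = H.index * classInner χ χ) {g : G}
    (hg : g ∉ H) : χ g = 0 := by
  classical
  have h0 := congrArg Complex.re h
  rw [← Complex.ofReal_natCast, Complex.re_ofReal_mul, classInner_self_re, classInner_self_re,
    ← sum_subgroup_add_sum_compl (H := H), ← H.card_mul_index, Nat.cast_mul] at h0
  have h1 : (0 : ℝ) < Nat.card H := by exact_mod_cast Nat.card_pos
  have h2 : (0 : ℝ) < H.index := by exact_mod_cast Nat.pos_of_ne_zero H.index_ne_zero_of_finite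
  have h3 : ∑ g ∈ Finset.univ.filter (· ∉ H), ‖χ g‖ ^ 2 = 0 := by
    field_simp at h0
    linarith
  simpa using (Finset.sum_eq_zero_iff_of_nonneg (fun _ _ => by positivity)).1 h3 g (by simpa using hg)

end Vanish

section Avg

variable {N : Subgroup G} [hN : N.Normal] [Fintype N]

/-- Average of a function over the cosets of `N`. -/
noncomputable def cosetAvg (N : Subgroup G) [Fintype N] (f : G → ℂ) : G → ℂ :=
  fun g => (Nat.card N : ℂ)⁻¹ * ∑ n : N, f (n * g)

theorem _root_.Cfsg.IsClassFunction.cosetAvg {f : G → ℂ} (hf : IsClassFunction G f) :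
    IsClassFunction G (cosetAvg N f) := fun g x => by
  simp only [Char.cosetAvg]
  congr 1
  refine (Fintype.sum_equiv (MulAut.conjNormal x : N ≃* N).toEquiv _ _ fun n => ?_).symm
  rw [← hf _ x]
  simp [mul_assoc]

omit hN in
theorem classInner_cosetAvg [Fintype G] (f f' : G → ℂ) :
    classInner (cosetAvg N f) f' = classInner f (cosetAvg N f') := by
  simp only [classInner, cosetAvg, map_mul, map_inv₀, map_natCast, map_sum, mul_assoc,
    Finset.sum_mul, Finset.mul_sum]
  rw [Finset.sum_comm, Finset.sum_comm (f := fun g (n : N) => _ * (f g * _))]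
  refine Fintype.sum_equiv (Equiv.inv N) _ _ fun n => ?_
  refine Fintype.sum_equiv (Equiv.mulLeft (n : G)) _ _ fun g => ?_
  simp
  ring

omit hN in
theorem cosetAvg_of_ker [Finite G] {β : G → ℂ} (hβ : IsCharacter G β) (h : ∀ n ∈ N, β n = β 1) :
    cosetAvg N β = β := by
  ext g
  simp only [cosetAvg]
  rw [Finset.sum_congr rfl (g := fun _ => β g)
    (fun (n : N) _ => hβ.apply_mul_of_eq_one (h n n.2) g), Finset.sum_const, Finset.card_univ,
    nsmul_eq_mul, ← Nat.card_eq_fintype_card, ← mul_assoc, inv_mul_cancel₀ (card_ne_zero N),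
    one_mul]

theorem cosetAvg_of_not_ker [Finite G] {β : G → ℂ} (hβ : IsIrrCharacter G β)
    (h : ¬ ∀ n ∈ N, β n = β 1) : cosetAvg N β = 0 := by
  ext g
  push Not at h
  simp [cosetAvg, hβ.sum_normal_mul_eq_zero N h]

theorem _root_.Cfsg.IsCharacter.cosetAvg [Finite G] {χ : G → ℂ} (hχ : IsCharacter G χ) :
    IsCharacter G (cosetAvg N χ) := by
  have := Fintype.ofFinite G
  refine hχ.isClassFunction.cosetAvg.isCharacter_of_classInner fun β hβ => ?_
  rw [classInner_cosetAvg]
  by_cases h : ∀ n ∈ N, β n = β 1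
  · rw [cosetAvg_of_ker hβ.isCharacter h]; exact hχ.classInner_nat hβ.isCharacter
  · rw [cosetAvg_of_not_ker hβ h]; exact ⟨0, by simp⟩

theorem cosetAvg_mul_conj [Finite G] {χ : G → ℂ} (hχ : IsCharacter G χ)
    (hχN : IsIrrCharacter N fun n : N => χ n) {β : G → ℂ} (hβ : IsIrrCharacter G β)
    (h : ∀ n ∈ N, β n = β 1) : cosetAvg N (β * χ * fun g => conj (χ g)) = β := by
  have := Fintype.ofFinite G
  refine ((hβ.isCharacter.mul hχ).mul hχ.conj).isClassFunction.cosetAvg.ext_irr
    hβ.isClassFunction fun γ hγ => ?_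
  rw [classInner_cosetAvg, ← classInner_mul_right]
  by_cases h' : ∀ n ∈ N, γ n = γ 1
  · rw [cosetAvg_of_ker hγ.isCharacter h']
    by_cases e : β = γ
    · rw [← e, hβ.classInner_self, (gallagher_mul hχ hχN hβ h).classInner_self]
    · rw [hβ.classInner_of_ne hγ e, (gallagher_mul hχ hχN hβ h).classInner_of_ne
        (gallagher_mul hχ hχN hγ h') fun e' => e (gallagher_inj hχ hχN hβ hγ h h' e')]
  · rw [cosetAvg_of_not_ker hγ h', hβ.classInner_of_ne hγ (fun e => h' (e ▸ h))]
    simp

theorem cosetAvg_mul_conj_eq_zero [Finite G] {χ : G → ℂ} (hχ : IsCharacter G χ)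
    (hχN : IsIrrCharacter N fun n : N => χ n) {ψ : G → ℂ} (hψ : IsIrrCharacter G ψ)
    (h : classInner (fun n : N => ψ n) (fun n : N => χ n) = 0) :
    cosetAvg N (ψ * fun g => conj (χ g)) = 0 := by
  have := Fintype.ofFinite G
  refine (hψ.isCharacter.mul hχ.conj).isClassFunction.cosetAvg.eq_zero_of_orthogonal
    fun γ hγ => ?_
  rw [classInner_cosetAvg, ← classInner_mul_right]
  by_cases h' : ∀ n ∈ N, γ n = γ 1
  · rw [cosetAvg_of_ker hγ.isCharacter h']
    refine hψ.classInner_of_ne (gallagher_mul hχ hχN hγ h') fun e => ?_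
    have : (fun n : N => ψ n) = γ 1 • fun n : N => χ n := by
      ext n; simp [e, h' n n.2]
    rw [this, classInner_smul_left, hχN.classInner_self, mul_one] at h
    exact hγ.one_ne_zero h
  · rw [cosetAvg_of_not_ker hγ h']
    simp

theorem sum_coset_norm_sq [Finite G] {χ : G → ℂ} (hχ : IsCharacter G χ)
    (hχN : IsIrrCharacter N fun n : N => χ n) (g : G) :
    ∑ n : N, ‖χ (n * g)‖ ^ 2 = Nat.card N := by
  have := congrFun (cosetAvg_mul_conj hχ hχN isIrrCharacter_one (fun _ _ => rfl)) g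
  simp only [cosetAvg, Pi.mul_apply, one_mul, Complex.mul_conj, Complex.normSq_eq_norm_sq] at this
  rw [inv_mul_eq_one₀ (card_ne_zero N)] at this
  exact_mod_cast this.symm

end Avg

section Ramified

variable {N : Subgroup G} [hN : N.Normal] [Fintype G]

omit hN in
theorem vanish_of_fully_ramified {χ : G → ℂ} (hχ : IsIrrCharacter G χ) {θ : N → ℂ}
    (hθ : IsIrrCharacter N θ) {e : ℕ} (h : (fun n : N => χ n) = (e : ℂ) • θ)
    (he : e ^ 2 = N.index) {g : G} (hg : g ∉ N) : χ g = 0 := by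
  have := Fintype.ofFinite N
  refine vanish_of_classInner_restrict ?_ hg
  rw [h, classInner_smul_left, classInner_smul_right, hθ.classInner_self, hχ.classInner_self, ← he]
  simp [sq]

omit hN in
theorem sq_eq_index_of_vanish {χ : G → ℂ} (hχ : IsIrrCharacter G χ) {θ : N → ℂ}
    (hθ : IsIrrCharacter N θ) {e : ℕ} (h : (fun n : N => χ n) = (e : ℂ) • θ)
    (hv : ∀ g, g ∉ N → χ g = 0) : e ^ 2 = N.index := by
  have := Fintype.ofFinite N
  have h1 := classInner_restrict_of_vanish hv χ
  rw [h, classInner_smul_left, classInner_smul_right, hθ.classInner_self,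
    hχ.classInner_self] at h1
  apply Nat.cast_injective (R := ℂ)
  simpa [sq] using h1

omit hN in
theorem indFun_eq_smul_of_fully_ramified {χ : G → ℂ} (hχ : IsIrrCharacter G χ) {θ : N → ℂ}
    (hθ : IsIrrCharacter N θ) {e : ℕ} (h : (fun n : N => χ n) = (e : ℂ) • θ)
    (he : e ^ 2 = N.index) : indFun N θ = (e : ℂ) • χ := by
  have := Fintype.ofFinite N
  have h1 : classInner (indFun N θ) χ = e := by
    rw [classInner_indFun_left N θ hχ.isClassFunction, h, classInner_smul_right,
      hθ.classInner_self]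
    simp
  have h2 := (hθ.isCharacter.indFun (G := G)).sub_mult_smul hχ
  rw [h1] at h2
  refine h2.eq_of_sub_of_one_eq ?_
  have h3 := congrFun h 1
  simp only [OneMemClass.coe_one, Pi.smul_apply, smul_eq_mul] at h3
  rw [indFun_one, ← he, Pi.smul_apply, h3]
  simp [sq, mul_assoc]

omit hN in
theorem sq_eq_index_of_indFun_eq_smul {χ : G → ℂ} (hχ : IsIrrCharacter G χ) {θ : N → ℂ}
    (hθ : IsIrrCharacter N θ) {e : ℕ} (h : (fun n : N => χ n) = (e : ℂ) • θ) {c : ℂ}
    (he : indFun N θ = c • χ) : e ^ 2 = N.index := by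
  have := Fintype.ofFinite N
  have h1 : classInner (indFun N θ) χ = e := by
    rw [classInner_indFun_left N θ hχ.isClassFunction, h, classInner_smul_right,
      hθ.classInner_self]
    simp
  rw [he, classInner_smul_left, hχ.classInner_self, mul_one] at h1
  have h2 := congrFun he 1
  have h3 := congrFun h 1
  simp only [OneMemClass.coe_one, Pi.smul_apply, smul_eq_mul] at h3
  rw [indFun_one, Pi.smul_apply, h3, h1, smul_eq_mul, ← mul_assoc] at h2
  apply Nat.cast_injective (R := ℂ)
  rw [mul_right_cancel₀ hθ.one_ne_zero h2]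
  simp [sq]

end Ramified

section Ito

/-- Itô's theorem. -/
theorem _root_.Cfsg.IsIrrCharacter.degree_dvd_index_of_comm [Finite G] {χ : G → ℂ}
    (hχ : IsIrrCharacter G χ) (A : Subgroup G) [A.Normal] (hA : ∀ a ∈ A, ∀ b ∈ A, a * b = b * a)
    {d : ℕ} (hd : χ 1 = d) : d ∣ A.index := by
  have := Fintype.ofFinite G
  have := Fintype.ofFinite A
  obtain ⟨θ, hθ, h1⟩ := hχ.exists_restrict_constituent (N := A)
  have hle := le_inertia hθ.isClassFunction
  obtain ⟨ψ, hψ, h2, h3⟩ := hθ.exists_indFun_inertia rfl hle hχ h1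
  obtain ⟨l, rfl⟩ := hθ.exists_hom_of_comm fun a b => Subtype.ext (hA a a.2 b b.2)
  have h4 := hψ.clifford_le hle hθ le_rfl (by rwa [h3])
  obtain ⟨k, -, hk⟩ := hψ.exists_nat
  have h5 := hψ.degree_dvd_index hk (A.subgroupOf _) (fun a ha => by
    have e1 := congrFun h4 ⟨a, ha⟩
    have e2 := congrFun h4 1
    simp only [Pi.smul_apply, smul_eq_mul] at e1 e2
    change ψ a = _ at e1
    change ψ 1 = _ at e2
    rw [e1, e2, norm_mul, norm_mul, norm_hom, norm_hom])
  have h6 : d = (inertia fun a : A => (l a : ℂ)).index * k := by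
    apply Nat.cast_injective (R := ℂ)
    rw [← hd, ← h2, indFun_one, hk, Nat.cast_mul]
  rw [h6, ← Subgroup.relIndex_mul_index hle, mul_comm]
  exact Nat.mul_dvd_mul_right h5 _

end Ito

section Frobenius

variable {K : Subgroup G} [hK : K.Normal]

theorem inertia_le_of_frobenius [Finite G] (hF : ∀ k ∈ K, ∀ g, g * k = k * g → k = 1 ∨ g ∈ K)
    {τ : K → ℂ} (hτ : IsIrrCharacter K τ) (h1 : τ ≠ fun _ => 1) : inertia τ ≤ K := by
  intro g hg
  by_contra hgK
  refine h1 (hτ.eq_one_of_aut_fixed (MulAut.conjNormal g) (fun k hk => ?_) (congrFun hg))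
  obtain ⟨c, hc⟩ := isConj_iff.1 hk
  have hc' := congrArg Subtype.val hc
  simp only [Subgroup.coe_mul, MulAut.conjNormal_apply, InvMemClass.coe_inv] at hc'
  rcases hF k k.2 (c * g) (by
    conv_rhs => rw [← hc']
    group) with h | h
  · exact Subtype.ext h
  · exact absurd ((K.mul_mem_cancel_left c.2).1 h) hgK

theorem _root_.Cfsg.IsIrrCharacter.indFun_of_frobenius [Fintype G]
    (hF : ∀ k ∈ K, ∀ g, g * k = k * g → k = 1 ∨ g ∈ K) {τ : K → ℂ} (hτ : IsIrrCharacter K τ)
    (h1 : τ ≠ fun _ => 1) : IsIrrCharacter G (indFun K τ) :=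
  hτ.indFun_of_inertia_le (inertia_le_of_frobenius hF hτ h1)

theorem _root_.Cfsg.IsIrrCharacter.exists_indFun_of_frobenius [Fintype G]
    (hF : ∀ k ∈ K, ∀ g, g * k = k * g → k = 1 ∨ g ∈ K) {χ : G → ℂ} (hχ : IsIrrCharacter G χ)
    (h1 : ∃ k ∈ K, χ k ≠ χ 1) :
    ∃ τ : K → ℂ, IsIrrCharacter K τ ∧ (τ ≠ fun _ => 1) ∧ indFun K τ = χ := by
  have := Fintype.ofFinite K
  obtain ⟨τ, hτ, h2⟩ := hχ.exists_restrict_constituent (N := K)
  have h3 : τ ≠ fun _ => 1 := by
    rintro rfl
    obtain ⟨k, hk, h⟩ := h1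
    exact h (hχ.apply_eq_of_classInner_one K h2 hk)
  refine ⟨τ, hτ, h3, (hτ.indFun_of_frobenius hF h3).eq_of_classInner_ne_zero hχ ?_⟩
  rwa [Ne, classInner_eq_zero_comm, classInner_indFun_right K τ hχ.isClassFunction]

omit hK in
theorem indFun_apply_ne_of_ne_one [Fintype G] {τ : K → ℂ} (hτ : IsIrrCharacter K τ)
    (h1 : τ ≠ fun _ => 1) : ∃ k ∈ K, indFun K τ k ≠ indFun K τ 1 := by
  have := Fintype.ofFinite K
  by_contra h
  push Not at h
  apply h1
  refine hτ.eq_one_of_forall_eq fun k => ?_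
  refine ((hτ.isCharacter.indFun (G := G)).restrict K).apply_eq_of_constituent hτ ?_ (h k k.2)
  rw [← classInner_indFun_right K τ (isClassFunction_indFun K τ), Ne, classInner_self_eq_zero]
  intro e
  have := congrFun e 1
  rw [indFun_one] at this
  exact mul_ne_zero (by exact_mod_cast K.index_ne_zero_of_finite) hτ.one_ne_zero this

theorem frobenius_of_complement [Finite G] {H : Subgroup G} (hKH : K ⊔ H = ⊤)
    (hfpf : ∀ h ∈ H, h ≠ 1 → ∀ k ∈ K, h * k = k * h → k = 1) :
    ∀ k ∈ K, ∀ g, g * k = k * g → k = 1 ∨ g ∈ K := by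
  intro k hk g hg
  obtain ⟨c, hc, h, hh, rfl⟩ := Subgroup.mem_sup_of_normal_left.1 (hKH ▸ Subgroup.mem_top g)
  by_cases h1 : h = 1
  · right; simpa [h1] using hc
  left
  obtain ⟨a, ha, e⟩ := exists_conj_of_centralizer_trivial K (g := h)
    (fun x hx => hK.conj_mem x hx h) (fun x hx e => hfpf h hh h1 x hx e.symm) hc
  have h2 := hfpf h hh h1 (a⁻¹ * k * a) (K.mul_mem (K.mul_mem (K.inv_mem ha) hk) ha) (by
    rw [← e] at hg
    calc h * (a⁻¹ * k * a) = a⁻¹ * (a * h * a⁻¹ * k) * a := by group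
      _ = _ := by rw [hg]; group)
  calc k = a * (a⁻¹ * k * a) * a⁻¹ := by group
    _ = 1 := by rw [h2]; group

end Frobenius

end Cfsg.Agent.Char
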