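import Mathlib
import Cfsg.Prelude.Def_Characters
import Cfsg.Agent.Char.Clifford2
import Cfsg.Agent.Core.Frattini

/-!
# Monomial characters, Brauer's induction theorem and characterisation of characters.
-/

set_option autoImplicit false

namespace Cfsg.Agent.Char

open Representation Module Cfsg
open scoped ComplexConjugate

universe u

section Perm

variable {G : Type*} [Group G]

theorem indFun_one_eq_perm [Fintype G] (H : Subgroup G) :
    indFun H (fun _ => 1) = fun g : G => (Nat.card (MulAction.fixedBy (G ⧸ H) g) : ℂ) := by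
  rw [perm_eq_indFun (G ⧸ H) ((1 : G) : G ⧸ H), MulAction.stabilizer_quotient]

theorem card_fixedBy_eq_sum (X : Type*) [MulAction G X] [Finite X]
    [Fintype (MulAction.orbitRel.Quotient G X)] (g : G) :
    Nat.card (MulAction.fixedBy X g) = ∑ ω : MulAction.orbitRel.Quotient G X,
      Nat.card (MulAction.fixedBy (MulAction.orbit G (Quotient.out ω : X)) g) := by
  rw [← Nat.card_sigma]
  symm
  refine Nat.card_congr (Equiv.ofBijective
    (fun s => ⟨s.2.1.1, congrArg Subtype.val s.2.2⟩) ⟨?_, ?_⟩)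
  · rintro ⟨ω, ⟨x, hx⟩, hx'⟩ ⟨ω', ⟨y, hy⟩, hy'⟩ h
    obtain rfl : x = y := congrArg Subtype.val h
    have : ω = ω' := by
      rw [← Quotient.out_eq ω, ← Quotient.out_eq ω']
      exact (Quotient.sound hx).symm.trans (Quotient.sound hy)
    subst this
    rfl
  · rintro ⟨x, hx⟩
    exact ⟨⟨Quotient.mk _ x, ⟨x, (MulAction.orbitRel G X).symm (Quotient.mk_out x)⟩,
      Subtype.ext hx⟩, rfl⟩

theorem perm_eq_sum_indFun [Fintype G] (X : Type*) [MulAction G X] [Finite X]
    [Fintype (MulAction.orbitRel.Quotient G X)] :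
    (fun g : G => (Nat.card (MulAction.fixedBy X g) : ℂ)) =
      ∑ ω : MulAction.orbitRel.Quotient G X,
        indFun (MulAction.stabilizer G (Quotient.out ω : X)) (fun _ => 1) := by
  ext g
  rw [card_fixedBy_eq_sum, Nat.cast_sum, Finset.sum_apply]
  refine Finset.sum_congr rfl fun ω _ => ?_
  have := congrFun (perm_eq_indFun (G := G) (MulAction.orbit G (Quotient.out ω : X))
    ⟨_, MulAction.mem_orbit_self _⟩) g
  have e : MulAction.stabilizer G (⟨_, MulAction.mem_orbit_self _⟩ :
      MulAction.orbit G (Quotient.out ω : X)) = MulAction.stabilizer G (Quotient.out ω : X) := by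
    ext x
    simp [Subtype.ext_iff]
  rw [this, e]

theorem indFun_one_mul_indFun_one {G : Type u} [Group G] [Fintype G] (H K : Subgroup G) :
    ∃ (ι : Type u) (_ : Fintype ι) (U : ι → Subgroup G), (∀ i, U i ≤ H) ∧
      indFun H (fun _ => 1) * indFun K (fun _ => 1) = ∑ i, indFun (U i) (fun _ => 1) := by
  have := Fintype.ofFinite H
  have := Fintype.ofFinite (MulAction.orbitRel.Quotient H (G ⧸ K))
  refine ⟨MulAction.orbitRel.Quotient H (G ⧸ K), this,
    fun ω => (MulAction.stabilizer H (Quotient.out ω : G ⧸ K)).map H.subtype,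
    fun _ => Subgroup.map_subtype_le _, ?_⟩
  rw [← indFun_restrict H (isClassFunction_indFun K _)]
  have e : (fun x : H => indFun K (fun _ => 1) x) =
      fun x : H => (Nat.card (MulAction.fixedBy (G ⧸ K) x) : ℂ) := by
    rw [indFun_one_eq_perm]; rfl
  rw [e, perm_eq_sum_indFun, indFun_sum]
  exact Finset.sum_congr rfl fun ω _ => indFun_indFun_map _ _

theorem card_fixedBy_pow_modEq (X : Type*) [MulAction G X] [Finite X] (x : G) (p a : ℕ)
    [Fact p.Prime] : Nat.card (MulAction.fixedBy X (x ^ p ^ a)) ≡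
      Nat.card (MulAction.fixedBy X x) [MOD p] := by
  classical
  have := Fintype.ofFinite X
  let f : Function.End (MulAction.fixedBy X (x ^ p ^ a)) := fun y => ⟨x • (y : X), by
    have := y.2
    rw [MulAction.mem_fixedBy] at this ⊢
    rw [smul_smul, ← pow_succ, pow_succ', mul_smul, this]⟩
  have hf : ∀ (k : ℕ) y, ((f ^ k) y : X) = x ^ k • (y : X) := by
    intro k
    induction k with
    | zero => intro y; rw [pow_zero, pow_zero, one_smul]; rfl
    | succ k ih =>
      intro y
      rw [pow_succ', pow_succ', mul_smul, ← ih]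
      rfl
  have h := Equiv.Perm.card_fixedPoints_modEq (f := f) (p := p) (n := a) (by
    funext y
    exact Subtype.ext ((hf _ y).trans y.2))
  rw [← Nat.card_eq_fintype_card, ← Nat.card_eq_fintype_card] at h
  convert h using 1
  refine Nat.card_congr ⟨fun y => ⟨⟨y, ?_⟩, Subtype.ext y.2⟩,
    fun y => ⟨y.1.1, congrArg Subtype.val y.2⟩, fun _ => rfl, fun _ => rfl⟩
  exact MulAction.fixedBy_subset_fixedBy_zpow X x (p ^ a : ℕ) y.2 |> fun h => by
    rwa [zpow_natCast] at h

end Perm

section Banaschewski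

theorem banaschewski {S : Type*} [Finite S] (R : AddSubgroup (S → ℤ))
    (hmul : ∀ f ∈ R, ∀ g ∈ R, f * g ∈ R) (h1 : (1 : S → ℤ) ∉ R) :
    ∃ (x : S) (p : ℕ), p.Prime ∧ ∀ f ∈ R, (p : ℤ) ∣ f x := by
  classical
  have := Fintype.ofFinite S
  by_contra h
  push Not at h
  have h2 : ∀ x, ∃ f ∈ R, f x = 1 := fun x => by
    obtain ⟨a, ha⟩ := Int.subgroup_cyclic (R.map (Pi.evalAddMonoidHom (fun _ => ℤ) x))
    rw [← AddSubgroup.zmultiples_eq_closure] at ha
    have hdvd : ∀ f ∈ R, a ∣ f x := fun f hf => by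
      have : f x ∈ AddSubgroup.zmultiples a := ha ▸ ⟨f, hf, rfl⟩
      exact Int.mem_zmultiples_iff.1 this
    by_cases h3 : a.natAbs = 1
    · have : (1 : ℤ) ∈ AddSubgroup.zmultiples a :=
        Int.mem_zmultiples_iff.2 (Int.natAbs_dvd.1 (by simp [h3]))
      rw [← ha] at this
      exact this
    · obtain ⟨p, hp, hd⟩ := Nat.exists_prime_and_dvd h3
      obtain ⟨f, hf, h4⟩ := h x p hp
      exact absurd ((Int.natCast_dvd.2 hd).trans (hdvd f hf)) h4
  choose f hf hf1 using h2
  have h3 : ∀ s : Finset S, 1 - ∏ x ∈ s, (1 - f x) ∈ R := fun s => by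
    induction s using Finset.induction_on with
    | empty => simp
    | insert a s ha ih =>
      rw [Finset.prod_insert ha]
      convert R.sub_mem (R.add_mem ih (hf a)) (hmul _ (hf a) _ ih) using 1
      ring
  have h4 : ∏ x, (1 - f x) = 0 := by
    ext y
    rw [Finset.prod_apply]
    exact Finset.prod_eq_zero (Finset.mem_univ y) (by simp [hf1])
  simpa [h4, h1] using h3 Finset.univ

end Banaschewski

section QE

variable {G : Type*} [Group G]

theorem normal_of_le_center {C : Subgroup G} (h : C ≤ Subgroup.center G) : C.Normal :=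
  ⟨fun c hc g => by rwa [Subgroup.mem_center_iff.1 (h hc) g, mul_inv_cancel_right]⟩

/-- `p`-quasi-elementary groups. -/
def IsQE (p : ℕ) (E : Type*) [Group E] : Prop :=
  ∃ C : Subgroup E, C.Normal ∧ IsCyclic C ∧ (Nat.card C).Coprime p ∧ ∃ k, C.index = p ^ k

theorem comap_aux {E : Type*} [Group E] {p : ℕ} (hp : p.Prime) (f : E →* G)
    (hf : Function.Injective f) (C : Subgroup G) [C.Normal] (h1 : IsCyclic C)
    (h2 : (Nat.card C).Coprime p) (h3 : ∃ k, C.index = p ^ k) :
    IsCyclic (C.comap f) ∧ (Nat.card (C.comap f)).Coprime p ∧ ∃ k, (C.comap f).index = p ^ k := by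
  have hi : Function.Injective (f.subgroupComap C) := fun a b h =>
    Subtype.ext (hf (congrArg Subtype.val h))
  refine ⟨isCyclic_of_injective _ hi,
    h2.coprime_dvd_left (Subgroup.card_dvd_of_injective _ hi), ?_⟩
  obtain ⟨k, hk⟩ := h3
  have := C.relIndex_dvd_index_of_normal f.range
  rw [← Subgroup.index_comap, hk, Nat.dvd_prime_pow hp] at this
  obtain ⟨j, -, hj⟩ := this
  exact ⟨j, hj⟩

theorem IsQE.of_injective {E : Type*} [Group E] {p : ℕ} (hp : p.Prime) (h : IsQE p G)
    (f : E →* G) (hf : Function.Injective f) : IsQE p E := by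
  obtain ⟨C, hC, h1, h2, h3⟩ := h
  exact ⟨C.comap f, inferInstance, comap_aux hp f hf C h1 h2 h3⟩

theorem isQE_iff_ambient {p : ℕ} {H : Subgroup G} : IsQE p H ↔
    ∃ C : Subgroup G, C ≤ H ∧ H ≤ Subgroup.normalizer (C : Set G) ∧ IsCyclic C ∧
      (Nat.card C).Coprime p ∧ ∃ k : ℕ, C.relIndex H = p ^ k := by
  constructor
  · rintro ⟨C, hC, h1, h2, h3⟩
    have e := C.equivMapOfInjective H.subtype H.subtype_injective
    refine ⟨C.map H.subtype, Subgroup.map_subtype_le _, Core.le_normalizer_map_subtype_of_normal C,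
      isCyclic_of_surjective e e.surjective, by rwa [← Nat.card_congr e.toEquiv], ?_⟩
    rwa [Subgroup.relIndex, Core.map_subtype_subgroupOf]
  · rintro ⟨C, h0, hC, h1, h2, h3⟩
    have e := Subgroup.subgroupOfEquivOfLe h0
    exact ⟨C.subgroupOf H, (Subgroup.normal_subgroupOf_iff_le_normalizer h0).2 hC,
      isCyclic_of_injective e.toMonoidHom e.injective, by rwa [Nat.card_congr e.toEquiv], h3⟩

theorem isElementary_iff {p : ℕ} : IsElementary p G ↔
    ∃ C : Subgroup G, C ≤ Subgroup.center G ∧ IsCyclic C ∧ (Nat.card C).Coprime p ∧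
      ∃ k, C.index = p ^ k := by
  constructor
  · rintro ⟨x, h1, h2, h3⟩
    exact ⟨Subgroup.zpowers x, Subgroup.zpowers_le.2 h1, inferInstance,
      by rwa [Nat.card_zpowers], h3⟩
  · rintro ⟨C, h1, h2, h3, h4⟩
    obtain ⟨x, rfl⟩ := (Subgroup.isCyclic_iff_exists_zpowers_eq_top C).1 h2
    exact ⟨x, h1 (Subgroup.mem_zpowers x), by rwa [Nat.card_zpowers] at h3, h4⟩

theorem isElementary_of_injective {E : Type*} [Group E] {p : ℕ} (hp : p.Prime)
    (h : IsElementary p G) (f : E →* G) (hf : Function.Injective f) : IsElementary p E := by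
  obtain ⟨C, hC, h1, h2, h3⟩ := isElementary_iff.1 h
  have : C.Normal := normal_of_le_center hC
  refine isElementary_iff.2 ⟨C.comap f, fun x hx => Subgroup.mem_center_iff.2 fun y => hf ?_,
    comap_aux hp f hf C h1 h2 h3⟩
  rw [map_mul, map_mul, Subgroup.mem_center_iff.1 (hC hx)]

theorem isNilpotent_of_isElementary [Finite G] {p : ℕ} (hp : p.Prime) (h : IsElementary p G) :
    Group.IsNilpotent G := by
  obtain ⟨C, hC, -, -, k, h3⟩ := isElementary_iff.1 h
  have : C.Normal := normal_of_le_center hC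
  have := Fact.mk hp
  have : Group.IsNilpotent (G ⧸ C) := (IsPGroup.of_card (n := k) h3).isNilpotent
  exact Subgroup.isNilpotent_of_ker_le_center (QuotientGroup.mk' C) (by simpa using hC)

theorem exists_isQE_not_dvd [Fintype G] (x : G) (p : ℕ) (hp : p.Prime) :
    ∃ H : Subgroup G, IsQE p H ∧ ¬ p ∣ Nat.card (MulAction.fixedBy (G ⧸ H) x) := by
  have := Fact.mk hp
  obtain ⟨a, m, hm, h⟩ := Nat.exists_eq_pow_mul_and_not_dvd (orderOf_pos x).ne' p hp.ne_one
  set c := x ^ p ^ a with hc
  have hco : (Nat.card (Subgroup.zpowers c)).Coprime p := by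
    rw [Nat.card_zpowers, hc, orderOf_pow_of_dvd (pow_ne_zero _ hp.ne_zero) ⟨m, h⟩, h,
      Nat.mul_div_cancel_left _ (pow_pos hp.pos _)]
    exact ((Nat.Prime.coprime_iff_not_dvd hp).2 hm).symm
  set C := Subgroup.zpowers c with hC
  obtain ⟨P, hPN, hP, hP'⟩ := Core.exists_isSylowIn p (Subgroup.normalizer (C : Set G))
  have hle : P ⊔ C ≤ Subgroup.normalizer (C : Set G) := sup_le hPN Subgroup.le_normalizer
  obtain ⟨k, hk⟩ : ∃ k, C.relIndex (P ⊔ C) = p ^ k := by
    obtain ⟨n, hn⟩ := hP.exists_card_eq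
    have := C.relIndex_dvd_card P
    rw [hn, Nat.dvd_prime_pow hp, ← Core.relIndex_sup_of_le_normalizer hPN] at this
    obtain ⟨j, -, hj⟩ := this
    exact ⟨j, hj⟩
  refine ⟨P ⊔ C, isQE_iff_ambient.2 ⟨C, le_sup_right, hle, inferInstance, hco, k, hk⟩, ?_⟩
  rw [← (card_fixedBy_pow_modEq (G ⧸ (P ⊔ C)) x p a).dvd_iff dvd_rfl]
  have h1 := card_mul_indFun_one_apply (H := P ⊔ C) c
  rw [indFun_one_eq_perm] at h1
  have h2 : Nat.card {y // y⁻¹ * c * y ∈ P ⊔ C} = Nat.card (Subgroup.normalizer (C : Set G)) := by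
    refine Nat.card_congr (Equiv.subtypeEquivRight fun y => ⟨fun hy => ?_, fun hy => ?_⟩)
    · have hn : (C.subgroupOf (P ⊔ C)).Normal :=
        (Subgroup.normal_subgroupOf_iff_le_normalizer le_sup_right).2 hle
      have h3 : Subgroup.zpowers (⟨_, hy⟩ : ↥(P ⊔ C)) ≤ C.subgroupOf (P ⊔ C) := by
        refine Core.le_of_coprime_index ?_
        rw [Nat.card_zpowers, ← Subgroup.orderOf_coe]
        change (orderOf (y⁻¹ * c * y)).Coprime (C.relIndex (P ⊔ C))
        rw [hk, show y⁻¹ * c * y = MulAut.conj y⁻¹ c by simp, MulEquiv.orderOf_eq,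
          ← Nat.card_zpowers]
        exact hco.pow_right _
      have h4 : y⁻¹ * c * y ∈ C := h3 (Subgroup.mem_zpowers _)
      refine (Subgroup.inv_mem_iff _).1 (Core.mem_normalizer_of_conj_mem ?_)
      rintro _ ⟨n, rfl⟩
      have h5 := C.zpow_mem h4 n
      rwa [← inv_inv y, inv_inv y⁻¹, conj_zpow] at h5
    · exact Subgroup.mem_sup_right
        (Core.conj_mem_of_mem_normalizer' hy (Subgroup.mem_zpowers c))
  rw [h2, ← Core.card_mul_relIndex hle, Nat.cast_mul] at h1
  have h3 := mul_left_cancel₀ (card_ne_zero _) h1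
  rw [Nat.cast_inj.1 h3]
  exact fun hd => hP' (hd.trans (Subgroup.relIndex_dvd_of_le_left _ le_sup_left))

/-- The `ℤ`-span of the permutation characters on cosets of `p`-quasi-elementary subgroups. -/
def qeSpan (p : ℕ) (G : Type*) [Group G] [Fintype G] : Submodule ℤ (G → ℂ) :=
  Submodule.span ℤ {f | ∃ H : Subgroup G, IsQE p H ∧ f = indFun H fun _ => 1}

theorem qeSpan_mul [Fintype G] {p : ℕ} (hp : p.Prime) {f g : G → ℂ} (hf : f ∈ qeSpan p G)
    (hg : g ∈ qeSpan p G) : f * g ∈ qeSpan p G := by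
  induction hf using Submodule.span_induction with
  | zero => simp
  | add a b _ _ ha hb => rw [add_mul]; exact add_mem ha hb
  | smul c a _ ha => rw [smul_mul_assoc]; exact Submodule.smul_mem _ _ ha
  | mem a ha =>
    induction hg using Submodule.span_induction with
    | zero => simp
    | add a b _ _ ha hb => rw [mul_add]; exact add_mem ha hb
    | smul c a _ ha => rw [mul_smul_comm]; exact Submodule.smul_mem _ _ ha
    | mem b hb =>
      obtain ⟨H, hH, rfl⟩ := ha
      obtain ⟨K, -, rfl⟩ := hb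
      obtain ⟨ι, _, U, h1, h2⟩ := indFun_one_mul_indFun_one H K
      rw [h2]
      exact Submodule.sum_mem _ fun i _ => Submodule.subset_span
        ⟨U i, hH.of_injective hp _ (Subgroup.inclusion_injective (h1 i)), rfl⟩

theorem exists_const_mem_qeSpan [Fintype G] {p : ℕ} (hp : p.Prime) :
    ∃ m : ℤ, ¬ (p : ℤ) ∣ m ∧ (fun _ => (m : ℂ)) ∈ qeSpan p G := by
  let R : AddSubgroup (G → ℤ) :=
    { carrier := {f | ∃ k : ℤ, (fun g => ((f g - p * k : ℤ) : ℂ)) ∈ qeSpan p G}
      zero_mem' := ⟨0, by simp [← Pi.zero_def]⟩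
      add_mem' := by
        rintro a b ⟨k, hk⟩ ⟨l, hl⟩
        refine ⟨k + l, ?_⟩
        convert add_mem hk hl using 1
        ext g; simp; ring
      neg_mem' := by
        rintro a ⟨k, hk⟩
        refine ⟨-k, ?_⟩
        convert neg_mem hk using 1
        ext g; simp; ring }
  have h1 : (1 : G → ℤ) ∈ R := by
    by_contra h
    obtain ⟨x, q, hq, h2⟩ := banaschewski R (by
      rintro a ⟨k, hk⟩ b ⟨l, hl⟩
      refine ⟨p * k * l, ?_⟩
      convert add_mem (add_mem (qeSpan_mul hp hk hl) ((qeSpan p G).smul_mem (p * l) hk))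
        ((qeSpan p G).smul_mem (p * k) hl) using 1
      ext g; simp; ring) h
    have h3 := h2 (fun _ => p) ⟨1, by simp [← Pi.zero_def]⟩
    rw [Int.natCast_dvd_natCast, Nat.prime_dvd_prime_iff_eq hq hp] at h3
    subst h3
    obtain ⟨H, hH, h4⟩ := exists_isQE_not_dvd x q hq
    refine h4 (Int.natCast_dvd_natCast.1
      (h2 (fun g => Nat.card (MulAction.fixedBy (G ⧸ H) g)) ⟨0, Submodule.subset_span ⟨H, hH, ?_⟩⟩))
    rw [indFun_one_eq_perm]; simp
  obtain ⟨k, hk⟩ := h1
  refine ⟨1 - p * k, fun h => ?_, hk⟩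
  have : (p : ℤ) ∣ 1 := by simpa using dvd_add h (dvd_mul_right (p : ℤ) k)
  exact hp.one_lt.ne' (by exact_mod_cast Int.eq_one_of_dvd_one (by positivity) this)

theorem hom_eq_one_of_coprime_action [Finite G] {C P : Subgroup G} [hC : C.Normal]
    (hP : Group.IsSolvable P) (hcop : (Nat.card P).Coprime (Nat.card C)) (l : C →* ℂˣ)
    (hinv : ∀ g ∈ P, ∀ c : C, l ⟨g * c * g⁻¹, hC.conj_mem c c.2 g⟩ = l c)
    (hker : ∀ c : C, (c : G) ∈ Subgroup.centralizer (P : Set G) → l c = 1) : l = 1 := by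
  have h1 : ⁅C, P⁆ ≤ l.ker.map C.subtype := by
    rw [Subgroup.commutator_le]
    intro c hc g hg
    refine ⟨⟨c, hc⟩ * ⟨g * c⁻¹ * g⁻¹, hC.conj_mem _ (C.inv_mem hc) g⟩, ?_, by
      simp [commutatorElement_def, mul_assoc]⟩
    rw [SetLike.mem_coe, MonoidHom.mem_ker, map_mul, hinv g hg ⟨c⁻¹, C.inv_mem hc⟩, ← map_mul]
    exact (congrArg l (Subtype.ext (mul_inv_cancel c))).trans l.map_one
  ext c
  obtain ⟨z, hz, _, hn, e⟩ := Core.exists_centralizer_mul_commutator
    (Subgroup.le_normalizer_of_normal (H := C)) hcop (Or.inl hP) c c.2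
  obtain ⟨n, hn', rfl⟩ := h1 hn
  have : c = ⟨z, hz.1⟩ * n := Subtype.ext e
  rw [this, map_mul, hker _ hz.2, MonoidHom.mem_ker.1 hn']
  simp

end QE

section Span

variable {G : Type*} [Group G] [Fintype G]

/-- The `ℤ`-span of the characters induced from the subgroups satisfying `P`. -/
def indSpan (P : Subgroup G → Prop) : Submodule ℤ (G → ℂ) :=
  Submodule.span ℤ {f | ∃ (E : Subgroup G) (φ : E → ℂ), P E ∧ IsCharacter E φ ∧ f = indFun E φ}

theorem indFun_mem_indSpan {P : Subgroup G → Prop} {E : Subgroup G} (hE : P E) {φ : E → ℂ}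
    (hφ : IsGeneralizedCharacter E φ) : indFun E φ ∈ indSpan P := by
  obtain ⟨a, b, ha, hb, rfl⟩ := hφ
  rw [indFun_sub]
  exact sub_mem (Submodule.subset_span ⟨E, a, hE, ha, rfl⟩)
    (Submodule.subset_span ⟨E, b, hE, hb, rfl⟩)

theorem indSpan_mono {P Q : Subgroup G → Prop} (h : ∀ E, P E → Q E) : indSpan P ≤ indSpan Q :=
  Submodule.span_mono fun _ ⟨E, φ, h1, h2⟩ => ⟨E, φ, h E h1, h2⟩

theorem indSpan_mul {P : Subgroup G → Prop} {f χ : G → ℂ} (hf : f ∈ indSpan P)
    (hχ : IsGeneralizedCharacter G χ) : f * χ ∈ indSpan P := by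
  induction hf using Submodule.span_induction with
  | zero => simp
  | add a b _ _ ha hb => rw [add_mul]; exact add_mem ha hb
  | smul c a _ ha => rw [smul_mul_assoc]; exact Submodule.smul_mem _ _ ha
  | mem a ha =>
    obtain ⟨E, φ, h1, h2, rfl⟩ := ha
    rw [← indFun_mul_restrict E φ hχ.isClassFunction]
    exact indFun_mem_indSpan h1 (h2.isGen.mul (hχ.restrict E))

theorem indFun_mem_indSpan_of_mem {P : Subgroup G → Prop} {K : Subgroup G} [Fintype K]
    {Q : Subgroup K → Prop} (h : ∀ E, Q E → P (E.map K.subtype)) {f : K → ℂ}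
    (hf : f ∈ indSpan Q) : indFun K f ∈ indSpan P := by
  induction hf using Submodule.span_induction with
  | zero => simp
  | add a b _ _ ha hb => rw [indFun_add]; exact add_mem ha hb
  | smul c a _ ha => rw [indFun_zsmul]; exact Submodule.smul_mem _ _ ha
  | mem a ha =>
    obtain ⟨E, φ, h1, h2, rfl⟩ := ha
    rw [indFun_indFun_map]
    exact indFun_mem_indSpan (h E h1)
      (h2.comp (E.equivMapOfInjective K.subtype K.subtype_injective).symm.toMonoidHom).isGen

theorem isGen_of_mem_indSpan {P : Subgroup G → Prop} {f : G → ℂ} (hf : f ∈ indSpan P) :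
    IsGeneralizedCharacter G f :=
  mem_span_isGen (by rintro _ ⟨E, φ, -, h2, rfl⟩; exact h2.indFun.isGen) hf

theorem classInner_mem_of_mem_indSpan {P : Subgroup G → Prop} (R : AddSubgroup ℂ) {θ : G → ℂ}
    (hθ : IsClassFunction G θ)
    (h : ∀ E, P E → ∀ [Fintype E] (ψ : E → ℂ), IsIrrCharacter E ψ →
      classInner (fun x : E => θ x) ψ ∈ R) {f : G → ℂ} (hf : f ∈ indSpan P) :
    classInner θ f ∈ R := by
  induction hf using Submodule.span_induction with
  | zero => simp
  | add a b _ _ ha hb => rw [classInner_add_right]; exact add_mem ha hb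
  | smul c a _ ha => rw [classInner_zsmul_right, ← zsmul_eq_mul]; exact zsmul_mem ha c
  | mem a ha =>
    obtain ⟨E, φ, h1, h2, rfl⟩ := ha
    have := Fintype.ofFinite E
    rw [classInner_indFun_right E φ hθ]
    refine h2.induction_on (P := fun φ => classInner (fun x : E => θ x) φ ∈ R) (by simp)
      (h E h1) fun a b _ _ ha hb => ?_
    rw [classInner_add_right]; exact add_mem ha hb

omit [Fintype G] in
theorem exists_list_of_mem_span {A : Subgroup G → Type*} (F : ∀ E, A E → G → ℂ)
    (P : ∀ E, A E → Prop) {f : G → ℂ}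
    (hf : f ∈ Submodule.span ℤ {f | ∃ E a, P E a ∧ f = F E a}) :
    ∃ l : List ((E : Subgroup G) × (A E × ℤ)), (∀ t ∈ l, P t.1 t.2.1) ∧
      f = (l.map fun t => (t.2.2 : ℂ) • F t.1 t.2.1).sum := by
  induction hf using Submodule.span_induction with
  | zero => exact ⟨[], by simp, by simp⟩
  | add a b _ _ ha hb =>
    obtain ⟨l, h1, rfl⟩ := ha
    obtain ⟨l', h2, rfl⟩ := hb
    refine ⟨l ++ l', fun t ht => ?_, by simp⟩
    rcases List.mem_append.1 ht with h | h
    exacts [h1 t h, h2 t h]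
  | smul c a _ ha =>
    obtain ⟨l, h1, rfl⟩ := ha
    refine ⟨l.map fun t => ⟨t.1, t.2.1, c * t.2.2⟩, fun t ht => ?_, ?_⟩
    · obtain ⟨t, ht', rfl⟩ := List.mem_map.1 ht
      exact h1 t ht'
    · rw [List.smul_sum, List.map_map, List.map_map]
      congr 2
      ext t g
      simp [mul_assoc]
  | mem a ha =>
    obtain ⟨E, a, h1, rfl⟩ := ha
    exact ⟨[⟨E, a, 1⟩], by simpa using h1, by simp⟩

end Span

section Brauer

theorem classInner_comp_one_ne_zero {G Z : Type*} [Group G] [Fintype G] [Group Z] [Fintype Z]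
    (f : Z →* G) {χ : G → ℂ} (hχ : IsCharacter G χ) (h : classInner χ (fun _ => 1) ≠ 0) :
    classInner (fun z => χ (f z)) (fun _ => 1) ≠ 0 := by
  have := classInner_add_ne_zero_left isCharacter_one
    ((hχ.sub_irr isIrrCharacter_one h).comp f) isCharacter_one
    (by rw [isIrrCharacter_one.classInner_self]; exact one_ne_zero)
  convert this using 2
  ext; simp

theorem isElementary_map_subtype {G : Type*} [Group G] {p : ℕ} (hp : p.Prime) {K : Subgroup G}
    (E : Subgroup K) (h : IsElementary p E) : IsElementary p (E.map K.subtype) :=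
  isElementary_of_injective hp h
    (E.equivMapOfInjective K.subtype K.subtype_injective).symm.toMonoidHom (MulEquiv.injective _)

theorem one_mem_indSpan_of_isQE {p : ℕ} (hp : p.Prime) (G : Type u) [Group G] [Finite G] :
    ∀ [Fintype G], IsQE p G →
      (fun _ => 1) ∈ indSpan fun E : Subgroup G => IsElementary p E := by
  classical
  have := Fact.mk hp
  induction G, ‹Group G›, ‹Finite G› using Core.card_induction' with | _ G ih => ?_
  intro _ hG
  obtain ⟨C, hC, h1, h2, k, h3⟩ := id hG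
  obtain ⟨P⟩ : Nonempty (Sylow p G) := inferInstance
  obtain ⟨n, hn⟩ := P.isPGroup'.exists_card_eq
  have hcomm : ∀ a b : C, a * b = b * a := fun a b => (IsCyclic.commGroup).mul_comm a b
  set Z := C ⊓ Subgroup.centralizer ((P : Subgroup G) : Set G) with hZ
  have hPZ : (P : Subgroup G) ≤ Subgroup.centralizer (Z : Set G) :=
    Subgroup.le_centralizer_iff.1 inf_le_right
  have hE : IsElementary p ↥((P : Subgroup G) ⊔ Z) := by
    have e := Subgroup.subgroupOfEquivOfLe (le_sup_right : Z ≤ (P : Subgroup G) ⊔ Z)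
    refine isElementary_iff.2 ⟨Z.subgroupOf _, fun z hz => ?_, ?_, ?_, ?_⟩
    · have : (P : Subgroup G) ⊔ Z ≤ Subgroup.centralizer (Z : Set G) :=
        sup_le hPZ fun a ha b hb => congrArg Subtype.val (hcomm ⟨b, hb.1⟩ ⟨a, ha.1⟩)
      exact Subgroup.mem_center_iff.2 fun y => Subtype.ext (this y.2 z hz).symm
    · exact isCyclic_of_injective
        ((Subgroup.inclusion (inf_le_left : Z ≤ C)).comp e.toMonoidHom)
        ((Subgroup.inclusion_injective (inf_le_left : Z ≤ C)).comp e.injective)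
    · rw [Nat.card_congr e.toEquiv]
      exact h2.coprime_dvd_left (Subgroup.card_dvd_of_le inf_le_left)
    · have := Z.relIndex_dvd_card P
      rw [hn, Nat.dvd_prime_pow hp, ← Core.relIndex_sup_of_le_normalizer
        (hPZ.trans (Subgroup.centralizer_le_normalizer _))] at this
      obtain ⟨j, -, hj⟩ := this
      exact ⟨j, hj⟩
  set E := (P : Subgroup G) ⊔ Z with hEdef
  have := Fintype.ofFinite E
  have hsup : (P : Subgroup G) ⊔ C = ⊤ := by
    rw [← Subgroup.index_eq_one]
    refine Nat.eq_one_of_dvd_coprimes (a := (P : Subgroup G).index) (b := C.index) ?_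
      (Subgroup.index_dvd_of_le le_sup_left) (Subgroup.index_dvd_of_le le_sup_right)
    rw [h3]
    exact ((hp.coprime_iff_not_dvd.2 P.not_dvd_index).symm).pow_right _
  have key : ∀ χ, IsIrrCharacter G χ → (χ ≠ fun _ => 1) →
      classInner (indFun E fun _ => 1) χ ≠ 0 →
      χ ∈ indSpan fun E : Subgroup G => IsElementary p E := by
    intro χ hχ hne h4
    rw [Ne, classInner_eq_zero_comm, classInner_indFun_right E _ hχ.isClassFunction] at h4
    rcases hχ.homogeneous_or_induced C with ⟨θ, e, hθ, h5⟩ | ⟨T, ψ, -, hT, hψ, rfl⟩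
    · exfalso
      obtain ⟨l, rfl⟩ := hθ.exists_hom_of_comm hcomm
      have he : (e : ℂ) ≠ 0 := fun h => hχ.one_ne_zero (by simpa [h] using congrFun h5 1)
      have := Fintype.ofFinite Z
      have h6 := classInner_comp_one_ne_zero (Subgroup.inclusion (le_sup_right : Z ≤ E))
        (hχ.isCharacter.restrict E) h4
      have h7 : (fun z : Z => χ (Subgroup.inclusion (le_sup_right : Z ≤ E) z)) =
          (e : ℂ) • fun z : Z => (l.comp (Subgroup.inclusion inf_le_left) z : ℂ) := by
        ext z; exact congrFun h5 ⟨z, z.2.1⟩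
      rw [h7, classInner_smul_left] at h6
      have h8 := (isIrrCharacter_hom _).eq_of_classInner_ne_zero isIrrCharacter_one
        (right_ne_zero_of_mul h6)
      have h9 : l = 1 := hom_eq_one_of_coprime_action (P := P)
        (Core.isSolvable_of_isPGroup P.isPGroup') (by rw [hn]; exact h2.symm.pow_left _) l
        (fun g _ c => Units.ext
          (congrFun (invariant_of_restrict_eq_smul hχ.isClassFunction he h5 g) c))
        (fun c hc => Units.ext (congrFun h8 ⟨c, c.2, hc⟩))
      subst h9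
      obtain ⟨χ', -, h10⟩ := hχ.exists_quotient C (fun c hc =>
        (congrFun h5 ⟨c, hc⟩).trans (congrFun h5 1).symm)
      have := Fintype.ofFinite (G ⧸ C)
      have hs : Function.Surjective ((QuotientGroup.mk' C).comp E.subtype) := by
        rw [← MonoidHom.range_eq_top, MonoidHom.range_comp, Subgroup.range_subtype,
          Core.map_mk'_eq_top_iff, eq_top_iff, ← hsup]
        exact sup_le_sup_right le_sup_left _
      have e1 := classInner_comp_of_surjective _ hs χ' (fun _ => 1)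
      have e2 := classInner_comp_of_surjective _ (QuotientGroup.mk'_surjective C) χ' (fun _ => 1)
      simp only [MonoidHom.comp_apply, QuotientGroup.mk'_apply, h10] at e1 e2
      rw [hχ.classInner_of_ne isIrrCharacter_one hne] at e2
      exact h4 (e1.trans e2.symm)
    · have := Fintype.ofFinite T
      have h5 := indSpan_mul (ih T (Core.card_lt_of_ne_top hT)
        (hG.of_injective hp T.subtype T.subtype_injective)) hψ.isGen
      rw [← Pi.one_def, one_mul] at h5
      exact indFun_mem_indSpan_of_mem (isElementary_map_subtype hp) h5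
  obtain ⟨m, hm, h4⟩ := (isCharacter_one.indFun (G := G) (H := E)).exists_mult
  have h5 : m (irrOne G) = 1 := by
    apply Nat.cast_injective (R := ℂ)
    rw [← hm, irrOne_coe, classInner_indFun_left E _ (isClassFunction_const 1),
      isIrrCharacter_one.classInner_self, Nat.cast_one]
  rw [← Finset.add_sum_erase _ _ (Finset.mem_univ (irrOne G)), h5, Nat.cast_one, one_smul,
    irrOne_coe, ← sub_eq_iff_eq_add] at h4
  rw [← h4]
  refine sub_mem (indFun_mem_indSpan hE isGen_one) (Submodule.sum_mem _ fun χ hχ => ?_)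
  by_cases h6 : m χ = 0
  · simp [h6]
  · rw [Nat.cast_smul_eq_nsmul]
    refine nsmul_mem (key χ χ.2 (fun h => (Finset.mem_erase.1 hχ).1 (Subtype.ext h)) ?_) _
    rw [hm]; exact_mod_cast h6

variable {G : Type*} [Group G] [Fintype G]

theorem exists_const_mem_indSpan {p : ℕ} (hp : p.Prime) :
    ∃ m : ℤ, ¬ (p : ℤ) ∣ m ∧
      (fun _ => (m : ℂ)) ∈ indSpan fun E : Subgroup G => IsElementary p E := by
  obtain ⟨m, hm, h⟩ := exists_const_mem_qeSpan (G := G) hp
  refine ⟨m, hm, Submodule.span_le.2 ?_ h⟩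
  rintro _ ⟨H, hH, rfl⟩
  have := Fintype.ofFinite H
  exact indFun_mem_indSpan_of_mem (isElementary_map_subtype hp) (one_mem_indSpan_of_isQE hp H hH)

theorem one_mem_indSpan_elementary :
    (fun _ => 1) ∈ indSpan fun E : Subgroup G => ∃ p : ℕ, p.Prime ∧ IsElementary p E := by
  let I : Ideal ℤ := (indSpan fun E : Subgroup G => ∃ p : ℕ, p.Prime ∧ IsElementary p E).comap
    (LinearMap.toSpanSingleton ℤ (G → ℂ) (fun _ => 1))
  have : (1 : ℤ) ∈ I := by
    obtain ⟨a, ha⟩ := (IsPrincipalIdealRing.principal I).principal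
    by_cases h : a.natAbs = 1
    · rw [ha]
      exact Ideal.mem_span_singleton.2 (Int.natAbs_dvd.1 (by simp [h]))
    · obtain ⟨p, hp, hd⟩ := Nat.exists_prime_and_dvd h
      obtain ⟨m, hm, h1⟩ := exists_const_mem_indSpan (G := G) hp
      have h2 : m ∈ I := by
        have := indSpan_mono (Q := fun E : Subgroup G => ∃ p : ℕ, p.Prime ∧ IsElementary p E)
          (fun E hE => ⟨p, hp, hE⟩) h1
        simpa [I, ← Pi.one_def] using! this
      rw [ha] at h2
      exact absurd ((Int.natCast_dvd.2 hd).trans (Ideal.mem_span_singleton.1 h2)) hm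
  simpa [I] using this

theorem _root_.Cfsg.IsGeneralizedCharacter.mem_indSpan_elementary {χ : G → ℂ}
    (hχ : IsGeneralizedCharacter G χ) :
    χ ∈ indSpan fun E : Subgroup G => ∃ p : ℕ, p.Prime ∧ IsElementary p E := by
  simpa [← Pi.one_def] using indSpan_mul one_mem_indSpan_elementary hχ

/-- Brauer's characterisation of characters, with coefficients in an additive subgroup of `ℂ`. -/
theorem brauer_classInner_mem (R : AddSubgroup ℂ) {θ : G → ℂ} (hθ : IsClassFunction G θ)
    (h : ∀ (E : Subgroup G) (p : ℕ), p.Prime → IsElementary p E → ∀ [Fintype E] (ψ : E → ℂ),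
      IsIrrCharacter E ψ → classInner (fun x : E => θ x) ψ ∈ R) {χ : G → ℂ}
    (hχ : IsGeneralizedCharacter G χ) : classInner θ χ ∈ R :=
  classInner_mem_of_mem_indSpan R hθ (fun E ⟨p, hp, hE⟩ => h E p hp hE)
    hχ.mem_indSpan_elementary

omit [Fintype G] in
/-- Brauer's characterisation of characters. -/
theorem brauer_characterisation [Finite G] {θ : G → ℂ} (hθ : IsClassFunction G θ)
    (h : ∀ (E : Subgroup G) (p : ℕ), p.Prime → IsElementary p E →
      IsGeneralizedCharacter E (fun e : E => θ e)) : IsGeneralizedCharacter G θ := by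
  have := Fintype.ofFinite G
  refine hθ.isGen_of_classInner fun χ hχ => ?_
  obtain ⟨n, hn⟩ := brauer_classInner_mem (Int.castAddHom ℂ).range hθ (fun E p hp hE _ ψ hψ => by
    obtain ⟨n, hn⟩ := (h E p hp hE).classInner_int hψ.isGen
    exact ⟨n, hn.symm⟩) hχ.isGen
  exact ⟨n, hn.symm⟩

omit [Fintype G] in
theorem brauer_characterisation_nilpotent [Finite G] {θ : G → ℂ} (hθ : IsClassFunction G θ)
    (h : ∀ E : Subgroup G, Group.IsNilpotent E → IsGeneralizedCharacter E (fun e : E => θ e)) :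
    IsGeneralizedCharacter G θ :=
  brauer_characterisation hθ fun E _ hp hE => h E (isNilpotent_of_isElementary hp hE)

end Brauer

section Monomial

/-- `χ` is induced from a linear character of a subgroup. -/
def IsMonomial {G : Type*} [Group G] [Fintype G] (χ : G → ℂ) : Prop :=
  ∃ (H : Subgroup G) (l : H →* ℂˣ), χ = indFun H fun h => (l h : ℂ)

theorem IsMonomial.indFun {G : Type*} [Group G] [Fintype G] {T : Subgroup G} [Fintype T]
    {ψ : T → ℂ} (h : IsMonomial ψ) : IsMonomial (indFun T ψ) := by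
  obtain ⟨H, l, rfl⟩ := h
  exact ⟨H.map T.subtype,
    l.comp (H.equivMapOfInjective T.subtype T.subtype_injective).symm.toMonoidHom,
    indFun_indFun_map _ _⟩

theorem isMonomial_hom {G : Type*} [Group G] [Fintype G] (l : G →* ℂˣ) :
    IsMonomial fun g => (l g : ℂ) :=
  ⟨⊤, l.comp (⊤ : Subgroup G).subtype, funext fun g =>
    (indFun_top _ (isCharacter_hom (l.comp (⊤ : Subgroup G).subtype)).isClassFunction g).symm⟩

theorem _root_.Cfsg.IsIrrCharacter.induced_of_abelian_mod_ker {G : Type*} [Group G] [Fintype G]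
    {χ : G → ℂ} (hχ : IsIrrCharacter G χ) (A : Subgroup G) [A.Normal]
    (hA : ∀ a ∈ A, ∀ b ∈ A, χ (a * b * a⁻¹ * b⁻¹) = χ 1)
    (hA' : ∃ a ∈ A, ∃ g, χ (a * g * a⁻¹ * g⁻¹) ≠ χ 1) :
    ∃ (T : Subgroup G) (ψ : T → ℂ), A ≤ T ∧ T ≠ ⊤ ∧ IsIrrCharacter T ψ ∧ indFun T ψ = χ := by
  refine (hχ.homogeneous_or_induced A).resolve_left ?_
  rintro ⟨θ, e, hθ, h⟩
  have he : (e : ℂ) ≠ 0 := fun h' => hχ.one_ne_zero (by simpa [h'] using congrFun h 1)
  obtain ⟨a, ha, g, hg⟩ := hA'
  have h1 : ∀ x : A, χ x = e * θ x := congrFun h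
  refine hg (hχ.isCharacter.commutator_of_norm_eq ?_ g)
  have h2 := hθ.norm_eq_of_commutator (z := ⟨a, ha⟩) fun b => mul_left_cancel₀ he (by
    rw [← h1, ← h1]; exact hA a ha b b.2)
  have h3 := h1 ⟨a, ha⟩
  have h4 := h1 1
  simp only [OneMemClass.coe_one] at h3 h4
  rw [h3, h4, norm_mul, norm_mul, h2]

theorem _root_.Cfsg.IsIrrCharacter.one_eq_one_of_commutator {G : Type*} [Group G] [Finite G]
    {χ : G → ℂ} (hχ : IsIrrCharacter G χ) (h : ∀ a b, χ (a * b * a⁻¹ * b⁻¹) = χ 1) :
    χ 1 = 1 := by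
  have := hχ.isClassFunction.charKer_normal
  obtain ⟨χ', h1, h2⟩ := hχ.exists_quotient (charKer χ) fun n hn => hχ.isCharacter.mem_charKer.1 hn
  rw [← h2 1]
  refine h1.one_eq_one_of_comm fun a b => ?_
  obtain ⟨a, rfl⟩ := QuotientGroup.mk_surjective a
  obtain ⟨b, rfl⟩ := QuotientGroup.mk_surjective b
  rw [← QuotientGroup.mk_mul, ← QuotientGroup.mk_mul, QuotientGroup.eq]
  refine hχ.isCharacter.mem_charKer.2 ?_
  simpa [mul_assoc] using h b⁻¹ a⁻¹

theorem isMonomial_of_isNilpotent (G : Type u) [Group G] [Finite G] :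
    ∀ [Fintype G] [Group.IsNilpotent G] {χ : G → ℂ}, IsIrrCharacter G χ → IsMonomial χ := by
  induction G, ‹Group G›, ‹Finite G› using Core.card_induction' with | _ G ih => ?_
  intro _ _ χ hχ
  by_cases h1 : χ 1 = 1
  · obtain ⟨l, rfl⟩ := hχ.isCharacter.exists_hom h1
    exact isMonomial_hom l
  have := hχ.isClassFunction.charKer_normal
  obtain ⟨A, -, ⟨hA, hA'⟩, hmax⟩ := Core.exists_maximal_ge
    (P := fun A : Subgroup (G ⧸ charKer χ) => A.Normal ∧ IsMulCommutative A) (H := ⊥)
    ⟨inferInstance, inferInstance⟩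
  have hC := Core.centralizer_eq_of_maximal_abelian_normal A hA' fun M h h' => hmax M ⟨h, h'⟩
  have hk : ∀ a b : G, χ (a * b * a⁻¹ * b⁻¹) = χ 1 ↔
      (a : G ⧸ charKer χ) * b = b * a := fun a b => by
    rw [← hχ.isCharacter.mem_charKer, ← QuotientGroup.eq_one_iff]
    simp [mul_inv_eq_iff_eq_mul]
  obtain ⟨T, ψ, -, hT, hψ, rfl⟩ := hχ.induced_of_abelian_mod_ker
    (A.comap (QuotientGroup.mk' _)) (fun a ha b hb => (hk a b).2
      (Core.isMulCommutative_iff_mem.1 hA' _ ha _ hb)) (by
      by_contra h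
      push Not at h
      have h2 : A = ⊤ := by
        rw [← hC, eq_top_iff]
        intro g _ a ha
        obtain ⟨a, rfl⟩ := QuotientGroup.mk_surjective a
        obtain ⟨g, rfl⟩ := QuotientGroup.mk_surjective g
        exact (hk a g).1 (h a ha g)
      exact h1 (hχ.one_eq_one_of_commutator fun a b => h a (by simp [h2]) b))
  have := Fintype.ofFinite T
  exact (ih T (Core.card_lt_of_ne_top hT) hψ).indFun

/-- Brauer's induction theorem. -/
theorem _root_.Cfsg.IsGeneralizedCharacter.mem_span_monomial {G : Type*} [Group G] [Fintype G]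
    {χ : G → ℂ} (hχ : IsGeneralizedCharacter G χ) :
    χ ∈ Submodule.span ℤ {f | ∃ (E : Subgroup G) (l : E →* ℂˣ),
      (∃ p : ℕ, p.Prime ∧ IsElementary p E) ∧ f = indFun E fun e => (l e : ℂ)} := by
  refine Submodule.span_le.2 ?_ hχ.mem_indSpan_elementary
  rintro _ ⟨E, φ, ⟨p, hp, hE⟩, hφ, rfl⟩
  have := Fintype.ofFinite E
  have := isNilpotent_of_isElementary hp hE
  refine hφ.induction_on (P := fun φ => indFun E φ ∈ Submodule.span ℤ {f | ∃ (E : Subgroup G)
      (l : E →* ℂˣ), (∃ p : ℕ, p.Prime ∧ IsElementary p E) ∧ f = indFun E fun e => (l e : ℂ)})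
    (by simp) (fun ψ hψ => ?_) fun a b _ _ ha hb => by rw [indFun_add]; exact add_mem ha hb
  obtain ⟨H, l, rfl⟩ := isMonomial_of_isNilpotent E hψ
  refine Submodule.subset_span ⟨H.map E.subtype,
    l.comp (H.equivMapOfInjective E.subtype E.subtype_injective).symm.toMonoidHom,
    ⟨p, hp, isElementary_map_subtype hp H
      (isElementary_of_injective hp hE H.subtype H.subtype_injective)⟩, indFun_indFun_map _ _⟩

end Monomial

end Cfsg.Agent.Char
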