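import Mathlib
import Cfsg.Prelude.Def_Characters
import Cfsg.Agent.Char.Brauer

/-!
# Applications of Brauer's theorem: defect zero, `π`-parts, normal complements; Artin induction.
-/

set_option autoImplicit false

namespace Cfsg.Agent.Char

open Representation Module Cfsg
open scoped ComplexConjugate

universe u

variable {G : Type*} [Group G]

theorem exists_nilpotent_decomp [Finite G] [Group.IsNilpotent G] {m n : ℕ} (hmn : m.Coprime n)
    (h : Nat.card G ∣ m * n) : ∃ A B : Subgroup G, A.Normal ∧ B.Normal ∧ Nat.card A ∣ m ∧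
      Nat.card B ∣ n ∧ A.IsComplement' B ∧ ∀ a ∈ A, ∀ b ∈ B, a * b = b * a := by
  have hA := Core.piCore_isPiNum (G := G) {p | p ∣ m}
  have hB := Core.piCore_isPiNum (G := G) {p | p ∣ m}ᶜ
  refine ⟨piCore {p | p ∣ m} G, piCore {p | p ∣ m}ᶜ G, inferInstance, inferInstance, ?_, ?_,
    Core.isComplement'_of_normal (Core.piCore_inf_piCore_compl _) ?_, fun a ha b hb => ?_⟩
  · exact (hA.coprime (Core.isPiNum_compl_primes_dvd_iff.2 hmn.symm)).dvd_of_dvd_mul_right
      ((Subgroup.card_subgroup_dvd_card _).trans h)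
  · exact (Core.isPiNum_compl_primes_dvd_iff.1 hB).dvd_of_dvd_mul_left
      ((Subgroup.card_subgroup_dvd_card _).trans h)
  · refine Core.eq_top_of_forall_not_dvd_index fun p hp hd => ?_
    have := Fact.mk hp
    refine Core.not_dvd_index_pCore_of_isNilpotent (G := G) p (hd.trans (Subgroup.index_dvd_of_le ?_))
    rw [Core.pCore_eq_piCore]
    by_cases hpm : p ∣ m
    · exact le_sup_of_le_left (Core.piCore_mono (by simpa using hpm))
    · exact le_sup_of_le_right (Core.piCore_mono (by simpa using hpm))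
  · exact (Core.le_centralizer_of_coprime (hA.coprime hB) ha b hb).symm

theorem sum_eq_sum_sum_of_isComplement' [Fintype G] {A B : Subgroup G} [Fintype A] [Fintype B]
    (h : A.IsComplement' B) {M : Type*} [AddCommMonoid M] (F : G → M) :
    ∑ g, F g = ∑ b : B, ∑ a : A, F (a * b) := by
  rw [← Fintype.sum_prod_type_right']
  exact (Fintype.sum_bijective _ h (fun x : A × B => F (x.1 * x.2)) F fun _ => rfl).symm

theorem classInner_of_isComplement' [Fintype G] {A B : Subgroup G} [Fintype A] [Fintype B]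
    (h : A.IsComplement' B) {θ : G → ℂ} (hθ : ∀ a ∈ A, ∀ b ∈ B, θ (a * b) = θ b) (ψ : G → ℂ) :
    classInner θ ψ = classInner (fun b : B => θ b) (fun b : B => cosetAvg A ψ b) := by
  simp only [classInner, cosetAvg, map_mul, map_inv₀, map_natCast, map_sum]
  rw [sum_eq_sum_sum_of_isComplement' h, ← h.card_mul_card, Nat.cast_mul, Finset.mul_sum,
    Finset.mul_sum]
  refine Finset.sum_congr rfl fun b _ => ?_
  rw [Finset.sum_congr rfl (fun (a : A) _ => by rw [hθ a a.2 b b.2]), ← Finset.mul_sum]
  ring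

theorem pow_eq_part {m n k : ℕ} (hk : k ≡ 0 [MOD m]) (hk' : k ≡ 1 [MOD n]) {u v : G}
    (huv : u * v = v * u) (hu : orderOf u ∣ m) (hv : orderOf v ∣ n) : (u * v) ^ k = v := by
  rw [Commute.mul_pow huv, orderOf_dvd_iff_pow_eq_one.1 (hu.trans ((Nat.modEq_zero_iff_dvd).1 hk)),
    one_mul, pow_eq_pow_iff_modEq.2 (hk'.of_dvd hv), pow_one]

theorem brauer_part [Fintype G] {m n k : ℕ} (hmn : m.Coprime n) (hG : Nat.card G ∣ m * n)
    (hk : k ≡ 0 [MOD m]) (hk' : k ≡ 1 [MOD n]) (R : AddSubgroup ℂ) {f : G → ℂ}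
    (hf : IsClassFunction G f)
    (h : ∀ (B : Subgroup G) (p : ℕ), p.Prime → IsElementary p B → Nat.card B ∣ n →
      ∀ [Fintype B] (ψ : B → ℂ), IsCharacter B ψ → classInner (fun x : B => f x) ψ ∈ R)
    {χ : G → ℂ} (hχ : IsGeneralizedCharacter G χ) : classInner (fun x => f (x ^ k)) χ ∈ R := by
  refine brauer_classInner_mem R (fun g x => by rw [conj_pow, hf]) (fun E p hp hE _ ψ hψ => ?_) hχ
  have := isNilpotent_of_isElementary hp hE
  obtain ⟨A, B, hA, hB, h1, h2, h3, h4⟩ :=
    exists_nilpotent_decomp (G := E) hmn (E.card_subgroup_dvd_card.trans hG)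
  have := Fintype.ofFinite A
  have := Fintype.ofFinite B
  have := Fintype.ofFinite (B.map E.subtype)
  have key : ∀ a ∈ A, ∀ b ∈ B, ((a * b : E) : G) ^ k = b := fun a ha b hb => by
    rw [← Subgroup.coe_pow, pow_eq_part hk hk' (h4 a ha b hb)
      ((Subgroup.orderOf_dvd_natCard A ha).trans h1) ((Subgroup.orderOf_dvd_natCard B hb).trans h2)]
  have key' : ∀ b : B, ((b : E) : G) ^ k = b := fun b => by simpa using key 1 A.one_mem b b.2
  rw [classInner_of_isComplement' h3 (fun a ha b hb => by rw [key a ha b hb, key' ⟨b, hb⟩])]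
  simp only [key']
  let e := B.equivMapOfInjective E.subtype E.subtype_injective
  have := h (B.map E.subtype) p hp (isElementary_map_subtype hp B
    (isElementary_of_injective hp hE B.subtype B.subtype_injective))
    (by rwa [← Nat.card_congr e.toEquiv]) _
    ((hψ.isCharacter.cosetAvg (N := A)).comp (B.subtype.comp e.symm.toMonoidHom))
  rw [← classInner_comp_equiv e.toEquiv] at this
  simpa [e] using this

/-- Characters of defect zero vanish on `p`-singular elements. -/
theorem _root_.Cfsg.IsIrrCharacter.eq_zero_of_defect_zero [Finite G] {χ : G → ℂ}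
    (hχ : IsIrrCharacter G χ) {p d r : ℕ} (hp : p.Prime) (hd : χ 1 = d) (hr : d * r = Nat.card G)
    (hpr : ¬ p ∣ r) {x : G} (hx : p ∣ orderOf x) : χ x = 0 := by
  classical
  have := Fintype.ofFinite G
  let θ : G → ℂ := fun x => if p ∣ orderOf x then 0 else χ x
  have hθ : IsClassFunction G θ := fun g x => by
    have : orderOf (x * g * x⁻¹) = orderOf g := (MulAut.conj x).orderOf_eq g
    simp only [θ, this, hχ.isClassFunction g x]
  obtain ⟨a, m, hm, hG⟩ := Nat.exists_eq_pow_mul_and_not_dvd (Nat.card_pos (α := G)).ne' p hp.ne_one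
  have hcop : (p ^ a).Coprime m := ((hp.coprime_iff_not_dvd).2 hm).pow_left _
  have hgen : IsGeneralizedCharacter G θ := by
    refine brauer_characterisation_nilpotent hθ fun E hE => ?_
    have := Fintype.ofFinite E
    refine (hθ.restrict E).isGen_of_classInner fun ψ hψ => ?_
    obtain ⟨A, B, hA, hB, h1, h2, h3, h4⟩ :=
      exists_nilpotent_decomp (G := E) hcop (hG ▸ E.card_subgroup_dvd_card)
    have := Fintype.ofFinite B
    have hBA : B.index = Nat.card A := h3.index_eq_card
    have h5 : ∀ x : E, x ∈ B ↔ ¬ p ∣ orderOf (x : G) := fun x => by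
      rw [Subgroup.orderOf_coe]
      refine ⟨fun hx hd => hm (hd.trans ((Subgroup.orderOf_dvd_natCard B hx).trans h2)),
        fun hx => Subgroup.zpowers_le.1 (Core.le_of_coprime_index ?_)⟩
      rw [Nat.card_zpowers, hBA]
      exact (((hp.coprime_iff_not_dvd).2 hx).symm.pow_right a).coprime_dvd_right h1
    have h6 := classInner_restrict_of_vanish (H := B) (χ := fun x : E => θ x)
      (fun x hx => if_pos (by simpa [h5] using hx)) ψ
    have h7 : (fun x : B => θ x) = fun x : B => χ x := funext fun x => if_neg ((h5 x).1 x.2)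
    obtain ⟨k, hk⟩ := ((hχ.isCharacter.restrict E).restrict B).classInner_nat
      (hψ.isCharacter.restrict B)
    rw [h7, hk, hBA] at h6
    have hA0 : (Nat.card A : ℂ) ≠ 0 := card_ne_zero A
    have h8 : IsIntegral ℤ (((r * Nat.card B * k : ℕ) : ℂ) / Nat.card A) := by
      rw [Nat.cast_mul, Nat.cast_mul, mul_assoc, ← hk, card_mul_classInner, Finset.mul_sum,
        Finset.sum_div]
      refine IsIntegral.sum _ fun y _ => ?_
      obtain ⟨c, hc⟩ : Nat.card A ∣ Nat.card (Subgroup.centralizer ({((y : E) : G)} : Set G)) := by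
        rw [← Subgroup.card_map_of_injective (K := A) E.subtype_injective]
        refine Subgroup.card_dvd_of_le ?_
        rintro _ ⟨a, ha, rfl⟩
        exact Subgroup.mem_centralizer_singleton_iff.2 (congrArg Subtype.val (h4 a ha y y.2))
      convert ((hχ.isIntegral_central ((y : E) : G)).mul (isIntegral_natCast (B := ℂ) c)).mul
        (hψ.isCharacter.conj.isIntegral y) using 1
      have e1 := (Subgroup.centralizer ({((y : E) : G)} : Set G)).card_mul_index
      rw [← hr, hc] at e1
      have e2 := congrArg (Nat.cast (R := ℂ)) e1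
      have hd0 : (d : ℂ) ≠ 0 := hd ▸ hχ.one_ne_zero
      push_cast at e2
      rw [hd]
      field_simp
      linear_combination (-χ y * conj (ψ y)) * e2
    have h9 := nat_dvd_of_isIntegral_div Nat.card_pos.ne' h8
    have h10 : (Nat.card A).Coprime (r * Nat.card B) :=
      (Nat.Coprime.mul_right (((hp.coprime_iff_not_dvd).2 hpr).pow_left a)
        (hcop.coprime_dvd_right h2)).coprime_dvd_left h1
    obtain ⟨c, hc⟩ := h10.dvd_of_dvd_mul_left h9
    refine ⟨c, mul_left_cancel₀ hA0 ?_⟩
    rw [← h6, hc]; simp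
  obtain ⟨n, hn⟩ := hgen.classInner_int hχ.isGen
  have h1 : classInner θ χ = classInner θ θ := by
    simp only [classInner, θ]
    congr 1
    refine Finset.sum_congr rfl fun g _ => ?_
    split_ifs <;> simp
  have h2 : classInner (χ - θ) (χ - θ) = 1 - n := by
    rw [classInner_sub_left, classInner_sub_right, classInner_sub_right, ← h1,
      hχ.isGen.classInner_comm hgen, hn, hχ.classInner_self]
    ring
  have h3 := classInner_self_re_nonneg (χ - θ)
  have h4 := classInner_self_re_nonneg θ
  have h5 : n ≠ 0 := by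
    rintro rfl
    rw [h1, Int.cast_zero, classInner_self_eq_zero] at hn
    have := congrFun hn 1
    simp only [θ, orderOf_one, Nat.dvd_one, hp.ne_one, if_false] at this
    exact hχ.one_ne_zero this
  rw [h2] at h3
  rw [← h1, hn] at h4
  simp only [Complex.sub_re, Complex.one_re, Complex.intCast_re, sub_nonneg, Int.cast_nonneg_iff]
    at h3 h4
  have h6 : n = 1 := by
    have : n ≤ 1 := by exact_mod_cast h3
    omega
  rw [h6, Int.cast_one, sub_self, classInner_self_eq_zero] at h2
  simpa [θ, hx] using congrFun h2 x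

open Classical in
theorem isIntegral_classInner_part [Fintype G] {m n k : ℕ} (hmn : m.Coprime n)
    (hG : Nat.card G ∣ m * n) (hk : k ≡ 0 [MOD m]) (hk' : k ≡ 1 [MOD n]) (g : G) {χ : G → ℂ}
    (hχ : IsGeneralizedCharacter G χ) :
    IsIntegral ℤ (classInner (fun x => (n : ℂ) * classInd g (x ^ k)) χ) := by
  refine brauer_part hmn hG hk hk' (integralClosure ℤ ℂ).toSubring.toAddSubgroup
    (f := (n : ℂ) • classInd g) ((isClassFunction_classInd g).smul _)
    (fun B p _ _ hB _ ψ hψ => ?_) hχ
  obtain ⟨c, rfl⟩ := hB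
  change IsIntegral ℤ _
  simp only [classInner, Pi.smul_apply, smul_eq_mul, Nat.cast_mul, mul_assoc, ← Finset.mul_sum]
  rw [← mul_assoc, inv_mul_cancel₀ (card_ne_zero B), one_mul]
  refine (isIntegral_natCast c).mul (IsIntegral.sum _ fun y _ => IsIntegral.mul ?_
    (hψ.conj.isIntegral y))
  unfold classInd
  split_ifs
  exacts [isIntegral_one, isIntegral_zero]

/-- The Brauer–Suzuki normal complement criterion. -/
theorem exists_normal_complement_of_fusion [Finite G] (H : Subgroup G)
    (hHall : Nat.Coprime (Nat.card H) H.index)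
    (hfus : ∀ x ∈ H, ∀ y ∈ H, IsConj x y → ∃ h ∈ H, h * x * h⁻¹ = y)
    (helem : ∀ (E : Subgroup G) (p : ℕ), p.Prime → IsElementary p E → Nat.card E ∣ Nat.card H →
      ∃ g : G, ∀ x ∈ E, g * x * g⁻¹ ∈ H) :
    ∃ K : Subgroup G, K.Normal ∧ K ⊔ H = ⊤ ∧ K ⊓ H = ⊥ := by
  classical
  have := Fintype.ofFinite G
  have := Fintype.ofFinite H
  obtain ⟨k, hk, hk'⟩ := Nat.chineseRemainder hHall.symm 0 1
  have hG : Nat.card G = H.index * Nat.card H := H.index_mul_card.symm
  -- `r x` is an element of `H` conjugate to `x`, if there is one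
  let r : G → H := fun x => if h : ∃ y : H, IsConj x y then h.choose else 1
  have hr : ∀ (x : G) (y : H), IsConj x y → IsConj (r x) y := fun x y hy => by
    have h : ∃ y : H, IsConj x y := ⟨y, hy⟩
    obtain ⟨c, hc, e⟩ := hfus _ h.choose.2 y y.2 (h.choose_spec.symm.trans hy)
    simp only [r, dif_pos h]
    exact isConj_iff.2 ⟨⟨c, hc⟩, Subtype.ext e⟩
  have hr' : ∀ g x : G, IsConj (r (x * g * x⁻¹)) (r g) := fun g x => by
    have h1 : IsConj g (x * g * x⁻¹) := isConj_iff.2 ⟨x, rfl⟩
    by_cases h : ∃ y : H, IsConj g y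
    · obtain ⟨y, hy⟩ := h
      exact (hr _ y (h1.symm.trans hy)).trans (hr _ y hy).symm
    · have h' : ¬ ∃ y : H, IsConj (x * g * x⁻¹) y := fun ⟨y, hy⟩ => h ⟨y, h1.trans hy⟩
      simp only [r, dif_neg h, dif_neg h', IsConj.refl]
  have hpow : ∀ h : H, (h : G) ^ k = h := fun h => by
    simpa using pow_eq_part hk hk' (u := (1 : G)) (v := h) (by simp) (by simp)
      (Subgroup.orderOf_dvd_natCard H h.2)
  let ext : (H → ℂ) → G → ℂ := fun ξ x => ξ (r (x ^ k))
  have hext : ∀ ξ, IsClassFunction H ξ → ∀ h : H, ext ξ h = ξ h := fun ξ hξ h => by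
    simp only [ext, hpow]
    exact hξ.of_isConj (hr _ h (IsConj.refl _))
  have hgen : ∀ φ, IsCharacter H φ → IsGeneralizedCharacter G (ext φ) := fun φ hφ => by
    have h1 : IsClassFunction G fun x => φ (r x) := fun g x => hφ.isClassFunction.of_isConj (hr' g x)
    refine IsClassFunction.isGen_of_classInner (fun g x => by
      simp only [ext, conj_pow]; exact h1 _ _) fun χ hχ => ?_
    obtain ⟨n, hn⟩ := brauer_part hHall.symm hG.dvd hk hk' (Int.castAddHom ℂ).range h1
      (fun B p hp hB hd _ ψ hψ => by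
        obtain ⟨g, hg⟩ := helem B p hp hB hd
        let f : B →* H := ((MulAut.conj g).toMonoidHom.comp B.subtype).codRestrict H
          fun x => hg x x.2
        have : (fun x : B => φ (r x)) = fun x => φ (f x) := funext fun x =>
          hφ.isClassFunction.of_isConj (hr _ _ (isConj_iff.2 ⟨g, rfl⟩))
        obtain ⟨n, hn⟩ := (hφ.comp f).classInner_nat hψ
        exact ⟨n, by rw [this, hn]; simp⟩) hχ.isGen
    exact ⟨n, hn.symm⟩
  choose c hc using fun φ : IrrCharacter H => (hgen φ φ.2.isCharacter).classInner_int isGen_one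
  let w : H → ℂ := ∑ φ : IrrCharacter H, (c φ : ℂ) • (φ : H → ℂ)
  have hw : IsGeneralizedCharacter H w := isGen_sum_irr c
  have hw1 : ∀ ξ, IsClassFunction H ξ → classInner (ext ξ) (fun _ => 1) = classInner ξ w := by
    intro ξ hξ
    have : ext ξ = ∑ φ : IrrCharacter H, classInner ξ φ • ext φ := by
      ext x; simpa using hξ.apply_eq_sum_irr _
    rw [this, classInner_sum_left, hξ.classInner_eq_sum_irr]
    refine Finset.sum_congr rfl fun φ _ => ?_
    rw [classInner_smul_left, hc, classInner_sum_irr]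
    simp
  have hw2 : ∀ h, ∃ n : ℕ, 1 ≤ n ∧ w h = n := fun h => by
    have h1 := hw1 _ (isClassFunction_classInd h)
    rw [classInner_classInd h hw.isClassFunction, classInner_one_right] at h1
    simp only [ext, classInd] at h1
    rw [@sum_ite_eq_card _ _ (fun x => IsConj h (r (x ^ k))) (fun _ => Classical.propDecidable _),
      eq_inv_mul_iff_mul_eq₀ (card_ne_zero _)] at h1
    set a := Nat.card {x : G // IsConj h (r (x ^ k))}
    set b := Nat.card (Subgroup.centralizer ({h} : Set H))
    have h2 : w h = ((b * a : ℕ) : ℂ) / Nat.card G := by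
      rw [← Complex.conj_conj (w h), ← h1]
      simp [div_eq_mul_inv, mul_comm, mul_left_comm]
    obtain ⟨n, hn⟩ := nat_dvd_of_isIntegral_div Nat.card_pos.ne' (h2 ▸ hw.isIntegral h)
    have ha : a ≠ 0 := by
      have : Nonempty {x : G // IsConj h (r (x ^ k))} :=
        ⟨⟨h, by rw [hpow]; exact (hr _ h (IsConj.refl _)).symm⟩⟩
      exact Nat.card_pos.ne'
    refine ⟨n, Nat.pos_of_ne_zero ?_, by
      rw [h2, hn, Nat.cast_mul, mul_div_cancel_left₀ _ (card_ne_zero G)]⟩
    rintro rfl
    exact mul_ne_zero Nat.card_pos.ne' ha hn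
  have hw3 : w = fun _ => 1 := by
    choose n hn hn' using hw2
    have h1 := hw1 _ (isClassFunction_const 1)
    rw [hw.classInner_comm isGen_one |>.symm, classInner_one_right w] at h1
    change classInner (fun _ => 1) _ = _ at h1
    rw [isIrrCharacter_one.classInner_self, eq_inv_mul_iff_mul_eq₀ (card_ne_zero _), mul_one] at h1
    simp only [hn', ← Nat.cast_sum, Nat.cast_inj] at h1
    have h2 := (Finset.sum_eq_sum_iff_of_le (s := Finset.univ) (f := fun _ => 1) (g := n)
      (fun h _ => hn h)).1 (by simpa [Nat.card_eq_fintype_card] using h1)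
    ext h
    rw [hn', ← h2 h (Finset.mem_univ _), Nat.cast_one]
  have hirr : ∀ φ : IrrCharacter H, IsIrrCharacter G (ext φ) := fun φ => by
    refine (hgen φ φ.2.isCharacter).isIrr_of_re_pos ?_ ?_
    · rw [classInner_eq_one_right]
      have := hw1 _ (φ.2.isClassFunction.mul φ.2.isClassFunction.conj)
      rw [hw3, ← classInner_eq_one_right, φ.2.classInner_self] at this
      exact this
    · rw [show ext φ 1 = _ from hext φ φ.2.isClassFunction 1]
      exact φ.2.isCharacter.re_one_nonneg
  refine ⟨⨅ φ : IrrCharacter H, charKer (ext φ),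
    Subgroup.normal_iInf_normal fun φ => (hirr φ).isClassFunction.charKer_normal, ?_, ?_⟩
  · refine Core.eq_top_of_forall_not_dvd_index fun q hq hd => ?_
    have := Fact.mk hq
    obtain ⟨Q⟩ : Nonempty (Sylow q G) := inferInstance
    refine Q.not_dvd_index (hd.trans (Subgroup.index_dvd_of_le (le_sup_of_le_left fun x hx => ?_)))
    refine Subgroup.mem_iInf.2 fun φ => (hirr φ).isCharacter.mem_charKer.2 ?_
    have h1 : q ∣ H.index := hd.trans (Subgroup.index_dvd_of_le le_sup_right)
    obtain ⟨j, hj⟩ := Q.isPGroup'.exists_card_eq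
    have h2 : orderOf x ∣ H.index := by
      refine Nat.Coprime.dvd_of_dvd_mul_right ?_ (hG ▸ orderOf_dvd_natCard x)
      exact ((hHall.symm.coprime_dvd_left h1).pow_left j).coprime_dvd_left
        (hj ▸ Subgroup.orderOf_dvd_natCard _ hx)
    have h3 : x ^ k = 1 := by
      simpa using pow_eq_part hk hk' (u := x) (v := 1) (by simp) h2 (by simp)
    simp only [ext, h3, one_pow]
  · rw [eq_bot_iff]
    rintro x ⟨hx, hxH⟩
    have : (⟨x, hxH⟩ : H) = 1 := eq_one_of_forall_irr fun φ hφ => by
      rw [← hext φ hφ.isClassFunction, ← hext φ hφ.isClassFunction]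
      exact (hirr ⟨φ, hφ⟩).isCharacter.mem_charKer.1 (Subgroup.mem_iInf.1 hx ⟨φ, hφ⟩)
    exact congrArg Subtype.val this

section Artin

open Classical in
/-- The function equal to `|G|` at the generators of `G` and zero elsewhere. -/
noncomputable def genFun (G : Type*) [Group G] : G → ℂ :=
  fun x => if Subgroup.zpowers x = ⊤ then (Nat.card G : ℂ) else 0

theorem sum_indFun_genFun [Fintype G] [Fintype (Subgroup G)] :
    ∑ A : Subgroup G, indFun A (genFun A) = fun _ => (Nat.card G : ℂ) := by
  classical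
  ext g
  simp only [Finset.sum_apply, indFun_apply', Finset.mul_sum]
  rw [Finset.sum_comm, Finset.sum_congr rfl (g := fun _ => 1) fun x _ => ?_]
  · simp
  have key : ∀ (A : Subgroup G) (y : G) (hy : y ∈ A),
      Subgroup.zpowers (⟨y, hy⟩ : A) = ⊤ ↔ A = Subgroup.zpowers y := fun A y hy => by
    rw [← (Subgroup.map_injective A.subtype_injective).eq_iff, MonoidHom.map_zpowers,
      ← MonoidHom.range_eq_map, Subgroup.range_subtype, eq_comm]
    rfl
  rw [Finset.sum_eq_single (Subgroup.zpowers (x * g * x⁻¹)) (fun A _ hA => ?_) (by simp)]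
  · rw [extendByZero_of_mem _ _ (Subgroup.mem_zpowers _), genFun, if_pos ((key _ _ _).2 rfl),
      inv_mul_cancel₀ (card_ne_zero _)]
  · by_cases h : x * g * x⁻¹ ∈ A
    · rw [extendByZero_of_mem _ _ h, genFun, if_neg (mt (key _ _ _).1 hA), mul_zero]
    · rw [extendByZero_of_not_mem _ _ h, mul_zero]

theorem isGen_genFun (G : Type u) [Group G] [Finite G] : IsGeneralizedCharacter G (genFun G) := by
  classical
  induction G, ‹Group G›, ‹Finite G› using Core.card_induction' with | _ G ih => ?_
  by_cases hc : IsCyclic G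
  swap
  · have : genFun G = 0 := funext fun x => if_neg fun h => hc ⟨x, fun y => by
      change y ∈ Subgroup.zpowers x; rw [h]; trivial⟩
    rw [this]; exact isGen_zero
  have := Fintype.ofFinite G
  have := Fintype.ofFinite (Subgroup G)
  have h := sum_indFun_genFun (G := G)
  rw [← Finset.add_sum_erase _ _ (Finset.mem_univ ⊤), ← eq_sub_iff_add_eq] at h
  have h1 : indFun ⊤ (genFun (⊤ : Subgroup G)) = genFun G := by
    ext g
    rw [indFun_top _ (fun a b => by
      have : b * a = a * b := Subtype.ext (IsCyclic.commGroup.mul_comm _ _)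
      rw [this, mul_inv_cancel_right])]
    simp only [genFun, Subgroup.card_top]
    congr 1
    rw [← (Subgroup.map_injective (⊤ : Subgroup G).subtype_injective).eq_iff, MonoidHom.map_zpowers,
      ← MonoidHom.range_eq_map, Subgroup.range_subtype]
    rfl
  rw [← h1, h]
  exact (isCharacter_natCast _).isGen.sub (isGen_sum _ _ fun A hA =>
    (ih A (Core.card_lt_of_ne_top (Finset.mem_erase.1 hA).1)).indFun)

theorem artin_induction [Fintype G] {χ : G → ℂ} (hχ : IsGeneralizedCharacter G χ) :
    (Nat.card G : ℂ) • χ ∈ Submodule.span ℤ {f | ∃ (A : Subgroup G) (l : A →* ℂˣ),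
      IsCyclic A ∧ f = indFun A fun a => (l a : ℂ)} := by
  classical
  have := Fintype.ofFinite (Subgroup G)
  have h : (Nat.card G : ℂ) • χ = ∑ A : Subgroup G, indFun A (genFun A * fun a : A => χ a) := by
    simp only [indFun_mul_restrict _ _ hχ.isClassFunction, ← Finset.sum_mul, sum_indFun_genFun]
    rfl
  rw [h]
  refine Submodule.sum_mem _ fun A _ => ?_
  by_cases hc : IsCyclic A
  swap
  · have : genFun A = 0 := funext fun x => if_neg fun h => hc ⟨x, fun y => by
      change y ∈ Subgroup.zpowers x; rw [h]; trivial⟩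
    simp [this]
  have key : ∀ φ, IsCharacter A φ → indFun A φ ∈ Submodule.span ℤ {f | ∃ (A : Subgroup G)
      (l : A →* ℂˣ), IsCyclic A ∧ f = indFun A fun a => (l a : ℂ)} := fun φ hφ => by
    refine hφ.induction_on (P := fun φ => indFun A φ ∈ Submodule.span ℤ {f | ∃ (A : Subgroup G)
      (l : A →* ℂˣ), IsCyclic A ∧ f = indFun A fun a => (l a : ℂ)}) (by simp) (fun ψ hψ => ?_)
      fun a b _ _ ha hb => by rw [indFun_add]; exact add_mem ha hb
    obtain ⟨l, rfl⟩ := hψ.exists_hom_of_comm IsCyclic.commGroup.mul_comm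
    exact Submodule.subset_span ⟨A, l, hc, rfl⟩
  obtain ⟨a, b, ha, hb, e⟩ := (isGen_genFun A).mul (hχ.restrict A)
  rw [e, indFun_sub]
  exact sub_mem (key a ha) (key b hb)

end Artin

end Cfsg.Agent.Char
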