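import Mathlib
import Cfsg.Agent.Char.Integral
import Cfsg.Agent.Core.Basic

/-!
# Burnside's `p^a q^b` theorem.
-/

set_option autoImplicit false

namespace Cfsg.Agent.Char

universe u

theorem isSolvable_of_card_dvd_pow_mul_pow {p q a b : ℕ} (hp : p.Prime) (hq : q.Prime)
    (G : Type u) [Group G] [Finite G] (h : Nat.card G ∣ p ^ a * q ^ b) : Group.IsSolvable G := by
  revert h
  refine Core.card_induction
    (P := fun G _ _ => Nat.card G ∣ p ^ a * q ^ b → Group.IsSolvable G) ?_ G
  intro G _ _ ih h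
  by_cases hN : ∃ N : Subgroup G, N.Normal ∧ N ≠ ⊥ ∧ N ≠ ⊤
  · obtain ⟨N, hN, h1, h2⟩ := hN
    rw [Group.isSolvable_iff_subgroup_quotient N]
    exact ⟨ih N (Core.card_lt_of_ne_top h2) ((Subgroup.card_subgroup_dvd_card N).trans h),
      ih _ (Core.card_quotient_lt h1) ((Subgroup.card_quotient_dvd_card N).trans h)⟩
  rcases subsingleton_or_nontrivial G with hG | hG
  · infer_instance
  have : IsSimpleGroup G := ⟨fun N hN' => by
    by_contra h3
    push Not at h3
    exact hN ⟨N, hN', h3.1, h3.2⟩⟩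
  have := Fact.mk hp
  have := Fact.mk hq
  obtain ⟨Q⟩ : Nonempty (Sylow q G) := inferInstance
  have hidx : (Q : Subgroup G).index ∣ p ^ a := by
    refine Nat.Coprime.dvd_of_dvd_mul_right ?_ ((Subgroup.index_dvd_card _).trans h)
    exact ((Nat.Prime.coprime_iff_not_dvd hq).2 Q.not_dvd_index).symm.pow_right b
  by_cases hQ : (Q : Subgroup G) = ⊥
  · rw [hQ, Subgroup.index_bot] at hidx
    obtain ⟨k, -, hk⟩ := (Nat.dvd_prime_pow hp).1 hidx
    exact Core.isSolvable_of_isPGroup (IsPGroup.of_card hk)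
  have : Nontrivial Q := (Subgroup.nontrivial_iff_ne_bot _).2 hQ
  have := Q.isPGroup'.center_nontrivial
  obtain ⟨⟨z, hz⟩, hz1⟩ := exists_ne (1 : Subgroup.center Q)
  have hle : (Q : Subgroup G) ≤ Subgroup.centralizer ({(z : G)} : Set G) := fun x hx => by
    rw [Subgroup.mem_centralizer_singleton_iff]
    exact congrArg Subtype.val (Subgroup.mem_center_iff.1 hz ⟨x, hx⟩)
  obtain ⟨k, -, hk⟩ := (Nat.dvd_prime_pow hp).1 ((Subgroup.index_dvd_of_le hle).trans hidx)
  exact Group.isSolvable_of_comm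
    (comm_of_simple_of_prime_pow_class hp (g := z) (by simpa using hz1) hk)

end Cfsg.Agent.Char
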