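import Mathlib
import Cfsg.Prelude.Def_OddOrderChar
import Cfsg.Agent.Char.TI
import Cfsg.Agent.Char.Galois

/-!
# Euclidean geometry of class functions: norms, projections, Bessel's inequality, signed
irreducible characters.
-/

set_option autoImplicit false

namespace Cfsg.Agent.Char

open Cfsg
open scoped ComplexConjugate

variable {G : Type*} [Group G] [Fintype G]

/-- The squared norm of a function. -/
noncomputable def nrm (φ : G → ℂ) : ℝ := (classInner φ φ).re

theorem nrm_def (φ : G → ℂ) : nrm φ = (classInner φ φ).re := rfl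

theorem classInner_self_nrm (φ : G → ℂ) : classInner φ φ = (nrm φ : ℂ) := by
  rw [nrm, classInner_self_eq, Complex.ofReal_re]

theorem nrm_eq_sum (φ : G → ℂ) : nrm φ = (Nat.card G : ℝ)⁻¹ * ∑ g, ‖φ g‖ ^ 2 :=
  classInner_self_re φ

theorem nrm_nonneg (φ : G → ℂ) : 0 ≤ nrm φ := classInner_self_re_nonneg φ

theorem nrm_eq_zero {φ : G → ℂ} : nrm φ = 0 ↔ φ = 0 := by
  rw [← classInner_self_eq_zero, classInner_self_nrm, Complex.ofReal_eq_zero]

theorem nrm_pos {φ : G → ℂ} (h : φ ≠ 0) : 0 < nrm φ :=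
  (nrm_nonneg φ).lt_of_ne' (mt nrm_eq_zero.1 h)

theorem eq_zero_of_nrm_le {φ : G → ℂ} (h : nrm φ ≤ 0) : φ = 0 :=
  nrm_eq_zero.1 (h.antisymm (nrm_nonneg φ))

@[simp] theorem nrm_zero : nrm (0 : G → ℂ) = 0 := nrm_eq_zero.2 rfl

theorem nrm_eq_iff {φ : G → ℂ} {r : ℝ} : nrm φ = r ↔ classInner φ φ = r := by
  rw [classInner_self_nrm, Complex.ofReal_inj]

theorem nrm_eq_of_classInner {H : Type*} [Group H] [Fintype H] {φ : G → ℂ} {ψ : H → ℂ}
    (h : classInner φ φ = classInner ψ ψ) : nrm φ = nrm ψ := by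
  rw [nrm, h, nrm]

theorem classInner_re_comm (φ ψ : G → ℂ) : (classInner φ ψ).re = (classInner ψ φ).re := by
  rw [← conj_classInner, Complex.conj_re]

theorem norm_classInner_comm (φ ψ : G → ℂ) : ‖classInner φ ψ‖ = ‖classInner ψ φ‖ := by
  rw [← conj_classInner, Complex.norm_conj]

theorem nrm_add (φ ψ : G → ℂ) : nrm (φ + ψ) = nrm φ + nrm ψ + 2 * (classInner φ ψ).re := by
  simp only [nrm, classInner_add_left, classInner_add_right, Complex.add_re,
    classInner_re_comm ψ φ]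
  ring

theorem nrm_sub (φ ψ : G → ℂ) : nrm (φ - ψ) = nrm φ + nrm ψ - 2 * (classInner φ ψ).re := by
  simp only [nrm, classInner_sub_left, classInner_sub_right, Complex.sub_re,
    classInner_re_comm ψ φ]
  ring

@[simp] theorem nrm_neg (φ : G → ℂ) : nrm (-φ) = nrm φ := by
  simp [nrm, classInner_neg_left, classInner_neg_right]

theorem nrm_sub_comm (φ ψ : G → ℂ) : nrm (φ - ψ) = nrm (ψ - φ) := by
  rw [← nrm_neg, neg_sub]

theorem nrm_smul (c : ℂ) (φ : G → ℂ) : nrm (c • φ) = ‖c‖ ^ 2 * nrm φ := by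
  rw [nrm_eq_iff, classInner_smul_left, classInner_smul_right, classInner_self_nrm, ← mul_assoc,
    Complex.mul_conj, Complex.normSq_eq_norm_sq]
  push_cast; ring

theorem nrm_ofReal_smul (c : ℝ) (φ : G → ℂ) : nrm ((c : ℂ) • φ) = c ^ 2 * nrm φ := by
  rw [nrm_smul, Complex.norm_real, Real.norm_eq_abs, sq_abs]

theorem nrm_intCast_smul (c : ℤ) (φ : G → ℂ) : nrm ((c : ℂ) • φ) = c ^ 2 * nrm φ := by
  rw [← nrm_ofReal_smul]; simp

theorem nrm_natCast_smul (c : ℕ) (φ : G → ℂ) : nrm ((c : ℂ) • φ) = c ^ 2 * nrm φ := by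
  rw [← nrm_ofReal_smul]; simp

theorem nrm_add_of_orth {φ ψ : G → ℂ} (h : classInner φ ψ = 0) : nrm (φ + ψ) = nrm φ + nrm ψ := by
  rw [nrm_add, h]; simp

theorem nrm_sub_of_orth {φ ψ : G → ℂ} (h : classInner φ ψ = 0) : nrm (φ - ψ) = nrm φ + nrm ψ := by
  rw [nrm_sub, h]; simp

theorem nrm_conj (φ : G → ℂ) : nrm (conjFun φ) = nrm φ := by
  unfold nrm conjFun; rw [classInner_conj_conj]

theorem nrm_sum_of_orth {ι : Type*} (s : Finset ι) (e : ι → G → ℂ)
    (h : ∀ i ∈ s, ∀ j ∈ s, i ≠ j → classInner (e i) (e j) = 0) :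
    nrm (∑ i ∈ s, e i) = ∑ i ∈ s, nrm (e i) := by
  rw [nrm_eq_iff, classInner_sum_left, Complex.ofReal_sum]
  refine Finset.sum_congr rfl fun i hi => ?_
  rw [classInner_sum_right, Finset.sum_eq_single_of_mem i hi fun j hj hne => h i hi j hj hne.symm,
    classInner_self_nrm]

theorem _root_.Cfsg.IsIrrCharacter.nrm_eq {χ : G → ℂ} (h : IsIrrCharacter G χ) : nrm χ = 1 := by
  rw [nrm, h.classInner_self, Complex.one_re]

theorem _root_.Cfsg.IsGeneralizedCharacter.exists_nrm {χ : G → ℂ}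
    (h : IsGeneralizedCharacter G χ) : ∃ n : ℕ, nrm χ = n := by
  obtain ⟨n, hn⟩ := h.classInner_int h
  have h1 : nrm χ = n := by rw [nrm, hn]; simp
  have h2 := nrm_nonneg χ
  rw [h1] at h2
  lift n to ℕ using (by exact_mod_cast h2)
  exact ⟨n, by simpa using h1⟩

theorem _root_.Cfsg.IsGeneralizedCharacter.one_le_nrm {χ : G → ℂ}
    (h : IsGeneralizedCharacter G χ) (h0 : χ ≠ 0) : 1 ≤ nrm χ := by
  obtain ⟨n, hn⟩ := h.exists_nrm
  have := nrm_pos h0
  rw [hn] at this ⊢
  exact_mod_cast this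

theorem _root_.Cfsg.IsGeneralizedCharacter.eq_zero_of_nrm_lt {χ : G → ℂ}
    (h : IsGeneralizedCharacter G χ) (h0 : nrm χ < 1) : χ = 0 := by
  by_contra h1
  exact (h.one_le_nrm h1).not_gt h0

theorem _root_.Cfsg.IsGeneralizedCharacter.classInner_re {φ ψ : G → ℂ}
    (h : IsGeneralizedCharacter G φ) (h' : IsGeneralizedCharacter G ψ) :
    ((classInner φ ψ).re : ℂ) = classInner φ ψ := by
  obtain ⟨n, hn⟩ := h.classInner_int h'
  rw [hn]; simp

section Proj

variable {ι : Type*}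

/-- Orthogonal projection on the span of an orthogonal family. -/
noncomputable def proj (s : Finset ι) (e : ι → G → ℂ) (β : G → ℂ) : G → ℂ :=
  ∑ i ∈ s, (classInner β (e i) / nrm (e i)) • e i

variable {s : Finset ι} {e : ι → G → ℂ}

theorem classInner_proj (h : ∀ i ∈ s, ∀ j ∈ s, i ≠ j → classInner (e i) (e j) = 0) (β : G → ℂ)
    {j : ι} (hj : j ∈ s) : classInner (proj s e β) (e j) = classInner β (e j) := by
  rw [proj, classInner_sum_left, Finset.sum_eq_single_of_mem j hj fun i hi hne => by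
    rw [classInner_smul_left, h i hi j hj hne, mul_zero], classInner_smul_left, classInner_self_nrm]
  by_cases h0 : e j = 0
  · simp [h0]
  · exact div_mul_cancel₀ _ (by exact_mod_cast (nrm_pos h0).ne')

theorem classInner_sub_proj (h : ∀ i ∈ s, ∀ j ∈ s, i ≠ j → classInner (e i) (e j) = 0)
    (β : G → ℂ) {j : ι} (hj : j ∈ s) : classInner (β - proj s e β) (e j) = 0 := by
  rw [classInner_sub_left, classInner_proj h β hj, sub_self]

theorem classInner_proj_of_orth {γ : G → ℂ} (h : ∀ i ∈ s, classInner γ (e i) = 0) (β : G → ℂ) :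
    classInner γ (proj s e β) = 0 := by
  rw [proj, classInner_sum_right]
  exact Finset.sum_eq_zero fun i hi => by rw [classInner_smul_right, h i hi, mul_zero]

theorem proj_classInner_of_orth {γ : G → ℂ} (h : ∀ i ∈ s, classInner (e i) γ = 0) (β : G → ℂ) :
    classInner (proj s e β) γ = 0 :=
  classInner_eq_zero_comm.1 (classInner_proj_of_orth
    (fun i hi => classInner_eq_zero_comm.1 (h i hi)) β)

theorem classInner_sub_proj_proj (h : ∀ i ∈ s, ∀ j ∈ s, i ≠ j → classInner (e i) (e j) = 0)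
    (β γ : G → ℂ) : classInner (β - proj s e β) (proj s e γ) = 0 :=
  classInner_proj_of_orth (fun _ hi => classInner_sub_proj h β hi) γ

theorem nrm_proj (h : ∀ i ∈ s, ∀ j ∈ s, i ≠ j → classInner (e i) (e j) = 0) (β : G → ℂ) :
    nrm (proj s e β) = ∑ i ∈ s, ‖classInner β (e i)‖ ^ 2 / nrm (e i) := by
  rw [proj, nrm_sum_of_orth _ _ fun i hi j hj hne => by
    rw [classInner_smul_left, classInner_smul_right, h i hi j hj hne, mul_zero, mul_zero]]
  refine Finset.sum_congr rfl fun i _ => ?_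
  rw [nrm_smul, norm_div, Complex.norm_real, Real.norm_of_nonneg (nrm_nonneg _)]
  by_cases h0 : nrm (e i) = 0
  · simp [h0]
  · field_simp

theorem nrm_eq_proj_add (h : ∀ i ∈ s, ∀ j ∈ s, i ≠ j → classInner (e i) (e j) = 0) (β : G → ℂ) :
    nrm β = nrm (proj s e β) + nrm (β - proj s e β) := by
  rw [add_comm, ← nrm_add_of_orth (classInner_sub_proj_proj h β β), sub_add_cancel]

theorem nrm_proj_le (h : ∀ i ∈ s, ∀ j ∈ s, i ≠ j → classInner (e i) (e j) = 0) (β : G → ℂ) :
    nrm (proj s e β) ≤ nrm β := by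
  rw [nrm_eq_proj_add h β]
  exact le_add_of_nonneg_right (nrm_nonneg _)

/-- Bessel's inequality. -/
theorem bessel (h : ∀ i ∈ s, ∀ j ∈ s, i ≠ j → classInner (e i) (e j) = 0) (β : G → ℂ) :
    ∑ i ∈ s, ‖classInner β (e i)‖ ^ 2 / nrm (e i) ≤ nrm β :=
  nrm_proj h β ▸ nrm_proj_le h β

theorem eq_proj_of_nrm_le (h : ∀ i ∈ s, ∀ j ∈ s, i ≠ j → classInner (e i) (e j) = 0) {β : G → ℂ}
    (h1 : nrm β ≤ nrm (proj s e β)) : β = proj s e β := by
  have := nrm_eq_proj_add h β
  exact sub_eq_zero.1 (eq_zero_of_nrm_le (by linarith))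

/-- Two projections on mutually orthogonal families. -/
theorem nrm_proj_add_le {κ : Type*} {t : Finset κ} {f : κ → G → ℂ}
    (h : ∀ i ∈ s, ∀ j ∈ s, i ≠ j → classInner (e i) (e j) = 0)
    (h' : ∀ i ∈ t, ∀ j ∈ t, i ≠ j → classInner (f i) (f j) = 0)
    (hef : ∀ i ∈ s, ∀ j ∈ t, classInner (e i) (f j) = 0) (β : G → ℂ) :
    nrm β = nrm (proj s e β) + nrm (proj t f β) + nrm (β - proj s e β - proj t f β) := by
  have h1 : proj t f (β - proj s e β) = proj t f β := by
    refine Finset.sum_congr rfl fun j hj => ?_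
    rw [classInner_sub_left, proj_classInner_of_orth fun i hi => hef i hi j hj, sub_zero]
  rw [nrm_eq_proj_add h β, nrm_eq_proj_add h' (β - proj s e β), h1, add_assoc]

/-- The Cauchy–Schwarz inequality. -/
theorem norm_classInner_sq_le (φ ψ : G → ℂ) : ‖classInner φ ψ‖ ^ 2 ≤ nrm φ * nrm ψ := by
  by_cases h0 : ψ = 0
  · simp [h0]
  · have := bessel (s := {()}) (e := fun _ => ψ) (by simp) φ
    rw [Finset.sum_singleton, div_le_iff₀ (nrm_pos h0)] at this
    exact this

end Proj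

section Orthonormal

open Classical in
/-- An orthonormal finite set of functions. -/
def Orthon (R : Finset (G → ℂ)) : Prop :=
  ∀ α ∈ R, ∀ β ∈ R, classInner α β = if α = β then 1 else 0

variable {R : Finset (G → ℂ)}

theorem Orthon.self (h : Orthon R) {α : G → ℂ} (hα : α ∈ R) : classInner α α = 1 := by
  rw [h α hα α hα, if_pos rfl]

theorem Orthon.nrm_eq (h : Orthon R) {α : G → ℂ} (hα : α ∈ R) : nrm α = 1 := by
  rw [nrm, h.self hα, Complex.one_re]

theorem Orthon.orth (h : Orthon R) : ∀ α ∈ R, ∀ β ∈ R, α ≠ β → classInner α β = 0 :=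
  fun α hα β hβ hne => by rw [h α hα β hβ, if_neg hne]

theorem Orthon.orth' (h : Orthon R) : ∀ α ∈ R, ∀ β ∈ R, α ≠ β → classInner (id α) (id β) = 0 :=
  h.orth

theorem orthon_of (h1 : ∀ α ∈ R, classInner α α = 1)
    (h2 : ∀ α ∈ R, ∀ β ∈ R, α ≠ β → classInner α β = 0) : Orthon R := fun α hα β hβ => by
  split_ifs with h
  · rw [← h, h1 α hα]
  · exact h2 α hα β hβ h

theorem Orthon.mono (h : Orthon R) {E : Finset (G → ℂ)} (hE : E ⊆ R) : Orthon E :=
  fun α hα β hβ => h α (hE hα) β (hE hβ)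

theorem Orthon.proj_eq (h : Orthon R) (β : G → ℂ) :
    proj R id β = ∑ α ∈ R, classInner β α • α :=
  Finset.sum_congr rfl fun α hα => by simp [h.nrm_eq hα]

theorem Orthon.nrm_proj (h : Orthon R) (β : G → ℂ) :
    nrm (proj R id β) = ∑ α ∈ R, ‖classInner β α‖ ^ 2 := by
  rw [Char.nrm_proj (e := id) h.orth]
  exact Finset.sum_congr rfl fun α hα => by simp [h.nrm_eq hα]

theorem Orthon.nrm_sum (h : Orthon R) : nrm (∑ α ∈ R, α) = R.card := by
  rw [nrm_sum_of_orth R (fun α => α) h.orth, Finset.sum_congr rfl fun α hα => h.nrm_eq hα]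
  simp

theorem Orthon.classInner_sum_sum (h : Orthon R) {E : Finset (G → ℂ)} (hE : E ⊆ R) :
    classInner (∑ α ∈ R, α) (∑ α ∈ E, α) = E.card := by
  rw [classInner_sum_right, Finset.sum_congr rfl (g := fun _ => (1 : ℂ))]
  · simp
  · intro α hα
    rw [classInner_sum_left, Finset.sum_eq_single_of_mem α (hE hα)
      fun β hβ hne => h.orth β hβ α (hE hα) hne, h.self (hE hα)]

theorem Orthon.isGen_proj (h : Orthon R) (hR : ∀ α ∈ R, IsGeneralizedCharacter G α) {β : G → ℂ}
    (hβ : IsGeneralizedCharacter G β) : IsGeneralizedCharacter G (proj R id β) := by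
  rw [h.proj_eq]
  refine isGen_sum _ _ fun α hα => ?_
  obtain ⟨n, hn⟩ := hβ.classInner_int (hR α hα)
  rw [hn]
  exact (hR α hα).intCast_smul n

theorem classInner_sum_sum_eq_zero {E F : Finset (G → ℂ)}
    (h : ∀ α ∈ E, ∀ β ∈ F, classInner α β = 0) : classInner (∑ α ∈ E, α) (∑ β ∈ F, β) = 0 := by
  rw [classInner_sum_left]
  refine Finset.sum_eq_zero fun α hα => ?_
  rw [classInner_sum_right]
  exact Finset.sum_eq_zero (h α hα)

/-- The core of Peterfalvi (5.4). -/
theorem Orthon.le_nrm_proj (h : Orthon R) (hR : ∀ α ∈ R, IsGeneralizedCharacter G α) {β : G → ℂ}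
    (hβ : IsGeneralizedCharacter G β) {n : ℝ} (hn : classInner β (∑ α ∈ R, α) = n) :
    n ≤ nrm (proj R id β) ∧ (nrm (proj R id β) ≤ n → (∀ α ∈ R, classInner β α = 0 ∨
      classInner β α = 1) ∧ ∃ E ⊆ R, proj R id β = ∑ α ∈ E, α ∧ (E.card : ℝ) = n) := by
  classical
  choose! a ha using fun α (hα : α ∈ R) => hβ.classInner_int (hR α hα)
  have h1 : n = ((∑ α ∈ R, a α : ℤ) : ℝ) := by
    rw [classInner_sum_right, Finset.sum_congr rfl ha] at hn
    exact_mod_cast hn.symm
  have h2 : nrm (proj R id β) = ((∑ α ∈ R, a α ^ 2 : ℤ) : ℝ) := by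
    rw [h.nrm_proj, Int.cast_sum]
    exact Finset.sum_congr rfl fun α hα => by rw [ha α hα]; simp
  have h3 : ∀ α ∈ R, a α ≤ a α ^ 2 := fun α _ => by nlinarith [Int.le_self_sq (a α)]
  rw [h1, h2]
  refine ⟨by exact_mod_cast Finset.sum_le_sum h3, fun h4 => ?_⟩
  have h5 := (Finset.sum_eq_sum_iff_of_le h3).1
    (le_antisymm (Finset.sum_le_sum h3) (by exact_mod_cast h4))
  have h6 : ∀ α ∈ R, a α = 0 ∨ a α = 1 := fun α hα => by
    have h7 : a α * (a α - 1) = 0 := by linear_combination -(h5 α hα)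
    rcases mul_eq_zero.1 h7 with h8 | h8
    · exact Or.inl h8
    · exact Or.inr (by linear_combination h8)
  refine ⟨fun α hα => ?_, R.filter fun α => a α = 1, Finset.filter_subset _ _, ?_, ?_⟩
  · rw [ha α hα]
    exact_mod_cast h6 α hα
  · rw [h.proj_eq, Finset.sum_filter]
    refine Finset.sum_congr rfl fun α hα => ?_
    rw [ha α hα]
    rcases h6 α hα with h7 | h7 <;> simp [h7]
  · rw [Finset.card_filter]
    push_cast
    refine Finset.sum_congr rfl fun α hα => ?_
    rcases h6 α hα with h7 | h7 <;> simp [h7]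

end Orthonormal

section Dirr

omit [Fintype G] in
/-- An irreducible character up to sign. -/
def IsDirr (χ : G → ℂ) : Prop := IsIrrCharacter G χ ∨ IsIrrCharacter G (-χ)

omit [Fintype G] in
theorem _root_.Cfsg.IsIrrCharacter.isDirr {χ : G → ℂ} (h : IsIrrCharacter G χ) : IsDirr χ :=
  Or.inl h

omit [Fintype G] in
theorem IsDirr.neg {χ : G → ℂ} (h : IsDirr χ) : IsDirr (-χ) := by
  rcases h with h | h
  · exact Or.inr (by simpa using h)
  · exact Or.inl h

omit [Fintype G] in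
theorem IsDirr.isGen {χ : G → ℂ} (h : IsDirr χ) : IsGeneralizedCharacter G χ := by
  rcases h with h | h
  · exact h.isGen
  · simpa using h.isGen.neg

omit [Fintype G] in
theorem IsDirr.isClassFunction {χ : G → ℂ} (h : IsDirr χ) : IsClassFunction G χ :=
  h.isGen.isClassFunction

omit [Fintype G] in
theorem IsDirr.one_ne_zero {χ : G → ℂ} (h : IsDirr χ) : χ 1 ≠ 0 := by
  rcases h with h | h
  · exact h.one_ne_zero
  · simpa using h.one_ne_zero

omit [Fintype G] in
theorem IsDirr.exists_sign {χ : G → ℂ} (h : IsDirr χ) :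
    ∃ (ε : ℂ) (μ : G → ℂ), (ε = 1 ∨ ε = -1) ∧ IsIrrCharacter G μ ∧ χ = ε • μ := by
  rcases h with h | h
  · exact ⟨1, χ, Or.inl rfl, h, by simp⟩
  · exact ⟨-1, -χ, Or.inr rfl, h, by simp⟩

omit [Fintype G] in
theorem IsDirr.smul {χ : G → ℂ} (h : IsDirr χ) {ε : ℂ} (hε : ε = 1 ∨ ε = -1) : IsDirr (ε • χ) := by
  rcases hε with rfl | rfl
  · simpa using h
  · simpa using h.neg

theorem IsDirr.classInner_self {χ : G → ℂ} (h : IsDirr χ) : classInner χ χ = 1 := by
  rcases h with h | h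
  · exact h.classInner_self
  · simpa [classInner_neg_left, classInner_neg_right] using h.classInner_self

theorem IsDirr.nrm_eq {χ : G → ℂ} (h : IsDirr χ) : nrm χ = 1 := by
  rw [nrm, h.classInner_self, Complex.one_re]

theorem _root_.Cfsg.IsGeneralizedCharacter.isDirr {χ : G → ℂ} (h : IsGeneralizedCharacter G χ)
    (h1 : classInner χ χ = 1) : IsDirr χ := h.irr_or_neg_irr h1

theorem _root_.Cfsg.IsGeneralizedCharacter.isDirr' {χ : G → ℂ} (h : IsGeneralizedCharacter G χ)
    (h1 : nrm χ = 1) : IsDirr χ := h.irr_or_neg_irr (by rw [classInner_self_nrm, h1]; simp)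

theorem IsDirr.conj {χ : G → ℂ} (h : IsDirr χ) : IsDirr (conjFun χ) :=
  h.isGen.conj.isDirr' ((nrm_conj χ).trans h.nrm_eq)

theorem IsDirr.map_ringHom {χ : G → ℂ} (h : IsDirr χ) (σ : ℂ →+* ℂ) :
    IsDirr (fun g => σ (χ g)) := by
  rcases h with h | h
  · exact Or.inl (h.map_ringHom σ)
  · refine Or.inr ?_
    convert h.map_ringHom σ using 1
    ext; simp

theorem IsDirr.eq_or_eq_neg {χ ψ : G → ℂ} (h : IsDirr χ) (h' : IsDirr ψ)
    (hne : classInner χ ψ ≠ 0) : χ = ψ ∨ χ = -ψ := by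
  rcases h with h | h <;> rcases h' with h' | h'
  · exact Or.inl (h.eq_of_classInner_ne_zero h' hne)
  · exact Or.inr (h.eq_of_classInner_ne_zero h' (by simpa [classInner_neg_right] using hne))
  · exact Or.inr (by
      rw [← h.eq_of_classInner_ne_zero h' (by simpa [classInner_neg_left] using hne), neg_neg])
  · exact Or.inl (neg_injective (h.eq_of_classInner_ne_zero h'
      (by simpa [classInner_neg_left, classInner_neg_right] using hne)))

theorem IsDirr.classInner_cases {χ ψ : G → ℂ} (h : IsDirr χ) (h' : IsDirr ψ) :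
    classInner χ ψ = 0 ∨ (χ = ψ ∧ classInner χ ψ = 1) ∨ (χ = -ψ ∧ classInner χ ψ = -1) := by
  by_cases hne : classInner χ ψ = 0
  · exact Or.inl hne
  · rcases h.eq_or_eq_neg h' hne with rfl | rfl
    · exact Or.inr (Or.inl ⟨rfl, h.classInner_self⟩)
    · exact Or.inr (Or.inr ⟨rfl, by rw [classInner_neg_left, h'.classInner_self]⟩)

theorem IsDirr.eq_of_classInner_eq_one {χ ψ : G → ℂ} (h : IsDirr χ) (h' : IsDirr ψ)
    (h1 : classInner χ ψ = 1) : χ = ψ := by
  rcases h.classInner_cases h' with h2 | h2 | h2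
  · rw [h1] at h2; exact absurd h2 _root_.one_ne_zero
  · exact h2.1
  · rw [h1] at h2; exact absurd h2.2 (by norm_num)

theorem IsDirr.eq_smul {χ ψ : G → ℂ} (h : IsDirr χ) (h' : IsDirr ψ)
    (hne : classInner χ ψ ≠ 0) : χ = classInner χ ψ • ψ := by
  rcases h.classInner_cases h' with h2 | ⟨h2, h3⟩ | ⟨h2, h3⟩
  · exact absurd h2 hne
  · rw [h3, one_smul, h2]
  · rw [h3, neg_one_smul, h2]

theorem IsDirr.isIrr_of_re_nonneg {χ : G → ℂ} (h : IsDirr χ) (h1 : 0 ≤ (χ 1).re) :
    IsIrrCharacter G χ := h.isGen.isIrr_of_re_pos h.classInner_self h1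

omit [Fintype G] in
theorem IsDirr.ne_neg {χ : G → ℂ} (h : IsDirr χ) : χ ≠ -χ := fun e =>
  h.one_ne_zero (by
    have := congrFun e 1
    simp only [Pi.neg_apply] at this
    linear_combination this / 2)

private theorem dirr_aux {α β γ δ : G → ℂ} (hα : IsDirr α) (hβ : IsDirr β) (hγ : IsDirr γ)
    (hδ : IsDirr δ) {u v : ℂ} (hu : u ≠ 0) (hu' : conj u = u) (hv' : conj v = v)
    (hab : classInner α β = 0) (hcd : classInner γ δ = 0)
    (hmix : classInner (α - β) (u • γ - v • δ) = 0) (h1 : α 1 = β 1) (h2 : u * γ 1 = v * δ 1) :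
    classInner α γ = 0 := by
  by_contra h
  have e1 := hα.eq_smul hγ h
  have e2 : classInner α δ = 0 := by rw [e1, classInner_smul_left, hcd, mul_zero]
  have e3 : classInner β γ = 0 := by
    rw [e1, classInner_smul_left, mul_eq_zero] at hab
    exact classInner_eq_zero_comm.1 (hab.resolve_left h)
  simp only [classInner_sub_left, classInner_sub_right, classInner_smul_right, e2, e3, hu', hv',
    sub_zero, zero_sub, mul_neg, sub_neg_eq_add] at hmix
  have e4 : classInner β δ ≠ 0 := by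
    intro h0; rw [h0, mul_zero, add_zero] at hmix; exact mul_ne_zero hu h hmix
  have e5 := congrFun (hβ.eq_smul hδ e4) 1
  have e6 := congrFun e1 1
  simp only [Pi.smul_apply, smul_eq_mul] at e5 e6
  have e7 : classInner α γ * classInner α γ = 1 := by
    rcases hα.classInner_cases hγ with h3 | h3 | h3
    · exact absurd h3 h
    · rw [h3.2]; simp
    · rw [h3.2]; simp
  have e8 : classInner β δ * classInner β δ = 1 := by
    rcases hβ.classInner_cases hδ with h3 | h3 | h3
    · exact absurd h3 e4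
    · rw [h3.2]; simp
    · rw [h3.2]; simp
  have e9 : 2 * u * γ 1 = 0 := by
    linear_combination h2 + (α 1) * hmix - u * classInner α γ * e6 - u * γ 1 * e7
      - v * classInner β δ * (h1.trans e5) - v * δ 1 * e8
  exact hγ.one_ne_zero (by simpa [hu] using e9)

/-- Peterfalvi (4.1). -/
theorem dirr_orthogonal_of_sub {α β γ δ : G → ℂ} (hα : IsDirr α) (hβ : IsDirr β) (hγ : IsDirr γ)
    (hδ : IsDirr δ) {u v : ℂ} (hu : u ≠ 0) (hv : v ≠ 0) (hu' : conj u = u) (hv' : conj v = v)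
    (hab : classInner α β = 0) (hcd : classInner γ δ = 0)
    (hmix : classInner (α - β) (u • γ - v • δ) = 0) (h1 : α 1 = β 1) (h2 : u * γ 1 = v * δ 1) :
    classInner α γ = 0 ∧ classInner α δ = 0 ∧ classInner β γ = 0 ∧ classInner β δ = 0 := by
  have hba := classInner_eq_zero_comm.1 hab
  have hdc := classInner_eq_zero_comm.1 hcd
  have m1 : classInner (α - β) (v • δ - u • γ) = 0 := by
    rw [← neg_sub (u • γ), classInner_neg_right, hmix, neg_zero]
  have m2 : classInner (β - α) (u • γ - v • δ) = 0 := by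
    rw [← neg_sub α, classInner_neg_left, hmix, neg_zero]
  have m3 : classInner (β - α) (v • δ - u • γ) = 0 := by
    rw [← neg_sub α, classInner_neg_left, m1, neg_zero]
  exact ⟨dirr_aux hα hβ hγ hδ hu hu' hv' hab hcd hmix h1 h2,
    dirr_aux hα hβ hδ hγ hv hv' hu' hab hdc m1 h1 h2.symm,
    dirr_aux hβ hα hγ hδ hu hu' hv' hba hcd m2 h1.symm h2,
    dirr_aux hβ hα hδ hγ hv hv' hu' hba hdc m3 h1.symm h2.symm⟩

end Dirr

section ConjFun

omit [Group G] [Fintype G] in
@[simp] theorem conjFun_apply (χ : G → ℂ) (g : G) : conjFun χ g = conj (χ g) := rfl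

omit [Group G] [Fintype G] in
@[simp] theorem conjFun_conjFun (χ : G → ℂ) : conjFun (conjFun χ) = χ := by
  ext; simp

omit [Group G] [Fintype G] in
theorem conjFun_injective : Function.Injective (conjFun : (G → ℂ) → G → ℂ) :=
  Function.LeftInverse.injective conjFun_conjFun

omit [Group G] [Fintype G] in
theorem conjFun_eq_iff {χ ψ : G → ℂ} : conjFun χ = ψ ↔ χ = conjFun ψ :=
  ⟨fun h => by rw [← h, conjFun_conjFun], fun h => by rw [h, conjFun_conjFun]⟩

omit [Group G] [Fintype G] in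
theorem conjFun_add (χ ψ : G → ℂ) : conjFun (χ + ψ) = conjFun χ + conjFun ψ := by
  ext; simp

omit [Group G] [Fintype G] in
theorem conjFun_sub (χ ψ : G → ℂ) : conjFun (χ - ψ) = conjFun χ - conjFun ψ := by
  ext; simp

omit [Group G] [Fintype G] in
theorem conjFun_neg (χ : G → ℂ) : conjFun (-χ) = -conjFun χ := by
  ext; simp

omit [Group G] [Fintype G] in
theorem conjFun_smul (c : ℂ) (χ : G → ℂ) : conjFun (c • χ) = conj c • conjFun χ := by
  ext; simp

omit [Group G] [Fintype G] in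
theorem conjFun_sum {ι : Type*} (s : Finset ι) (f : ι → G → ℂ) :
    conjFun (∑ i ∈ s, f i) = ∑ i ∈ s, conjFun (f i) := by
  ext; simp

omit [Group G] [Fintype G] in
@[simp] theorem conjFun_zero : conjFun (0 : G → ℂ) = 0 := by
  ext; simp

omit [Group G] [Fintype G] in
@[simp] theorem conjFun_one : conjFun (fun _ : G => (1 : ℂ)) = fun _ => 1 := by
  ext; simp

theorem classInner_conjFun (φ ψ : G → ℂ) :
    classInner (conjFun φ) (conjFun ψ) = classInner ψ φ := classInner_conj_conj φ ψ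

theorem classInner_conjFun_left (φ ψ : G → ℂ) :
    classInner (conjFun φ) ψ = classInner (conjFun ψ) φ := by
  rw [← classInner_conjFun φ (conjFun ψ), conjFun_conjFun]

theorem classInner_conjFun_right (φ ψ : G → ℂ) :
    classInner φ (conjFun ψ) = classInner ψ (conjFun φ) := by
  rw [← classInner_conjFun (conjFun φ) ψ, conjFun_conjFun]

omit [Fintype G] in
theorem _root_.Cfsg.IsCharacter.conjFun_one {χ : G → ℂ} (h : IsCharacter G χ) :
    conjFun χ 1 = χ 1 := h.conj_apply_one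

omit [Fintype G] in
theorem _root_.Cfsg.IsGeneralizedCharacter.conj_one {χ : G → ℂ} (h : IsGeneralizedCharacter G χ) :
    conj (χ 1) = χ 1 := by
  obtain ⟨n, hn⟩ := h.exists_int
  rw [hn]; simp

theorem indFun_conjFun (H : Subgroup G) (θ : H → ℂ) :
    indFun H (conjFun θ) = conjFun (indFun H θ) := indFun_conj H θ

end ConjFun

end Cfsg.Agent.Char
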