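import Mathlib
import Cfsg.Prelude.Def_Characters
import Cfsg.Agent.Char.Column

/-!
# Representations with the same character are equivalent.
-/

set_option autoImplicit false

namespace Cfsg.Agent.Char

open Representation Module Cfsg
open scoped ComplexConjugate

section General

variable {k G V W : Type*} [Field k] [Monoid G] [AddCommGroup V] [Module k V]
  [AddCommGroup W] [Module k W]

theorem exists_irreducible_subrep [FiniteDimensional k V] [Nontrivial V]
    (ρ : Representation k G V) :
    ∃ U : Subrepresentation ρ, U.toRepresentation.IsIrreducible := by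
  classical
  have hex : ∃ n, ∃ U : Subrepresentation ρ, U.toSubmodule ≠ ⊥ ∧ finrank k U.toSubmodule = n :=
    ⟨_, ⊤, (top_ne_bot : (⊤ : Submodule k V) ≠ ⊥), rfl⟩
  obtain ⟨U, hU, hn⟩ := Nat.find_spec hex
  refine ⟨U, (isIrreducible_iff _).2 ⟨Submodule.nontrivial_iff_ne_bot.2 hU, fun X hX => ?_⟩⟩
  by_cases hX0 : X = ⊥
  · exact Or.inl hX0
  right
  let X' : Subrepresentation ρ := ⟨X.map U.toSubmodule.subtype, by
    rintro g _ ⟨x, hx, rfl⟩
    exact ⟨_, hX g x hx, rfl⟩⟩
  have h1 : X'.toSubmodule ≠ ⊥ := by
    intro h
    apply hX0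
    rw [eq_bot_iff]
    intro x hx
    have : (x : V) ∈ X'.toSubmodule := ⟨x, hx, rfl⟩
    rw [h] at this
    simpa using this
  have h2 := Nat.find_min' hex ⟨X', h1, rfl⟩
  rw [← hn, Submodule.finrank_map_subtype_eq] at h2
  exact Submodule.eq_top_of_finrank_eq (le_antisymm (Submodule.finrank_le _) h2)

/-- The product of two equivalences of representations. -/
noncomputable def equivProd {V' W' : Type*} [AddCommGroup V'] [Module k V'] [AddCommGroup W']
    [Module k W'] {ρ : Representation k G V} {σ : Representation k G W}
    {ρ' : Representation k G V'} {σ' : Representation k G W'} (e : ρ.Equiv ρ') (f : σ.Equiv σ') :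
    (ρ.prod σ).Equiv (ρ'.prod σ') :=
  Representation.Equiv.mk (e.toLinearEquiv.prodCongr f.toLinearEquiv) (fun g => by
    apply LinearMap.ext
    rintro ⟨x, y⟩
    exact Prod.ext (equiv_apply_rep e g x) (equiv_apply_rep f g y))

/-- An injective intertwining map is an equivalence onto its range. -/
noncomputable def equivRange {ρ : Representation k G V} {σ : Representation k G W}
    (f : IntertwiningMap ρ σ) (hf : Function.Injective f) : ρ.Equiv f.range.toRepresentation :=
  Representation.Equiv.mk (LinearEquiv.ofInjective f.toLinearMap hf) (fun g => by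
    apply LinearMap.ext
    intro v
    exact Subtype.ext (f.isIntertwining ρ σ g v))

end General

universe v w

variable {G : Type*} [Group G]

theorem nonempty_equiv_of_char_eq [Finite G] {V : Type v} {W : Type w} [AddCommGroup V]
    [Module ℂ V] [FiniteDimensional ℂ V] [AddCommGroup W] [Module ℂ W] [FiniteDimensional ℂ W]
    (ρ : Representation ℂ G V) (σ : Representation ℂ G W) (h : ρ.character = σ.character) :
    Nonempty (ρ.Equiv σ) := by
  have := Fintype.ofFinite G
  have : NeZero (Nat.card G : ℂ) := ⟨card_ne_zero G⟩
  induction hn : finrank ℂ V using Nat.strong_induction_on generalizing V W with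
  | _ n ih =>
  have hd : finrank ℂ V = finrank ℂ W := by
    have := congrFun h 1
    simpa using this
  rcases subsingleton_or_nontrivial V with hV | hV
  · have hW : Subsingleton W := by
      rw [← Module.finrank_zero_iff (R := ℂ), ← hd, Module.finrank_zero_of_subsingleton]
    exact ⟨Representation.Equiv.mk (LinearEquiv.ofSubsingleton V W) fun g => Subsingleton.elim _ _⟩
  obtain ⟨U, hU⟩ := exists_irreducible_subrep ρ
  obtain ⟨U', hc⟩ := exists_isCompl U
  have h1 := char_eq_add_of_isCompl hc
  have hirr := isIrrCharacter_rep _ hU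
  have h2 : classInner σ.character U.toRepresentation.character ≠ 0 := by
    rw [← h, h1]
    refine classInner_add_ne_zero_left hirr.isCharacter (isCharacter_rep _) hirr.isCharacter ?_
    rw [hirr.classInner_self]; exact one_ne_zero
  rw [classInner_rep, Nat.cast_ne_zero, ← Nat.pos_iff_ne_zero,
    Module.finrank_pos_iff_exists_ne_zero] at h2
  obtain ⟨f, hf⟩ := h2
  have hinj := (IsIrreducible.injective_or_eq_zero f).resolve_right hf
  obtain ⟨X', hc'⟩ := exists_isCompl f.range
  have h3 := char_eq_add_of_isCompl hc'
  let e := equivRange f hinj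
  have h4 : U'.toRepresentation.character = X'.toRepresentation.character := by
    rw [h1, h3, char_iso e] at h
    exact add_left_cancel h
  have hlt : finrank ℂ U'.toSubmodule < n := by
    have := Submodule.finrank_add_eq_of_isCompl (isCompl_toSubmodule hc)
    have h5 := nontrivial_of_isIrreducible U.toRepresentation
    have h6 : 0 < finrank ℂ U.toSubmodule := finrank_pos
    omega
  obtain ⟨e'⟩ := ih _ hlt _ _ h4 rfl
  exact ⟨((prodEquivOfIsCompl hc).symm.trans (equivProd e e')).trans (prodEquivOfIsCompl hc')⟩

/-- Two representations on the same space with equal characters are conjugate. -/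
theorem exists_conj_of_char_eq [Finite G] {V : Type*} [AddCommGroup V]
    [Module ℂ V] [FiniteDimensional ℂ V] (ρ σ : Representation ℂ G V)
    (h : ρ.character = σ.character) :
    ∃ P : (V →ₗ[ℂ] V)ˣ, ∀ g, (P : V →ₗ[ℂ] V) * ρ g = σ g * P := by
  obtain ⟨e⟩ := nonempty_equiv_of_char_eq ρ σ h
  refine ⟨(LinearMap.GeneralLinearGroup.generalLinearEquiv ℂ V).symm e.toLinearEquiv, fun g => ?_⟩
  ext v
  exact equiv_apply_rep e g v

theorem det_eq_of_char_eq [Finite G] {V W : Type*} [AddCommGroup V]
    [Module ℂ V] [FiniteDimensional ℂ V] [AddCommGroup W] [Module ℂ W] [FiniteDimensional ℂ W]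
    (ρ : Representation ℂ G V) (σ : Representation ℂ G W) (h : ρ.character = σ.character) (g : G) :
    LinearMap.det (ρ g) = LinearMap.det (σ g) := by
  obtain ⟨e⟩ := nonempty_equiv_of_char_eq ρ σ h
  rw [← e.conj_apply_self g, LinearEquiv.conj_apply, LinearMap.comp_assoc]
  exact (LinearMap.det_conj _ e.toLinearEquiv).symm

end Cfsg.Agent.Char
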