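import Mathlib
import Cfsg.Prelude.Def_Characters
import Cfsg.Prelude.Def_CharExt
import Cfsg.Agent.Char.Clifford2
import Cfsg.Agent.Char.RepEquiv

/-!
# Determinantal characters, extension of invariant characters, central covers.
-/

set_option autoImplicit false

namespace Cfsg.Agent.Char

open Representation Module Cfsg
open scoped ComplexConjugate

universe u

section Det

variable {G : Type*} [Group G]

theorem detChar_rep [Finite G] {V : Type*} [AddCommGroup V] [Module ℂ V] [FiniteDimensional ℂ V]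
    (ρ : Representation ℂ G V) (g : G) : detChar ρ.character g = LinearMap.det (ρ g) := by
  have h := isCharacter_rep ρ
  simp only [detChar, dif_pos h]
  exact det_eq_of_char_eq _ _ (Classical.choose_spec (Classical.choose_spec h)) g

/-- The determinantal character as a homomorphism. -/
noncomputable def detHom (χ : G → ℂ) : G →* ℂˣ :=
  MonoidHom.toHomUnits
    { toFun := detChar χ
      map_one' := by unfold detChar; split_ifs <;> simp
      map_mul' := fun a b => by unfold detChar; split_ifs <;> simp }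

@[simp] theorem detHom_apply (χ : G → ℂ) (g : G) : (detHom χ g : ℂ) = detChar χ g := rfl

theorem detChar_eq_detHom (χ : G → ℂ) : detChar χ = fun g => (detHom χ g : ℂ) := rfl

theorem detHom_comp [Finite G] {H : Type*} [Group H] [Finite H] {χ : G → ℂ} (hχ : IsCharacter G χ)
    (f : H →* G) (h : H) : detHom (fun x => χ (f x)) h = detHom χ (f h) := by
  obtain ⟨n, ρ, rfl⟩ := hχ
  ext
  rw [detHom_apply, detHom_apply, ← char_comp, detChar_rep, detChar_rep]
  rfl

theorem detHom_add [Finite G] {χ ψ : G → ℂ} (hχ : IsCharacter G χ) (hψ : IsCharacter G ψ) :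
    ⇑(detHom (χ + ψ)) = ⇑(detHom χ) * ⇑(detHom ψ) := by
  obtain ⟨n, ρ, rfl⟩ := hχ
  obtain ⟨m, σ, rfl⟩ := hψ
  ext g
  simp only [Pi.mul_apply, Units.val_mul, detHom_apply]
  rw [← char_prod, detChar_rep, detChar_rep, detChar_rep]
  exact LinearMap.det_prodMap _ _

theorem detHom_hom [Finite G] (l : G →* ℂˣ) : detHom (fun g => (l g : ℂ)) = l := by
  ext g
  rw [detHom_apply, ← linRep_character, detChar_rep]
  simp [linRep]

theorem detHom_zero [Finite G] : ⇑(detHom (0 : G → ℂ)) = 1 := by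
  have := detHom_add (isCharacter_zero (G := G)) isCharacter_zero
  simpa using this

theorem detHom_sum [Finite G] {ι : Type*} (s : Finset ι) (f : ι → G → ℂ)
    (h : ∀ i ∈ s, IsCharacter G (f i)) : ⇑(detHom (∑ i ∈ s, f i)) = ∏ i ∈ s, ⇑(detHom (f i)) := by
  classical
  induction s using Finset.induction_on with
  | empty => simp [detHom_zero]
  | insert a s ha ih =>
    rw [Finset.sum_insert ha, Finset.prod_insert ha, detHom_add (h a (by simp))
      (isCharacter_sum _ _ fun i hi => h i (by simp [hi])), ih fun i hi => h i (by simp [hi])]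

theorem detHom_natCast_smul [Finite G] {χ : G → ℂ} (hχ : IsCharacter G χ) (n : ℕ) :
    ⇑(detHom ((n : ℂ) • χ)) = ⇑(detHom χ) ^ n := by
  have := detHom_sum (Finset.range n) (fun _ => χ) fun _ _ => hχ
  simpa [Nat.cast_smul_eq_nsmul] using this

theorem detHom_of_sum_hom [Finite G] {χ : G → ℂ} {n : ℕ} (l : Fin n → G →* ℂˣ)
    (h : ∀ g, χ g = ∑ i, (l i g : ℂ)) (g : G) : detHom χ g = ∏ i, l i g := by
  have : χ = ∑ i, fun g => (l i g : ℂ) := by ext g; simp [h]
  rw [this, detHom_sum _ _ fun i _ => isCharacter_hom _]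
  simp only [detHom_hom, Finset.prod_apply]

theorem detHom_hom_mul [Finite G] {χ : G → ℂ} (hχ : IsCharacter G χ) (l : G →* ℂˣ) {d : ℕ}
    (hd : χ 1 = d) (g : G) : detHom (fun g => l g * χ g) g = l g ^ d * detHom χ g := by
  let A := Subgroup.zpowers g
  obtain ⟨n, m, h1, h2⟩ := (hχ.restrict A).exists_sum_hom_of_comm
    (fun a b => (inferInstance : IsMulCommutative A).is_comm.comm a b)
  obtain rfl : n = d := by
    apply Nat.cast_injective (R := ℂ)
    rw [← h1, ← hd]; rfl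
  have e1 := detHom_comp hχ A.subtype ⟨g, Subgroup.mem_zpowers g⟩
  have e2 := detHom_comp ((isCharacter_hom l).mul hχ) A.subtype ⟨g, Subgroup.mem_zpowers g⟩
  simp only [Subgroup.subtype_apply] at e1 e2
  rw [detHom_of_sum_hom m h2] at e1
  rw [detHom_of_sum_hom (fun i => l.comp A.subtype * m i)
    (fun x => by simp [h2 x, Finset.mul_sum])] at e2
  refine e2.symm.trans ?_
  rw [← e1]
  simp [Finset.prod_mul_distrib]

theorem detHom_conjBy [Finite G] {N : Subgroup G} [N.Normal] {θ : N → ℂ} (hθ : IsCharacter N θ)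
    {g : G} (h : conjBy θ g = θ) (n : N) : detHom θ (MulAut.conjNormal g n) = detHom θ n := by
  conv_rhs => rw [← h]
  exact (detHom_comp hθ (MulAut.conjNormal g).toMonoidHom n).symm

theorem detHom_restrict [Finite G] {χ : G → ℂ} (hχ : IsCharacter G χ) (H : Subgroup G) (h : H) :
    detHom (fun x : H => χ x) h = detHom χ h := detHom_comp hχ H.subtype h

theorem orderOf_hom_coe (l : G →* ℂˣ) : orderOf (fun g => (l g : ℂ)) = orderOf ⇑l := by
  let F : (G → ℂˣ) →* (G → ℂ) :=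
    { toFun := fun l g => l g, map_one' := rfl, map_mul' := fun _ _ => rfl }
  exact orderOf_injective F (fun a b h => funext fun g => Units.ext (congrFun h g)) l

theorem detOrder_eq (χ : G → ℂ) : detOrder χ = orderOf ⇑(detHom χ) := orderOf_hom_coe (detHom χ)

end Det

section Linear

variable {G : Type*} [Group G] {N : Subgroup G}

/-- The functions on `N` that extend to linear characters of `G`. -/
def extendable (N : Subgroup G) : Subgroup (N → ℂˣ) where
  carrier := {l | ∃ μ : G →* ℂˣ, ∀ n : N, μ n = l n}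
  one_mem' := ⟨1, fun _ => rfl⟩
  mul_mem' := fun ⟨μ, hμ⟩ ⟨ν, hν⟩ => ⟨μ * ν, fun n => by simp [hμ, hν]⟩
  inv_mem' := fun ⟨μ, hμ⟩ => ⟨μ⁻¹, fun n => by simp [hμ]⟩

theorem mem_extendable {l : N → ℂˣ} : l ∈ extendable N ↔ ∃ μ : G →* ℂˣ, ∀ n : N, μ n = l n :=
  Iff.rfl

theorem mem_of_forall_prime {A : Type*} [CommGroup A] (R : Subgroup A) {a : A}
    (h : ∀ p : ℕ, p.Prime → ∃ m, ¬ p ∣ m ∧ a ^ m ∈ R) : a ∈ R := by
  rw [← QuotientGroup.eq_one_iff, ← orderOf_eq_one_iff]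
  by_contra h1
  obtain ⟨p, hp, hd⟩ := Nat.exists_prime_and_dvd h1
  obtain ⟨m, h2, h3⟩ := h p hp
  refine h2 (hd.trans (orderOf_dvd_of_pow_eq_one ?_))
  rwa [← QuotientGroup.mk_pow, QuotientGroup.eq_one_iff]

theorem mem_of_coprime {A : Type*} [CommGroup A] (R : Subgroup A) {a : A} {m n : ℕ}
    (hmn : m.Coprime n) (hm : a ^ m ∈ R) (hn : a ^ n ∈ R) : a ∈ R :=
  mem_of_forall_prime R fun p hp => by
    by_cases h : p ∣ m
    · exact ⟨n, fun h' => hp.ne_one (Nat.eq_one_of_dvd_coprimes hmn h h'), hn⟩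
    · exact ⟨m, h, hm⟩

theorem pow_index_mem_extendable [Finite G] [N.Normal] {l : N →* ℂˣ}
    (hinv : ∀ (g : G) n, l (MulAut.conjNormal g n) = l n) {H : Subgroup G} (hNH : N ≤ H)
    (ν : H →* ℂˣ) (hν : ∀ n : N, ν ⟨n, hNH n.2⟩ = l n) : ⇑l ^ H.index ∈ extendable N := by
  have := Fintype.ofFinite G
  refine ⟨detHom (indFun H fun h => (ν h : ℂ)), fun n => ?_⟩
  have h1 := restrict_indFun_of_le hNH fun h => (ν h : ℂ)
  have h2 : ∀ g, conjBy (fun n : N => (ν ⟨n, hNH n.2⟩ : ℂ)) g = fun n => (l n : ℂ) := fun g => by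
    simp only [hν, conjBy_eq_comp, hinv]
  simp only [h2, Finset.sum_const, Finset.card_univ, ← Nat.card_eq_fintype_card,
    ← Nat.cast_smul_eq_nsmul ℂ, smul_smul] at h1
  rw [← H.card_mul_index, Nat.cast_mul, ← mul_assoc, inv_mul_cancel₀ (card_ne_zero H),
    one_mul] at h1
  rw [← detHom_restrict (isCharacter_hom ν).indFun, h1, detHom_natCast_smul (isCharacter_hom l),
    detHom_hom]

theorem pow_index_mem_extendable' [Finite G] [N.Normal] {l : N →* ℂˣ}
    (hinv : ∀ (g : G) n, l (MulAut.conjNormal g n) = l n) : ⇑l ^ N.index ∈ extendable N :=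
  pow_index_mem_extendable hinv le_rfl l fun _ => rfl

theorem hom_pow_index_eq_one [N.Normal] {l : G →* ℂˣ} (h : ∀ n ∈ N, l n = 1) (g : G) :
    l g ^ N.index = 1 := by
  rw [← map_pow, h _ (N.pow_index_mem g)]

theorem exists_extension_orderOf_eq [Finite G] [N.Normal] {l : N →* ℂˣ}
    (hinv : ∀ (g : G) n, l (MulAut.conjNormal g n) = l n) (hcop : N.index.Coprime (orderOf ⇑l)) :
    ∃ μ : G →* ℂˣ, (∀ n : N, μ n = l n) ∧ orderOf ⇑μ = orderOf ⇑l := by
  obtain ⟨μ, hμ⟩ := mem_of_coprime _ hcop (pow_index_mem_extendable' hinv)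
    (by rw [pow_orderOf_eq_one]; exact one_mem _)
  obtain ⟨k, hk, hk'⟩ := Nat.chineseRemainder hcop 0 1
  have h1 : ∀ n : N, (μ ^ k) n = l n := fun n => by
    rw [MonoidHom.pow_apply, hμ, ← Pi.pow_apply, pow_eq_pow_iff_modEq.2 hk', pow_one]
  refine ⟨μ ^ k, h1, Nat.dvd_antisymm (orderOf_dvd_of_pow_eq_one (funext fun g => ?_)) ?_⟩
  · obtain ⟨a, rfl⟩ := Nat.modEq_zero_iff_dvd.1 hk
    have := hom_pow_index_eq_one (N := N) (l := μ ^ orderOf ⇑l) (fun n hn => by
      rw [MonoidHom.pow_apply, hμ ⟨n, hn⟩, ← Pi.pow_apply, pow_orderOf_eq_one, Pi.one_apply]) g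
    rw [MonoidHom.pow_apply, ← pow_mul] at this
    rw [Pi.pow_apply, MonoidHom.pow_apply, ← pow_mul, mul_comm, ← mul_assoc, pow_mul, this,
      one_pow, Pi.one_apply]
  · refine orderOf_dvd_of_pow_eq_one (funext fun n => ?_)
    rw [Pi.pow_apply, ← h1, ← Pi.pow_apply, pow_orderOf_eq_one]
    rfl

theorem hom_eq_of_pow_eq [N.Normal] {μ μ' : G →* ℂˣ} (h : ∀ n ∈ N, μ n = μ' n) {d : ℕ}
    (hd : N.index.Coprime d) (e : ∀ g, μ g ^ d = μ' g ^ d) : μ = μ' := by
  refine MonoidHom.ext fun g => ?_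
  rw [← mul_inv_eq_one, ← orderOf_eq_one_iff]
  refine Nat.eq_one_of_dvd_coprimes hd (orderOf_dvd_of_pow_eq_one
    (hom_pow_index_eq_one (l := μ * μ'⁻¹) (fun n hn => by simp [h n hn]) g))
    (orderOf_dvd_of_pow_eq_one (by rw [mul_pow, e, ← mul_pow, mul_inv_cancel, one_pow]))

theorem hom_eq_of_coprime_orderOf [N.Normal] {μ μ' : G →* ℂˣ} (h : ∀ n ∈ N, μ n = μ' n)
    (h1 : N.index.Coprime (orderOf ⇑μ)) (h2 : N.index.Coprime (orderOf ⇑μ')) : μ = μ' :=
  hom_eq_of_pow_eq h (h1.mul_right h2) fun g => by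
    rw [← Pi.pow_apply ⇑μ, ← Pi.pow_apply ⇑μ', pow_mul, pow_orderOf_eq_one, one_pow, mul_comm, pow_mul,
      pow_orderOf_eq_one, one_pow]

theorem exists_hom_pow_eq [Finite G] [N.Normal] {μ : G →* ℂˣ} (h : ∀ n ∈ N, μ n = 1) {d : ℕ}
    (hd : N.index.Coprime d) : ∃ β : G →* ℂˣ, (∀ n ∈ N, β n = 1) ∧ ∀ g, β g ^ d = μ g := by
  obtain ⟨k, hk⟩ := exists_pow_eq_self_of_coprime (x := ⇑μ) (n := d)
    (hd.symm.coprime_dvd_right (orderOf_dvd_of_pow_eq_one (funext (hom_pow_index_eq_one h))))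
  refine ⟨μ ^ k, fun n hn => by simp [h n hn], fun g => ?_⟩
  rw [MonoidHom.pow_apply, ← pow_mul, mul_comm, pow_mul]
  exact congrFun hk g

theorem existsUnique_extension_det [Finite G] [N.Normal] {θ : N → ℂ} (hθ : IsIrrCharacter N θ)
    {d : ℕ} (hd : θ 1 = d) (hcop : N.index.Coprime d) {η : G → ℂ} (hη : IsCharacter G η)
    (hηN : ∀ n : N, η n = θ n) {μ : G →* ℂˣ} (hμ : ∀ n : N, μ n = detHom θ n) :
    ∃! χ : G → ℂ, IsIrrCharacter G χ ∧ (∀ n : N, χ n = θ n) ∧ detHom χ = μ := by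
  obtain rfl : θ = fun n : N => η n := funext fun n => (hηN n).symm
  obtain ⟨β, h1, h2⟩ := exists_hom_pow_eq (N := N) (μ := μ * (detHom η)⁻¹) (fun n hn => by
    simp [hμ ⟨n, hn⟩, detHom_restrict hη]) hcop
  refine ⟨fun g => β g * η g, ⟨?_, fun n => by simp [h1 n n.2], ?_⟩, ?_⟩
  · exact gallagher_mul hη hθ (isIrrCharacter_hom β) fun n hn => by simp [h1 n hn]
  · refine MonoidHom.ext fun g => ?_
    rw [detHom_hom_mul hη β hd, h2]
    simp
  · rintro χ ⟨h3, h4, h5⟩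
    obtain ⟨l, h6, h7⟩ := gallagher_extension hη hθ h3.isCharacter fun n hn => h4 ⟨n, hn⟩
    obtain rfl : χ = fun g => l g * η g := funext h7
    rw [hom_eq_of_pow_eq (μ := l) (μ' := β) (fun n hn => by rw [h6 n hn, h1 n hn]) hcop fun g => by
      rw [h2, ← h5, MonoidHom.mul_apply, detHom_hom_mul hη l hd]; simp]

end Linear

section Cover

/-- A central extension `π : Γ → G` to which the invariant character `θ` of `N` extends. -/
structure IsCover {G Γ : Type*} [Group G] [Group Γ] {N : Subgroup G} [N.Normal] (θ : N → ℂ)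
    (π : Γ →* G) (ι : N →* Γ) (χ : Γ → ℂ) (μ : N.comap π →* ℂˣ) : Prop where
  surj : Function.Surjective π
  central : ∀ z, π z = 1 → ∀ x, z * x = x * z
  π_ι : ∀ n, π (ι n) = n
  conj_ι : ∀ x n, x * ι n * x⁻¹ = ι (MulAut.conjNormal (π x) n)
  irr : IsIrrCharacter Γ χ
  χ_ι : ∀ n, χ (ι n) = θ n
  μ_ι : ∀ n h, μ ⟨ι n, h⟩ = 1
  θ_π : ∀ x : N.comap π, θ ⟨π x, x.2⟩ = μ x * χ x

theorem exists_isCover {G : Type u} [Group G] [Finite G] {N : Subgroup G} [N.Normal] {θ : N → ℂ}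
    (hθ : IsIrrCharacter N θ) (hinv : ∀ g, conjBy θ g = θ) :
    ∃ (Γ : Type u) (_ : Group Γ) (_ : Finite Γ) (π : Γ →* G) (ι : N →* Γ) (χ : Γ → ℂ)
      (μ : N.comap π →* ℂˣ), IsCover θ π ι χ μ := by
  obtain ⟨d, ρ, hρ, rfl⟩ := id hθ
  have hd : 0 < d := by
    have := hθ.one_ne_zero
    rw [char_one, finrank_fin_fun] at this
    exact Nat.pos_of_ne_zero (by exact_mod_cast this)
  let V := Fin d → ℂ
  let D : (V →ₗ[ℂ] V)ˣ →* ℂ := LinearMap.det.comp (Units.coeHom _)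
  let Γ : Subgroup (G × (V →ₗ[ℂ] V)ˣ) :=
    { carrier := {x | (∀ n : N, x.2 * ρ.asGroupHom n * x.2⁻¹ =
        ρ.asGroupHom (MulAut.conjNormal x.1 n)) ∧ D x.2 ^ Nat.card N = 1}
      one_mem' := ⟨fun n => by simp, by simp⟩
      mul_mem' := by
        rintro ⟨a, A⟩ ⟨b, B⟩ ⟨h1, h2⟩ ⟨h3, h4⟩
        refine ⟨fun n => ?_, ?_⟩
        · simp only [Prod.snd_mul, Prod.fst_mul, map_mul, MulAut.mul_apply] at *
          rw [← h1, ← h3]; group
        · simp only [Prod.snd_mul, map_mul, mul_pow] at *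
          rw [h2, h4, mul_one]
      inv_mem' := by
        rintro ⟨a, A⟩ ⟨h1, h2⟩
        refine ⟨fun n => ?_, ?_⟩
        · have := h1 (MulAut.conjNormal a⁻¹ n)
          simp only [Prod.snd_inv, Prod.fst_inv, map_inv, MulAut.apply_inv_self] at *
          rw [← this]; group
        · simp only [Prod.snd_inv, map_inv, inv_pow] at *
          rw [h2, inv_one] }
  let π : Γ →* G := (MonoidHom.fst _ _).comp Γ.subtype
  have hker : ∀ z : Γ, π z = 1 → ∃ c : ℂ, c ^ (d * Nat.card N) = 1 ∧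
      (z.1.2 : V →ₗ[ℂ] V) = c • 1 := fun z hz => by
    obtain ⟨c, hc⟩ := schur_scalar ρ (z.1.2 : V →ₗ[ℂ] V) fun n => by
      have := z.2.1 n
      rw [show z.1.1 = 1 from hz, mul_inv_eq_iff_eq_mul] at this
      simpa [asGroupHom_apply] using congrArg Units.val this
    refine ⟨c, ?_, hc⟩
    have := z.2.2
    simp only [D, MonoidHom.comp_apply, Units.coeHom_apply, hc, LinearMap.det_smul, map_one,
      mul_one, V, finrank_fin_fun, ← pow_mul] at this
    exact this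
  have hfin : Finite Γ := by
    refine π.finite_iff_finite_ker_range.2 ⟨?_, inferInstance⟩
    choose c hc hc' using fun z : π.ker => hker z z.2
    refine Finite.of_injective (β := Polynomial.nthRootsFinset (d * Nat.card N) (1 : ℂ))
      (fun z => ⟨c z, (Polynomial.mem_nthRootsFinset (mul_pos hd Nat.card_pos) _).2 (hc z)⟩)
      fun z w h => ?_
    have h1 : c z = c w := congrArg Subtype.val h
    refine Subtype.ext (Subtype.ext (Prod.ext (z.2.trans w.2.symm) (Units.ext ?_)))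
    rw [hc', hc', h1]
  let ι : N →* Γ := (N.subtype.prod ρ.asGroupHom).codRestrict Γ fun n =>
    ⟨fun m => by
      rw [show MulAut.conjNormal ((N.subtype.prod ρ.asGroupHom) n).1 m = n * m * n⁻¹ from rfl]
      simp, by
      change D (ρ.asGroupHom n) ^ _ = 1
      rw [← map_pow, ← map_pow, pow_card_eq_one', map_one, map_one]⟩
  let σ : Representation ℂ Γ V := (Units.coeHom _).comp ((MonoidHom.snd _ _).comp Γ.subtype)
  have hχι : ∀ n, σ.character (ι n) = ρ.character n := fun n => rfl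
  have hconj : ∀ x n, x * ι n * x⁻¹ = ι (MulAut.conjNormal (π x) n) := fun x n =>
    Subtype.ext (Prod.ext rfl (x.2.1 n))
  let ι' : N →* N.comap π := ι.codRestrict _ fun n => n.2
  obtain ⟨μ, h1, h2⟩ := gallagher_extension_hom ι' ⟨by
      rintro _ ⟨n, rfl⟩ x
      exact ⟨_, Subtype.ext (hconj x n).symm⟩⟩
    ((isCharacter_rep σ).restrict (N.comap π)) hθ
    (hθ.isCharacter.comp (π.subgroupComap N)) fun n => rfl
  refine ⟨Γ, inferInstance, hfin, π, ι, σ.character, μ, fun g => ?_, fun z hz x => ?_,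
    fun n => rfl, hconj, (isCharacter_rep σ).isIrr_of_comp ι hθ, hχι, fun n _ => h1 n, h2⟩
  · obtain ⟨P, hP⟩ := exists_conj_of_char_eq ρ (ρ.comp (MulAut.conjNormal (H := N) g).toMonoidHom)
      (hinv g).symm
    obtain ⟨c, hc⟩ := IsAlgClosed.exists_pow_nat_eq (D P⁻¹) hd
    have hc1 : c ^ d * D P = 1 := by rw [hc, ← map_mul, inv_mul_cancel, map_one]
    have hc0 : c ≠ 0 := by
      rintro rfl
      simp [hd.ne'] at hc1
    refine ⟨⟨(g, Units.mk0 c hc0 • P), fun n => ?_, ?_⟩, rfl⟩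
    · rw [mul_inv_eq_iff_eq_mul]
      ext1
      simpa [asGroupHom_apply, hc0] using congrArg (c • ·) (hP n)
    · have : D (Units.mk0 c hc0 • P) = 1 := by
        rw [← hc1]
        simp [D, V, LinearMap.det_smul]
      rw [this, one_pow]
  · obtain ⟨c, -, hc⟩ := hker z hz
    refine Subtype.ext (Prod.ext ?_ (Units.ext ?_))
    · simp [show z.1.1 = 1 from hz]
    · simp [hc]

variable {G Γ : Type*} [Group G] [Group Γ] {N : Subgroup G} [N.Normal] {θ : N → ℂ}
  {π : Γ →* G} {ι : N →* Γ} {χ : Γ → ℂ} {μ : N.comap π →* ℂˣ}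

theorem IsCover.ι_mem (h : IsCover θ π ι χ μ) (n : N) : ι n ∈ N.comap π := by
  rw [Subgroup.mem_comap, h.π_ι]; exact n.2

theorem IsCover.ι_injective (h : IsCover θ π ι χ μ) : Function.Injective ι := fun a b e =>
  Subtype.ext (by rw [← h.π_ι, e, h.π_ι])

theorem IsCover.normal_range (h : IsCover θ π ι χ μ) : ι.range.Normal :=
  ⟨by rintro _ ⟨n, rfl⟩ x; exact ⟨_, (h.conj_ι x n).symm⟩⟩

theorem IsCover.exists_mul (h : IsCover θ π ι χ μ) {x : Γ} (hx : π x ∈ N) :
    ∃ (z : Γ) (n : N), π z = 1 ∧ x = z * ι n :=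
  ⟨x * (ι ⟨π x, hx⟩)⁻¹, ⟨π x, hx⟩, by simp [h.π_ι], by simp⟩

theorem IsCover.μ_mul_ι (h : IsCover θ π ι χ μ) {z : Γ} (hz : π z = 1) (n : N) (h1) :
    μ ⟨z * ι n, h1⟩ = μ ⟨z, by simp [hz]⟩ := by
  have : (⟨z * ι n, h1⟩ : N.comap π) = ⟨z, by simp [hz]⟩ * ⟨ι n, h.ι_mem n⟩ := rfl
  rw [this, map_mul, h.μ_ι, mul_one]

theorem IsCover.μ_conj (h : IsCover θ π ι χ μ) (g : Γ) (x : N.comap π) :
    μ (MulAut.conjNormal g x) = μ x := by
  obtain ⟨x, hx⟩ := x
  obtain ⟨z, n, hz, rfl⟩ := h.exists_mul hx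
  have : MulAut.conjNormal g (⟨z * ι n, hx⟩ : N.comap π) =
      ⟨z * ι (MulAut.conjNormal (π g) n), mul_mem (by simp [hz]) (h.ι_mem _)⟩ := by
    ext
    simp only [MulAut.conjNormal_apply, ← h.conj_ι, ← mul_assoc, h.central z hz g]
  rw [this, h.μ_mul_ι hz, h.μ_mul_ι hz]

theorem IsCover.μ_mul_χ (h : IsCover θ π ι χ μ) {z : Γ} (hz : π z = 1) :
    (μ ⟨z, by simp [hz]⟩ : ℂ) * χ z = χ 1 := by
  rw [← h.θ_π, ← map_one ι, h.χ_ι]
  congr 1
  exact Subtype.ext hz

theorem IsCover.χ_one (h : IsCover θ π ι χ μ) : χ 1 = θ 1 := by rw [← map_one ι, h.χ_ι]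

theorem IsCover.index_comap (h : IsCover θ π ι χ μ) (H : Subgroup G) :
    (H.comap π).index = H.index := H.index_comap_of_surjective h.surj

/-- If the linear character `μ` extends to the cover, then `θ` extends to `G`. -/
theorem IsCover.exists_extension [Finite Γ] (h : IsCover θ π ι χ μ)
    (hμ : ⇑μ ∈ extendable (N.comap π)) : ∃ η, IsIrrCharacter G η ∧ ∀ n : N, η n = θ n := by
  obtain ⟨ν, hν⟩ := mem_extendable.1 hμ
  obtain ⟨η, h1, h2⟩ := (h.irr.mul_hom ν).exists_of_surjective π h.surj fun z hz => by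
    simp only [Pi.mul_apply, map_one, Units.val_one, mul_one]
    rw [← h.μ_mul_χ hz, ← hν, mul_comm]
  refine ⟨η, h1, fun n => ?_⟩
  rw [← h.π_ι, h2, Pi.mul_apply, h.χ_ι, hν ⟨_, h.ι_mem n⟩, h.μ_ι, Units.val_one, mul_one]

/-- If `θ` extends to `H`, then the linear character `μ` extends to the preimage of `H`. -/
theorem IsCover.exists_hom_of_extension [Finite Γ] [Finite G] (h : IsCover θ π ι χ μ)
    (hθ : IsIrrCharacter N θ) {H : Subgroup G} (hNH : N ≤ H) {η : H → ℂ} (hη : IsCharacter H η)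
    (hηN : ∀ n : N, η ⟨n, hNH n.2⟩ = θ n) :
    ∃ ν : H.comap π →* ℂˣ, ∀ x : N.comap π, ν ⟨x, hNH x.2⟩ = μ x := by
  let ι' : N →* H.comap π := ι.codRestrict _ fun n => hNH (h.ι_mem n)
  obtain ⟨ν, h1, h2⟩ := gallagher_extension_hom ι' ⟨by
      rintro _ ⟨n, rfl⟩ x
      exact ⟨_, Subtype.ext (h.conj_ι x n).symm⟩⟩
    (h.irr.isCharacter.restrict (H.comap π)) (by rw [← funext h.χ_ι] at hθ; exact hθ)
    (hη.comp (π.subgroupComap H)) fun n => by
      change η ⟨π (ι n), _⟩ = χ (ι n)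
      simp only [h.π_ι, h.χ_ι, hηN]
  refine ⟨ν, fun ⟨x, hx⟩ => ?_⟩
  obtain ⟨z, n, hz, rfl⟩ := h.exists_mul hx
  have : (⟨z * ι n, hNH hx⟩ : H.comap π) = ⟨z, by simp [hz]⟩ * ι' n := rfl
  rw [h.μ_mul_ι hz, this, map_mul, h1, mul_one]
  have h3 := h.μ_mul_χ hz
  have h4 := h2 ⟨z, by simp [hz]⟩
  have h5 : π.subgroupComap H ⟨z, by simp [hz]⟩ = ⟨(1 : N), hNH (1 : N).2⟩ := Subtype.ext hz
  rw [h5, hηN, ← h.χ_one, ← h3] at h4
  have h6 : χ z ≠ 0 := right_ne_zero_of_mul (h3 ▸ h.irr.one_ne_zero)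
  exact Units.ext (mul_right_cancel₀ h6 h4).symm

theorem IsCover.pow_degree_mem [Finite Γ] [Finite G] (h : IsCover θ π ι χ μ)
    (hθ : IsIrrCharacter N θ) {d : ℕ} (hd : θ 1 = d) (hdet : ⇑(detHom θ) ∈ extendable N) :
    ⇑μ ^ d ∈ extendable (N.comap π) := by
  obtain ⟨ν, hν⟩ := mem_extendable.1 hdet
  refine mem_extendable.2 ⟨ν.comp π * (detHom χ)⁻¹, fun x => ?_⟩
  have h1 := detHom_hom_mul (h.irr.isCharacter.restrict (N.comap π)) μ (h.χ_one.trans hd) x
  simp only [← h.θ_π] at h1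
  have h2 := detHom_comp hθ.isCharacter (π.subgroupComap N) x
  rw [← hν] at h2
  rw [detHom_restrict h.irr.isCharacter] at h1
  rw [MonoidHom.mul_apply, MonoidHom.inv_apply, mul_inv_eq_iff_eq_mul, Pi.pow_apply, ← h1]
  exact h2.symm

/-- Every irreducible character over `θ` factors on the cover as `β χ`. -/
theorem IsCover.exists_factor [Finite Γ] [Finite G] [Fintype N] (h : IsCover θ π ι χ μ)
    (hθ : IsIrrCharacter N θ) {ψ : G → ℂ} (hψ : IsIrrCharacter G ψ)
    (hc : classInner (fun n : N => ψ n) θ ≠ 0) :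
    ∃ β, IsIrrCharacter Γ β ∧ (∀ n, β (ι n) = β 1) ∧ ∀ x, ψ (π x) = β x * χ x := by
  obtain ⟨β, h1, h2, h3⟩ := gallagher_exists_hom ι h.normal_range h.irr.isCharacter
    (by simpa only [h.χ_ι] using hθ) (hψ.comp_of_surjective π h.surj)
    (by simpa only [h.χ_ι, h.π_ι] using hc)
  exact ⟨β, h1, h2, fun x => (congrFun h3 x).symm⟩

theorem IsCover.degree_dvd [Finite Γ] (h : IsCover θ π ι χ μ) {β : Γ → ℂ}
    (hβ : IsIrrCharacter Γ β) (hι : ∀ n, β (ι n) = β 1) {b : ℕ} (hb : β 1 = b) : b ∣ N.index := by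
  rw [← h.index_comap]
  refine hβ.degree_dvd_index hb _ fun x hx => ?_
  obtain ⟨z, n, hz, rfl⟩ := h.exists_mul hx
  rw [hβ.isCharacter.apply_mul_of_eq_one' (hι n), hβ.norm_eq_of_comm (h.central z hz)]

end Cover

section Applications

variable {G : Type u} [Group G] [Finite G] {N : Subgroup G} [hN : N.Normal]

theorem exists_extension_of_det {θ : N → ℂ} (hθ : IsIrrCharacter N θ) (hinv : ∀ g, conjBy θ g = θ)
    {d : ℕ} (hd : θ 1 = d) (hcop : N.index.Coprime d) (hdet : ⇑(detHom θ) ∈ extendable N) :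
    ∃ η, IsIrrCharacter G η ∧ ∀ n : N, η n = θ n := by
  obtain ⟨Γ, _, _, π, ι, χ, μ, h⟩ := exists_isCover hθ hinv
  refine h.exists_extension (mem_of_coprime _ hcop ?_ (h.pow_degree_mem hθ hd hdet))
  rw [← h.index_comap]
  exact pow_index_mem_extendable' h.μ_conj

/-- Coprime extension, with the canonical determinant. -/
theorem exists_extension_of_coprime {θ : N → ℂ} (hθ : IsIrrCharacter N θ)
    (hinv : ∀ g, conjBy θ g = θ) {d : ℕ} (hd : θ 1 = d) (hcop : N.index.Coprime d)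
    (hcop' : N.index.Coprime (detOrder θ)) :
    ∃ χ, (IsIrrCharacter G χ ∧ (∀ n : N, χ n = θ n) ∧ detOrder χ = detOrder θ) ∧
      ∀ χ', IsIrrCharacter G χ' → (∀ n : N, χ' n = θ n) → N.index.Coprime (detOrder χ') →
        χ' = χ := by
  simp only [detOrder_eq] at hcop' ⊢
  obtain ⟨μ, h1, h2⟩ := exists_extension_orderOf_eq
    (fun g => detHom_conjBy hθ.isCharacter (hinv g)) hcop'
  obtain ⟨η, h3, h4⟩ := exists_extension_of_det hθ hinv hd hcop (mem_extendable.2 ⟨μ, h1⟩)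
  obtain ⟨χ, ⟨h5, h6, h7⟩, h8⟩ := existsUnique_extension_det hθ hd hcop h3.isCharacter h4 h1
  refine ⟨χ, ⟨h5, h6, by rw [h7, h2]⟩, fun χ' h9 h10 h11 => h8 χ' ⟨h9, h10, ?_⟩⟩
  refine hom_eq_of_coprime_orderOf (fun n hn => ?_) h11 (h2 ▸ hcop')
  rw [h1 ⟨n, hn⟩, ← funext h10]
  exact (detHom_comp h9.isCharacter N.subtype ⟨n, hn⟩).symm

theorem exists_extension_of_sylow {θ : N → ℂ} (hθ : IsIrrCharacter N θ)
    (hinv : ∀ g, conjBy θ g = θ)
    (hsyl : ∀ p : ℕ, p.Prime → ∃ (P : Subgroup G) (hNP : N ≤ P) (η : P → ℂ), ¬ p ∣ P.index ∧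
      IsCharacter P η ∧ ∀ n : N, η ⟨n, hNP n.2⟩ = θ n) :
    ∃ η, IsIrrCharacter G η ∧ ∀ n : N, η n = θ n := by
  obtain ⟨Γ, _, _, π, ι, χ, μ, h⟩ := exists_isCover hθ hinv
  refine h.exists_extension (mem_of_forall_prime _ fun p hp => ?_)
  obtain ⟨P, hNP, η, h1, h2, h3⟩ := hsyl p hp
  obtain ⟨ν, hν⟩ := h.exists_hom_of_extension hθ hNP h2 h3
  refine ⟨P.index, h1, ?_⟩
  rw [← h.index_comap]
  exact pow_index_mem_extendable h.μ_conj (Subgroup.comap_mono hNP) ν hν

omit hN in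
theorem mem_extendable_of_commutator {l : N →* ℂˣ}
    (h : ∀ n : N, (n : G) ∈ commutator G → l n = 1) : ⇑l ∈ extendable N := by
  let f : N →* Abelianization G := Abelianization.of.comp N.subtype
  have hf : f.rangeRestrict.ker ≤ l.ker := fun n hn => h n (by
    rwa [MonoidHom.ker_rangeRestrict, ← MonoidHom.comap_ker, Abelianization.ker_of] at hn)
  have : Finite (Abelianization G) := Finite.of_surjective _ (QuotientGroup.mk_surjective)
  have : NeZero (Monoid.exponent (Abelianization G)) := ⟨Monoid.exponent_ne_zero_of_finite⟩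
  obtain ⟨ν, hν⟩ := MonoidHom.domRestrict_surjective (M := ℂ) f.range
    (f.rangeRestrict.liftOfSurjective f.rangeRestrict_surjective ⟨l, hf⟩)
  refine mem_extendable.2 ⟨ν.comp Abelianization.of, fun n => ?_⟩
  have := DFunLike.congr_fun hν (f.rangeRestrict n)
  rw [MonoidHom.liftOfRightInverse_comp_apply] at this
  exact this

theorem exists_extension_of_isCyclic (hc : IsCyclic (G ⧸ N)) {θ : N → ℂ}
    (hθ : IsIrrCharacter N θ) (hinv : ∀ g, conjBy θ g = θ) :
    ∃ η, IsIrrCharacter G η ∧ ∀ n : N, η n = θ n := by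
  obtain ⟨Γ, _, _, π, ι, χ, μ, h⟩ := exists_isCover hθ hinv
  have := h.normal_range
  refine h.exists_extension (mem_extendable_of_commutator fun ⟨x, hx⟩ hx' => ?_)
  have h1 : commutator Γ ≤ ι.range := by
    rw [← Subgroup.Normal.quotient_commutative_iff_commutator_le]
    let f : Γ ⧸ ι.range →* G ⧸ N := QuotientGroup.map _ _ π (by
      rintro _ ⟨n, rfl⟩; exact h.ι_mem n)
    refine f.isMulCommutative_of_isCyclic_of_ker_le_center fun x hx => ?_
    obtain ⟨x, rfl⟩ := QuotientGroup.mk_surjective x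
    obtain ⟨z, n, hz, rfl⟩ := h.exists_mul ((QuotientGroup.eq_one_iff (π x)).1 hx)
    refine Subgroup.mem_center_iff.2 fun y => ?_
    obtain ⟨y, rfl⟩ := QuotientGroup.mk_surjective y
    rw [QuotientGroup.mk_mul_of_mem _ (show ι n ∈ ι.range from ⟨n, rfl⟩), ← QuotientGroup.mk_mul, ← QuotientGroup.mk_mul,
      h.central z hz]
  obtain ⟨n, rfl⟩ := h1 hx'
  exact h.μ_ι n hx

theorem _root_.Cfsg.IsIrrCharacter.exists_degree_eq_mul_of_invariant [Fintype N] {χ : G → ℂ}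
    (hχ : IsIrrCharacter G χ) {θ : N → ℂ} (hθ : IsIrrCharacter N θ) (hinv : ∀ g, conjBy θ g = θ)
    (hc : classInner (fun n : N => χ n) θ ≠ 0) : ∃ b : ℕ, b ∣ N.index ∧ χ 1 = b * θ 1 := by
  obtain ⟨Γ, _, _, π, ι, ξ, μ, h⟩ := exists_isCover hθ hinv
  obtain ⟨β, h1, h2, h3⟩ := h.exists_factor hθ hχ hc
  obtain ⟨b, -, hb⟩ := h1.exists_nat
  exact ⟨b, h.degree_dvd h1 h2 hb, by rw [← map_one π, h3, hb, h.χ_one]⟩

/-- The ratio of degrees divides the index. -/
theorem _root_.Cfsg.IsIrrCharacter.exists_degree_eq_mul [Fintype N] {χ : G → ℂ}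
    (hχ : IsIrrCharacter G χ) {θ : N → ℂ} (hθ : IsIrrCharacter N θ)
    (hc : classInner (fun n : N => χ n) θ ≠ 0) : ∃ b : ℕ, b ∣ N.index ∧ χ 1 = b * θ 1 := by
  have := Fintype.ofFinite G
  have hle := le_inertia hθ.isClassFunction
  obtain ⟨ψ, hψ, h1, h2⟩ := hθ.exists_indFun_inertia rfl hle hχ hc
  have := Fintype.ofFinite (N.subgroupOf (inertia θ))
  let e := Subgroup.subgroupOfEquivOfLe hle
  obtain ⟨b, h3, h4⟩ := hψ.exists_degree_eq_mul_of_invariant (hθ.comp_equiv e)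
    (fun g => funext fun n => congrFun g.2 (e n)) (by
      rw [← h2, ← classInner_comp_equiv e.toEquiv] at hc
      exact hc)
  refine ⟨(inertia θ).index * b, ?_, by rw [← h1, indFun_one, h4, map_one, Nat.cast_mul, mul_assoc]⟩
  rw [← Subgroup.relIndex_mul_index hle, mul_comm]
  exact Nat.mul_dvd_mul_right h3 _

end Applications

end Cfsg.Agent.Char
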