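import Mathlib
import Cfsg.Prelude.Def_OddOrderChar
import Cfsg.Agent.Char.Extend
import Cfsg.Agent.Char.Brauer2
import Cfsg.Agent.Core.Coprime

/-!
# Peterfalvi, section 1: preliminary results from character theory.
-/

set_option autoImplicit false

namespace Cfsg.Agent.Char

open Cfsg
open scoped ComplexConjugate

variable {G : Type*} [Group G]

section Ind

variable [Fintype G]

theorem indFun_congr {H K : Subgroup G} (h : H = K) (θ : H → ℂ) :
    indFun H θ = indFun K (fun x => θ ⟨x, h ▸ x.2⟩) := by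
  subst h; rfl

theorem indFun_congr' {H K : Subgroup G} (h : H = K) {θ : H → ℂ} {φ : K → ℂ}
    (e : ∀ x (hx : x ∈ H), θ ⟨x, hx⟩ = φ ⟨x, h ▸ hx⟩) : indFun H θ = indFun K φ := by
  subst h
  congr 1
  ext ⟨x, hx⟩
  exact e x hx

/-- Frobenius reciprocity with the subgroup `H.subgroupOf T` replaced by `H`. -/
theorem classInner_indFun_subgroupOf {H T : Subgroup G} [Fintype T] [Fintype H] (hHT : H ≤ T)
    (θ : H → ℂ) {ψ : T → ℂ} (hψ : IsClassFunction T ψ) :
    classInner (indFun (H.subgroupOf T) fun x => θ ⟨(x : T), Subgroup.mem_subgroupOf.mp x.2⟩) ψ =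
      classInner θ (fun n : H => ψ ⟨n, hHT n.2⟩) := by
  have := Fintype.ofFinite (H.subgroupOf T)
  rw [classInner_indFun_left _ _ hψ]
  exact classInner_comp_equiv (Subgroup.subgroupOfEquivOfLe hHT).toEquiv θ
    (fun n : H => ψ ⟨n, hHT n.2⟩)

theorem indFun_apply_eq_of_ker {A H : Subgroup G} [hA : A.Normal] (hAH : A ≤ H) {θ : H → ℂ}
    (h : ∀ a : H, (a : G) ∈ A → θ a = θ 1) {a : G} (ha : a ∈ A) :
    indFun H θ a = indFun H θ 1 := by
  rw [indFun_apply', indFun_apply']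
  congr 1
  refine Finset.sum_congr rfl fun x _ => ?_
  have h1 := hA.conj_mem a ha x
  rw [extendByZero_of_mem H θ (hAH h1), h _ h1, mul_one, mul_inv_cancel,
    extendByZero_of_mem H θ H.one_mem]
  rfl

theorem classInner_restrict_indFun_ne_zero {H : Subgroup G} [Fintype H] {θ : H → ℂ}
    (hθ : IsCharacter H θ) (h0 : θ ≠ 0) : classInner (fun x : H => indFun H θ x) θ ≠ 0 := by
  rw [← classInner_indFun_right _ _ (isClassFunction_indFun H θ), Ne, classInner_self_eq_zero]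
  intro h
  have := congrFun h 1
  rw [indFun_one] at this
  have h2 : (H.index : ℂ) ≠ 0 := by exact_mod_cast Subgroup.index_ne_zero_of_finite
  exact h0 (hθ.eq_zero_of_one_eq_zero (by simpa [h2] using this))

theorem _root_.Cfsg.IsIrrCharacter.apply_eq_of_indFun {H : Subgroup G} {θ : H → ℂ}
    (hθ : IsIrrCharacter H θ) {a : H} (h : indFun H θ a = indFun H θ 1) : θ a = θ 1 := by
  have := Fintype.ofFinite H
  exact (hθ.isCharacter.indFun.restrict H).apply_eq_of_constituent hθ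
    (classInner_restrict_indFun_ne_zero hθ.isCharacter hθ.ne_zero) h

theorem indFun_ne_zero {H : Subgroup G} {θ : H → ℂ} (h : θ 1 ≠ 0) : indFun H θ ≠ 0 := by
  intro h0
  have := congrFun h0 1
  rw [indFun_one] at this
  have h2 : (H.index : ℂ) ≠ 0 := by exact_mod_cast Subgroup.index_ne_zero_of_finite
  exact h (by simpa [h2] using this)

end Ind

section AbelianInertia

variable [Fintype G] {N : Subgroup G} [hN : N.Normal]

/-- If `G / N` is abelian, irreducible characters over a common constituent differ by a linear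
character. -/
theorem exists_hom_mul_of_comm_quotient [Fintype N]
    (hab : ∀ x y : G, x * y * x⁻¹ * y⁻¹ ∈ N) {ψ χ : G → ℂ} (hψ : IsIrrCharacter G ψ)
    (hχ : IsIrrCharacter G χ) (h : classInner (fun n : N => ψ n) (fun n : N => χ n) ≠ 0) :
    ∃ l : G →* ℂˣ, (∀ n ∈ N, l n = 1) ∧ χ = ψ * fun g => (l g : ℂ) := by
  rw [← classInner_indFun_left _ _ hχ.isClassFunction, indFun_restrict _ hψ.isClassFunction,
    (isClassFunction_indFun N (fun _ => 1)).eq_sum_irr, Finset.sum_mul, classInner_sum_left] at h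
  obtain ⟨β, -, hβ⟩ := Finset.exists_ne_zero_of_sum_ne_zero h
  rw [smul_mul_assoc, classInner_smul_left] at hβ
  have h1 := (classInner_indFun_one_ne_zero_iff β.2).1 (left_ne_zero_of_mul hβ)
  have h2 := β.2.one_eq_one_of_commutator fun a b => h1 _ (hab a b)
  obtain ⟨l, hl⟩ := β.2.isCharacter.exists_hom h2
  refine ⟨l, fun n hn => ?_, ?_⟩
  · have := h1 n hn
    rw [h2, hl] at this
    exact Units.ext this
  · have h3 := right_ne_zero_of_mul hβ
    rw [hl, mul_comm] at h3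
    exact ((hψ.mul_hom l).eq_of_classInner_ne_zero hχ h3).symm

theorem degree_eq_of_comm_inertia [Fintype N] {θ : N → ℂ} (hθ : IsIrrCharacter N θ)
    (hab : ∀ x ∈ inertia θ, ∀ y ∈ inertia θ, x * y * x⁻¹ * y⁻¹ ∈ N) {χ χ' : G → ℂ}
    (hχ : IsIrrCharacter G χ) (hχ' : IsIrrCharacter G χ')
    (h : classInner (fun n : N => χ n) θ ≠ 0) (h' : classInner (fun n : N => χ' n) θ ≠ 0) :
    χ 1 = χ' 1 := by
  have hNT := le_inertia hθ.isClassFunction
  set T := inertia θ with hT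
  have := Fintype.ofFinite T
  have := Fintype.ofFinite (N.subgroupOf T)
  obtain ⟨ψ, h1, rfl, h2⟩ := hθ.exists_indFun_inertia hT hNT hχ h
  obtain ⟨ψ', h1', rfl, h2'⟩ := hθ.exists_indFun_inertia hT hNT hχ' h'
  rw [← h2] at h
  rw [← h2'] at h'
  have h3 : classInner (fun n : N.subgroupOf T => ψ n) (fun n : N.subgroupOf T => ψ' n) ≠ 0 := by
    have := classInner_comp_equiv (Subgroup.subgroupOfEquivOfLe hNT).toEquiv
      (fun n : N => ψ ⟨n, hNT n.2⟩) (fun n : N => ψ' ⟨n, hNT n.2⟩)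
    refine fun h0 => ?_
    have h4 := this.symm.trans h0
    refine classInner_ne_zero_of_common ?_ ?_ hθ h h' h4
    · exact h1.isCharacter.comp (Subgroup.inclusion hNT)
    · exact h1'.isCharacter.comp (Subgroup.inclusion hNT)
  obtain ⟨l, -, hl⟩ := exists_hom_mul_of_comm_quotient
    (fun x y => Subgroup.mem_subgroupOf.2 (hab x x.2 y y.2)) h1 h1' h3
  rw [indFun_one, indFun_one, hl]
  simp

open Classical in
/-- Peterfalvi (1.7)(b). -/
theorem indFun_eq_of_comm_inertia [Fintype N] {θ : N → ℂ} (hθ : IsIrrCharacter N θ)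
    (hab : ∀ x ∈ inertia θ, ∀ y ∈ inertia θ, x * y * x⁻¹ * y⁻¹ ∈ N) :
    ∃ (e : ℕ) (C : Finset (G → ℂ)), 0 < e ∧
      (∀ χ, χ ∈ C ↔ IsIrrCharacter G χ ∧ classInner (fun n : N => χ n) θ ≠ 0) ∧
      (∀ χ ∈ C, classInner (fun n : N => χ n) θ = e) ∧
      e ^ 2 * C.card = N.relIndex (inertia θ) ∧ indFun N θ = (e : ℂ) • ∑ χ ∈ C, χ ∧
      ∀ χ ∈ C, χ 1 = (inertia θ).index * e * θ 1 := by
  obtain ⟨χ₀, h0, h0'⟩ := hθ.exists_over (G := G)
  obtain ⟨e, he⟩ := (h0.isCharacter.restrict N).classInner_nat hθ.isCharacter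
  set C₀ : Finset (IrrCharacter G) :=
    Finset.univ.filter fun χ => classInner (fun n : N => (χ : G → ℂ) n) θ ≠ 0 with hC₀
  have hmem : ∀ χ, χ ∈ C₀.map (Function.Embedding.subtype _) ↔
      IsIrrCharacter G χ ∧ classInner (fun n : N => χ n) θ ≠ 0 := by
    intro χ
    simp only [hC₀, Finset.mem_map, Finset.mem_filter, Finset.mem_univ, true_and,
      Function.Embedding.coe_subtype]
    constructor
    · rintro ⟨ψ, h1, rfl⟩; exact ⟨ψ.2, h1⟩
    · rintro ⟨h1, h2⟩; exact ⟨⟨χ, h1⟩, h2, rfl⟩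
  have hi : ((inertia θ).index : ℂ) ≠ 0 := by exact_mod_cast Subgroup.index_ne_zero_of_finite
  have hmul : ∀ χ, IsIrrCharacter G χ → classInner (fun n : N => χ n) θ ≠ 0 →
      classInner (fun n : N => χ n) θ = e := by
    intro χ h1 h2
    have h3 := degree_eq_of_comm_inertia hθ hab h1 h0 h2 h0'
    rw [h1.clifford_degree hθ h2, h0.clifford_degree hθ h0', he] at h3
    exact mul_right_cancel₀ hi (mul_right_cancel₀ hθ.one_ne_zero h3)
  have hind : indFun N θ = (e : ℂ) • ∑ χ ∈ C₀.map (Function.Embedding.subtype _), χ := by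
    rw [(isClassFunction_indFun N θ).eq_sum_irr, Finset.sum_map, Finset.smul_sum, hC₀,
      Finset.sum_filter]
    refine Finset.sum_congr rfl fun χ _ => ?_
    rw [classInner_indFun_left _ _ χ.2.isClassFunction,
      hθ.isCharacter.classInner_comm (χ.2.isCharacter.restrict N)]
    split_ifs with h
    · rw [hmul _ χ.2 h]; rfl
    · rw [not_not.1 h, zero_smul]
  refine ⟨e, C₀.map (Function.Embedding.subtype _), ?_, hmem,
    fun χ hχ => hmul χ ((hmem χ).1 hχ).1 ((hmem χ).1 hχ).2, ?_, hind, fun χ hχ => ?_⟩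
  · rcases Nat.eq_zero_or_pos e with rfl | h
    · exact absurd he (by simpa using h0')
    · exact h
  · apply Nat.cast_injective (R := ℂ)
    rw [← classInner_indFun_self hθ, hind, classInner_smul_left, classInner_smul_right,
      classInner_sum_left]
    rw [Finset.sum_congr rfl (g := fun _ => (1 : ℂ))]
    · simp; ring
    · intro χ hχ
      rw [classInner_sum_right, Finset.sum_eq_single χ]
      · exact ((hmem χ).1 hχ).1.classInner_self
      · exact fun ψ hψ hne => ((hmem χ).1 hχ).1.classInner_of_ne ((hmem ψ).1 hψ).1 hne.symm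
      · exact fun h => absurd hχ h
  · obtain ⟨h1, h2⟩ := (hmem χ).1 hχ
    rw [h1.clifford_degree hθ h2, hmul χ h1 h2]
    ring

omit [Fintype G] in
theorem detOrder_dvd_card [Finite G] (χ : G → ℂ) : detOrder χ ∣ Nat.card G := by
  rw [detOrder_eq]
  apply orderOf_dvd_of_pow_eq_one
  ext g
  rw [Pi.pow_apply, ← map_pow, pow_card_eq_one', map_one]
  rfl

omit [Fintype G] in
/-- An irreducible character of a normal subgroup of index coprime to its order extends to its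
inertia group. -/
theorem exists_extension_of_coprime_le [Finite G] {θ : N → ℂ} (hθ : IsIrrCharacter N θ)
    {T : Subgroup G} (hNT : N ≤ T) (hT : T ≤ inertia θ)
    (hcop : Nat.Coprime (Nat.card N) (N.relIndex T)) :
    ∃ η : T → ℂ, IsIrrCharacter T η ∧ ∀ n : N, η ⟨n, hNT n.2⟩ = θ n := by
  have := Fintype.ofFinite (N.subgroupOf T)
  set θ' : N.subgroupOf T → ℂ := fun x => θ (Subgroup.subgroupOfEquivOfLe hNT x) with hθ'
  have h1 : IsIrrCharacter _ θ' := hθ.comp_equiv _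
  obtain ⟨d, -, hd⟩ := h1.exists_nat
  have hc : Nat.card (N.subgroupOf T) = Nat.card N := Core.card_subgroupOf_of_le hNT
  obtain ⟨η, ⟨h2, h3, -⟩, -⟩ := exists_extension_of_coprime h1 (fun g => by
      ext n
      exact mem_inertia'.1 (hT g.2) ⟨(n : T), Subgroup.mem_subgroupOf.1 n.2⟩) hd
    (hcop.symm.coprime_dvd_right (hc ▸ h1.degree_dvd_card hd))
    (hcop.symm.coprime_dvd_right (hc ▸ detOrder_dvd_card θ'))
  exact ⟨η, h2, fun n => h3 ⟨⟨n, hNT n.2⟩, n.2⟩⟩

/-- Peterfalvi (1.7)(c). -/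
theorem indFun_eq_of_comm_inertia_coprime [Fintype N] {θ : N → ℂ} (hθ : IsIrrCharacter N θ)
    (hab : ∀ x ∈ inertia θ, ∀ y ∈ inertia θ, x * y * x⁻¹ * y⁻¹ ∈ N)
    (hcop : Nat.Coprime (Nat.card N) (N.relIndex (inertia θ))) :
    ∃ C : Finset (G → ℂ),
      (∀ χ, χ ∈ C ↔ IsIrrCharacter G χ ∧ classInner (fun n : N => χ n) θ ≠ 0) ∧
      (∀ χ ∈ C, classInner (fun n : N => χ n) θ = 1) ∧
      C.card = N.relIndex (inertia θ) ∧ indFun N θ = ∑ χ ∈ C, χ ∧
      ∀ χ ∈ C, χ 1 = (inertia θ).index * θ 1 := by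
  obtain ⟨e, C, -, h1, h2, h3, h4, h5⟩ := indFun_eq_of_comm_inertia hθ hab
  have hNT := le_inertia hθ.isClassFunction
  obtain ⟨η, h6, h7⟩ := exists_extension_of_coprime_le hθ hNT le_rfl hcop
  have h8 : classInner (fun n : N => η ⟨n, hNT n.2⟩) θ = 1 := by
    simp only [h7]; exact hθ.classInner_self
  have h9 := classInner_restrict_indFun_inertia hθ rfl hNT h6 (by rw [h8]; exact one_ne_zero)
  have h10 := hθ.indFun_inertia rfl hNT h6 (by rw [h8]; exact one_ne_zero)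
  have h11 := h2 _ ((h1 _).2 ⟨h10, by rw [h9, h8]; exact one_ne_zero⟩)
  rw [h9, h8] at h11
  obtain rfl : e = 1 := by exact_mod_cast h11.symm
  exact ⟨C, h1, by simpa using h2, by simpa using h3, by simpa using h4, by simpa using h5⟩

end AbelianInertia

section Degree

theorem _root_.Cfsg.IsIrrCharacter.sq_mul_card_le [Finite G] {χ : G → ℂ}
    (hχ : IsIrrCharacter G χ) (D : Subgroup G) (hD : ∀ d ∈ D, ‖χ d‖ = ‖χ 1‖) :
    ‖χ 1‖ ^ 2 * Nat.card D ≤ Nat.card G := by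
  classical
  have := Fintype.ofFinite G
  have := Fintype.ofFinite D
  have h1 := classInner_self_re χ
  rw [hχ.classInner_self, Complex.one_re, eq_inv_mul_iff_mul_eq₀ (by exact_mod_cast Nat.card_pos.ne'),
    mul_one, ← sum_subgroup_add_sum_compl (H := D)] at h1
  rw [h1, Finset.sum_congr rfl fun (x : D) _ => congrArg (· ^ 2) (hD x x.2)]
  simp only [Finset.sum_const, Finset.card_univ, nsmul_eq_mul, Nat.card_eq_fintype_card]
  rw [mul_comm]
  exact le_add_of_nonneg_right (Finset.sum_nonneg fun _ _ => sq_nonneg _)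

theorem _root_.Cfsg.IsCharacter.norm_one {χ : G → ℂ} (hχ : IsCharacter G χ) :
    ‖χ 1‖ = (χ 1).re := by
  obtain ⟨n, hn⟩ := hχ.exists_nat
  rw [hn]; simp

theorem _root_.Cfsg.IsIrrCharacter.exists_constituent_restrict [Finite G] {χ : G → ℂ}
    (hχ : IsIrrCharacter G χ) (H : Subgroup G) [Fintype H] :
    ∃ θ, IsIrrCharacter H θ ∧ classInner (fun n : H => χ n) θ ≠ 0 :=
  (hχ.isCharacter.restrict H).exists_irr_constituent fun h => hχ.one_ne_zero (congrFun h 1)

theorem _root_.Cfsg.IsIrrCharacter.degree_le_index_mul [Finite G] {χ : G → ℂ}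
    (hχ : IsIrrCharacter G χ) {H : Subgroup G} [Fintype H] {θ : H → ℂ} (hθ : IsCharacter H θ)
    (h : classInner (fun n : H => χ n) θ ≠ 0) : ‖χ 1‖ ≤ H.index * ‖θ 1‖ := by
  have := Fintype.ofFinite G
  rw [← classInner_indFun_right _ _ hχ.isClassFunction, Ne, classInner_eq_zero_comm] at h
  have h1 := hθ.indFun.degree_le_of_constituent hχ h
  rw [indFun_one] at h1
  rw [hχ.isCharacter.norm_one, hθ.norm_one]
  simpa using h1

/-- Peterfalvi (1.8). -/
theorem _root_.Cfsg.IsIrrCharacter.degree_sq_le_of_central [Finite G] {ψ : G → ℂ}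
    (hψ : IsIrrCharacter G ψ) {B C D : Subgroup G} (hDC : D ≤ C)
    (hcent : ∀ d ∈ D, ∀ c ∈ C, d * c * d⁻¹ * c⁻¹ ∈ B) (hker : ∀ b ∈ B, ψ b = ψ 1) :
    ‖ψ 1‖ ^ 2 * Nat.card D ≤ (C.index : ℝ) ^ 2 * Nat.card C := by
  have := Fintype.ofFinite C
  obtain ⟨φ, h1, h2⟩ := hψ.exists_constituent_restrict C
  have h3 := hψ.degree_le_index_mul h1.isCharacter h2
  have h4 := h1.sq_mul_card_le (D.subgroupOf C) fun d hd => h1.norm_eq_of_commutator fun c =>
    (hψ.isCharacter.restrict C).apply_eq_of_constituent h1 h2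
      (hker _ (hcent _ (Subgroup.mem_subgroupOf.1 hd) _ c.2))
  rw [Core.card_subgroupOf_of_le hDC] at h4
  calc ‖ψ 1‖ ^ 2 * Nat.card D ≤ (C.index * ‖φ 1‖) ^ 2 * Nat.card D := by gcongr
    _ = (C.index : ℝ) ^ 2 * (‖φ 1‖ ^ 2 * Nat.card D) := by ring
    _ ≤ _ := by gcongr

end Degree

section Galois

/-- Peterfalvi (1.9)(a)/(b): a field automorphism acting as `k`-th power on `a`-th roots of
unity and trivially on `b`-th roots of unity. -/
theorem exists_ringEquiv_pow_coprime {a b k : ℕ} (ha : a ≠ 0) (hb : b ≠ 0) (hcop : a.Coprime b)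
    (hk : k.Coprime a) : ∃ σ : ℂ ≃+* ℂ, (∀ z : ℂ, z ^ a = 1 → σ z = z ^ k) ∧
      ∀ z : ℂ, z ^ b = 1 → σ z = z := by
  obtain ⟨m, h1, h2⟩ := Nat.chineseRemainder hcop k 1
  have h3 : m.Coprime (a * b) := by
    refine Nat.Coprime.mul_right ?_ ?_
    · unfold Nat.Coprime; rw [h1.gcd_eq]; exact hk
    · unfold Nat.Coprime; rw [h2.gcd_eq]; simp
  obtain ⟨σ, hσ⟩ := exists_ringEquiv_pow (mul_ne_zero ha hb) h3
  refine ⟨σ, fun z hz => ?_, fun z hz => ?_⟩
  · rw [hσ z (by rw [pow_mul, hz, one_pow])]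
    exact pow_eq_pow_of_modEq h1 hz
  · rw [hσ z (by rw [mul_comm, pow_mul, hz, one_pow]), pow_eq_pow_of_modEq h2 hz, pow_one]

/-- Divisibility in the ring of algebraic integers. -/
def DvdA (a b : ℂ) : Prop := ∃ ω : ℂ, IsIntegral ℤ ω ∧ b = a * ω

theorem DvdA.zero (a : ℂ) : DvdA a 0 := ⟨0, isIntegral_zero, by simp⟩

theorem DvdA.refl (a : ℂ) : DvdA a a := ⟨1, isIntegral_one, by simp⟩

theorem DvdA.add {a b c : ℂ} (h : DvdA a b) (h' : DvdA a c) : DvdA a (b + c) := by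
  obtain ⟨x, hx, rfl⟩ := h
  obtain ⟨y, hy, rfl⟩ := h'
  exact ⟨x + y, hx.add hy, by ring⟩

theorem DvdA.neg {a b : ℂ} (h : DvdA a b) : DvdA a (-b) := by
  obtain ⟨x, hx, rfl⟩ := h
  exact ⟨-x, hx.neg, by ring⟩

theorem DvdA.sub {a b c : ℂ} (h : DvdA a b) (h' : DvdA a c) : DvdA a (b - c) := by
  rw [sub_eq_add_neg]; exact h.add h'.neg

theorem DvdA.mul_left {a b c : ℂ} (h : DvdA a b) (hc : IsIntegral ℤ c) : DvdA a (c * b) := by
  obtain ⟨x, hx, rfl⟩ := h
  exact ⟨c * x, hc.mul hx, by ring⟩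

theorem DvdA.mul_right {a b c : ℂ} (h : DvdA a b) (hc : IsIntegral ℤ c) : DvdA a (b * c) := by
  rw [mul_comm]; exact h.mul_left hc

theorem DvdA.trans {a b c : ℂ} (h : DvdA a b) (h' : DvdA b c) : DvdA a c := by
  obtain ⟨x, hx, rfl⟩ := h'
  exact h.mul_right hx

theorem DvdA.sum {ι : Type*} {a : ℂ} (s : Finset ι) {f : ι → ℂ} (h : ∀ i ∈ s, DvdA a (f i)) :
    DvdA a (∑ i ∈ s, f i) :=
  Finset.sum_induction f (DvdA a) (fun _ _ => DvdA.add) (DvdA.zero a) h

theorem DvdA.mul_self {a c : ℂ} (hc : IsIntegral ℤ c) : DvdA a (a * c) := ⟨c, hc, rfl⟩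

theorem DvdA.of_int_dvd {a b : ℤ} (h : a ∣ b) : DvdA a b := by
  obtain ⟨c, rfl⟩ := h
  exact ⟨c, isIntegral_intCast c, by simp⟩

theorem DvdA.int_dvd {a b : ℤ} (h : DvdA a b) : a ∣ b := by
  obtain ⟨x, hx, h⟩ := h
  rcases eq_or_ne a 0 with rfl | ha
  · have : (b : ℂ) = 0 := by simpa using h
    simpa using this
  · refine int_dvd_of_isIntegral_div ha ?_
    rw [h, mul_div_cancel_left₀ _ (by exact_mod_cast ha)]
    exact hx

theorem DvdA.map {a b : ℂ} (h : DvdA a b) (σ : ℂ ≃+* ℂ) : DvdA (σ a) (σ b) := by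
  obtain ⟨x, hx, rfl⟩ := h
  exact ⟨σ x, hx.map_of_comp_eq (RingHom.id ℤ) σ.toRingHom (by ext; simp), by simp⟩

theorem DvdA.mul {a b c d : ℂ} (h : DvdA a b) (h' : DvdA c d) : DvdA (a * c) (b * d) := by
  obtain ⟨x, hx, rfl⟩ := h
  obtain ⟨y, hy, rfl⟩ := h'
  exact ⟨x * y, hx.mul hy, by ring⟩

theorem DvdA.prod {ι : Type*} (s : Finset ι) {f g : ι → ℂ} (h : ∀ i ∈ s, DvdA (f i) (g i)) :
    DvdA (∏ i ∈ s, f i) (∏ i ∈ s, g i) := by
  classical
  induction s using Finset.induction_on with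
  | empty => simpa using DvdA.refl 1
  | insert i s hi ih =>
    rw [Finset.prod_insert hi, Finset.prod_insert hi]
    exact (h i (by simp)).mul (ih fun j hj => h j (by simp [hj]))

theorem dvdA_one_sub_pow {ε : ℂ} (hε : IsIntegral ℤ ε) (j : ℕ) : DvdA (1 - ε) (1 - ε ^ j) :=
  ⟨∑ i ∈ Finset.range j, ε ^ i, IsIntegral.sum _ fun _ _ => hε.pow _, by
    rw [mul_neg_geom_sum]⟩

theorem dvdA_one_sub_of_pow_eq_one {ε z : ℂ} {n : ℕ} (hn : n ≠ 0) (hε : IsPrimitiveRoot ε n)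
    (hz : z ^ n = 1) : DvdA (1 - ε) (1 - z) := by
  have : NeZero n := ⟨hn⟩
  obtain ⟨j, -, rfl⟩ := hε.eq_pow_of_pow_eq_one hz
  exact dvdA_one_sub_pow (isIntegral_of_pow_eq_one hn hε.pow_eq_one) j

/-- Peterfalvi (1.10)(a). -/
theorem _root_.Cfsg.IsGeneralizedCharacter.dvdA_sub [Finite G] {χ : G → ℂ}
    (hχ : IsGeneralizedCharacter G χ) {ε : ℂ} {n : ℕ} (hn : n ≠ 0) (hε : IsPrimitiveRoot ε n)
    {x y : G} (hx : x ^ n = 1) (hxy : x * y = y * x) : DvdA (1 - ε) (χ (x * y) - χ y) := by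
  have key : ∀ χ, IsCharacter G χ → DvdA (1 - ε) (χ (x * y) - χ y) := by
    intro χ hχ
    set A := Subgroup.closure ({x, y} : Set G) with hA
    have hc : ∀ a b : A, a * b = b * a := by
      have := Subgroup.isMulCommutative_closure (k := ({x, y} : Set G)) (by
        rintro a (rfl | rfl) b (rfl | rfl) <;> simp [hxy])
      exact this.is_comm.comm
    obtain ⟨m, l, -, h⟩ := (hχ.restrict A).exists_sum_hom_of_comm hc
    have hx' : x ∈ A := Subgroup.subset_closure (by simp)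
    have hy' : y ∈ A := Subgroup.subset_closure (by simp)
    have e1 := h (⟨x, hx'⟩ * ⟨y, hy'⟩)
    have e2 := h ⟨y, hy'⟩
    simp only [Subgroup.coe_mul] at e1 e2
    rw [e1, e2, ← Finset.sum_sub_distrib]
    refine DvdA.sum _ fun i _ => ?_
    have h1 : (l i ⟨x, hx'⟩ : ℂ) ^ n = 1 := by
      rw [← Units.val_pow_eq_pow_val, ← map_pow, show (⟨x, hx'⟩ : A) ^ n = 1 from
        Subtype.ext hx, map_one, Units.val_one]
    have h2 := ((dvdA_one_sub_of_pow_eq_one hn hε h1).mul_left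
      ((isCharacter_hom (l i)).isIntegral ⟨y, hy'⟩)).neg
    convert h2 using 1
    rw [map_mul, Units.val_mul]; ring
  obtain ⟨χ₁, χ₂, h1, h2, rfl⟩ := hχ
  convert (key _ h1).sub (key _ h2) using 1
  simp only [Pi.sub_apply]; ring

/-- Peterfalvi (1.10)(b). -/
theorem DvdA.prime_dvd {ε : ℂ} {p : ℕ} (hp : p.Prime) (hε : IsPrimitiveRoot ε p) {n : ℤ}
    (h : DvdA (1 - ε) n) : (p : ℤ) ∣ n := by
  obtain ⟨q, rfl⟩ : ∃ q, p = q + 1 := ⟨p - 1, (Nat.succ_pred_eq_of_pos hp.pos).symm⟩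
  have h1 := hε.prod_one_sub_pow_eq_order
  have h2 : DvdA (∏ k ∈ Finset.range q, (1 - ε ^ (k + 1))) (∏ _k ∈ Finset.range q, (n : ℂ)) := by
    refine DvdA.prod _ fun k hk => ?_
    have h3 : (k + 1).Coprime (q + 1) := by
      rw [Nat.coprime_comm, hp.coprime_iff_not_dvd]
      exact Nat.not_dvd_of_pos_of_lt (by omega) (by simpa using hk)
    obtain ⟨σ, hσ⟩ := exists_ringEquiv_pow hp.ne_zero h3
    have := h.map σ
    rwa [map_sub, map_one, hσ ε hε.pow_eq_one, map_intCast] at this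
  rw [h1, Finset.prod_const, Finset.card_range] at h2
  have h4 : ((q + 1 : ℕ) : ℤ) ∣ n ^ q := DvdA.int_dvd (by simpa using h2)
  exact (Nat.prime_iff_prime_int.1 hp).dvd_of_dvd_pow h4

end Galois

section Coprime

/-- If `g` acts coprimely on `H` and fixes the `H`-class of `x`, it fixes a point of it. -/
theorem exists_conj_comm_of_coprime [Finite G] {H : Subgroup G} {g : G}
    (hg : g ∈ Subgroup.normalizer (H : Set G)) (hcop : (orderOf g).Coprime (Nat.card H)) {x : G}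
    (hx : ∃ k ∈ H, g * x * g⁻¹ = k * x * k⁻¹) :
    ∃ k ∈ H, g * (k * x * k⁻¹) = k * x * k⁻¹ * g := by
  obtain ⟨k₀, hk₀, e₀⟩ := hx
  obtain ⟨k, hk, e⟩ := @Core.exists_fixed_of_coprime G _ _ G
    (MulAction.compHom G (MulAut.conj : G →* MulAut G)) (Subgroup.zpowers g) H
    (by simpa using hg) (by rwa [Nat.card_zpowers]) (Or.inl inferInstance) x (by
      intro a ha
      obtain ⟨n, rfl⟩ := mem_powers_iff_mem_zpowers.2 ha
      change ∃ k ∈ H, g ^ n * x * (g ^ n)⁻¹ = k * x * k⁻¹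
      clear ha
      induction n with
      | zero => exact ⟨1, one_mem _, by simp⟩
      | succ n ih =>
        obtain ⟨k, hk, e⟩ := ih
        refine ⟨g * k * g⁻¹ * k₀, mul_mem (Core.conj_mem_of_mem_normalizer hg hk) hk₀, ?_⟩
        calc g ^ (n + 1) * x * (g ^ (n + 1))⁻¹ = g * (g ^ n * x * (g ^ n)⁻¹) * g⁻¹ := by group
          _ = g * k * g⁻¹ * (g * x * g⁻¹) * (g * k * g⁻¹)⁻¹ := by rw [e]; group
          _ = _ := by rw [e₀]; group)
  refine ⟨k, hk, ?_⟩
  have := e g (Subgroup.mem_zpowers g)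
  change g * (k * x * k⁻¹) * g⁻¹ = k * x * k⁻¹ at this
  rw [mul_inv_eq_iff_eq_mul] at this
  exact this

/-- Peterfalvi's coset lemma: each element of `H g` is `H`-conjugate into `C_H(g) g`. -/
theorem exists_conj_mul_eq_of_coprime [Finite G] {H : Subgroup G} {g : G}
    (hg : g ∈ Subgroup.normalizer (H : Set G)) (hcop : (orderOf g).Coprime (Nat.card H)) {h : G}
    (hh : h ∈ H) : ∃ x ∈ H, ∃ c ∈ H, c * g = g * c ∧ x * (h * g) * x⁻¹ = c * g := by
  obtain ⟨k, hk, e⟩ := exists_conj_comm_of_coprime hg hcop (x := h * g)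
    ⟨h⁻¹, inv_mem hh, by
      calc g * (h * g) * g⁻¹ = g * h := by group
        _ = h⁻¹ * (h * g) * h⁻¹⁻¹ := by group⟩
  refine ⟨k, hk, k * h * (g * k⁻¹ * g⁻¹), mul_mem (mul_mem hk hh)
    (Core.conj_mem_of_mem_normalizer hg (inv_mem hk)), ?_, by group⟩
  calc k * h * (g * k⁻¹ * g⁻¹) * g = k * (h * g) * k⁻¹ * g * g⁻¹ := by group
    _ = _ := by rw [← e]; group

theorem mem_of_orderOf_coprime_index {H : Subgroup G} [H.Normal] {x : G}
    (h : (orderOf x).Coprime H.index) : x ∈ H := by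
  rw [← QuotientGroup.eq_one_iff, ← orderOf_eq_one_iff]
  exact Nat.eq_one_of_dvd_coprimes h (orderOf_map_dvd (QuotientGroup.mk' H) x)
    (orderOf_dvd_natCard _)

end Coprime

end Cfsg.Agent.Char
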