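import Mathlib
import Cfsg.Agent.Char.Norm
import Cfsg.Agent.Char.PF1

/-!
# Coherence (Peterfalvi, section 5).

An isometry is modelled by a `ℂ`-linear map; an extension `ν` of `τ` is required to agree with
`τ` on all functions vanishing at `1`.
-/

set_option autoImplicit false

namespace Cfsg.Agent.Char

open Cfsg
open scoped ComplexConjugate

/-- Linear maps between spaces of functions. -/
abbrev CMap (L G : Type*) := (L → ℂ) →ₗ[ℂ] (G → ℂ)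

variable {L G : Type*} [Group L] [Fintype L] [Group G] [Fintype G]

theorem exists_cmap_of_isometry (E : Set (L → ℂ)) (τ : (L → ℂ) → (G → ℂ))
    (h : ∀ α ∈ E, ∀ β ∈ E, classInner (τ α) (τ β) = classInner α β) :
    ∃ T : CMap L G, ∀ α ∈ E, T α = τ α := by
  classical
  set f := Finsupp.linearCombination ℂ (fun x : E => (x : L → ℂ)) with hf
  set g := Finsupp.linearCombination ℂ (fun x : E => τ x) with hg
  have key : ∀ x, classInner (g x) (g x) = classInner (f x) (f x) := by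
    intro x
    simp only [hf, hg, Finsupp.linearCombination_apply, Finsupp.sum, classInner_sum_left,
      classInner_sum_right, classInner_smul_left, classInner_smul_right]
    exact Finset.sum_congr rfl fun a _ => by
      congr 1
      exact Finset.sum_congr rfl fun b _ => by rw [h _ b.2 _ a.2]
  obtain ⟨s, hs⟩ := f.rangeRestrict.exists_rightInverse_of_surjective f.range_rangeRestrict
  obtain ⟨T, hT⟩ := LinearMap.exists_extend (g.comp s)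
  refine ⟨T, fun α hα => ?_⟩
  have h1 : f (Finsupp.single ⟨α, hα⟩ 1) = α := by simp [hf]
  have h2 : g (Finsupp.single ⟨α, hα⟩ 1) = τ α := by simp [hg]
  have h3 := LinearMap.congr_fun hT ⟨α, _, h1⟩
  have h4 := congrArg Subtype.val (LinearMap.congr_fun hs ⟨α, _, h1⟩)
  simp only [LinearMap.comp_apply, Submodule.subtype_apply, LinearMap.id_apply,
    LinearMap.rangeRestrict, LinearMap.codRestrict_apply] at h3 h4
  rw [h3, ← h2, ← sub_eq_zero, ← map_sub, ← classInner_self_eq_zero, key, map_sub, h4, h1,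
    sub_self, classInner_zero_left]

/-- `ν` is an isometry on `E` with values virtual characters. -/
structure ZIso (E : Set (L → ℂ)) (ν : CMap L G) : Prop where
  inner : ∀ α ∈ E, ∀ β ∈ E, classInner (ν α) (ν β) = classInner α β
  gen : ∀ α ∈ E, IsGeneralizedCharacter G (ν α)

theorem inner_span_of {E F : Set (L → ℂ)} {ν ν' : CMap L G}
    (h : ∀ α ∈ E, ∀ β ∈ F, classInner (ν α) (ν' β) = classInner α β) {α β : L → ℂ}
    (hα : α ∈ Submodule.span ℂ E) (hβ : β ∈ Submodule.span ℂ F) :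
    classInner (ν α) (ν' β) = classInner α β := by
  induction hα using Submodule.span_induction with
  | mem x hx =>
    induction hβ using Submodule.span_induction with
    | mem y hy => exact h x hx y hy
    | zero => simp
    | add y z _ _ h1 h2 => rw [map_add, classInner_add_right, classInner_add_right, h1, h2]
    | smul c y _ h1 => rw [map_smul, classInner_smul_right, classInner_smul_right, h1]
  | zero => simp
  | add y z _ _ h1 h2 => rw [map_add, classInner_add_left, classInner_add_left, h1, h2]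
  | smul c y _ h1 => rw [map_smul, classInner_smul_left, classInner_smul_left, h1]

theorem orth_span_of {E : Set (L → ℂ)} {γ : L → ℂ} (h : ∀ α ∈ E, classInner α γ = 0) {α : L → ℂ}
    (hα : α ∈ Submodule.span ℂ E) : classInner α γ = 0 := by
  induction hα using Submodule.span_induction with
  | mem x hx => exact h x hx
  | zero => simp
  | add y z _ _ h1 h2 => rw [classInner_add_left, h1, h2, add_zero]
  | smul c y _ h1 => rw [classInner_smul_left, h1, mul_zero]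

omit [Group L] [Fintype L] in
theorem mem_span_complex_of_int {E : Set (L → ℂ)} {α : L → ℂ} (hα : α ∈ Submodule.span ℤ E) :
    α ∈ Submodule.span ℂ E := Submodule.span_subset_span ℤ ℂ E hα

section ZIso

variable {E : Set (L → ℂ)} {ν : CMap L G}

theorem ZIso.mono (h : ZIso E ν) {F : Set (L → ℂ)} (hF : F ⊆ E) : ZIso F ν :=
  ⟨fun α hα β hβ => h.inner α (hF hα) β (hF hβ), fun α hα => h.gen α (hF hα)⟩

theorem ZIso.inner_span (h : ZIso E ν) {α β : L → ℂ} (hα : α ∈ Submodule.span ℂ E)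
    (hβ : β ∈ Submodule.span ℂ E) : classInner (ν α) (ν β) = classInner α β :=
  inner_span_of h.inner hα hβ

theorem ZIso.gen_span (h : ZIso E ν) {α : L → ℂ} (hα : α ∈ Submodule.span ℤ E) :
    IsGeneralizedCharacter G (ν α) := by
  induction hα using Submodule.span_induction with
  | mem x hx => exact h.gen x hx
  | zero => simpa using isGen_zero
  | add y z _ _ h1 h2 => rw [map_add]; exact h1.add h2
  | smul c y _ h1 => rw [map_zsmul]; exact h1.zsmul c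

theorem ZIso.span (h : ZIso E ν) : ZIso (Submodule.span ℤ E : Set (L → ℂ)) ν :=
  ⟨fun _ hα _ hβ => h.inner_span (mem_span_complex_of_int hα) (mem_span_complex_of_int hβ),
    fun _ hα => h.gen_span hα⟩

theorem ZIso.nrm_eq (h : ZIso E ν) {α : L → ℂ} (hα : α ∈ E) : nrm (ν α) = nrm α :=
  nrm_eq_of_classInner (h.inner α hα α hα)

theorem ZIso.isDirr (h : ZIso E ν) {α : L → ℂ} (hα : α ∈ E) (h1 : IsIrrCharacter L α) :
    IsDirr (ν α) := (h.gen α hα).isDirr (by rw [h.inner α hα α hα, h1.classInner_self])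

theorem ZIso.congr (h : ZIso E ν) {ν' : CMap L G} (e : ∀ α ∈ E, ν' α = ν α) : ZIso E ν' :=
  ⟨fun α hα β hβ => by rw [e α hα, e β hβ, h.inner α hα β hβ],
    fun α hα => by rw [e α hα]; exact h.gen α hα⟩

theorem ZIso.isLinearIsometryOn (h : ZIso E ν) : IsLinearIsometryOn E ν :=
  ⟨fun _ _ _ _ => map_add _ _ _, fun _ _ _ => map_zsmul _ _ _, h.inner, h.gen⟩

theorem _root_.Cfsg.IsLinearIsometryOn.exists_cmap {τ : (L → ℂ) → (G → ℂ)}
    (h : IsLinearIsometryOn E τ) : ∃ T : CMap L G, (∀ α ∈ E, T α = τ α) ∧ ZIso E T := by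
  obtain ⟨T, hT⟩ := exists_cmap_of_isometry E τ h.2.2.1
  exact ⟨T, hT, fun α hα β hβ => by rw [hT α hα, hT β hβ, h.2.2.1 α hα β hβ],
    fun α hα => by rw [hT α hα]; exact h.2.2.2 α hα⟩

end ZIso

omit [Fintype L] in
/-- Integer combinations of `S` vanishing at `1`. -/
def span1 (S : Set (L → ℂ)) : Set (L → ℂ) := {α | α ∈ Submodule.span ℤ S ∧ α 1 = 0}

section span1

omit [Fintype L]

variable {S : Set (L → ℂ)}

theorem zspanOn_eq_span1 (S : Set (L → ℂ)) : zspanOn S {1}ᶜ = span1 S := by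
  ext α
  simp [zspanOn, zspan, span1]

theorem span1_mono {T : Set (L → ℂ)} (h : S ⊆ T) : span1 S ⊆ span1 T :=
  fun _ hα => ⟨Submodule.span_mono h hα.1, hα.2⟩

theorem sub_mem_span1 {φ ψ : L → ℂ} (hφ : φ ∈ S) (hψ : ψ ∈ S) (h : φ 1 = ψ 1) :
    φ - ψ ∈ span1 S :=
  ⟨sub_mem (Submodule.subset_span hφ) (Submodule.subset_span hψ), by simp [h]⟩

omit [Group L] in
theorem natCast_smul_mem_span {φ : L → ℂ} (hφ : φ ∈ Submodule.span ℤ S) (a : ℕ) :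
    (a : ℂ) • φ ∈ Submodule.span ℤ S := by
  rw [Nat.cast_smul_eq_nsmul]; exact nsmul_mem hφ a

omit [Group L] in
theorem intCast_smul_mem_span {φ : L → ℂ} (hφ : φ ∈ Submodule.span ℤ S) (a : ℤ) :
    (a : ℂ) • φ ∈ Submodule.span ℤ S := by
  rw [Int.cast_smul_eq_zsmul]; exact zsmul_mem hφ a

theorem sub_smul_mem_span1 {φ ψ : L → ℂ} (hφ : φ ∈ S) (hψ : ψ ∈ S) {a : ℕ} (h : φ 1 = a * ψ 1) :
    φ - (a : ℂ) • ψ ∈ span1 S :=
  ⟨sub_mem (Submodule.subset_span hφ) (natCast_smul_mem_span (Submodule.subset_span hψ) a),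
    by simp [h]⟩

theorem smul_sub_smul_mem_span1 {φ ψ : L → ℂ} (hφ : φ ∈ S) (hψ : ψ ∈ S) (h1 : IsCharacter L φ)
    (h2 : IsCharacter L ψ) : ψ 1 • φ - φ 1 • ψ ∈ span1 S := by
  refine ⟨?_, by simp [mul_comm]⟩
  obtain ⟨a, ha⟩ := h1.exists_nat
  obtain ⟨b, hb⟩ := h2.exists_nat
  rw [ha, hb]
  exact sub_mem (natCast_smul_mem_span (Submodule.subset_span hφ) b)
    (natCast_smul_mem_span (Submodule.subset_span hψ) a)

theorem mem_span_span1 (hS : ∀ φ ∈ S, IsCharacter L φ) {α : L → ℂ}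
    (hα : α ∈ Submodule.span ℂ S) (h1 : α 1 = 0) : α ∈ Submodule.span ℂ (span1 S) := by
  by_cases h : ∃ φ ∈ S, φ 1 ≠ 0
  · obtain ⟨φ, hφ, h0⟩ := h
    have key : ∀ β ∈ Submodule.span ℂ S, φ 1 • β - β 1 • φ ∈ Submodule.span ℂ (span1 S) := by
      intro β hβ
      induction hβ using Submodule.span_induction with
      | mem x hx => exact Submodule.subset_span (smul_sub_smul_mem_span1 hx hφ (hS x hx) (hS φ hφ))
      | zero => simp
      | add y z _ _ h1 h2 =>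
        convert add_mem h1 h2 using 1
        rw [Pi.add_apply, add_smul, smul_add]; abel
      | smul c y _ h1 =>
        convert Submodule.smul_mem _ c h1 using 1
        rw [Pi.smul_apply, smul_sub, smul_comm c (φ 1), smul_assoc]
    have := Submodule.smul_mem _ (φ 1)⁻¹ (key α hα)
    rwa [h1, zero_smul, sub_zero, smul_smul, inv_mul_cancel₀ h0, one_smul] at this
  · push Not at h
    have h2 : S ⊆ span1 S := fun φ hφ => ⟨Submodule.subset_span hφ, h φ hφ⟩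
    exact Submodule.span_mono h2 hα

end span1

/-- `ν` agrees with `τ` on functions vanishing at `1`. -/
def Agree (τ ν : CMap L G) : Prop := ∀ α : L → ℂ, α 1 = 0 → ν α = τ α

omit [Fintype L] [Group G] [Fintype G] in
theorem exists_agree (τ : CMap L G) {φ : L → ℂ} (hφ : φ 1 ≠ 0) (X : G → ℂ) :
    ∃ ν, Agree τ ν ∧ ν φ = X := by
  refine ⟨τ + (LinearMap.proj (1 : L) : (L → ℂ) →ₗ[ℂ] ℂ).smulRight ((φ 1)⁻¹ • (X - τ φ)),
    fun α hα => by simp [hα], ?_⟩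
  simp [smul_smul, mul_inv_cancel₀ hφ]

omit [Fintype L] [Group G] [Fintype G] in
theorem Agree.ext {τ ν ν' : CMap L G} (h : Agree τ ν) (h' : Agree τ ν') {φ : L → ℂ}
    (hφ : φ 1 ≠ 0) (e : ν φ = ν' φ) : ν = ν' := by
  refine LinearMap.ext fun α => ?_
  have h1 : (α - (α 1 / φ 1) • φ) 1 = 0 := by simp [hφ]
  have h2 := (h _ h1).trans (h' _ h1).symm
  rw [map_sub, map_sub, map_smul, map_smul, e] at h2
  exact sub_left_injective h2

omit [Fintype L] [Group G] [Fintype G] in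
theorem Agree.refl (τ : CMap L G) : Agree τ τ := fun _ _ => rfl

omit [Fintype L] [Group G] [Fintype G] in
theorem Agree.sub {τ ν : CMap L G} (h : Agree τ ν) {φ ψ : L → ℂ} (e : φ 1 = ψ 1) :
    τ (φ - ψ) = ν φ - ν ψ := by
  rw [← h _ (by simp [e]), map_sub]

omit [Fintype L] [Group G] [Fintype G] in
theorem Agree.sub_smul {τ ν : CMap L G} (h : Agree τ ν) {φ ψ : L → ℂ} {a : ℂ}
    (e : φ 1 = a * ψ 1) : τ (φ - a • ψ) = ν φ - a • ν ψ := by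
  rw [← h _ (by simp [e]), map_sub, map_smul]

/-- `ν` is a coherent extension of `τ` to `ℤ[S]`. -/
structure CohWith (S : Set (L → ℂ)) (τ ν : CMap L G) : Prop extends ZIso S ν where
  agree : Agree τ ν

/-- `S` is coherent for `τ`. -/
def Coh (S : Set (L → ℂ)) (τ : CMap L G) : Prop := ∃ ν, CohWith S τ ν

variable {S : Set (L → ℂ)} {τ ν : CMap L G}

theorem CohWith.mono (h : CohWith S τ ν) {T : Set (L → ℂ)} (hT : T ⊆ S) : CohWith T τ ν :=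
  ⟨h.toZIso.mono hT, h.agree⟩

theorem Coh.mono (h : Coh S τ) {T : Set (L → ℂ)} (hT : T ⊆ S) : Coh T τ :=
  let ⟨ν, hν⟩ := h; ⟨ν, hν.mono hT⟩

theorem CohWith.subgen (h : CohWith S τ ν) {T : Set (L → ℂ)}
    (hT : T ⊆ Submodule.span ℤ S) : CohWith T τ ν :=
  ⟨h.toZIso.span.mono hT, h.agree⟩

theorem coh_empty (τ : CMap L G) : Coh ∅ τ := ⟨τ, ⟨by simp, by simp⟩, Agree.refl τ⟩

theorem Coh.isCoherent {τ₀ : (L → ℂ) → (G → ℂ)} (h : Coh S τ) (e : ∀ α ∈ span1 S, τ α = τ₀ α)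
    (hne : ∃ α ∈ span1 S, α ≠ 0) : IsCoherent S {1}ᶜ τ₀ := by
  obtain ⟨ν, hν⟩ := h
  rw [IsCoherent, zspanOn_eq_span1]
  exact ⟨hne, ν, hν.toZIso.span.isLinearIsometryOn,
    fun α hα => (hν.agree α hα.2).trans (e α hα)⟩

theorem exists_cohWith_of_isometry (hS : ∀ φ ∈ S, IsCharacter L φ) (hS0 : ∀ φ ∈ S, φ ≠ 0)
    {τ₁ : (L → ℂ) → (G → ℂ)} (h : IsLinearIsometryOn (zspan S) τ₁)
    (e : ∀ α ∈ span1 S, τ₁ α = τ α) :
    ∃ ν, CohWith S τ ν ∧ ∀ α ∈ Submodule.span ℤ S, ν α = τ₁ α := by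
  obtain ⟨T, hT, hT'⟩ := h.exists_cmap
  rcases S.eq_empty_or_nonempty with rfl | ⟨φ, hφ⟩
  · refine ⟨τ, ⟨⟨by simp, by simp⟩, Agree.refl τ⟩, fun α hα => ?_⟩
    refine (e α ⟨hα, ?_⟩).symm
    simp only [Submodule.span_empty, Submodule.mem_bot] at hα
    simp [hα]
  have h0 : φ 1 ≠ 0 := fun h0 => hS0 φ hφ ((hS φ hφ).eq_zero_of_one_eq_zero h0)
  obtain ⟨ν, h1, h2⟩ := exists_agree τ h0 (T φ)
  have h3 : ∀ ψ ∈ S, ν ψ = T ψ := by
    intro ψ hψ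
    have h4 := smul_sub_smul_mem_span1 hψ hφ (hS ψ hψ) (hS φ hφ)
    have h5 := (h1 _ h4.2).trans ((e _ h4).symm.trans (hT _ h4.1).symm)
    rw [map_sub, map_sub, map_smul, map_smul, map_smul, map_smul, h2, sub_left_inj] at h5
    exact smul_right_injective _ h0 h5
  refine ⟨ν, ⟨(hT'.mono Submodule.subset_span).congr h3, h1⟩, fun α hα => ?_⟩
  rw [← hT α hα]
  exact LinearMap.eqOn_span h3 (mem_span_complex_of_int hα)

theorem _root_.Cfsg.IsCoherent.coh {τ₀ : (L → ℂ) → (G → ℂ)} (h : IsCoherent S {1}ᶜ τ₀)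
    (hS : ∀ φ ∈ S, IsCharacter L φ) (hS0 : ∀ φ ∈ S, φ ≠ 0) (e : ∀ α ∈ span1 S, τ α = τ₀ α) :
    Coh S τ := by
  obtain ⟨-, τ₁, h1, h2⟩ := h
  rw [zspanOn_eq_span1] at h2
  obtain ⟨ν, hν, -⟩ := exists_cohWith_of_isometry (τ := τ) hS hS0 h1
    fun α hα => (h2 α hα).trans (e α hα).symm
  exact ⟨ν, hν⟩

/-- An orthogonal set of nonzero characters with an isometry on the degree zero part. -/
structure DegIso (S : Set (L → ℂ)) (τ : CMap L G) : Prop where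
  char : ∀ φ ∈ S, IsCharacter L φ
  ne_zero : ∀ φ ∈ S, φ ≠ 0
  orth : ∀ φ ∈ S, ∀ ψ ∈ S, φ ≠ ψ → classInner φ ψ = 0
  iso : ZIso (span1 S) τ
  map_one : ∀ α ∈ span1 S, τ α 1 = 0

theorem DegIso.mono (h : DegIso S τ) {T : Set (L → ℂ)} (hT : T ⊆ S) : DegIso T τ :=
  ⟨fun φ hφ => h.char φ (hT hφ), fun φ hφ => h.ne_zero φ (hT hφ),
    fun φ hφ ψ hψ => h.orth φ (hT hφ) ψ (hT hψ), h.iso.mono (span1_mono hT),
    fun α hα => h.map_one α (span1_mono hT hα)⟩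

theorem DegIso.one_ne_zero (h : DegIso S τ) {φ : L → ℂ} (hφ : φ ∈ S) : φ 1 ≠ 0 :=
  fun h0 => h.ne_zero φ hφ ((h.char φ hφ).eq_zero_of_one_eq_zero h0)

theorem DegIso.exists_deg (h : DegIso S τ) {φ : L → ℂ} (hφ : φ ∈ S) :
    ∃ d : ℕ, 0 < d ∧ φ 1 = d := by
  obtain ⟨d, hd⟩ := (h.char φ hφ).exists_nat
  refine ⟨d, Nat.pos_of_ne_zero ?_, hd⟩
  rintro rfl
  exact h.one_ne_zero hφ (by simpa using hd)

theorem DegIso.nrm_pos (h : DegIso S τ) {φ : L → ℂ} (hφ : φ ∈ S) : 0 < nrm φ :=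
  Char.nrm_pos (h.ne_zero φ hφ)

theorem finite_of_orth (h0 : ∀ φ ∈ S, φ ≠ 0)
    (h : ∀ φ ∈ S, ∀ ψ ∈ S, φ ≠ ψ → classInner φ ψ = 0) : S.Finite := by
  have : LinearIndependent ℂ (fun φ : S => (φ : L → ℂ)) := by
    rw [linearIndependent_iff']
    intro s g hs i hi
    have h1 := congrArg (classInner · (i : L → ℂ)) hs
    simp only [classInner_sum_left, classInner_smul_left, classInner_zero_left] at h1
    rw [Finset.sum_eq_single_of_mem i hi fun j _ hne => by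
      rw [h _ j.2 _ i.2 fun e => hne (Subtype.ext e), mul_zero]] at h1
    exact (mul_eq_zero.1 h1).resolve_right (mt classInner_self_eq_zero.1 (h0 _ i.2))
  exact Set.finite_coe_iff.1 this.finite_of_isNoetherian

theorem DegIso.finite (h : DegIso S τ) : S.Finite := finite_of_orth h.ne_zero h.orth

theorem DegIso.exists_ne_zero (h : DegIso S τ) {φ ψ : L → ℂ} (hφ : φ ∈ S) (hψ : ψ ∈ S)
    (hne : φ ≠ ψ) : ∃ α ∈ span1 S, α ≠ 0 := by
  refine ⟨_, smul_sub_smul_mem_span1 hφ hψ (h.char φ hφ) (h.char ψ hψ), fun h0 => ?_⟩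
  have h1 := congrArg (classInner · φ) h0
  simp only [classInner_sub_left, classInner_smul_left, h.orth ψ hψ φ hφ hne.symm, mul_zero,
    sub_zero, classInner_zero_left, mul_eq_zero, classInner_self_eq_zero] at h1
  exact h1.elim (h.one_ne_zero hψ) (h.ne_zero φ hφ)

theorem DegIso.inner0 (h : DegIso S τ) (hν : Agree τ ν) {α β : L → ℂ}
    (hα : α ∈ Submodule.span ℂ S) (hβ : β ∈ Submodule.span ℂ S) (hα1 : α 1 = 0) (hβ1 : β 1 = 0) :
    classInner (ν α) (ν β) = classInner α β := by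
  rw [hν α hα1, hν β hβ1]
  exact h.iso.inner_span (mem_span_span1 h.char hα hα1) (mem_span_span1 h.char hβ hβ1)

theorem DegIso.map_one0 (h : DegIso S τ) (hν : Agree τ ν) {α : L → ℂ}
    (hα : α ∈ Submodule.span ℂ S) (hα1 : α 1 = 0) : ν α 1 = 0 := by
  rw [hν α hα1]
  have := mem_span_span1 h.char hα hα1
  clear hα hα1
  induction this using Submodule.span_induction with
  | mem x hx => exact h.map_one x hx
  | zero => simp
  | add y z _ _ h1 h2 => simp [h1, h2]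
  | smul c y _ h1 => simp [h1]

theorem DegIso.degree_mul (h : DegIso S τ) (hν : Agree τ ν) {α β : L → ℂ}
    (hα : α ∈ Submodule.span ℂ S) (hβ : β ∈ Submodule.span ℂ S) :
    β 1 * ν α 1 = α 1 * ν β 1 := by
  have := h.map_one0 hν (α := β 1 • α - α 1 • β)
    (sub_mem (Submodule.smul_mem _ _ hα) (Submodule.smul_mem _ _ hβ)) (by simp [mul_comm])
  simpa [sub_eq_zero] using this

theorem DegIso.gen0 (h : DegIso S τ) (hν : Agree τ ν) {α : L → ℂ} (hα : α ∈ span1 S) :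
    IsGeneralizedCharacter G (ν α) := by
  rw [hν α hα.2]; exact h.iso.gen α hα

theorem DegIso.gen_of_dvd (h : DegIso S τ) (hν : Agree τ ν) {χ φ : L → ℂ} (hχ : χ ∈ S)
    (hφ : φ ∈ S) {a : ℕ} (ha : χ 1 = a * φ 1) (hg : IsGeneralizedCharacter G (ν φ)) :
    IsGeneralizedCharacter G (ν χ) := by
  have := (h.gen0 hν (sub_smul_mem_span1 hχ hφ ha)).add (hg.natCast_smul a)
  rwa [map_sub, map_smul, sub_add_cancel] at this

/-- The four-term identity behind all gluing lemmas. -/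
theorem DegIso.inner_four (h : DegIso S τ) (hν : Agree τ ν) {α α' β β' : L → ℂ}
    (hα : α ∈ Submodule.span ℂ S) (hα' : α' ∈ Submodule.span ℂ S) (hβ : β ∈ Submodule.span ℂ S)
    (hβ' : β' ∈ Submodule.span ℂ S) {a b : ℂ} (ha : α 1 = a * α' 1) (hb : β 1 = b * β' 1) :
    (classInner (ν α) (ν β) - classInner α β) -
      conj b * (classInner (ν α) (ν β') - classInner α β') -
      a * (classInner (ν α') (ν β) - classInner α' β) +
      a * conj b * (classInner (ν α') (ν β') - classInner α' β') = 0 := by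
  have := h.inner0 hν (α := α - a • α') (β := β - b • β')
    (sub_mem hα (Submodule.smul_mem _ _ hα')) (sub_mem hβ (Submodule.smul_mem _ _ hβ'))
    (by simp [ha]) (by simp [hb])
  simp only [map_sub, map_smul, classInner_sub_left, classInner_sub_right, classInner_smul_left,
    classInner_smul_right] at this
  linear_combination this

/-- Coherence from a pivot. -/
theorem DegIso.cohWith_of_pivot (h : DegIso S τ) (hν : Agree τ ν) {φ₁ : L → ℂ}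
    (hφ₁ : φ₁ ∈ Submodule.span ℂ S) (h0 : φ₁ 1 ≠ 0)
    (hg : ∀ φ ∈ S, IsGeneralizedCharacter G (ν φ))
    (hp : ∀ φ ∈ S, classInner (ν φ) (ν φ₁) = classInner φ φ₁) : CohWith S τ ν := by
  refine ⟨⟨fun φ hφ ψ hψ => ?_, hg⟩, hν⟩
  have h1 : classInner (ν φ₁) (ν φ₁) = classInner φ₁ φ₁ :=
    inner_span_of (F := {φ₁}) (by simpa using hp) hφ₁ (Submodule.subset_span rfl)
  have h2 : classInner (ν φ₁) (ν ψ) = classInner φ₁ ψ := by
    rw [← conj_classInner, hp ψ hψ, conj_classInner]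
  have := h.inner_four hν (Submodule.subset_span hφ) hφ₁ (Submodule.subset_span hψ) hφ₁
    (div_mul_cancel₀ _ h0).symm (div_mul_cancel₀ _ h0).symm
  rw [h1, h2, hp φ hφ] at this
  linear_combination this

theorem DegIso.cohWith_union (h : DegIso S τ) {S₁ T : Set (L → ℂ)} (h1 : S₁ ⊆ S) (hT : T ⊆ S)
    (hν : CohWith S₁ τ ν) {φ₁ : L → ℂ} (hφ₁ : φ₁ ∈ S₁)
    (hg : ∀ φ ∈ T, φ ∉ S₁ → IsGeneralizedCharacter G (ν φ))
    (hp : ∀ φ ∈ T, φ ∉ S₁ → classInner (ν φ) (ν φ₁) = 0) : CohWith (S₁ ∪ T) τ ν := by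
  refine (h.mono (Set.union_subset h1 hT)).cohWith_of_pivot hν.agree
    (Submodule.subset_span (Or.inl hφ₁)) (h.one_ne_zero (h1 hφ₁)) (fun φ hφ => ?_) fun φ hφ => ?_
  · by_cases h2 : φ ∈ S₁
    · exact hν.gen φ h2
    · exact hg φ (hφ.resolve_left h2) h2
  · by_cases h2 : φ ∈ S₁
    · exact hν.inner φ h2 φ₁ hφ₁
    · rw [hp φ (hφ.resolve_left h2) h2, h.orth φ (hT (hφ.resolve_left h2)) φ₁ (h1 hφ₁)
        fun e => h2 (e ▸ hφ₁)]

/-- Gluing two coherent sets with the same extension. -/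
theorem DegIso.cohWith_union' (h : DegIso S τ) {S₁ S₂ : Set (L → ℂ)} (h1 : S₁ ⊆ S) (h2 : S₂ ⊆ S)
    (hν : CohWith S₁ τ ν) (hν' : CohWith S₂ τ ν) {φ₁ φ₂ : L → ℂ}
    (hφ₁ : φ₁ ∈ Submodule.span ℂ S₁) (hφ₂ : φ₂ ∈ Submodule.span ℂ S₂) (h01 : φ₁ 1 ≠ 0)
    (h02 : φ₂ 1 ≠ 0) (hp : classInner (ν φ₂) (ν φ₁) = classInner φ₂ φ₁) :
    CohWith (S₁ ∪ S₂) τ ν := by
  refine (h.mono (Set.union_subset h1 h2)).cohWith_of_pivot hν.agree
    (Submodule.span_mono Set.subset_union_left hφ₁) h01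
    (fun φ hφ => hφ.elim (hν.gen φ) (hν'.gen φ)) fun φ hφ => ?_
  rcases hφ with hφ | hφ
  · exact hν.inner_span (Submodule.subset_span hφ) hφ₁
  · have := h.inner_four hν.agree (Submodule.subset_span (h2 hφ)) (Submodule.span_mono h2 hφ₂)
      (Submodule.span_mono h1 hφ₁) (Submodule.span_mono h2 hφ₂)
      (div_mul_cancel₀ _ h02).symm (div_mul_cancel₀ _ h02).symm
    rw [hp, hν'.inner_span hφ₂ hφ₂, hν'.inner_span (Submodule.subset_span hφ) hφ₂] at this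
    linear_combination this

/-- Peterfalvi (5.6.1), for any `χ` outside a coherent subset. -/
theorem DegIso.inner_of_notMem (h : DegIso S τ) {S₁ : Set (L → ℂ)} (h1 : S₁ ⊆ S)
    (hν : CohWith S₁ τ ν) {χ φ₁ φ : L → ℂ} (hχ : χ ∈ S) (hχ₁ : χ ∉ S₁) (hφ₁ : φ₁ ∈ S₁)
    (hφ : φ ∈ S₁) : classInner (ν χ) (ν φ) = φ 1 / φ₁ 1 * classInner (ν χ) (ν φ₁) := by
  have h0 := h.one_ne_zero (h1 hφ₁)
  have := h.inner_four hν.agree (Submodule.subset_span hχ) (Submodule.subset_span (h1 hφ₁))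
    (Submodule.subset_span (h1 hφ)) (Submodule.subset_span (h1 hφ₁))
    (div_mul_cancel₀ _ h0).symm (div_mul_cancel₀ _ h0).symm
  rw [hν.inner _ hφ₁ _ hφ₁, hν.inner _ hφ₁ _ hφ, h.orth χ hχ φ (h1 hφ) fun e => hχ₁ (e ▸ hφ),
    h.orth χ hχ φ₁ (h1 hφ₁) fun e => hχ₁ (e ▸ hφ₁), map_div₀, (h.char φ (h1 hφ)).conj_apply_one,
    (h.char φ₁ (h1 hφ₁)).conj_apply_one] at this
  linear_combination this

theorem DegIso.nrm_of_notMem (h : DegIso S τ) (hν : Agree τ ν) {χ φ₁ : L → ℂ} (hχ : χ ∈ S)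
    (hφ₁ : φ₁ ∈ S) (hne : χ ≠ φ₁) (hn : nrm (ν φ₁) = nrm φ₁) {a : ℝ} (ha : χ 1 = a * φ₁ 1) :
    nrm (ν χ) = nrm χ + 2 * a * (classInner (ν χ) (ν φ₁)).re := by
  have h1 : χ - (a : ℂ) • φ₁ ∈ Submodule.span ℂ S :=
    sub_mem (Submodule.subset_span hχ) (Submodule.smul_mem _ _ (Submodule.subset_span hφ₁))
  have := nrm_eq_of_classInner (h.inner0 hν h1 h1 (by simp [ha]) (by simp [ha]))
  rw [map_sub, map_smul, nrm_sub, nrm_sub, nrm_smul, nrm_smul, hn, classInner_smul_right,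
    classInner_smul_right, h.orth χ hχ φ₁ hφ₁ hne] at this
  simp only [Complex.conj_ofReal, Complex.re_ofReal_mul, mul_zero, Complex.zero_re] at this
  linarith

theorem DegIso.nrm_proj_of_notMem (h : DegIso S τ) {S₁ : Finset (L → ℂ)} (h1 : ↑S₁ ⊆ S)
    (hν : CohWith (S₁ : Set (L → ℂ)) τ ν) {χ φ₁ : L → ℂ} (hχ : χ ∈ S) (hχ₁ : χ ∉ S₁)
    (hφ₁ : φ₁ ∈ S₁) : nrm (proj S₁ ν (ν χ)) = ‖classInner (ν χ) (ν φ₁)‖ ^ 2 / (φ₁ 1).re ^ 2 *
      ∑ φ ∈ S₁, (φ 1).re ^ 2 / nrm φ := by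
  rw [nrm_proj fun φ hφ ψ hψ hne => by rw [hν.inner φ hφ ψ hψ, h.orth φ (h1 hφ) ψ (h1 hψ) hne],
    Finset.mul_sum]
  refine Finset.sum_congr rfl fun φ hφ => ?_
  rw [h.inner_of_notMem h1 hν hχ hχ₁ hφ₁ hφ, hν.nrm_eq hφ, norm_mul, norm_div,
    (h.char φ (h1 hφ)).norm_one, (h.char φ₁ (h1 hφ₁)).norm_one]
  ring

section Irr

/-- Irreducible characters of equal degree are coherent. -/
theorem DegIso.coh_of_irr (h : DegIso S τ) (hirr : ∀ φ ∈ S, IsIrrCharacter L φ)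
    (hdeg : ∀ φ ∈ S, ∀ ψ ∈ S, φ 1 = ψ 1) : Coh S τ := by
  rcases S.eq_empty_or_nonempty with rfl | ⟨φ₀, h0⟩
  · exact coh_empty τ
  have hm : ∀ φ : S, (φ : L → ℂ) - φ₀ ∈ span1 S :=
    fun φ => sub_mem_span1 φ.2 h0 (hdeg _ φ.2 _ h0)
  obtain ⟨ε, hε, μ, h1, h2, h3⟩ := exists_exceptional (⟨φ₀, h0⟩ : S) (fun φ => τ (φ - φ₀))
    (by simp) (fun φ => h.iso.gen _ (hm φ)) (fun φ => h.map_one _ (hm φ)) (fun φ hφ => by
      have h4 : (φ : L → ℂ) ≠ φ₀ := fun e => hφ (Subtype.ext e)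
      rw [h.iso.inner _ (hm φ) _ (hm φ), classInner_sub_left, classInner_sub_right,
        classInner_sub_right, (hirr _ φ.2).classInner_self, (hirr _ h0).classInner_self,
        h.orth _ φ.2 _ h0 h4, h.orth _ h0 _ φ.2 h4.symm]
      norm_num) (fun φ ψ hφ hψ hne => by
      have h4 : (φ : L → ℂ) ≠ φ₀ := fun e => hφ (Subtype.ext e)
      have h5 : (ψ : L → ℂ) ≠ φ₀ := fun e => hψ (Subtype.ext e)
      rw [h.iso.inner _ (hm φ) _ (hm ψ), classInner_sub_left, classInner_sub_right,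
        classInner_sub_right, (hirr _ h0).classInner_self, h.orth _ φ.2 _ h0 h4,
        h.orth _ h0 _ ψ.2 h5.symm, h.orth _ φ.2 _ ψ.2 fun e => hne (Subtype.ext e)]
      norm_num)
  obtain ⟨ν, hν, e⟩ := exists_agree τ (h.one_ne_zero h0) (ε • μ ⟨φ₀, h0⟩)
  have h4 : ∀ φ : S, ν φ = ε • μ φ := fun φ => by
    have := h3 φ
    rw [hν.sub (hdeg _ φ.2 _ h0), e, smul_sub, sub_left_inj] at this
    exact this
  refine ⟨ν, ⟨fun φ hφ ψ hψ => ?_, fun φ hφ => ?_⟩, hν⟩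
  · rw [h4 ⟨φ, hφ⟩, h4 ⟨ψ, hψ⟩, classInner_smul_left, classInner_smul_right, ← mul_assoc,
      show ε * conj ε = 1 by rcases hε with rfl | rfl <;> simp, one_mul]
    by_cases hne : φ = ψ
    · subst hne; rw [(h1 _).classInner_self, (hirr φ hφ).classInner_self]
    · rw [h.orth φ hφ ψ hψ hne, (h1 _).classInner_of_ne (h1 _)
        fun e => hne (congrArg Subtype.val (h2 e))]
  · rw [h4 ⟨φ, hφ⟩]
    exact ((h1 _).isDirr.smul hε).isGen

/-- Feit's extension lemma for irreducible characters. -/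
theorem DegIso.orth_of_irr (h : DegIso S τ) {S₁ : Finset (L → ℂ)} (h1 : ↑S₁ ⊆ S)
    (hirr : ∀ φ ∈ S₁, IsIrrCharacter L φ) (hν : CohWith (S₁ : Set (L → ℂ)) τ ν) {χ φ₁ : L → ℂ}
    (hχ : χ ∈ S) (hχi : IsIrrCharacter L χ) (hχ₁ : χ ∉ S₁) (hφ₁ : φ₁ ∈ S₁) {a : ℕ}
    (ha : χ 1 = a * φ₁ 1) (hlt : 2 * (χ 1).re * (φ₁ 1).re < ∑ φ ∈ S₁, (φ 1).re ^ 2 / nrm φ) :
    classInner (ν χ) (ν φ₁) = 0 := by
  have hg := h.gen_of_dvd hν.agree hχ (h1 hφ₁) ha (hν.gen _ hφ₁)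
  obtain ⟨l, hl⟩ := hg.classInner_int (hν.gen _ hφ₁)
  obtain ⟨d, hd0, hd⟩ := h.exists_deg (h1 hφ₁)
  have hne : χ ≠ φ₁ := fun e => hχ₁ (e ▸ hφ₁)
  have horth : ∀ φ ∈ S₁, ∀ ψ ∈ S₁, φ ≠ ψ → classInner (ν φ) (ν ψ) = 0 := fun φ hφ ψ hψ hne => by
    rw [hν.inner φ hφ ψ hψ, h.orth φ (h1 hφ) ψ (h1 hψ) hne]
  have e1 := h.nrm_of_notMem hν.agree hχ (h1 hφ₁) hne (hν.nrm_eq hφ₁) (a := a) (by simpa using ha)
  have e2 := h.nrm_proj_of_notMem h1 hν hχ hχ₁ hφ₁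
  have e3 := nrm_proj_le horth (ν χ)
  have ha0 : 0 < a := Nat.pos_of_ne_zero (by
    rintro rfl; exact hχi.one_ne_zero (by simpa using ha))
  rw [ha, hd] at hlt
  rw [hl, hχi.nrm_eq] at e1
  rw [hl, hd] at e2
  simp only [Complex.intCast_re, Complex.norm_intCast, sq_abs, Complex.natCast_re,
    Complex.mul_re, Complex.natCast_im, mul_zero, sub_zero] at e1 e2 hlt
  set b := ∑ φ ∈ S₁, (φ 1).re ^ 2 / nrm φ with hb
  have hd' : (0 : ℝ) < d := by exact_mod_cast hd0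
  have ha' : (1 : ℝ) ≤ a := by exact_mod_cast ha0
  have e4 : 2 * a < b / d ^ 2 := by rw [lt_div_iff₀ (by positivity)]; linarith
  have e5 : nrm (proj S₁ ν (ν χ)) = l ^ 2 * (b / d ^ 2) := by rw [e2]; ring
  by_contra h0
  have hl0 : l ≠ 0 := by rintro rfl; exact h0 (by simpa using hl)
  have hl1 : l = 1 := by
    by_contra hl1
    have : l ≤ -1 ∨ 2 ≤ l := by omega
    rcases this with h2 | h2
    · have : (l : ℝ) ≤ -1 := by exact_mod_cast h2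
      nlinarith [nrm_nonneg (ν χ)]
    · have h3 : (2 : ℝ) ≤ l := by exact_mod_cast h2
      have h4 : (l : ℝ) ^ 2 * (2 * a) < l ^ 2 * (b / d ^ 2) := by gcongr
      have h5 : 0 ≤ (a : ℝ) * l * (l - 2) := by
        have : (0 : ℝ) ≤ l - 2 := by linarith
        positivity
      nlinarith
  subst hl1
  have hpg : IsGeneralizedCharacter G (proj S₁ ν (ν χ)) := by
    refine isGen_sum _ _ fun φ hφ => ?_
    obtain ⟨m, hm⟩ := hg.classInner_int (hν.gen _ hφ)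
    rw [hm, hν.nrm_eq hφ, (hirr φ hφ).nrm_eq, Complex.ofReal_one, div_one]
    exact (hν.gen _ hφ).intCast_smul m
  have e6 : ν χ - proj S₁ ν (ν χ) = 0 := by
    refine (hg.sub hpg).eq_zero_of_nrm_lt ?_
    have := nrm_eq_proj_add horth (ν χ)
    push_cast at e1 e5
    linarith
  have e7 := congrFun (sub_eq_zero.1 e6) 1
  have e8 : ∀ φ ∈ S, ν φ 1 = φ 1 / d * ν φ₁ 1 := fun φ hφ => by
    have := h.degree_mul hν.agree (Submodule.subset_span hφ) (Submodule.subset_span (h1 hφ₁))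
    rw [hd] at this
    have h2 : (d : ℂ) ≠ 0 := by exact_mod_cast hd0.ne'
    field_simp
    linear_combination this
  have e9 : proj S₁ ν (ν χ) 1 = ((b / d ^ 2 : ℝ) : ℂ) * ν φ₁ 1 := by
    rw [proj, Finset.sum_apply, hb, Finset.sum_div, Complex.ofReal_sum, Finset.sum_mul]
    refine Finset.sum_congr rfl fun φ hφ => ?_
    obtain ⟨m, hm⟩ := (h.char φ (h1 hφ)).exists_nat
    rw [Pi.smul_apply, e8 φ (h1 hφ), h.inner_of_notMem h1 hν hχ hχ₁ hφ₁ hφ, hl, hd, hν.nrm_eq hφ,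
      hm]
    simp only [Complex.natCast_re, smul_eq_mul]
    push_cast
    ring
  rw [e9, e8 χ hχ, ha, hd, mul_div_cancel_right₀ _ (by exact_mod_cast hd0.ne')] at e7
  have e10 := mul_right_cancel₀ (hν.isDirr hφ₁ (hirr _ hφ₁)).one_ne_zero e7
  have e11 : (a : ℝ) = b / d ^ 2 := by exact_mod_cast e10
  linarith

end Irr

/-- Peterfalvi's Hypothesis (5.2). -/
structure SubCoh (S : Set (L → ℂ)) (τ : CMap L G) (R : (L → ℂ) → Finset (G → ℂ)) : Prop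
    extends DegIso S τ where
  conj_mem : ∀ χ ∈ S, conjFun χ ∈ S
  conj_ne : ∀ χ ∈ S, conjFun χ ≠ χ
  orthon : ∀ χ ∈ S, Orthon (R χ)
  gen : ∀ χ ∈ S, ∀ α ∈ R χ, IsGeneralizedCharacter G α
  sum_eq : ∀ χ ∈ S, τ (χ - conjFun χ) = ∑ α ∈ R χ, α
  disj : ∀ χ ∈ S, ∀ φ ∈ S, φ ≠ χ → φ ≠ conjFun χ → ∀ α ∈ R φ, ∀ β ∈ R χ, classInner α β = 0

variable {R : (L → ℂ) → Finset (G → ℂ)}

theorem _root_.Cfsg.IsCoherenceSystem.exists_subCoh {τ₀ : (L → ℂ) → (G → ℂ)}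
    (h : IsCoherenceSystem S τ₀ R) :
    ∃ τ : CMap L G, (∀ α ∈ span1 S, τ α = τ₀ α) ∧ SubCoh S τ R := by
  obtain ⟨τ, h1, h2⟩ := h.isometry.exists_cmap
  rw [zspanOn_eq_span1] at h1 h2
  refine ⟨τ, h1, ⟨h.isCharacter, fun φ hφ h0 => h.conj_ne φ hφ (by rw [h0]; simp), h.orthogonal,
    h2, fun α hα => ?_⟩, h.conj_mem, h.conj_ne, h.orthonormal, h.virtual, fun χ hχ => ?_,
    fun χ hχ φ hφ h3 h4 => h.disjoint χ hχ φ hφ (h.orthogonal φ hφ χ hχ h3)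
      (h.orthogonal φ hφ _ (h.conj_mem χ hχ) h4)⟩
  · rw [h1 α hα]; exact h.map_one α (zspanOn_eq_span1 S ▸ hα)
  · rw [h1 _ (sub_mem_span1 hχ (h.conj_mem χ hχ) (h.isCharacter χ hχ).conjFun_one.symm),
      h.sum_eq χ hχ]

theorem SubCoh.isCoherenceSystem (h : SubCoh S τ R) (hne : S.Nonempty) {τ₀ : (L → ℂ) → (G → ℂ)}
    (h0 : IsLinearIsometryOn (zspanOn S {1}ᶜ) τ₀) (e : ∀ α ∈ span1 S, τ α = τ₀ α) :
    IsCoherenceSystem S τ₀ R := by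
  refine ⟨hne, h.char, h.conj_mem, h.conj_ne, h0, fun α hα => ?_, h.orth, h.orthon, h.gen,
    fun χ hχ => ?_, fun χ hχ φ hφ h1 h2 => h.disj χ hχ φ hφ ?_ ?_⟩
  · rw [zspanOn_eq_span1] at hα
    rw [← e α hα, h.map_one α hα]
  · rw [← e _ (sub_mem_span1 hχ (h.conj_mem χ hχ) (h.char χ hχ).conjFun_one.symm), h.sum_eq χ hχ]
  · rintro rfl; exact h.ne_zero φ hφ (classInner_self_eq_zero.1 h1)
  · rintro rfl; exact h.ne_zero _ hφ (classInner_self_eq_zero.1 h2)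

theorem SubCoh.mono (h : SubCoh S τ R) {T : Set (L → ℂ)} (hT : T ⊆ S)
    (hc : ∀ χ ∈ T, conjFun χ ∈ T) : SubCoh T τ R :=
  ⟨h.toDegIso.mono hT, hc, fun χ hχ => h.conj_ne χ (hT hχ), fun χ hχ => h.orthon χ (hT hχ),
    fun χ hχ => h.gen χ (hT hχ), fun χ hχ => h.sum_eq χ (hT hχ),
    fun χ hχ φ hφ => h.disj χ (hT hχ) φ (hT hφ)⟩

theorem SubCoh.sub_conj_mem (h : SubCoh S τ R) {χ : L → ℂ} (hχ : χ ∈ S) :
    χ - conjFun χ ∈ span1 S :=
  sub_mem_span1 hχ (h.conj_mem χ hχ) (h.char χ hχ).conjFun_one.symm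

theorem SubCoh.orth_conj (h : SubCoh S τ R) {χ : L → ℂ} (hχ : χ ∈ S) :
    classInner χ (conjFun χ) = 0 := h.orth χ hχ _ (h.conj_mem χ hχ) (h.conj_ne χ hχ).symm

theorem SubCoh.sub_eq_sum (h : SubCoh S τ R) (hν : Agree τ ν) {χ : L → ℂ} (hχ : χ ∈ S) :
    ν χ - ν (conjFun χ) = ∑ α ∈ R χ, α := by
  rw [← hν.sub (h.char χ hχ).conjFun_one.symm, h.sum_eq χ hχ]

theorem SubCoh.card_eq (h : SubCoh S τ R) {χ : L → ℂ} (hχ : χ ∈ S) :
    ((R χ).card : ℝ) = 2 * nrm χ := by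
  rw [← (h.orthon χ hχ).nrm_sum, ← h.sum_eq χ hχ, h.iso.nrm_eq (h.sub_conj_mem hχ),
    nrm_sub_of_orth (h.orth_conj hχ), nrm_conj, two_mul]

/-- Peterfalvi (5.5). -/
theorem SubCoh.exists_subset (h : SubCoh S τ R) {χ : L → ℂ} (hχ : χ ∈ S) {X : G → ℂ}
    (hX : IsGeneralizedCharacter G X) (h1 : nrm X = nrm χ)
    (h2 : classInner X (τ (χ - conjFun χ)) = nrm χ) :
    ∃ E ⊆ R χ, X = ∑ α ∈ E, α ∧ (E.card : ℝ) = nrm χ := by
  rw [h.sum_eq χ hχ] at h2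
  obtain ⟨h3, h4⟩ := (h.orthon χ hχ).le_nrm_proj (h.gen χ hχ) hX h2
  obtain ⟨-, E, h5, h6, h7⟩ := h4 (h1 ▸ nrm_proj_le (h.orthon χ hχ).orth' X)
  exact ⟨E, h5, (eq_proj_of_nrm_le (h.orthon χ hχ).orth' (h1 ▸ h3)).trans h6, h7⟩

theorem SubCoh.exists_subset_of_cohWith (h : SubCoh S τ R) {S₁ : Set (L → ℂ)}
    (hν : CohWith S₁ τ ν) {χ : L → ℂ} (hχ : χ ∈ S) (h1 : χ ∈ S₁) (h2 : conjFun χ ∈ S₁) :
    ∃ E ⊆ R χ, ν χ = ∑ α ∈ E, α ∧ (E.card : ℝ) = nrm χ := by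
  refine h.exists_subset hχ (hν.gen χ h1) (hν.nrm_eq h1) ?_
  rw [hν.agree.sub (h.char χ hχ).conjFun_one.symm, classInner_sub_right, hν.inner _ h1 _ h1,
    hν.inner _ h1 _ h2, h.orth_conj hχ, sub_zero, classInner_self_nrm]

theorem SubCoh.orth_supp (h : SubCoh S τ R) {S₁ : Set (L → ℂ)} (h1 : S₁ ⊆ S)
    (hc : ∀ φ ∈ S₁, conjFun φ ∈ S₁) (hν : CohWith S₁ τ ν) {χ φ : L → ℂ} (hχ : χ ∈ S)
    (hχ₁ : χ ∉ S₁) (hφ : φ ∈ S₁) {α : G → ℂ} (hα : α ∈ R χ) : classInner (ν φ) α = 0 := by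
  obtain ⟨E, h2, h3, -⟩ := h.exists_subset_of_cohWith hν (h1 hφ) hφ (hc φ hφ)
  rw [h3, classInner_sum_left]
  refine Finset.sum_eq_zero fun β hβ => h.disj χ hχ φ (h1 hφ) (fun e => hχ₁ (e ▸ hφ))
    (fun e => hχ₁ ?_) β (h2 hβ) α hα
  simpa [e] using hc φ hφ

theorem SubCoh.orth_of_disjoint (h : SubCoh S τ R) {S₁ S₂ : Set (L → ℂ)} (h1 : S₁ ⊆ S)
    (h2 : S₂ ⊆ S) (hc1 : ∀ φ ∈ S₁, conjFun φ ∈ S₁) (hc2 : ∀ φ ∈ S₂, conjFun φ ∈ S₂)
    {ν₁ ν₂ : CMap L G} (hν₁ : CohWith S₁ τ ν₁) (hν₂ : CohWith S₂ τ ν₂) {φ₁ φ₂ : L → ℂ}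
    (hφ₁ : φ₁ ∈ S₁) (hφ₂ : φ₂ ∈ S₂) (hn : φ₂ ∉ S₁) : classInner (ν₁ φ₁) (ν₂ φ₂) = 0 := by
  obtain ⟨E, h3, h4, -⟩ := h.exists_subset_of_cohWith hν₂ (h2 hφ₂) hφ₂ (hc2 φ₂ hφ₂)
  rw [h4, classInner_sum_right]
  exact Finset.sum_eq_zero fun β hβ => h.orth_supp h1 hc1 hν₁ (h2 hφ₂) hn hφ₁ (h3 hβ)

/-- Peterfalvi (5.6), main step. -/
theorem SubCoh.orth_of_bound (h : SubCoh S τ R) {S₁ : Finset (L → ℂ)} (h1 : ↑S₁ ⊆ S)
    (hc : ∀ φ ∈ S₁, conjFun φ ∈ S₁) (hν : CohWith (S₁ : Set (L → ℂ)) τ ν) {χ φ₁ : L → ℂ}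
    (hχ : χ ∈ S) (hχ₁ : χ ∉ S₁) (hφ₁ : φ₁ ∈ S₁) {a : ℕ} (ha : χ 1 = a * φ₁ 1)
    (hlt : 2 * (χ 1).re * (φ₁ 1).re < ∑ φ ∈ S₁, (φ 1).re ^ 2 / nrm φ) :
    classInner (ν χ) (ν φ₁) = 0 := by
  have hg := h.gen_of_dvd hν.agree hχ (h1 hφ₁) ha (hν.gen _ hφ₁)
  obtain ⟨l, hl⟩ := hg.classInner_int (hν.gen _ hφ₁)
  obtain ⟨d, hd0, hd⟩ := h.exists_deg (h1 hφ₁)
  have hne : χ ≠ φ₁ := fun e => hχ₁ (e ▸ hφ₁)
  have horth : ∀ φ ∈ S₁, ∀ ψ ∈ S₁, φ ≠ ψ → classInner (ν φ) (ν ψ) = 0 := fun φ hφ ψ hψ hne => by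
    rw [hν.inner φ hφ ψ hψ, h.orth φ (h1 hφ) ψ (h1 hψ) hne]
  have e1 := h.nrm_of_notMem hν.agree hχ (h1 hφ₁) hne (hν.nrm_eq hφ₁) (a := a) (by simpa using ha)
  have e2 := h.nrm_proj_of_notMem h1 hν hχ hχ₁ hφ₁
  have e3 := nrm_proj_add_le horth (h.orthon χ hχ).orth'
    (fun φ hφ α hα => h.orth_supp h1 hc hν hχ hχ₁ hφ hα) (ν χ)
  have e4 : classInner (ν χ) (∑ α ∈ R χ, α) = nrm χ := by
    have h2 := h.inner0 hν.agree (α := χ - (a : ℂ) • φ₁) (β := χ - conjFun χ)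
      (mem_span_complex_of_int (sub_smul_mem_span1 hχ (h1 hφ₁) ha).1)
      (mem_span_complex_of_int (h.sub_conj_mem hχ).1) (by simp [ha]) (h.sub_conj_mem hχ).2
    have h3 : classInner (ν φ₁) (∑ α ∈ R χ, α) = 0 := by
      rw [classInner_sum_right]
      exact Finset.sum_eq_zero fun α hα => h.orth_supp h1 hc hν hχ hχ₁ hφ₁ hα
    rw [map_sub ν χ (conjFun χ), h.sub_eq_sum hν.agree hχ, map_sub, map_smul, classInner_sub_left,
      classInner_smul_left, h3, classInner_sub_left, classInner_smul_left, classInner_sub_right,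
      classInner_sub_right, h.orth_conj hχ, h.orth _ (h1 hφ₁) _ hχ hne.symm,
      h.orth _ (h1 hφ₁) _ (h.conj_mem χ hχ) fun e => hχ₁ (by simpa [e] using hc _ hφ₁),
      classInner_self_nrm] at h2
    simpa using h2
  have e5 := ((h.orthon χ hχ).le_nrm_proj (h.gen χ hχ) hg e4).1
  have e6 := nrm_nonneg (ν χ - proj S₁ ν (ν χ) - proj (R χ) id (ν χ))
  rw [ha, hd] at hlt
  rw [hl] at e1
  rw [hl, hd] at e2
  simp only [Complex.intCast_re, Complex.norm_intCast, sq_abs, Complex.natCast_re,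
    Complex.mul_re, Complex.natCast_im, mul_zero, sub_zero] at e1 e2 hlt
  set b := ∑ φ ∈ S₁, (φ 1).re ^ 2 / nrm φ with hb
  have hd' : (0 : ℝ) < d := by exact_mod_cast hd0
  have e7 : 2 * a < b / d ^ 2 := by rw [lt_div_iff₀ (by positivity)]; linarith
  have e8 : nrm (proj S₁ ν (ν χ)) = l ^ 2 * (b / d ^ 2) := by rw [e2]; ring
  by_contra h0
  have hl0 : l ≠ 0 := by rintro rfl; exact h0 (by simpa using hl)
  have h2 : (l : ℝ) ≤ l ^ 2 := by exact_mod_cast Int.le_self_sq l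
  have h3 : (0 : ℝ) < l ^ 2 := by positivity
  have h4 : (0 : ℝ) ≤ a := Nat.cast_nonneg a
  nlinarith

theorem SubCoh.orth_conj_of_orth (h : SubCoh S τ R) {S₁ : Set (L → ℂ)} (h1 : S₁ ⊆ S)
    (hc : ∀ φ ∈ S₁, conjFun φ ∈ S₁) (hν : CohWith S₁ τ ν) {χ φ₁ : L → ℂ} (hχ : χ ∈ S)
    (hχ₁ : χ ∉ S₁) (hφ₁ : φ₁ ∈ S₁) :
    classInner (ν (conjFun χ)) (ν φ₁) = classInner (ν χ) (ν φ₁) := by
  rw [eq_comm, ← sub_eq_zero, ← classInner_sub_left, h.sub_eq_sum hν.agree hχ,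
    classInner_sum_left]
  exact Finset.sum_eq_zero fun α hα =>
    classInner_eq_zero_comm.1 (h.orth_supp h1 hc hν hχ hχ₁ hφ₁ hα)

/-- Extension of a coherent set by a pair `χ, conj χ`. -/
theorem SubCoh.extend_with (h : SubCoh S τ R) {S₁ : Set (L → ℂ)} (h1 : S₁ ⊆ S)
    (hc : ∀ φ ∈ S₁, conjFun φ ∈ S₁) (hν : CohWith S₁ τ ν) {χ φ₁ : L → ℂ} (hχ : χ ∈ S)
    (hχ₁ : χ ∉ S₁) (hφ₁ : φ₁ ∈ S₁) (hg : IsGeneralizedCharacter G (ν χ))
    (ho : classInner (ν χ) (ν φ₁) = 0) : CohWith (S₁ ∪ {χ, conjFun χ}) τ ν := by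
  refine h.cohWith_union h1 ?_ hν hφ₁ ?_ ?_
  · rintro φ (rfl | rfl)
    · exact hχ
    · exact h.conj_mem χ hχ
  · rintro φ (rfl | rfl) -
    · exact hg
    · exact h.gen_of_dvd hν.agree (h.conj_mem χ hχ) hχ (a := 1)
        (by simp [(h.char χ hχ).conj_apply_one]) hg
  · rintro φ (rfl | rfl) -
    · exact ho
    · rw [h.orth_conj_of_orth h1 hc hν hχ hχ₁ hφ₁, ho]

/-- Peterfalvi (5.6). -/
theorem SubCoh.extend (h : SubCoh S τ R) {S₁ : Finset (L → ℂ)} (h1 : ↑S₁ ⊆ S)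
    (hc : ∀ φ ∈ S₁, conjFun φ ∈ S₁) (hν : CohWith (S₁ : Set (L → ℂ)) τ ν) {χ φ₁ : L → ℂ}
    (hχ : χ ∈ S) (hχ₁ : χ ∉ S₁) (hφ₁ : φ₁ ∈ S₁) {a : ℕ} (ha : χ 1 = a * φ₁ 1)
    (hlt : 2 * (χ 1).re * (φ₁ 1).re < ∑ φ ∈ S₁, (φ 1).re ^ 2 / nrm φ) :
    CohWith (↑S₁ ∪ {χ, conjFun χ}) τ ν :=
  h.extend_with h1 hc hν hχ hχ₁ hφ₁ (h.gen_of_dvd hν.agree hχ (h1 hφ₁) ha (hν.gen _ hφ₁))
    (h.orth_of_bound h1 hc hν hχ hχ₁ hφ₁ ha hlt)

/-- Splitting of `τ (χ - ψ)` for characters of the same degree. -/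
theorem SubCoh.exists_split (h : SubCoh S τ R) {χ ψ : L → ℂ} (hχ : χ ∈ S) (hψ : ψ ∈ S)
    (h1 : ψ ≠ χ) (h2 : ψ ≠ conjFun χ) (hd : χ 1 = ψ 1) :
    ∃ E ⊆ R χ, ∃ F ⊆ R ψ, τ (χ - ψ) = ∑ α ∈ E, α - ∑ α ∈ F, α ∧ (E.card : ℝ) = nrm χ ∧
      (F.card : ℝ) = nrm ψ := by
  have hm := sub_mem_span1 hχ hψ hd
  have hg := h.iso.gen _ hm
  have h3 : χ ≠ conjFun ψ := fun e => h2 (by rw [e, conjFun_conjFun])
  have e1 : classInner (τ (χ - ψ)) (∑ α ∈ R χ, α) = nrm χ := by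
    rw [← h.sum_eq χ hχ, h.iso.inner _ hm _ (h.sub_conj_mem hχ), classInner_sub_left,
      classInner_sub_right, classInner_sub_right, h.orth_conj hχ, h.orth ψ hψ χ hχ h1,
      h.orth ψ hψ _ (h.conj_mem χ hχ) h2, classInner_self_nrm]
    simp
  have e2 : classInner (-τ (χ - ψ)) (∑ α ∈ R ψ, α) = nrm ψ := by
    rw [classInner_neg_left, ← h.sum_eq ψ hψ, h.iso.inner _ hm _ (h.sub_conj_mem hψ),
      classInner_sub_left, classInner_sub_right, classInner_sub_right, h.orth_conj hψ,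
      h.orth χ hχ ψ hψ h1.symm, h.orth χ hχ _ (h.conj_mem ψ hψ) h3, classInner_self_nrm]
    simp
  obtain ⟨e3, e4⟩ := (h.orthon χ hχ).le_nrm_proj (h.gen χ hχ) hg e1
  obtain ⟨e5, e6⟩ := (h.orthon ψ hψ).le_nrm_proj (h.gen ψ hψ) hg.neg e2
  have e7 := nrm_proj_add_le (h.orthon χ hχ).orth' (h.orthon ψ hψ).orth'
    (h.disj ψ hψ χ hχ h1.symm h3) (τ (χ - ψ))
  have e8 : proj (R ψ) id (-τ (χ - ψ)) = -proj (R ψ) id (τ (χ - ψ)) := by
    simp only [proj, classInner_neg_left, neg_div, neg_smul, Finset.sum_neg_distrib]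
  rw [e8, nrm_neg] at e5 e6
  rw [h.iso.nrm_eq hm, nrm_sub_of_orth (h.orth χ hχ ψ hψ h1.symm)] at e7
  have e9 := nrm_nonneg (τ (χ - ψ) - proj (R χ) id (τ (χ - ψ)) - proj (R ψ) id (τ (χ - ψ)))
  obtain ⟨-, E, hE, hE1, hE2⟩ := e4 (by linarith)
  obtain ⟨-, F, hF, hF1, hF2⟩ := e6 (by linarith)
  refine ⟨E, hE, F, hF, ?_, hE2, hF2⟩
  have e10 := eq_zero_of_nrm_le (φ := τ (χ - ψ) - proj (R χ) id (τ (χ - ψ)) -
    proj (R ψ) id (τ (χ - ψ))) (by linarith)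
  rw [← hE1, ← hF1]
  linear_combination (exp := 1) e10

/-- Peterfalvi (5.7). -/
theorem SubCoh.coh_of_degree_eq (h : SubCoh S τ R) (hdeg : ∀ φ ∈ S, ∀ ψ ∈ S, φ 1 = ψ 1) :
    Coh S τ := by
  rcases S.eq_empty_or_nonempty with rfl | ⟨χ, hχ⟩
  · exact coh_empty τ
  have hχ' := h.conj_mem χ hχ
  suffices ∃ E ⊆ R χ, (E.card : ℝ) = nrm χ ∧ ∀ φ ∈ S, φ ≠ χ → φ ≠ conjFun χ →
      classInner (τ (χ - φ)) (∑ α ∈ E, α) = nrm χ by
    obtain ⟨E, hE, h1, h2⟩ := this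
    obtain ⟨ν, hν, e⟩ := exists_agree τ (h.one_ne_zero hχ) (∑ α ∈ E, α)
    have h3 : nrm (ν χ) = nrm χ := by rw [e, ((h.orthon χ hχ).mono hE).nrm_sum, h1]
    refine ⟨ν, h.cohWith_of_pivot hν (Submodule.subset_span hχ) (h.one_ne_zero hχ)
      (fun φ hφ => h.gen_of_dvd hν hφ hχ (a := 1) (by simpa using hdeg φ hφ χ hχ) ?_)
      fun φ hφ => ?_⟩
    · rw [e]; exact isGen_sum _ _ fun α hα => h.gen χ hχ α (hE hα)
    by_cases h4 : φ = χ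
    · rw [h4, classInner_self_nrm, classInner_self_nrm, h3]
    have h5 : classInner (τ (χ - φ)) (∑ α ∈ E, α) = nrm χ := by
      by_cases h5 : φ = conjFun χ
      · rw [h5, h.sum_eq χ hχ, (h.orthon χ hχ).classInner_sum_sum hE, ← h1]; simp
      · exact h2 φ hφ h4 h5
    rw [hν.sub (hdeg χ hχ φ hφ), ← e, classInner_sub_left, classInner_self_nrm, h3] at h5
    rw [h.orth φ hφ χ hχ h4]
    linear_combination -h5
  by_cases hex : ∃ ψ ∈ S, ψ ≠ χ ∧ ψ ≠ conjFun χ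
  · obtain ⟨ψ, hψ, h1, h2⟩ := hex
    obtain ⟨E, hE, F, hF, e1, e2, e3⟩ := h.exists_split hχ hψ h1 h2 (hdeg χ hχ ψ hψ)
    have h3 : χ ≠ conjFun ψ := fun e => h2 (by rw [e, conjFun_conjFun])
    have hEE : classInner (∑ α ∈ E, α) (∑ α ∈ E, α) = nrm χ := by
      rw [classInner_self_nrm, ((h.orthon χ hχ).mono hE).nrm_sum, e2]
    have hFE : ∀ F ⊆ R ψ, classInner (∑ α ∈ F, α) (∑ α ∈ E, α) = 0 := fun F hF =>
      classInner_sum_sum_eq_zero fun α hα β hβ => h.disj χ hχ ψ hψ h1 h2 α (hF hα) β (hE hβ)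
    refine ⟨E, hE, e2, fun φ hφ h4 h5 => ?_⟩
    by_cases h6 : φ = ψ
    · rw [h6, e1, classInner_sub_left, hEE, hFE F hF, sub_zero]
    by_cases h7 : φ = conjFun ψ
    · rw [h7, show χ - conjFun ψ = (χ - ψ) + (ψ - conjFun ψ) by abel, map_add, e1, h.sum_eq ψ hψ,
        classInner_add_left, classInner_sub_left, hEE, hFE F hF, hFE _ subset_rfl]
      simp
    obtain ⟨E', hE', F', hF', e1', -, -⟩ := h.exists_split hχ hφ h4 h5 (hdeg χ hχ φ hφ)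
    have h8 := h.iso.inner _ (sub_mem_span1 hχ hφ (hdeg χ hχ φ hφ)) _
      (sub_mem_span1 hχ hψ (hdeg χ hχ ψ hψ))
    have h9 : classInner (τ (χ - φ)) (∑ α ∈ F, α) = 0 := by
      rw [e1', classInner_sub_left,
        classInner_sum_sum_eq_zero fun α hα β hβ => h.disj ψ hψ χ hχ h1.symm h3 α (hE' hα) β (hF hβ),
        classInner_sum_sum_eq_zero fun α hα β hβ => h.disj ψ hψ φ hφ h6 h7 α (hF' hα) β (hF hβ),
        sub_zero]
    rw [e1, classInner_sub_right, h9, sub_zero] at h8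
    rw [h8, classInner_sub_left, classInner_sub_right, classInner_sub_right,
      h.orth χ hχ ψ hψ h1.symm, h.orth φ hφ χ hχ h4, h.orth φ hφ ψ hψ h6, classInner_self_nrm]
    simp
  · obtain ⟨n, hn⟩ := (h.char χ hχ).isGen.exists_nrm
    obtain ⟨E, hE, h1⟩ := Finset.exists_subset_card_eq (s := R χ) (n := n) (by
      have := h.card_eq hχ
      rw [hn] at this
      have h2 : (R χ).card = 2 * n := by exact_mod_cast this
      omega)
    exact ⟨E, hE, by rw [h1, hn], fun φ hφ h2 h3 => (hex ⟨φ, hφ, h2, h3⟩).elim⟩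

/-- Peterfalvi (5.3)(a). -/
theorem DegIso.exists_subCoh (h : DegIso S τ) (hirr : ∀ φ ∈ S, IsIrrCharacter L φ)
    (hc : ∀ φ ∈ S, conjFun φ ∈ S) (hc' : ∀ φ ∈ S, conjFun φ ≠ φ) : ∃ R, SubCoh S τ R := by
  classical
  have hm : ∀ χ ∈ S, χ - conjFun χ ∈ span1 S :=
    fun χ hχ => sub_mem_span1 hχ (hc χ hχ) (h.char χ hχ).conjFun_one.symm
  choose! μ μ' h1 h2 h3 h4 using fun χ (hχ : χ ∈ S) =>
    (h.iso.gen _ (hm χ hχ)).exists_sub_of_norm_two (by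
      rw [h.iso.inner _ (hm χ hχ) _ (hm χ hχ), classInner_self_nrm,
        nrm_sub_of_orth (h.orth χ hχ _ (hc χ hχ) (hc' χ hχ).symm), nrm_conj, (hirr χ hχ).nrm_eq]
      norm_num) (h.map_one _ (hm χ hχ))
  have h5 : ∀ χ ∈ S, μ χ 1 = μ' χ 1 := fun χ hχ => by
    have := h.map_one _ (hm χ hχ)
    rwa [h4 χ hχ, Pi.sub_apply, sub_eq_zero] at this
  have h6 : ∀ χ ∈ S, classInner (μ χ) (μ' χ) = 0 :=
    fun χ hχ => (h1 χ hχ).classInner_of_ne (h2 χ hχ) (h3 χ hχ)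
  have h7 : ∀ χ ∈ S, μ χ ≠ -μ' χ := fun χ hχ e => by
    have := h6 χ hχ
    rw [e, classInner_neg_left, (h2 χ hχ).classInner_self] at this
    norm_num at this
  refine ⟨fun χ => {μ χ, -μ' χ}, h, hc, hc', fun χ hχ => orthon_of ?_ ?_, fun χ hχ => ?_,
    fun χ hχ => ?_, fun χ hχ φ hφ e1 e2 => ?_⟩
  · simp [(h1 χ hχ).classInner_self, (h2 χ hχ).isDirr.neg.classInner_self]
  · simp [classInner_neg_left, classInner_neg_right, h6 χ hχ, classInner_eq_zero_comm.1 (h6 χ hχ)]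
  · simp [(h1 χ hχ).isGen, (h2 χ hχ).isGen.neg]
  · rw [Finset.sum_pair (h7 χ hχ), h4 χ hχ, sub_eq_add_neg]
  · obtain ⟨a, b, c, d⟩ := dirr_orthogonal_of_sub (h1 φ hφ).isDirr (h2 φ hφ).isDirr
      (h1 χ hχ).isDirr (h2 χ hχ).isDirr (u := 1) (v := 1) _root_.one_ne_zero _root_.one_ne_zero
      (by simp) (by simp) (h6 φ hφ) (h6 χ hχ) (by
        rw [one_smul, one_smul, ← h4 φ hφ, ← h4 χ hχ, h.iso.inner _ (hm φ hφ) _ (hm χ hχ),
          classInner_sub_left, classInner_sub_right, classInner_sub_right, h.orth φ hφ χ hχ e1,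
          h.orth φ hφ _ (hc χ hχ) e2, h.orth _ (hc φ hφ) χ hχ fun e => e2 (conjFun_eq_iff.1 e),
          h.orth _ (hc φ hφ) _ (hc χ hχ) fun e => e1 (conjFun_injective e)]
        simp) (h5 φ hφ) (by rw [h5 χ hχ])
    simp [classInner_neg_left, classInner_neg_right, a, b, c, d]

/-- The properties of `(S, τ)` used in the inductive coherence theorems. -/
structure PreCoh (S : Set (L → ℂ)) (τ : CMap L G) : Prop extends DegIso S τ where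
  unif : ∀ S₁ ⊆ S, (∀ φ ∈ S₁, conjFun φ ∈ S₁) → (∀ φ ∈ S₁, ∀ ψ ∈ S₁, φ 1 = ψ 1) → Coh S₁ τ
  ext : ∀ S₁ : Finset (L → ℂ), ↑S₁ ⊆ S → (∀ φ ∈ S₁, conjFun φ ∈ S₁) → ∀ ν,
    CohWith (S₁ : Set (L → ℂ)) τ ν → ∀ χ ∈ S, χ ∉ S₁ → ∀ φ₁ ∈ S₁, ∀ a : ℕ, χ 1 = a * φ₁ 1 →
    2 * (χ 1).re * (φ₁ 1).re < ∑ φ ∈ S₁, (φ 1).re ^ 2 / nrm φ → classInner (ν χ) (ν φ₁) = 0

theorem SubCoh.preCoh (h : SubCoh S τ R) : PreCoh S τ :=
  ⟨h.toDegIso, fun _ h1 hc hd => (h.mono h1 hc).coh_of_degree_eq hd,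
    fun _ h1 hc _ hν _ hχ hχ₁ _ hφ₁ _ ha hlt => h.orth_of_bound h1 hc hν hχ hχ₁ hφ₁ ha hlt⟩

theorem DegIso.preCoh (h : DegIso S τ) (hirr : ∀ φ ∈ S, IsIrrCharacter L φ) : PreCoh S τ :=
  ⟨h, fun _ h1 _ hd => (h.mono h1).coh_of_irr (fun φ hφ => hirr φ (h1 hφ)) hd,
    fun _ h1 _ _ hν χ hχ hχ₁ _ hφ₁ _ ha hlt =>
      h.orth_of_irr h1 (fun φ hφ => hirr φ (h1 hφ)) hν hχ (hirr χ hχ) hχ₁ hφ₁ ha hlt⟩

theorem PreCoh.extend (h : PreCoh S τ) {S₁ : Finset (L → ℂ)} (h1 : ↑S₁ ⊆ S)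
    (hc : ∀ φ ∈ S₁, conjFun φ ∈ S₁) (hν : CohWith (S₁ : Set (L → ℂ)) τ ν) {φ₁ : L → ℂ}
    (hφ₁ : φ₁ ∈ S₁) {T : Set (L → ℂ)} (hT : T ⊆ S)
    (hd : ∀ χ ∈ T, χ ∉ S₁ → (∃ a : ℕ, χ 1 = a * φ₁ 1) ∧
      2 * (χ 1).re * (φ₁ 1).re < ∑ φ ∈ S₁, (φ 1).re ^ 2 / nrm φ) : CohWith (↑S₁ ∪ T) τ ν := by
  refine h.cohWith_union h1 hT hν hφ₁ (fun χ hχ h2 => ?_) fun χ hχ h2 => ?_
  · obtain ⟨⟨a, ha⟩, -⟩ := hd χ hχ h2
    exact h.gen_of_dvd hν.agree (hT hχ) (h1 hφ₁) ha (hν.gen _ hφ₁)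
  · obtain ⟨⟨a, ha⟩, h3⟩ := hd χ hχ h2
    exact h.ext S₁ h1 hc ν hν χ (hT hχ) h2 φ₁ hφ₁ a ha h3

theorem degIso_of_irr (hirr : ∀ φ ∈ S, IsIrrCharacter L φ) (h1 : ZIso (span1 S) τ)
    (h2 : ∀ α ∈ span1 S, τ α 1 = 0) : DegIso S τ :=
  ⟨fun φ hφ => (hirr φ hφ).isCharacter, fun φ hφ => (hirr φ hφ).ne_zero,
    fun φ hφ ψ hψ => (hirr φ hφ).classInner_of_ne (hirr ψ hψ), h1, h2⟩

theorem exists_degIso_of_irr (hirr : ∀ φ ∈ S, IsIrrCharacter L φ) {τ₀ : (L → ℂ) → (G → ℂ)}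
    (h1 : IsLinearIsometryOn (zspanOn S {1}ᶜ) τ₀) (h2 : ∀ α ∈ zspanOn S {1}ᶜ, τ₀ α 1 = 0) :
    ∃ τ : CMap L G, (∀ α ∈ span1 S, τ α = τ₀ α) ∧ DegIso S τ := by
  obtain ⟨τ, h3, h4⟩ := h1.exists_cmap
  rw [zspanOn_eq_span1] at h2 h3 h4
  exact ⟨τ, h3, degIso_of_irr hirr h4 fun α hα => by rw [h3 α hα, h2 α hα]⟩

/-- Images of irreducible characters under a coherent extension all have the same sign. -/
theorem DegIso.exists_sign (h : DegIso S τ) (hν : CohWith S τ ν)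
    (hirr : ∀ φ ∈ S, IsIrrCharacter L φ) :
    ∃ ε : ℂ, (ε = 1 ∨ ε = -1) ∧ ∀ χ ∈ S, IsIrrCharacter G (ε • ν χ) := by
  rcases S.eq_empty_or_nonempty with rfl | ⟨φ, hφ⟩
  · exact ⟨1, Or.inl rfl, by simp⟩
  obtain ⟨ε, μ, h1, h2, h3⟩ := (hν.isDirr hφ (hirr φ hφ)).exists_sign
  refine ⟨ε, h1, fun χ hχ => ((hν.isDirr hχ (hirr χ hχ)).smul h1).isIrr_of_re_nonneg ?_⟩
  have h4 := h.degree_mul hν.agree (Submodule.subset_span hχ) (Submodule.subset_span hφ)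
  obtain ⟨a, ha0, ha⟩ := h.exists_deg hχ
  obtain ⟨b, hb0, hb⟩ := h.exists_deg hφ
  obtain ⟨c, hc⟩ := h2.isCharacter.exists_nat
  have h5 : (ε • ν χ) 1 = ((a * c / b : ℝ) : ℂ) := by
    have h6 : (b : ℂ) ≠ 0 := by exact_mod_cast hb0.ne'
    rw [ha, hb, h3, Pi.smul_apply, hc] at h4
    push_cast
    rw [eq_div_iff h6, Pi.smul_apply]
    rcases h1 with rfl | rfl
    · simp only [smul_eq_mul] at h4 ⊢; linear_combination h4
    · simp only [smul_eq_mul] at h4 ⊢; linear_combination -h4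
  rw [h5, Complex.ofReal_re]
  positivity

end Cfsg.Agent.Char
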