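import Mathlib
import Cfsg.Agent.Char.Coh
import Cfsg.Agent.Core.Frattini
import Cfsg.Agent.Core.CoprimeAb

/-!
# Coherence, part two: orthogonality of coherent sets of irreducible characters, induced
characters `seqInd`, and Peterfalvi (6.2), (6.3).
-/

set_option autoImplicit false

namespace Cfsg.Agent.Char

open Cfsg
open scoped ComplexConjugate

section Dirr

variable {G : Type*} [Group G] [Fintype G]

theorem dirr_orth_of_smul_sub {α β γ δ : G → ℂ} (hα : IsDirr α) (hβ : IsDirr β) (hγ : IsDirr γ)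
    (hδ : IsDirr δ) {s t u v : ℝ} (hs : s ≠ 0) (hu : u ≠ 0)
    (hab : classInner α β = 0) (hcd : classInner γ δ = 0)
    (hmix : classInner ((s : ℂ) • α - (t : ℂ) • β) ((u : ℂ) • γ - (v : ℂ) • δ) = 0)
    (h1 : s * α 1 = t * β 1) (h2 : u * γ 1 = v * δ 1) : classInner α γ = 0 := by
  by_contra h
  have e1 := hα.eq_smul hγ h
  have e2 : classInner α δ = 0 := by rw [e1, classInner_smul_left, hcd, mul_zero]
  have e3 : classInner β γ = 0 := by
    rw [e1, classInner_smul_left, mul_eq_zero] at hab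
    exact classInner_eq_zero_comm.1 (hab.resolve_left h)
  simp only [classInner_sub_left, classInner_sub_right, classInner_smul_right,
    classInner_smul_left, e2, e3, Complex.conj_ofReal, sub_zero, zero_sub, mul_neg, mul_zero,
    sub_neg_eq_add] at hmix
  have hs' : (s : ℂ) ≠ 0 := by exact_mod_cast hs
  have hu' : (u : ℂ) ≠ 0 := by exact_mod_cast hu
  have e4 : classInner β δ ≠ 0 := by
    intro h0; rw [h0] at hmix; simp [hs, hu, h] at hmix
  have e5 := congrFun (hβ.eq_smul hδ e4) 1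
  have e6 := congrFun e1 1
  simp only [Pi.smul_apply, smul_eq_mul] at e5 e6
  have e7 : (s * classInner α γ * v - t * classInner β δ * u) * δ 1 = 0 := by
    linear_combination u * h1 - u * s * e6 + u * t * e5 - s * classInner α γ * h2
  have e8 := (mul_eq_zero.1 e7).resolve_right hδ.one_ne_zero
  have e9 : s * classInner α γ * ((u ^ 2 + v ^ 2 : ℝ) : ℂ) = 0 := by
    push_cast
    linear_combination u * hmix + v * e8
  have e10 : (u ^ 2 + v ^ 2 : ℝ) ≠ 0 := by positivity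
  exact mul_ne_zero (mul_ne_zero hs' h) (by exact_mod_cast e10) e9

end Dirr

variable {L G : Type*} [Group L] [Fintype L] [Group G] [Fintype G]

/-- Two disjoint coherent sets of at least two irreducible characters have orthogonal images. -/
theorem DegIso.orth_of_irr_disjoint {S X Y : Set (L → ℂ)} {τ ν₁ ν₂ : CMap L G} (h : DegIso S τ)
    (hirr : ∀ φ ∈ S, IsIrrCharacter L φ) (hX : X ⊆ S) (hY : Y ⊆ S) (hd : Disjoint X Y)
    (h1 : CohWith X τ ν₁) (h2 : CohWith Y τ ν₂) {χ χ' η η' : L → ℂ} (hχ : χ ∈ X) (hχ' : χ' ∈ X)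
    (hne : χ ≠ χ') (hη : η ∈ Y) (hη' : η' ∈ Y) (hne' : η ≠ η') :
    classInner (ν₁ χ) (ν₂ η) = 0 := by
  obtain ⟨a, ha0, ha⟩ := h.exists_deg (hX hχ)
  obtain ⟨a', ha0', ha'⟩ := h.exists_deg (hX hχ')
  obtain ⟨b, hb0, hb⟩ := h.exists_deg (hY hη)
  obtain ⟨b', hb0', hb'⟩ := h.exists_deg (hY hη')
  have m1 := smul_sub_smul_mem_span1 (hX hχ) (hX hχ') (h.char _ (hX hχ)) (h.char _ (hX hχ'))
  have m2 := smul_sub_smul_mem_span1 (hY hη) (hY hη') (h.char _ (hY hη)) (h.char _ (hY hη'))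
  have o : ∀ φ ∈ X, ∀ ψ ∈ Y, classInner φ ψ = 0 := fun φ hφ ψ hψ =>
    h.orth φ (hX hφ) ψ (hY hψ) fun e => Set.disjoint_left.1 hd hφ (e ▸ hψ)
  refine dirr_orth_of_smul_sub (h1.isDirr hχ (hirr _ (hX hχ))) (h1.isDirr hχ' (hirr _ (hX hχ')))
    (h2.isDirr hη (hirr _ (hY hη))) (h2.isDirr hη' (hirr _ (hY hη'))) (s := a') (t := a) (u := b')
    (v := b) (by positivity) (by positivity) ?_ ?_ ?_ ?_ ?_
  · rw [h1.inner _ hχ _ hχ', h.orth _ (hX hχ) _ (hX hχ') hne]
  · rw [h2.inner _ hη _ hη', h.orth _ (hY hη) _ (hY hη') hne']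
  · have := h.iso.inner _ m1 _ m2
    rw [← h1.agree _ m1.2, ← h2.agree _ m2.2, ha, ha', hb, hb'] at this
    simp only [map_sub, map_smul] at this
    push_cast
    rw [this]
    simp [classInner_sub_left, classInner_sub_right, classInner_smul_left, classInner_smul_right,
      o _ hχ _ hη, o _ hχ _ hη', o _ hχ' _ hη, o _ hχ' _ hη']
  · simpa [ha, ha'] using h.degree_mul h1.agree (Submodule.subset_span (hX hχ))
      (Submodule.subset_span (hX hχ'))
  · simpa [hb, hb'] using h.degree_mul h2.agree (Submodule.subset_span (hY hη))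
      (Submodule.subset_span (hY hη'))

section SeqInd

variable {K : Subgroup L}

theorem mem_inducedIrrAbove {A : Subgroup L} {φ : L → ℂ} : φ ∈ inducedIrrAbove K A ↔
    ∃ θ : K → ℂ, IsIrrCharacter K θ ∧ θ ≠ (fun _ => 1) ∧ (∀ a : K, (a : L) ∈ A → θ a = θ 1) ∧
      φ = indFun K θ := Iff.rfl

theorem inducedIrrAbove_anti {A B : Subgroup L} (h : A ≤ B) :
    inducedIrrAbove K B ⊆ inducedIrrAbove K A :=
  fun _ ⟨θ, h1, h2, h3, h4⟩ => ⟨θ, h1, h2, fun a ha => h3 a (h ha), h4⟩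

theorem conjFun_mem_inducedIrrAbove {A : Subgroup L} {φ : L → ℂ}
    (h : φ ∈ inducedIrrAbove K A) : conjFun φ ∈ inducedIrrAbove K A := by
  obtain ⟨θ, h1, h2, h3, rfl⟩ := h
  refine ⟨conjFun θ, h1.conj, fun e => h2 ?_, fun a ha => by simp [h3 a ha],
    (indFun_conjFun K θ).symm⟩
  rw [conjFun_eq_iff, conjFun_one] at e
  exact e

theorem isCharacter_of_mem_inducedIrrAbove {A : Subgroup L} {φ : L → ℂ}
    (h : φ ∈ inducedIrrAbove K A) : IsCharacter L φ := by
  obtain ⟨θ, h1, -, -, rfl⟩ := h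
  exact h1.isCharacter.indFun

theorem ne_zero_of_mem_inducedIrrAbove {A : Subgroup L} {φ : L → ℂ}
    (h : φ ∈ inducedIrrAbove K A) : φ ≠ 0 := by
  obtain ⟨θ, h1, -, -, rfl⟩ := h
  exact indFun_ne_zero h1.one_ne_zero

theorem finite_inducedIrrAbove (A : Subgroup L) : (inducedIrrAbove K A).Finite := by
  refine (Set.finite_range fun θ : IrrCharacter K => indFun K θ).subset ?_
  rintro _ ⟨θ, h1, -, -, rfl⟩
  exact ⟨⟨θ, h1⟩, rfl⟩

variable [hK : K.Normal]

theorem indFun_eq_or_orth {θ φ : K → ℂ} (hθ : IsIrrCharacter K θ) (hφ : IsIrrCharacter K φ)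
    (h : indFun K θ ≠ indFun K φ) : classInner (indFun K θ) (indFun K φ) = 0 :=
  classInner_indFun_indFun_eq_zero hθ hφ fun g e => h (by rw [← e, indFun_conjBy])

theorem indFun_eq_iff {θ φ : K → ℂ} (hθ : IsIrrCharacter K θ) (hφ : IsIrrCharacter K φ) :
    indFun K θ = indFun K φ ↔ ∃ g, conjBy θ g = φ := by
  refine ⟨fun h => exists_conjBy_eq_of_classInner_indFun hθ hφ ?_, ?_⟩
  · rw [← h, Ne, classInner_self_eq_zero]
    exact indFun_ne_zero hθ.one_ne_zero
  · rintro ⟨g, rfl⟩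
    rw [indFun_conjBy]

theorem orth_of_mem_inducedIrrAbove {A B : Subgroup L} {φ ψ : L → ℂ}
    (h : φ ∈ inducedIrrAbove K A) (h' : ψ ∈ inducedIrrAbove K B) (hne : φ ≠ ψ) :
    classInner φ ψ = 0 := by
  obtain ⟨θ, h1, -, -, rfl⟩ := h
  obtain ⟨θ', h1', -, -, rfl⟩ := h'
  exact indFun_eq_or_orth h1 h1' hne

theorem apply_eq_zero_of_mem_inducedIrrAbove {A : Subgroup L} {φ : L → ℂ}
    (h : φ ∈ inducedIrrAbove K A) {x : L} (hx : x ∉ K) : φ x = 0 := by
  obtain ⟨θ, -, -, -, rfl⟩ := h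
  exact indFun_eq_zero_of_normal K θ hx

omit hK in
theorem classInner_one_of_mem_inducedIrrAbove {A : Subgroup L} {φ : L → ℂ}
    (h : φ ∈ inducedIrrAbove K A) : classInner φ (fun _ => 1) = 0 := by
  obtain ⟨θ, h1, h2, -, rfl⟩ := h
  have := Fintype.ofFinite K
  rw [classInner_indFun_left _ _ (isClassFunction_const 1)]
  exact h1.classInner_of_ne isIrrCharacter_one h2

theorem nrm_indFun {θ : K → ℂ} (hθ : IsIrrCharacter K θ) :
    nrm (indFun K θ) = K.relIndex (inertia θ) := by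
  rw [nrm, classInner_indFun_self hθ]; simp

omit [Fintype L] in
theorem relIndex_inertia_mul {θ : K → ℂ} (hθ : IsIrrCharacter K θ) :
    K.relIndex (inertia θ) * (inertia θ).index = K.index :=
  Subgroup.relIndex_mul_index (le_inertia hθ.isClassFunction)

open Classical in
/-- Summing over induced characters, grouped by conjugacy orbits. -/
theorem sum_image_indFun (T : Finset (K → ℂ)) (hT : ∀ θ ∈ T, IsIrrCharacter K θ)
    (hT' : ∀ θ ∈ T, ∀ g, conjBy θ g ∈ T) {M : Type*} [AddCommMonoid M] (F : (K → ℂ) → M)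
    (F' : (L → ℂ) → M) (hF : ∀ θ ∈ T, ∀ g, F (conjBy θ g) = F θ)
    (hF' : ∀ θ ∈ T, F' (indFun K θ) = (inertia θ).index • F θ) :
    ∑ φ ∈ T.image (indFun K), F' φ = ∑ θ ∈ T, F θ := by
  rw [← Finset.sum_fiberwise_of_maps_to (s := T) (t := T.image (indFun K)) (g := indFun K)
    fun θ hθ => Finset.mem_image_of_mem _ hθ]
  refine Finset.sum_congr rfl fun φ hφ => ?_
  obtain ⟨θ, hθ, rfl⟩ := Finset.mem_image.1 hφ
  have h1 : T.filter (fun θ' => indFun K θ' = indFun K θ) = conjOrbit θ := by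
    ext θ'
    rw [Finset.mem_filter, mem_conjOrbit]
    refine ⟨fun h => (indFun_eq_iff (hT θ hθ) (hT θ' h.1)).1 h.2.symm, ?_⟩
    rintro ⟨g, rfl⟩
    exact ⟨hT' θ hθ g, indFun_conjBy θ g⟩
  rw [h1, hF' θ hθ, Finset.sum_congr rfl (g := fun _ => F θ), Finset.sum_const, card_conjOrbit]
  intro θ' h
  obtain ⟨g, rfl⟩ := mem_conjOrbit.1 h
  exact hF θ hθ g

end SeqInd

section SumSq

open Classical in
/-- The finite set of irreducible characters satisfying a predicate. -/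
noncomputable def irrSet (G : Type*) [Group G] [Finite G] (P : (G → ℂ) → Prop) :
    Finset (G → ℂ) :=
  (Finset.univ.filter fun χ : IrrCharacter G => P χ).map (Function.Embedding.subtype _)

omit [Fintype G] in
theorem mem_irrSet [Finite G] {P : (G → ℂ) → Prop} {χ : G → ℂ} :
    χ ∈ irrSet G P ↔ IsIrrCharacter G χ ∧ P χ := by
  simp only [irrSet, Finset.mem_map, Finset.mem_filter, Finset.mem_univ, true_and,
    Function.Embedding.coe_subtype]
  constructor
  · rintro ⟨ψ, h1, rfl⟩; exact ⟨ψ.2, h1⟩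
  · rintro ⟨h1, h2⟩; exact ⟨⟨χ, h1⟩, h2, rfl⟩

open Classical in
omit [Fintype G] in
theorem sum_irrSet [Finite G] (P : (G → ℂ) → Prop) {M : Type*} [AddCommMonoid M]
    (F : (G → ℂ) → M) :
    ∑ χ ∈ irrSet G P, F χ = ∑ χ : IrrCharacter G, if P χ then F χ else 0 := by
  rw [irrSet, Finset.sum_map, Finset.sum_filter]
  rfl

omit [Fintype G] in
theorem card_irrSet [Finite G] (P : (G → ℂ) → Prop) :
    (irrSet G P).card = Nat.card {χ : IrrCharacter G // P χ} := by
  classical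
  rw [irrSet, Finset.card_map, Nat.card_eq_fintype_card, Fintype.card_subtype]

open Classical in
/-- `∑ χ(1) χ` over the irreducible characters with kernel containing `N`. -/
theorem sum_irrSet_ker_mul (N : Subgroup G) [N.Normal] (g : G) :
    ∑ χ ∈ irrSet G (fun χ => ∀ n ∈ N, χ n = χ 1), χ 1 * χ g =
      if g ∈ N then (N.index : ℂ) else 0 := by
  have := Fintype.ofFinite N
  have h1 := (isClassFunction_indFun N (fun _ => 1)).apply_eq_sum_irr g
  have h2 : indFun N (fun _ => 1) g = if g ∈ N then (N.index : ℂ) else 0 := by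
    split_ifs with hg
    · rw [indFun_apply_eq_of_ker le_rfl (fun _ _ => rfl) hg, indFun_one, mul_one]
    · exact indFun_eq_zero_of_normal N _ hg
  rw [← h2, h1, sum_irrSet]
  refine Finset.sum_congr rfl fun χ _ => ?_
  split_ifs with h
  · congr 1
    rw [classInner_indFun_left _ _ χ.2.isClassFunction, show (fun n : N => (χ : G → ℂ) n) =
      (χ : G → ℂ) 1 • fun _ => 1 from funext fun n => by simp [h n n.2], classInner_smul_right,
      isIrrCharacter_one.classInner_self, mul_one, χ.2.isCharacter.conj_apply_one]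
  · rw [not_not.1 (mt (classInner_indFun_one_ne_zero_iff χ.2).1 h), zero_mul]

theorem _root_.Cfsg.IsCharacter.ofReal_re_one {H : Type*} [Group H] {χ : H → ℂ}
    (h : IsCharacter H χ) : (((χ 1).re : ℝ) : ℂ) = χ 1 := by
  obtain ⟨n, hn⟩ := h.exists_nat
  rw [hn]; simp

theorem sum_irrSet_ker_sq (N : Subgroup G) [N.Normal] :
    ∑ χ ∈ irrSet G (fun χ => ∀ n ∈ N, χ n = χ 1), (χ 1).re ^ 2 = (N.index : ℝ) := by
  have := sum_irrSet_ker_mul N 1
  rw [if_pos N.one_mem] at this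
  apply Complex.ofReal_injective
  rw [Complex.ofReal_natCast, ← this, Complex.ofReal_sum]
  refine Finset.sum_congr rfl fun χ hχ => ?_
  rw [Complex.ofReal_pow, (mem_irrSet.1 hχ).1.isCharacter.ofReal_re_one, sq]

theorem sum_irrSet_ker_sq' (N : Subgroup G) [N.Normal] :
    ∑ χ ∈ irrSet G (fun χ => χ ≠ (fun _ => 1) ∧ ∀ n ∈ N, χ n = χ 1), (χ 1).re ^ 2 =
      (N.index : ℝ) - 1 := by
  classical
  rw [← sum_irrSet_ker_sq N, ← Finset.add_sum_erase (a := fun _ => 1) _ _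
    (mem_irrSet (P := fun χ => ∀ n ∈ N, χ n = χ 1).2 ⟨isIrrCharacter_one, fun _ _ => rfl⟩)]
  simp only [Complex.one_re, one_pow, add_sub_cancel_left]
  congr 1
  ext χ
  simp only [mem_irrSet, Finset.mem_erase]
  tauto

variable {K : Subgroup L} [hK : K.Normal]

/-- The finite set of characters induced from the non-principal irreducible characters of `K`
with `A` in their kernel. -/
noncomputable def seqInd (K A : Subgroup L) : Finset (L → ℂ) :=
  (finite_inducedIrrAbove (K := K) A).toFinset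

omit hK in
@[simp] theorem coe_seqInd (A : Subgroup L) : (seqInd K A : Set (L → ℂ)) = inducedIrrAbove K A :=
  Set.Finite.coe_toFinset _

omit hK in
theorem mem_seqInd {A : Subgroup L} {φ : L → ℂ} : φ ∈ seqInd K A ↔ φ ∈ inducedIrrAbove K A :=
  Set.Finite.mem_toFinset _

open Classical in
omit hK in
theorem seqInd_eq_image (A : Subgroup L) : seqInd K A =
    (irrSet K fun θ => θ ≠ (fun _ => 1) ∧ ∀ n ∈ A.subgroupOf K, θ n = θ 1).image (indFun K) := by
  ext φ
  rw [mem_seqInd, Finset.mem_image]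
  constructor
  · rintro ⟨θ, h1, h2, h3, rfl⟩
    exact ⟨θ, mem_irrSet.2 ⟨h1, h2, h3⟩, rfl⟩
  · rintro ⟨θ, h1, rfl⟩
    obtain ⟨h1, h2, h3⟩ := mem_irrSet.1 h1
    exact ⟨θ, h1, h2, h3, rfl⟩

omit [Fintype L] in
theorem conjBy_ne_one {θ : K → ℂ} (h : θ ≠ fun _ => 1) (g : L) : conjBy θ g ≠ fun _ => 1 :=
  fun e => h (conjBy_left_injective g (e.trans (conjBy_const 1 g).symm))

theorem sum_sq_div_nrm_image (T : Finset (K → ℂ)) (hT : ∀ θ ∈ T, IsIrrCharacter K θ)
    (hT' : ∀ θ ∈ T, ∀ g, conjBy θ g ∈ T) [DecidableEq (L → ℂ)] :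
    ∑ φ ∈ T.image (indFun K), (φ 1).re ^ 2 / nrm φ = K.index * ∑ θ ∈ T, (θ 1).re ^ 2 := by
  rw [Finset.mul_sum]
  convert sum_image_indFun T hT hT' (fun θ => (K.index : ℝ) * (θ 1).re ^ 2)
    (fun φ => (φ 1).re ^ 2 / nrm φ) (fun θ _ g => by simp) fun θ hθ => ?_
  have h1 : (K.relIndex (inertia θ) : ℝ) ≠ 0 := by
    exact_mod_cast (Core.relIndex_pos _ _).ne'
  rw [indFun_one, nrm_indFun (hT θ hθ)]
  simp only [Complex.mul_re, Complex.natCast_re, Complex.natCast_im, zero_mul, sub_zero,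
    nsmul_eq_mul]
  rw [← relIndex_inertia_mul (hT θ hθ), Nat.cast_mul]
  field_simp

theorem sum_seqInd_sq (A : Subgroup L) [hA : A.Normal] :
    ∑ φ ∈ seqInd K A, (φ 1).re ^ 2 / nrm φ = K.index * ((A.relIndex K : ℝ) - 1) := by
  classical
  have := Fintype.ofFinite K
  rw [seqInd_eq_image, sum_sq_div_nrm_image _ (fun θ hθ => (mem_irrSet.1 hθ).1),
    sum_irrSet_ker_sq']
  · rfl
  · intro θ hθ g
    obtain ⟨h1, h2, h3⟩ := mem_irrSet.1 hθ
    exact mem_irrSet.2 ⟨h1.conjBy g, conjBy_ne_one h2 g, fun n hn => by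
      rw [conjBy_apply_one]; exact h3 _ (hA.conj_mem _ hn g)⟩

omit [Fintype L] hK in
theorem exists_hom_ne_one_of_not_le [Finite L] {A : Subgroup L} [A.Normal]
    (h : ¬ K ≤ ⁅K, K⁆ ⊔ A) :
    ∃ l : K →* ℂˣ, l ≠ 1 ∧ ∀ a : K, (a : L) ∈ A → l a = 1 := by
  obtain ⟨x, hx, hx'⟩ := SetLike.not_le_iff_exists.1 h
  set N : Subgroup K := commutator K ⊔ A.subgroupOf K with hN
  have : N.Normal := inferInstance
  have h1 : ((⟨x, hx⟩ : K) : K ⧸ N) ≠ 1 := by
    rw [Ne, QuotientGroup.eq_one_iff]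
    intro h2
    apply hx'
    have h3 : N.map K.subtype ≤ ⁅K, K⁆ ⊔ A := by
      rw [hN, Subgroup.map_sup, Subgroup.map_subtype_commutator]
      exact sup_le_sup_left (Subgroup.map_le_iff_le_comap.2 le_rfl) _
    exact h3 ⟨_, h2, rfl⟩
  obtain ⟨l, hl⟩ := exists_hom_apply_ne_one (G := K ⧸ N) (fun a b => by
    obtain ⟨a, rfl⟩ := QuotientGroup.mk_surjective a
    obtain ⟨b, rfl⟩ := QuotientGroup.mk_surjective b
    rw [← QuotientGroup.mk_mul, ← QuotientGroup.mk_mul, QuotientGroup.eq]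
    refine Subgroup.mem_sup_left ?_
    have := Subgroup.commutator_mem_commutator (Subgroup.mem_top b⁻¹) (Subgroup.mem_top a⁻¹)
    simpa [commutator_def, commutatorElement_def, mul_assoc] using this) h1
  refine ⟨l.comp (QuotientGroup.mk' N), fun e => hl (DFunLike.congr_fun e _), fun a ha => ?_⟩
  rw [MonoidHom.comp_apply, QuotientGroup.mk'_apply, (QuotientGroup.eq_one_iff a).2
    (Subgroup.mem_sup_right (Subgroup.mem_subgroupOf.2 ha)), map_one]

omit hK in
theorem exists_mem_inducedIrrAbove_of_not_le {A : Subgroup L} [A.Normal]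
    (h : ¬ K ≤ ⁅K, K⁆ ⊔ A) : ∃ φ ∈ inducedIrrAbove K A, φ 1 = K.index := by
  obtain ⟨l, h1, h2⟩ := exists_hom_ne_one_of_not_le h
  refine ⟨_, ⟨_, isIrrCharacter_hom l, fun e => h1 (hom_coe_injective e),
    fun a ha => by simp [h2 a ha], rfl⟩, by simp [indFun_one]⟩

omit [Fintype L] hK in
theorem not_le_commutator_sup_of_solvable [Finite L] (hs : Group.IsSolvable K) {A : Subgroup L}
    [A.Normal] (h : ¬ K ≤ A) : ¬ K ≤ ⁅K, K⁆ ⊔ A := by
  intro h1
  have h2 := Core.isSolvable_map hs (QuotientGroup.mk' A)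
  have h3 : K.map (QuotientGroup.mk' A) ≠ ⊥ := mt Core.map_mk'_eq_bot_iff.1 h
  have h4 := Core.map_mk'_le_map_mk'_iff.2 h1
  rw [Subgroup.map_commutator] at h4
  rw [← Subgroup.nontrivial_iff_ne_bot] at h3
  have h5 := Group.IsSolvable.commutator_lt_top_of_nontrivial (K.map (QuotientGroup.mk' A))
  rw [← Subgroup.map_subtype_lt_map_subtype, Subgroup.map_subtype_commutator,
    ← MonoidHom.range_eq_map, Subgroup.range_subtype] at h5
  exact h5.not_ge h4

omit hK in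
theorem degree_eq_of_commutator_le {A : Subgroup L} (h : ⁅K, K⁆ ≤ A) {φ : L → ℂ}
    (hφ : φ ∈ inducedIrrAbove K A) : φ 1 = K.index := by
  obtain ⟨θ, h1, -, h3, rfl⟩ := hφ
  rw [indFun_one, h1.one_eq_one_of_commutator fun a b => h3 _ (h
    (Subgroup.commutator_mem_commutator a.2 b.2)), mul_one]

omit hK in
theorem exists_degree_of_mem_inducedIrrAbove {A : Subgroup L} {φ : L → ℂ}
    (hφ : φ ∈ inducedIrrAbove K A) : ∃ a : ℕ, 0 < a ∧ φ 1 = a * K.index := by
  obtain ⟨θ, h1, -, -, rfl⟩ := hφ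
  obtain ⟨a, h2, h3⟩ := h1.exists_nat
  exact ⟨a, h2, by rw [indFun_one, h3, mul_comm]⟩

end SumSq

section Groups

omit [Fintype L]

/-- Class counting: a normal subgroup whose non-identity elements have centralisers in `K` has
order `1` modulo the index of `K`. -/
theorem card_modEq_one_of_centralizer_le [Finite L] {K D : Subgroup L} [hD : D.Normal]
    (h : ∀ d ∈ D, d ≠ 1 → Subgroup.centralizer {d} ≤ K) : Nat.card D ≡ 1 [MOD K.index] := by
  classical
  have := Fintype.ofFinite L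
  have h1 : Nat.card D = (Finset.univ.filter fun x => x ∈ D ∧ x ≠ 1).card + 1 := by
    rw [← Finset.card_insert_of_notMem (a := 1) (by simp), Nat.card_eq_fintype_card,
      Fintype.card_subtype]
    congr 1
    ext x
    by_cases hx : x = 1 <;> simp [hx]
  rw [h1]
  refine (Nat.modEq_zero_iff_dvd.2 ?_).add_right 1
  rw [Finset.card_eq_sum_card_image ConjClasses.mk]
  refine Finset.dvd_sum fun C hC => ?_
  obtain ⟨d, hd, rfl⟩ := Finset.mem_image.1 hC
  obtain ⟨hd1, hd2⟩ := (Finset.mem_filter.1 hd).2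
  have h2 := Subgroup.index_dvd_of_le (h d hd1 hd2)
  rw [← card_filter_isConj] at h2
  refine h2.trans (Eq.dvd ?_)
  congr 1
  ext x
  simp only [Finset.mem_filter, Finset.mem_univ, true_and, ConjClasses.mk_eq_mk_iff_isConj]
  refine ⟨fun h3 => ⟨?_, h3.symm⟩, fun h3 => h3.2.symm⟩
  obtain ⟨c, rfl⟩ := isConj_iff.1 h3
  exact ⟨hD.conj_mem d hd1 c, by simpa using hd2⟩

theorem coprime_of_modEq_one {a n : ℕ} (h : a ≡ 1 [MOD n]) : a.Coprime n := by
  unfold Nat.Coprime; rw [h.gcd_eq]; simp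

theorem relIndex_modEq_one_of_card [Finite L] {A D : Subgroup L} (hAD : A ≤ D) {e : ℕ}
    (hA : Nat.card A ≡ 1 [MOD e]) (hD : Nat.card D ≡ 1 [MOD e]) : A.relIndex D ≡ 1 [MOD e] := by
  rw [← Core.card_mul_relIndex hAD] at hD
  simpa using ((hA.mul_right (A.relIndex D)).symm.trans hD)

theorem relIndex_modEq_one_of_frobenius [Finite L] {K H A D : Subgroup L} [H.Normal] [A.Normal]
    [D.Normal] (hHK : H ≤ K) (hfrob : ∀ k ∈ K, k ∉ H → ∀ x : L, x * k * x⁻¹ * k⁻¹ ∈ H → x ∈ K)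
    (hHA : H ≤ A) (hAD : A ≤ D) (hDK : D ≤ K) : A.relIndex D ≡ 1 [MOD K.index] := by
  have key : ∀ (D : Subgroup L) [D.Normal], D ≤ K → H.relIndex D ≡ 1 [MOD K.index] := by
    intro D _ hDK
    have : (D.map (QuotientGroup.mk' H)).Normal :=
      Subgroup.Normal.map inferInstance _ (QuotientGroup.mk'_surjective H)
    have h1 := card_modEq_one_of_centralizer_le (K := K.map (QuotientGroup.mk' H))
      (D := D.map (QuotientGroup.mk' H)) (by
        rintro _ ⟨d, hd, rfl⟩ hd1 x hx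
        obtain ⟨x, rfl⟩ := QuotientGroup.mk_surjective x
        refine ⟨x, hfrob d (hDK hd) (mt (QuotientGroup.eq_one_iff d).2 hd1) x ?_, rfl⟩
        rw [← QuotientGroup.eq_one_iff]
        have := Subgroup.mem_centralizer_singleton_iff.1 hx
        simp only [QuotientGroup.mk'_apply] at this
        simp [this])
    rwa [Core.card_map_mk', Core.index_map_mk', sup_eq_left.2 hHK] at h1
  have h1 := key A (hAD.trans hDK)
  have h2 := key D hDK
  rw [← Subgroup.relIndex_mul_relIndex H A D hHA hAD] at h2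
  simpa using ((h1.mul_right (A.relIndex D)).symm.trans h2)

theorem le_of_modEq_one {a n : ℕ} (h : a ≡ 1 [MOD n]) (h1 : 1 < a) : n + 1 ≤ a := by
  have h2 := Nat.le_of_dvd (by omega) ((Nat.modEq_iff_dvd' h1.le).1 h.symm)
  omega

theorem le_of_modEq_one_of_odd {a n : ℕ} (h : a ≡ 1 [MOD n]) (h1 : 1 < a) (ha : Odd a)
    (hn : Odd n) : 2 * n + 1 ≤ a := by
  refine le_of_modEq_one ((Nat.modEq_and_modEq_iff_modEq_mul ?_).1 ⟨?_, h⟩) h1
  · simpa using hn
  · exact Nat.odd_iff.1 ha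

theorem one_lt_relIndex [Finite L] {A D : Subgroup L} (h : ¬ D ≤ A) : 1 < A.relIndex D := by
  have h1 := Core.relIndex_pos A D
  have h2 := mt Subgroup.relIndex_eq_one.1 h
  omega

theorem isNilpotent_map_mk'_of_le {H M B : Subgroup L} [M.Normal] [B.Normal] (h : M ≤ B)
    (hn : Group.IsNilpotent (H.map (QuotientGroup.mk' M))) :
    Group.IsNilpotent (H.map (QuotientGroup.mk' B)) := by
  have := Core.isNilpotent_map hn (QuotientGroup.map M B (MonoidHom.id L) h)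
  rwa [Subgroup.map_map] at this

theorem isNilpotent_map_mk'_of_quotient {H M : Subgroup L} [M.Normal] [(M.subgroupOf H).Normal]
    (hn : Group.IsNilpotent (H ⧸ M.subgroupOf H)) :
    Group.IsNilpotent (H.map (QuotientGroup.mk' M)) :=
  Core.isNilpotent_of_injective (f := (Core.quotientSubgroupOfEquivMap H M).symm.toMonoidHom)
    (MulEquiv.injective _)

/-- A chief factor inside a nilpotent section is central. -/
theorem commutator_le_of_chief {H A B : Subgroup L} [H.Normal] [A.Normal] [B.Normal]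
    (hn : Group.IsNilpotent (H.map (QuotientGroup.mk' B))) (hAH : A ≤ H) (hBA : B < A)
    (hmax : ∀ C : Subgroup L, C.Normal → B ≤ C → C < A → C = B) : ⁅A, H⁆ ≤ B := by
  have h1 := Core.not_le_commutator_of_isNilpotent hn (Subgroup.map_mono hAH) le_rfl
    (mt Core.map_mk'_eq_bot_iff.1 hBA.not_ge)
  rw [← Subgroup.map_commutator, Core.map_mk'_le_map_mk'_iff] at h1
  have h2 := hmax (⁅A, H⁆ ⊔ B) inferInstance le_sup_right
    (lt_of_le_not_ge (sup_le (Subgroup.commutator_le_left A H) hBA.le) h1)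
  exact h2 ▸ le_sup_left

theorem isMinNormal_map_of_chief {A B : Subgroup L} [hA : A.Normal] [B.Normal] (hBA : B < A)
    (hmax : ∀ C : Subgroup L, C.Normal → B ≤ C → C < A → C = B) :
    Core.IsMinNormal (A.map (QuotientGroup.mk' B)) := by
  refine ⟨hA.map _ (QuotientGroup.mk'_surjective B), mt Core.map_mk'_eq_bot_iff.1 hBA.not_ge,
    fun C hC hCA => ?_⟩
  have h1 : C.comap (QuotientGroup.mk' B) ≤ A := by
    have := Subgroup.comap_mono (f := QuotientGroup.mk' B) hCA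
    rwa [Core.comap_map_mk'', sup_eq_left.2 hBA.le] at this
  rcases h1.lt_or_eq with h2 | h2
  · left
    rw [← Core.map_comap_mk' B C, hmax _ (hC.comap _) (Core.le_comap_mk' B C) h2]
    exact Core.map_mk'_eq_bot_iff.2 le_rfl
  · right
    rw [← h2, Core.map_comap_mk']

theorem exists_relIndex_eq_pow_of_chief [Finite L] {A B : Subgroup L} [A.Normal] [B.Normal]
    (hBA : B < A) (hmax : ∀ C : Subgroup L, C.Normal → B ≤ C → C < A → C = B)
    (hc : ⁅A, A⁆ ≤ B) : ∃ p k : ℕ, p.Prime ∧ B.relIndex A = p ^ k := by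
  obtain ⟨p, hp, h⟩ := (isMinNormal_map_of_chief hBA hmax).exists_isPGroup
    (Core.isSolvable_of_comm' (Core.isMulCommutative_map_mk'_iff.2 hc))
  have := Fact.mk hp
  obtain ⟨k, hk⟩ := IsPGroup.iff_card.1 h
  exact ⟨p, k, hp, by rw [← hk, Core.card_map_mk']⟩

theorem prime_dvd_relIndex_commutator [Finite L] {K M : Subgroup L} [M.Normal] (hMK : M ≤ K)
    (hn : Group.IsNilpotent (K.map (QuotientGroup.mk' M))) {q : ℕ} (hq : q.Prime)
    (h : q ∣ M.relIndex K) : q ∣ (⁅K, K⁆ ⊔ M).relIndex K := by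
  rw [← Core.card_map_mk'] at h
  have h1 := Core.prime_dvd_index_of_le_frattini Core.commutator_le_frattini_of_isNilpotent hq h
  rw [← Core.map_subtype_subgroupOf (commutator _), Subgroup.map_subtype_commutator,
    ← Subgroup.map_commutator] at h1
  change q ∣ Subgroup.relIndex _ _ at h1
  rwa [Subgroup.relIndex_map_map, QuotientGroup.ker_mk', sup_eq_left.2 hMK] at h1

theorem prime_dvd_card_center [Finite L] [Group.IsNilpotent L] {q : ℕ} (hq : q.Prime)
    (h : q ∣ Nat.card L) : q ∣ Nat.card (Subgroup.center L) := by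
  have := Fact.mk hq
  have h1 : pCore q L ≠ ⊥ := by
    intro h1
    have := Core.not_dvd_index_pCore_of_isNilpotent (G := L) q
    rw [h1, Subgroup.index_bot] at this
    exact this h
  exact (Core.dvd_card_of_isPGroup_of_ne_bot ((Core.pCore_isPGroup q).to_inf_left)
    (Core.inf_center_ne_bot h1)).trans (Subgroup.card_dvd_of_le inf_le_right)

theorem eq_pow_of_forall_prime_dvd {n m p k : ℕ} (hn : n ≠ 0) (hp : p.Prime) (hm : m ∣ p ^ k)
    (h : ∀ q : ℕ, q.Prime → q ∣ n → q ∣ m) : ∃ j, n = p ^ j :=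
  ⟨_, Nat.eq_prime_pow_of_unique_prime_dvd hn fun {q} hq hqn =>
    (Nat.prime_dvd_prime_iff_eq hq hp).1 (hq.dvd_of_dvd_pow ((h q hq hqn).trans hm))⟩

/-- Descending induction along a chief series. -/
theorem chief_induction [Finite L] {P : Subgroup L → Prop} {M H₁ : Subgroup L} [M.Normal]
    [hH : H₁.Normal] (hMH : M ≤ H₁) (h1 : P H₁)
    (step : ∀ (A B : Subgroup L) [A.Normal] [B.Normal], M ≤ B → B < A → A ≤ H₁ →
      (∀ C : Subgroup L, C.Normal → B ≤ C → C < A → C = B) → P A → P B) : P M := by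
  obtain ⟨A, hA, ⟨h2, h3, h4⟩, h5⟩ := Core.exists_minimal_le
    (P := fun A => A.Normal ∧ M ≤ A ∧ P A) ⟨hH, hMH, h1⟩
  rcases h3.lt_or_eq with h6 | rfl
  · obtain ⟨B, hB, ⟨h7, h8⟩, h9⟩ := Core.exists_maximal_ge
      (P := fun B => B.Normal ∧ B < A) (H := M) ⟨inferInstance, h6⟩
    exact absurd (h5 B ⟨h7, hB, step A B hB h8 hA (fun C hC h10 h11 => h9 C ⟨hC, h11⟩ h10) h4⟩
      h8.le) h8.ne
  · exact h4

end Groups

section Six

variable {K : Subgroup L} [hK : K.Normal] {τ : CMap L G}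

/-- Peterfalvi (6.2). -/
theorem PreCoh.cohWith_of_bound (h : PreCoh (inducedIrrAbove K ⊥) τ) {A B C D : Subgroup L}
    [A.Normal] (hA : ¬ K ≤ ⁅K, K⁆ ⊔ A) (hDC : D ≤ C) (hCK : C ≤ K)
    (hcent : ∀ x ∈ D, ∀ y ∈ C, x * y * x⁻¹ * y⁻¹ ∈ B) {ν : CMap L G}
    (hν : CohWith (inducedIrrAbove K A) τ ν)
    (hlt : 4 * C.index ^ 2 * D.relIndex C < (A.relIndex K - 1) ^ 2) :
    CohWith (inducedIrrAbove K A ∪ inducedIrrAbove K B) τ ν := by
  obtain ⟨φ₁, h1, h2⟩ := exists_mem_inducedIrrAbove_of_not_le hA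
  rw [← coe_seqInd A] at hν ⊢
  refine h.extend (by simpa using inducedIrrAbove_anti bot_le)
    (fun φ hφ => mem_seqInd.2 (conjFun_mem_inducedIrrAbove (mem_seqInd.1 hφ))) hν
    (mem_seqInd.2 h1) (inducedIrrAbove_anti bot_le) fun χ hχ _ => ⟨?_, ?_⟩
  · obtain ⟨a, -, ha⟩ := exists_degree_of_mem_inducedIrrAbove hχ
    exact ⟨a, by rw [ha, h2]⟩
  obtain ⟨θ, h3, -, h4, rfl⟩ := hχ
  have h5 := h3.degree_sq_le_of_central (B := B.subgroupOf K) (C := C.subgroupOf K)
    (D := D.subgroupOf K) (Subgroup.comap_mono hDC) (fun d hd c hc => hcent _ hd _ hc) h4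
  obtain ⟨d, -, hd⟩ := h3.exists_nat
  rw [hd, Core.card_subgroupOf_of_le (hDC.trans hCK), Core.card_subgroupOf_of_le hCK,
    ← Core.card_mul_relIndex hDC, Complex.norm_natCast] at h5
  have h6 : d ^ 2 * Nat.card D ≤ C.relIndex K ^ 2 * D.relIndex C * Nat.card D := by
    have : d ^ 2 * Nat.card D ≤ C.relIndex K ^ 2 * (Nat.card D * D.relIndex C) := by
      exact_mod_cast h5
    linarith
  have h7 := Nat.le_of_mul_le_mul_right h6 Nat.card_pos
  rw [← Subgroup.relIndex_mul_index hCK] at hlt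
  have h8 : (2 * K.index * d) ^ 2 < (A.relIndex K - 1) ^ 2 := by
    refine lt_of_le_of_lt ?_ hlt
    calc (2 * K.index * d) ^ 2 = 4 * K.index ^ 2 * d ^ 2 := by ring
      _ ≤ 4 * K.index ^ 2 * (C.relIndex K ^ 2 * D.relIndex C) := by gcongr
      _ = _ := by ring
  have h9 := lt_of_pow_lt_pow_left₀ 2 (Nat.zero_le _) h8
  have h10 : (2 * K.index * d : ℝ) < A.relIndex K - 1 := by
    have : ((2 * K.index * d : ℕ) : ℝ) < ((A.relIndex K - 1 : ℕ) : ℝ) := by exact_mod_cast h9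
    rw [Nat.cast_sub (Core.relIndex_pos A K)] at this
    exact_mod_cast this
  have h11 : (0 : ℝ) < K.index := by exact_mod_cast Core.index_pos K
  rw [sum_seqInd_sq, indFun_one, hd, h2]
  simp only [Complex.mul_re, Complex.natCast_re, Complex.natCast_im, mul_zero, sub_zero]
  nlinarith

theorem PreCoh.coh_of_bound (h : PreCoh (inducedIrrAbove K ⊥) τ) {A B C D : Subgroup L}
    [A.Normal] (hA : ¬ K ≤ ⁅K, K⁆ ⊔ A) (hDC : D ≤ C) (hCK : C ≤ K)
    (hcent : ∀ x ∈ D, ∀ y ∈ C, x * y * x⁻¹ * y⁻¹ ∈ B) (hν : Coh (inducedIrrAbove K A) τ)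
    (hlt : 4 * C.index ^ 2 * D.relIndex C < (A.relIndex K - 1) ^ 2) :
    Coh (inducedIrrAbove K B) τ :=
  let ⟨ν, hν⟩ := hν
  ⟨ν, (h.cohWith_of_bound hA hDC hCK hcent hν hlt).mono Set.subset_union_right⟩

/-- Peterfalvi (6.3). -/
theorem PreCoh.coh_of_nilpotent (h : PreCoh (inducedIrrAbove K ⊥) τ) {M H₁ H : Subgroup L}
    [M.Normal] [H₁.Normal] [H.Normal] (hK' : ¬ K ≤ ⁅K, K⁆ ⊔ H₁) (hMH : M ≤ H₁) (hH₁ : H₁ ≤ H)
    (hHK : H ≤ K) (hn : Group.IsNilpotent (H.map (QuotientGroup.mk' M)))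
    (hcoh : Coh (inducedIrrAbove K H₁) τ) (hbig : 4 * K.index ^ 2 + 1 < H₁.relIndex H) :
    Coh (inducedIrrAbove K M) τ := by
  refine chief_induction (P := fun A => Coh (inducedIrrAbove K A) τ) hMH hcoh
    fun A B _ _ hMB hBA hA hmax hcoh => ?_
  have h1 := commutator_le_of_chief (isNilpotent_map_mk'_of_le hMB hn) (hA.trans hH₁) hBA hmax
  refine h.coh_of_bound (fun h2 => hK' (h2.trans (sup_le_sup_left hA _))) (hA.trans hH₁) hHK
    (fun x hx y hy => h1 (Subgroup.commutator_mem_commutator hx hy)) hcoh ?_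
  rw [← Subgroup.relIndex_mul_index hHK, ← Subgroup.relIndex_mul_relIndex A H K (hA.trans hH₁) hHK]
  have h2 : H₁.relIndex H ≤ A.relIndex H :=
    Nat.le_of_dvd (Core.relIndex_pos _ _) (Subgroup.relIndex_dvd_of_le_left _ hA)
  have h3 := Core.relIndex_pos H K
  set x := A.relIndex H
  set k := H.relIndex K
  set e := K.index
  have h4 : 1 ≤ x * k := Nat.mul_pos (by omega) h3
  zify [h4] at *
  have h5 : (0 : ℤ) ≤ k ^ 2 * x * (x - 2 - 4 * e ^ 2) := by
    have : (0 : ℤ) ≤ x - 2 - 4 * e ^ 2 := by omega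
    positivity
  have h6 : (0 : ℤ) ≤ x * k * (k - 1) := by
    have : (0 : ℤ) ≤ k - 1 := by omega
    positivity
  nlinarith

omit hK in
theorem PreCoh.coh_of_commutator_le (h : PreCoh (inducedIrrAbove K ⊥) τ) {A : Subgroup L}
    (hA : ⁅K, K⁆ ≤ A) : Coh (inducedIrrAbove K A) τ :=
  h.unif _ (inducedIrrAbove_anti bot_le) (fun _ => conjFun_mem_inducedIrrAbove)
    fun _ hφ _ hψ => (degree_eq_of_commutator_le hA hφ).trans
      (degree_eq_of_commutator_le hA hψ).symm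

/-- Peterfalvi (6.5). -/
theorem PreCoh.non_coherent_chief (h : PreCoh (inducedIrrAbove K ⊥) τ) (hodd : Odd (Nat.card L))
    {M : Subgroup L} [M.Normal] (hMK : M ≤ K)
    (hn : Group.IsNilpotent (K.map (QuotientGroup.mk' M))) (hK' : ¬ K ≤ ⁅K, K⁆ ⊔ M)
    (hfrob : ∀ k ∈ K, k ∉ ⁅K, K⁆ ⊔ M → ∀ x : L, x * k * x⁻¹ * k⁻¹ ∈ ⁅K, K⁆ ⊔ M → x ∈ K)
    (hnc : ¬ Coh (inducedIrrAbove K M) τ) :
    (∀ N : Subgroup L, N.Normal → ⁅K, K⁆ ⊔ M ≤ N → N < K → N = ⁅K, K⁆ ⊔ M) ∧
    (⁅K, K⁆ ⊔ M).relIndex K ≤ 4 * K.index ^ 2 + 1 ∧ ¬ ⁅K, K⁆ ≤ M ∧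
    ∃ p m : ℕ, p.Prime ∧ M.relIndex K = p ^ m ∧ ¬ K.index ∣ p - 1 := by
  set H₁ := ⁅K, K⁆ ⊔ M with hH₁
  have hH₁K : H₁ ≤ K := sup_le (Subgroup.commutator_le_left K K) hMK
  have h1 : H₁.relIndex K ≤ 4 * K.index ^ 2 + 1 := by
    by_contra h1
    exact hnc (h.coh_of_nilpotent (H₁ := H₁) (by rwa [hH₁, ← sup_assoc, sup_idem]) le_sup_right
      hH₁K le_rfl hn (h.coh_of_commutator_le le_sup_left) (not_le.1 h1))
  have h2 : ¬ ⁅K, K⁆ ≤ M := fun h2 => hnc (h.coh_of_commutator_le h2)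
  have hoe : Odd K.index := hodd.of_dvd_nat K.index_dvd_card
  have hor : ∀ A B : Subgroup L, Odd (A.relIndex B) := fun A B =>
    hodd.of_dvd_nat ((Subgroup.relIndex_dvd_card A B).trans (Subgroup.card_subgroup_dvd_card B))
  have he := Core.index_pos K
  have h3 : ∀ N : Subgroup L, N.Normal → H₁ ≤ N → N < K → N = H₁ := by
    intro N _ h3 h4
    by_contra h5
    have h6 := le_of_modEq_one_of_odd (relIndex_modEq_one_of_frobenius hH₁K hfrob le_rfl h3 h4.le)
      (one_lt_relIndex fun h6 => h5 (h6.antisymm h3)) (hor _ _) hoe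
    have h7 := le_of_modEq_one_of_odd (relIndex_modEq_one_of_frobenius hH₁K hfrob h3 h4.le le_rfl)
      (one_lt_relIndex h4.not_ge) (hor _ _) hoe
    rw [← Subgroup.relIndex_mul_relIndex H₁ N K h3 h4.le] at h1
    nlinarith [Nat.mul_le_mul h6 h7]
  obtain ⟨p, k, hp, hk⟩ := exists_relIndex_eq_pow_of_chief (lt_of_le_not_ge hH₁K hK') h3 le_sup_left
  obtain ⟨m, hm⟩ := eq_pow_of_forall_prime_dvd (Core.relIndex_pos M K).ne' hp hk.dvd
    fun q hq => prime_dvd_relIndex_commutator hMK hn hq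
  refine ⟨h3, h1, h2, p, m, hp, hm, fun h4 => ?_⟩
  have h5 := one_lt_relIndex hK'
  have h6 : k ≠ 0 := by rintro rfl; rw [hk] at h5; simp at h5
  have h7 : Odd p := (hor H₁ K).of_dvd_nat (hk ▸ dvd_pow_self p h6)
  have h8 := le_of_modEq_one_of_odd ((Nat.modEq_iff_dvd' hp.one_le).2 h4).symm hp.one_lt h7 hoe
  have h9 : k = 1 := by
    by_contra h9
    have : p ^ 2 ≤ p ^ k := Nat.pow_le_pow_right hp.pos (by omega)
    nlinarith [Nat.mul_le_mul h8 h8]
  rw [h9, pow_one] at hk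
  obtain ⟨x, hx, hx'⟩ := SetLike.not_le_iff_exists.1 hK'
  have h10 : H₁ ⊔ Subgroup.zpowers x = K := by
    refine (Core.eq_or_eq_of_relIndex_prime hp hk le_sup_left
      (sup_le hH₁K (by simpa using hx))).resolve_left fun e => hx' ?_
    rw [← e]; exact Subgroup.mem_sup_right (Subgroup.mem_zpowers x)
  have h11 := Core.eq_of_sup_commutator_eq hn
    (H := (Subgroup.zpowers x).map (QuotientGroup.mk' M)) (Subgroup.map_mono (by simpa using hx))
    (by
      rw [← Subgroup.map_commutator, ← Subgroup.map_sup, Core.map_mk'_le_map_mk'_iff, sup_assoc,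
        sup_comm, h10])
  refine h2 (Core.isMulCommutative_map_mk'_iff.1 ?_)
  rw [← h11]
  exact Core.isMulCommutative_map' (Core.isMulCommutative_zpowers x) _

/-- The main step of Peterfalvi (6.6). -/
theorem PreCoh.coh_sdiff_of_isPGroup (h : PreCoh (inducedIrrAbove K ⊥) τ) {p : ℕ} (hp : p.Prime)
    (hp3 : 3 ≤ p) (hKp : ∃ m, Nat.card K = p ^ m) (hcop : K.index.Coprime p) {Z : Subgroup L}
    [Z.Normal] (hZK : Z ≤ K) (hZc : ∀ z ∈ Z, ∀ k ∈ K, z * k = k * z)
    (hirr : ∀ χ ∈ inducedIrrAbove K ⊥ \ inducedIrrAbove K Z, IsIrrCharacter L χ) :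
    Coh (inducedIrrAbove K ⊥ \ inducedIrrAbove K Z) τ := by
  classical
  set X := seqInd K ⊥ \ seqInd K Z with hX
  have hX' : (X : Set (L → ℂ)) = inducedIrrAbove K ⊥ \ inducedIrrAbove K Z := by simp [hX]
  rw [← hX'] at hirr ⊢
  have hXS : (X : Set (L → ℂ)) ⊆ inducedIrrAbove K ⊥ := hX' ▸ Set.sdiff_subset
  obtain ⟨m, hm⟩ := hKp
  have hdeg : ∀ φ ∈ X, ∃ i : ℕ, φ 1 = (K.index * p ^ i : ℕ) ∧ p ^ (2 * i) ∣ Z.relIndex K := by
    intro φ hφ
    obtain ⟨θ, h1, -, -, rfl⟩ := hXS hφ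
    obtain ⟨d, -, hd⟩ := h1.exists_nat
    obtain ⟨i, -, rfl⟩ := (Nat.dvd_prime_pow hp).1 (hm ▸ h1.degree_dvd_card hd)
    refine ⟨i, by rw [indFun_one, hd, Nat.cast_mul], ?_⟩
    obtain ⟨j, -, hj⟩ := (Nat.dvd_prime_pow hp).1 (hm ▸ Subgroup.relIndex_dvd_card Z K)
    have h2 := h1.sq_mul_card_le (Z.subgroupOf K) fun z hz =>
      h1.norm_eq_of_comm fun k => Subtype.ext (hZc _ hz _ k.2)
    rw [hd, Core.card_subgroupOf_of_le hZK, ← Core.card_mul_relIndex hZK, hj,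
      Complex.norm_natCast] at h2
    have h3 : p ^ (2 * i) * Nat.card Z ≤ p ^ j * Nat.card Z := by
      have : (p ^ i) ^ 2 * Nat.card Z ≤ Nat.card Z * p ^ j := by exact_mod_cast h2
      rw [mul_comm 2 i, pow_mul]; linarith
    rw [hj]
    exact pow_dvd_pow p ((Nat.pow_le_pow_iff_right hp.one_lt).1
      (Nat.le_of_mul_le_mul_right h3 Nat.card_pos))
  choose! i hi hi' using hdeg
  have hXc : ∀ φ ∈ X, conjFun φ ∈ X := by
    intro φ hφ
    rw [← Finset.mem_coe, hX'] at hφ ⊢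
    exact ⟨conjFun_mem_inducedIrrAbove hφ.1, fun h2 => hφ.2 (by
      simpa using conjFun_mem_inducedIrrAbove h2)⟩
  have he := Core.index_pos K
  have hic : ∀ φ ∈ X, i (conjFun φ) = i φ := by
    intro φ hφ
    have h1 := hi _ (hXc φ hφ)
    rw [(h.char φ (hXS hφ)).conjFun_one, hi φ hφ, Nat.cast_inj] at h1
    exact (Nat.pow_right_injective hp.two_le (Nat.eq_of_mul_eq_mul_left he h1)).symm
  rcases X.eq_empty_or_nonempty with h0 | h0
  · rw [h0, Finset.coe_empty]; exact coh_empty τ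
  obtain ⟨φ₁, hφ₁, hmin⟩ := X.exists_min_image i h0
  have hsum : ∑ φ ∈ X, (K.index * p ^ i φ) ^ 2 + K.index * Z.relIndex K =
      K.index * Nat.card K := by
    have h1 := Finset.sum_sdiff (f := fun φ : L → ℂ => (φ 1).re ^ 2 / nrm φ)
      (s₁ := seqInd K Z) (s₂ := seqInd K ⊥) fun φ hφ =>
        mem_seqInd.2 (inducedIrrAbove_anti bot_le (mem_seqInd.1 hφ))
    rw [sum_seqInd_sq, sum_seqInd_sq, Subgroup.relIndex_bot_left, ← hX,
      Finset.sum_congr rfl (g := fun φ => (((K.index * p ^ i φ) ^ 2 : ℕ) : ℝ)) fun φ hφ => by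
        rw [hi φ hφ, (hirr φ hφ).nrm_eq, div_one, Complex.natCast_re, Nat.cast_pow]] at h1
    have h2 : ((∑ φ ∈ X, (K.index * p ^ i φ) ^ 2 + K.index * Z.relIndex K : ℕ) : ℝ) =
        ((K.index * Nat.card K : ℕ) : ℝ) := by
      rw [Nat.cast_add, Nat.cast_sum, Nat.cast_mul, Nat.cast_mul]
      linarith
    exact_mod_cast h2
  obtain ⟨ν, hν⟩ := h.unif (X.filter fun φ => i φ ≤ i φ₁) (fun φ hφ => hXS (by
      exact (Finset.mem_filter.1 hφ).1)) (fun φ hφ => by
      rw [Finset.mem_coe, Finset.mem_filter] at hφ ⊢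
      exact ⟨hXc φ hφ.1, by rw [hic φ hφ.1]; exact hφ.2⟩) (fun φ hφ ψ hψ => by
      rw [Finset.mem_coe, Finset.mem_filter] at hφ hψ
      rw [hi φ hφ.1, hi ψ hψ.1, hφ.2.antisymm (hmin φ hφ.1), hψ.2.antisymm (hmin ψ hψ.1)])
  have key : ∀ n, CohWith (X.filter fun φ => i φ ≤ i φ₁ + n) τ ν := by
    intro n
    induction n with
    | zero => exact hν
    | succ n ih =>
      refine (h.extend (T := X.filter fun φ => i φ ≤ i φ₁ + (n + 1))
        (fun φ hφ => hXS (Finset.mem_filter.1 hφ).1) (fun φ hφ => ?_) ih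
        (Finset.mem_filter.2 ⟨hφ₁, by omega⟩) (fun φ hφ => hXS (Finset.mem_filter.1 hφ).1)
        fun χ hχ hχ' => ?_).mono Set.subset_union_right
      · rw [Finset.mem_filter] at hφ ⊢
        exact ⟨hXc φ hφ.1, by rw [hic φ hφ.1]; exact hφ.2⟩
      rw [Finset.mem_coe, Finset.mem_filter] at hχ
      have h1 : i χ = i φ₁ + (n + 1) := by
        have := mt (fun h => Finset.mem_filter.2 ⟨hχ.1, h⟩) hχ'
        omega
      refine ⟨⟨p ^ (n + 1), by rw [hi χ hχ.1, hi φ₁ hφ₁, h1]; push_cast; ring⟩, ?_⟩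
      set s := ∑ φ ∈ X.filter fun φ => i φ ≤ i φ₁ + n, (K.index * p ^ i φ) ^ 2 with hs
      have h2 : ∑ φ ∈ X.filter fun φ => i φ ≤ i φ₁ + n, (φ 1).re ^ 2 / nrm φ = s := by
        rw [hs, Nat.cast_sum]
        refine Finset.sum_congr rfl fun φ hφ => ?_
        have h2 := (Finset.mem_filter.1 hφ).1
        rw [hi φ h2, (hirr φ h2).nrm_eq, div_one, Complex.natCast_re, Nat.cast_pow]
      have h3 : K.index ^ 2 ∣ s := Finset.dvd_sum fun φ _ => pow_dvd_pow_of_dvd (dvd_mul_right _ _) 2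
      have h4 : p ^ (2 * i χ) ∣ s := by
        rw [← Finset.sum_filter_add_sum_filter_not X fun φ => i φ ≤ i φ₁ + n, ← hs,
          add_assoc] at hsum
        refine (Nat.dvd_add_left ?_).1 (hsum ▸ ((hi' χ hχ.1).trans
          (Subgroup.relIndex_dvd_card Z K)).mul_left _)
        refine dvd_add (Finset.dvd_sum fun φ hφ => ?_) ((hi' χ hχ.1).mul_left _)
        have := (Finset.mem_filter.1 hφ).2
        rw [mul_pow, ← pow_mul]
        exact (pow_dvd_pow p (by omega)).mul_left _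
      have h5 : 0 < s := Finset.sum_pos' (fun _ _ => Nat.zero_le _)
        ⟨φ₁, Finset.mem_filter.2 ⟨hφ₁, by omega⟩, by have := hp.pos; positivity⟩
      have h6 := Nat.le_of_dvd h5 ((hcop.pow 2 (2 * i χ)).mul_dvd_of_dvd_of_dvd h3 h4)
      rw [h2, hi χ hχ.1, hi φ₁ hφ₁, Complex.natCast_re, Complex.natCast_re]
      have h7 : 2 * (K.index * p ^ i χ) * (K.index * p ^ i φ₁) < s := by
        refine lt_of_lt_of_le ?_ h6
        have h8 : 3 ≤ p ^ (n + 1) := hp3.trans (Nat.le_self_pow (by omega) p)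
        have h9 : 0 < K.index ^ 2 * p ^ i χ * p ^ i φ₁ := by have := hp.pos; positivity
        calc 2 * (K.index * p ^ i χ) * (K.index * p ^ i φ₁)
            = (K.index ^ 2 * p ^ i χ * p ^ i φ₁) * 2 := by ring
          _ < (K.index ^ 2 * p ^ i χ * p ^ i φ₁) * p ^ (n + 1) := by gcongr; omega
          _ = _ := by rw [h1]; ring
      exact_mod_cast h7
  refine ⟨ν, (key (X.sup i)).mono fun φ hφ => Finset.mem_filter.2 ⟨hφ, ?_⟩⟩
  exact (Finset.le_sup (f := i) hφ).trans (Nat.le_add_left _ _)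

omit hK in
theorem inducedIrrAbove_sdiff_eq {Z : Subgroup L} [Z.Normal] (hZK : Z ≤ K)
    (hirr : ∀ χ ∈ inducedIrrAbove K ⊥ \ inducedIrrAbove K Z, IsIrrCharacter L χ) :
    inducedIrrAbove K ⊥ \ inducedIrrAbove K Z =
      {χ | IsIrrCharacter L χ ∧ ∃ z ∈ Z, χ z ≠ χ 1} := by
  have := Fintype.ofFinite K
  ext χ
  refine ⟨fun hχ => ⟨hirr χ hχ, ?_⟩, ?_⟩
  · obtain ⟨⟨θ, h1, h2, -, rfl⟩, h3⟩ := hχ
    by_contra h4
    push Not at h4
    exact h3 ⟨θ, h1, h2, fun a ha => h1.apply_eq_of_indFun (h4 a ha), rfl⟩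
  · rintro ⟨h1, z, hz, h2⟩
    obtain ⟨θ, h3, h4⟩ := h1.exists_restrict_constituent (N := K)
    rw [← classInner_indFun_right _ _ h1.isClassFunction, Ne, classInner_eq_zero_comm] at h4
    have h5 : indFun K θ z ≠ indFun K θ 1 :=
      fun e => h2 (h3.isCharacter.indFun.apply_eq_of_constituent h1 h4 e)
    have h6 : indFun K θ ∈ inducedIrrAbove K ⊥ \ inducedIrrAbove K Z := by
      refine ⟨⟨θ, h3, ?_, fun a ha => by rw [show a = 1 from Subtype.ext ha], rfl⟩, ?_⟩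
      · rintro rfl
        exact h5 (indFun_apply_eq_of_ker hZK (fun _ _ => rfl) hz)
      · rintro ⟨θ', -, -, h6, e⟩
        rw [e] at h5
        exact h5 (indFun_apply_eq_of_ker hZK h6 hz)
    rw [← (hirr _ h6).eq_of_classInner_ne_zero h1 h4]
    exact h6

/-- Peterfalvi (6.6). -/
theorem PreCoh.coh_sdiff (h : PreCoh (inducedIrrAbove K ⊥) τ) (hodd : Odd (Nat.card L))
    (hn : Group.IsNilpotent K) (hK' : ¬ K ≤ ⁅K, K⁆)
    (hfrob : ∀ k ∈ K, k ∉ ⁅K, K⁆ → ∀ x : L, x * k * x⁻¹ * k⁻¹ ∈ ⁅K, K⁆ → x ∈ K)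
    {Z : Subgroup L} [Z.Normal] (hZK : Z ≤ K) (hZc : ∀ z ∈ Z, ∀ k ∈ K, z * k = k * z)
    (hirr : ∀ χ ∈ inducedIrrAbove K ⊥ \ inducedIrrAbove K Z, IsIrrCharacter L χ) :
    Coh (inducedIrrAbove K ⊥ \ inducedIrrAbove K Z) τ := by
  by_cases hc : Coh (inducedIrrAbove K ⊥) τ
  · exact hc.mono Set.sdiff_subset
  obtain ⟨-, -, -, p, m, hp, hm, -⟩ := h.non_coherent_chief hodd (M := ⊥) bot_le
    (Core.isNilpotent_map hn _) (by simpa using hK') (by simpa using hfrob) hc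
  rw [Subgroup.relIndex_bot_left] at hm
  have h1 : m ≠ 0 := by
    rintro rfl
    exact hK' (by rw [Subgroup.card_eq_one.1 hm]; exact bot_le)
  have h2 : p ∣ Nat.card K := hm ▸ dvd_pow_self p h1
  have h3 : Odd p := hodd.of_dvd_nat (h2.trans (Subgroup.card_subgroup_dvd_card K))
  have h4 := prime_dvd_relIndex_commutator (M := ⊥) bot_le (Core.isNilpotent_map hn _) hp
    (by rwa [Subgroup.relIndex_bot_left])
  rw [sup_bot_eq] at h4
  have h5 := coprime_of_modEq_one (relIndex_modEq_one_of_frobenius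
    (Subgroup.commutator_le_left K K) hfrob le_rfl (Subgroup.commutator_le_left K K) le_rfl)
  refine h.coh_sdiff_of_isPGroup hp ?_ ⟨m, hm⟩ (h5.coprime_dvd_left h4).symm hZK hZc hirr
  have := hp.two_le
  obtain ⟨k, rfl⟩ := h3
  omega

/-- Feit's coherence theorem for a Frobenius group with nilpotent kernel. -/
theorem PreCoh.feit (h : PreCoh (inducedIrrAbove K ⊥) τ) (hn : Group.IsNilpotent K)
    (hK1 : K ≠ ⊥) (hK2 : K ≠ ⊤) (hC : ∀ k ∈ K, k ≠ 1 → Subgroup.centralizer {k} ≤ K) :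
    Coh (inducedIrrAbove K ⊥) τ ∨ ∃ p : ℕ, p.Prime ∧ (∃ m, Nat.card K = p ^ m) ∧ ⁅K, K⁆ ≠ ⊥ ∧
      ⁅K, K⁆.relIndex K ≤ 4 * K.index ^ 2 + 1 := by
  by_contra hc
  push Not at hc
  obtain ⟨hc1, hc2⟩ := hc
  have hK' : ¬ K ≤ ⁅K, K⁆ := Core.not_le_commutator_of_isNilpotent hn le_rfl le_rfl hK1
  have hn' := Core.isNilpotent_map hn (QuotientGroup.mk' ⊥)
  have h1 : ⁅K, K⁆ ≠ ⊥ := fun h1 => hc1 (h.coh_of_commutator_le h1.le)
  have h2 : ⁅K, K⁆.relIndex K ≤ 4 * K.index ^ 2 + 1 := by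
    by_contra h2
    exact hc1 (h.coh_of_nilpotent (H₁ := ⁅K, K⁆) (by rwa [sup_idem]) bot_le
      (Subgroup.commutator_le_left K K) le_rfl hn' (h.coh_of_commutator_le le_rfl) (not_le.1 h2))
  have hmod : ∀ (A D : Subgroup L) [A.Normal] [D.Normal], A ≤ D → D ≤ K → ¬ D ≤ A →
      K.index + 1 ≤ A.relIndex D := fun A D _ _ h3 h4 h5 =>
    le_of_modEq_one (relIndex_modEq_one_of_card h3
      (card_modEq_one_of_centralizer_le fun d hd => hC d (h4 (h3 hd)))
      (card_modEq_one_of_centralizer_le fun d hd => hC d (h4 hd))) (one_lt_relIndex h5)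
  refine hc1 (chief_induction (P := fun A => Coh (inducedIrrAbove K A) τ) (H₁ := ⁅K, K⁆) bot_le
    (h.coh_of_commutator_le le_rfl) fun A B _ _ _ hBA hA hmax hcoh => ?_)
  have hAK := hA.trans (Subgroup.commutator_le_left K K)
  have hnB := isNilpotent_map_mk'_of_le (bot_le (a := B)) hn'
  have h3 := commutator_le_of_chief hnB hAK hBA hmax
  set Kb := K.map (QuotientGroup.mk' B) with hKb
  have : Kb.Normal := hK.map _ (QuotientGroup.mk'_surjective B)
  set D := ((Subgroup.center Kb).map Kb.subtype).comap (QuotientGroup.mk' B) with hD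
  have hDn : D.Normal := Subgroup.Normal.comap inferInstance _
  have hBK : B ≤ K := hBA.le.trans hAK
  have hmem : ∀ x, x ∈ D ↔ x ∈ K ∧ ∀ y ∈ K, x * y * x⁻¹ * y⁻¹ ∈ B := by
    intro x
    rw [hD, Core.map_subtype_center, Subgroup.mem_comap, Subgroup.mem_inf, QuotientGroup.mk'_apply,
      hKb, Core.mem_map_mk'_iff, sup_eq_left.2 hBK, Subgroup.mem_centralizer_iff]
    refine and_congr_right fun _ => ⟨fun h4 y hy => ?_, ?_⟩
    · rw [← QuotientGroup.eq_one_iff]
      have := h4 _ ⟨y, hy, rfl⟩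
      simp only [QuotientGroup.mk'_apply] at this
      simp [← this]
    · rintro h4 _ ⟨y, hy, rfl⟩
      have := (QuotientGroup.eq_one_iff _).2 (h4 y hy)
      simp only [QuotientGroup.mk_mul, QuotientGroup.mk_inv, one_mul,
        mul_inv_eq_iff_eq_mul] at this
      exact this.symm
  have hDK : D ≤ K := fun x hx => ((hmem x).1 hx).1
  have hAD : A ≤ D := fun x hx => (hmem x).2 ⟨hAK hx, fun y hy =>
    h3 (Subgroup.commutator_mem_commutator hx hy)⟩
  have h4 : ¬ K ≤ D := fun h4 => hBA.not_ge (hA.trans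
    (Subgroup.commutator_le.2 fun x hx y hy => ((hmem x).1 (h4 hx)).2 y hy))
  have h5 : ¬ D ≤ A := by
    intro h5
    obtain ⟨p, k, hp, hk⟩ := exists_relIndex_eq_pow_of_chief hBA hmax
      ((Subgroup.commutator_mono le_rfl hAK).trans h3)
    have h6 : Nat.card (Subgroup.center Kb) = p ^ k := by
      rw [← hk, ← Core.card_map_mk', ← h5.antisymm hAD, hD, Core.map_comap_mk',
        Subgroup.card_subtype]
    refine (hc2 p hp (eq_pow_of_forall_prime_dvd Nat.card_pos.ne' hp h6.dvd fun q hq h7 =>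
      prime_dvd_card_center hq ?_) h1).not_ge h2
    have h8 := prime_dvd_relIndex_commutator (M := ⊥) bot_le hn' hq
      (by rwa [Subgroup.relIndex_bot_left])
    rw [sup_bot_eq] at h8
    rw [Core.card_map_mk']
    exact h8.trans (Subgroup.relIndex_dvd_of_le_left _ (hBA.le.trans hA))
  refine h.coh_of_bound (by rwa [sup_eq_left.2 hA]) hDK le_rfl
    (fun x hx => ((hmem x).1 hx).2) hcoh ?_
  have h6 := hmod D K hDK le_rfl h4
  have h7 := hmod A D hAD hDK h5
  rw [← Subgroup.relIndex_mul_relIndex A D K hAD hDK]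
  have h8 : 2 ≤ K.index := by
    have := Core.index_pos K
    have := mt Subgroup.index_eq_one.1 hK2
    omega
  set y := D.relIndex K
  set z := A.relIndex D
  set e := K.index
  have h9 : (e + 1) * y - 1 ≤ z * y - 1 := by gcongr
  refine lt_of_lt_of_le ?_ (Nat.pow_le_pow_left h9 2)
  have h10 : 1 ≤ (e + 1) * y := Nat.mul_pos (by omega) (by omega)
  zify [h10] at *
  have h11 : (0 : ℤ) ≤ y * ((e + 1) ^ 2 * (y - (e + 1))) := by
    have : (0 : ℤ) ≤ y - (e + 1) := by omega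
    positivity
  have h12 : (0 : ℤ) ≤ y * ((e - 1) * (e ^ 2 + 1)) := by
    have : (0 : ℤ) ≤ e - 1 := by omega
    positivity
  nlinarith

end Six

end Cfsg.Agent.Char
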