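import Mathlib
import Cfsg.Agent.Char.Coh2

/-!
# Coherence for trivial intersection subgroups with Frobenius normaliser.
-/

set_option autoImplicit false

namespace Cfsg.Agent.Char

open Cfsg
open scoped ComplexConjugate

section Frob

variable {L : Type*} [Group L] [Fintype L] {K : Subgroup L} [hK : K.Normal]

omit [Fintype L] hK in
theorem frob_of_centralizer_le (hC : ∀ k ∈ K, k ≠ 1 → Subgroup.centralizer {k} ≤ K) :
    ∀ k ∈ K, ∀ g, g * k = k * g → k = 1 ∨ g ∈ K := fun k hk g hg => by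
  by_cases h : k = 1
  · exact Or.inl h
  · exact Or.inr (hC k hk h (Subgroup.mem_centralizer_singleton_iff.2 hg))

theorem isIrr_of_mem_inducedIrrAbove (hC : ∀ k ∈ K, k ≠ 1 → Subgroup.centralizer {k} ≤ K)
    {A : Subgroup L} {φ : L → ℂ} (h : φ ∈ inducedIrrAbove K A) : IsIrrCharacter L φ := by
  obtain ⟨θ, h1, h2, -, rfl⟩ := h
  exact h1.indFun_of_frobenius (frob_of_centralizer_le hC) h2

theorem inducedIrrAbove_bot_eq (hC : ∀ k ∈ K, k ≠ 1 → Subgroup.centralizer {k} ≤ K) :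
    inducedIrrAbove K ⊥ = {χ | IsIrrCharacter L χ ∧ ∃ k ∈ K, χ k ≠ χ 1} := by
  ext χ
  refine ⟨fun h => ⟨isIrr_of_mem_inducedIrrAbove hC h, ?_⟩, fun h => ?_⟩
  · obtain ⟨θ, h1, h2, -, rfl⟩ := h
    exact indFun_apply_ne_of_ne_one h1 h2
  · obtain ⟨θ, h1, h2, h3⟩ := h.1.exists_indFun_of_frobenius (frob_of_centralizer_le hC) h.2
    exact ⟨θ, h1, h2, fun a ha => by rw [show a = 1 from Subtype.ext ha], h3.symm⟩

theorem sum_seqInd_sq_of_irr {A : Subgroup L} [A.Normal]
    (hirr : ∀ φ ∈ inducedIrrAbove K A, IsIrrCharacter L φ) :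
    ∑ φ ∈ seqInd K A, (φ 1).re ^ 2 = K.index * ((A.relIndex K : ℝ) - 1) := by
  rw [← sum_seqInd_sq]
  exact Finset.sum_congr rfl fun φ hφ => by rw [(hirr φ (mem_seqInd.1 hφ)).nrm_eq, div_one]

theorem exists_ne_of_card_ne {A : Subgroup L} [A.Normal]
    (hirr : ∀ φ ∈ inducedIrrAbove K A, IsIrrCharacter L φ) (h : ¬ K ≤ ⁅K, K⁆ ⊔ A)
    (he : A.relIndex K ≠ K.index + 1) :
    ∃ φ ∈ inducedIrrAbove K A, ∃ ψ ∈ inducedIrrAbove K A, φ ≠ ψ := by
  obtain ⟨φ, h1, h2⟩ := exists_mem_inducedIrrAbove_of_not_le h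
  by_contra h3
  push Not at h3
  have h4 := sum_seqInd_sq_of_irr hirr
  rw [Finset.sum_eq_single_of_mem φ (mem_seqInd.2 h1)
    fun ψ hψ hne => (hne (h3 ψ (mem_seqInd.1 hψ) φ h1)).elim, h2, Complex.natCast_re, sq] at h4
  have h5 := mul_left_cancel₀ (by exact_mod_cast (Core.index_pos K).ne') h4
  exact he (by exact_mod_cast (sub_eq_iff_eq_add.1 h5.symm))

theorem card_seqInd_eq_one (hC : ∀ k ∈ K, k ≠ 1 → Subgroup.centralizer {k} ≤ K)
    (he : Nat.card K = K.index + 1) : (seqInd K ⊥).card = 1 := by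
  have h1 := sum_seqInd_sq_of_irr (K := K) (A := ⊥) fun φ => isIrr_of_mem_inducedIrrAbove hC
  rw [Subgroup.relIndex_bot_left, he] at h1
  have h0 : (0 : ℝ) < K.index := by exact_mod_cast Core.index_pos K
  have h2 : (seqInd K ⊥).card • (K.index : ℝ) ^ 2 ≤ ∑ φ ∈ seqInd K ⊥, (φ 1).re ^ 2 := by
    refine Finset.card_nsmul_le_sum _ _ _ fun φ hφ => ?_
    obtain ⟨a, ha0, ha⟩ := exists_degree_of_mem_inducedIrrAbove (mem_seqInd.1 hφ)
    have : (1 : ℝ) ≤ a := by exact_mod_cast ha0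
    rw [ha, ← Nat.cast_mul, Complex.natCast_re, Nat.cast_mul]
    gcongr
    nlinarith
  rw [h1, nsmul_eq_mul] at h2
  push_cast at h1 h2
  have h3 : ((seqInd K ⊥).card : ℝ) ≤ 1 :=
    le_of_mul_le_mul_right (by linarith) (pow_pos h0 2)
  have h4 : (seqInd K ⊥).card ≠ 0 := by
    intro h4
    rw [Finset.card_eq_zero.1 h4, Finset.sum_empty] at h1
    nlinarith
  have h5 : (seqInd K ⊥).card ≤ 1 := by exact_mod_cast h3
  omega

omit [Fintype L] in
theorem isConj_of_card_eq [Finite L] (hC : ∀ k ∈ K, k ≠ 1 → Subgroup.centralizer {k} ≤ K)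
    (he : Nat.card K = K.index + 1) {x y : L} (hx : x ∈ K) (hx1 : x ≠ 1) (hy : y ∈ K)
    (hy1 : y ≠ 1) : IsConj x y := by
  classical
  have := Fintype.ofFinite L
  have h1 : (Finset.univ.filter fun z => z ∈ K ∧ z ≠ 1).card + 1 = Nat.card K := by
    rw [← Finset.card_insert_of_notMem (a := 1) (by simp), Nat.card_eq_fintype_card,
      Fintype.card_subtype]
    congr 1
    ext x
    by_cases hx : x = 1 <;> simp [hx]
  have h2 := Finset.eq_of_subset_of_card_le (s := Finset.univ.filter fun z => IsConj x z)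
    (t := Finset.univ.filter fun z => z ∈ K ∧ z ≠ 1) (fun z hz => by
      obtain ⟨c, rfl⟩ := isConj_iff.1 (Finset.mem_filter.1 hz).2
      exact Finset.mem_filter.2 ⟨Finset.mem_univ _, hK.conj_mem x hx c, by simpa using hx1⟩) (by
      have := Nat.le_of_dvd (Core.index_pos _) (Subgroup.index_dvd_of_le (hC x hx hx1))
      rw [← card_filter_isConj] at this
      refine le_trans (by omega) (this.trans (le_of_eq ?_))
      congr)
  have h3 : y ∈ Finset.univ.filter fun z => z ∈ K ∧ z ≠ 1 := by simp [hy, hy1]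
  rw [← h2] at h3
  exact (Finset.mem_filter.1 h3).2

omit [Fintype L] in
theorem isElementaryAbelian_of_card_eq [Finite L]
    (hC : ∀ k ∈ K, k ≠ 1 → Subgroup.centralizer {k} ≤ K) (he : Nat.card K = K.index + 1) :
    ∃ p : ℕ, p.Prime ∧ IsElementaryAbelian p K := by
  have hK1 : K ≠ ⊥ := by
    rintro rfl
    have := Core.index_pos (⊥ : Subgroup L)
    rw [Subgroup.card_bot] at he
    omega
  obtain ⟨p, hp, h1⟩ := Core.exists_prime_dvd_card hK1
  obtain ⟨x, hx, h2⟩ := Core.exists_prime_orderOf_mem hp h1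
  have hx1 : x ≠ 1 := by rintro rfl; exact hp.one_lt.ne (by simpa using h2)
  have h3 : ∀ y ∈ K, y ^ p = 1 := by
    intro y hy
    by_cases hy1 : y = 1
    · simp [hy1]
    · obtain ⟨c, rfl⟩ := isConj_iff.1 (isConj_of_card_eq hC he hx hx1 hy hy1)
      rw [conj_pow, ← h2, pow_orderOf_eq_one]; simp
  have := Fact.mk hp
  have h4 := (Core.isPGroup_of_pow_eq_one h3).isNilpotent
  have h5 := Core.inf_centralizer_ne_bot h4 le_rfl Subgroup.le_normalizer hK1
  obtain ⟨⟨z, hz⟩, hz1⟩ := Subgroup.ne_bot_iff_exists_ne_one.1 h5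
  refine ⟨p, hp, Core.isMulCommutative_iff_mem.2 fun a ha b hb => ?_, h3⟩
  by_cases ha1 : a = 1
  · simp [ha1]
  · obtain ⟨c, rfl⟩ := isConj_iff.1 (isConj_of_card_eq hC he hz.1
      (fun e => hz1 (Subtype.ext e)) ha ha1)
    have := Subgroup.mem_centralizer_iff.1 hz.2 _ (hK.conj_mem b hb c⁻¹)
    calc c * z * c⁻¹ * b = c * (z * (c⁻¹ * b * c⁻¹⁻¹)) * c⁻¹ := by group
      _ = _ := by rw [← this]; group

omit hK in
/-- A class function orthogonal to the degree zero combinations of the irreducible characters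
not containing `K` in their kernel is constant on the non-identity elements of `K`. -/
theorem apply_eq_of_orth_span1 {f : L → ℂ} (hf : IsClassFunction L f)
    (h : ∀ α ∈ span1 {χ | IsIrrCharacter L χ ∧ ∃ k ∈ K, χ k ≠ χ 1}, classInner f α = 0)
    {a b : L} (ha : a ∈ K) (ha1 : a ≠ 1) (hb : b ∈ K) (hb1 : b ≠ 1) : f a = f b := by
  classical
  obtain ⟨χ₀, h0, h0'⟩ : ∃ χ, IsIrrCharacter L χ ∧ χ a ≠ χ 1 := by
    by_contra h0
    push Not at h0
    exact ha1 (eq_one_of_forall_irr h0)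
  set c := classInner f χ₀ / χ₀ 1 with hc
  have h1 : ∀ χ : IrrCharacter L, classInner f χ * ((χ : L → ℂ) a - (χ : L → ℂ) b) =
      c * ((χ : L → ℂ) 1 * (χ : L → ℂ) a - (χ : L → ℂ) 1 * (χ : L → ℂ) b) := by
    intro χ
    by_cases h1 : ∃ k ∈ K, (χ : L → ℂ) k ≠ (χ : L → ℂ) 1
    · have h2 := h _ (smul_sub_smul_mem_span1 (φ := χ) (ψ := χ₀) ⟨χ.2, h1⟩ ⟨h0, a, ha, h0'⟩
        χ.2.isCharacter h0.isCharacter)
      rw [classInner_sub_right, classInner_smul_right, classInner_smul_right,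
        χ.2.isCharacter.conj_apply_one, h0.isCharacter.conj_apply_one] at h2
      have h3 := h0.one_ne_zero
      rw [hc]
      field_simp
      linear_combination ((χ : L → ℂ) a - (χ : L → ℂ) b) * h2
    · push Not at h1
      rw [h1 a ha, h1 b hb]; ring
  rw [hf.apply_eq_sum_irr a, hf.apply_eq_sum_irr b, ← sub_eq_zero, ← Finset.sum_sub_distrib]
  simp only [← mul_sub, h1]
  rw [← Finset.mul_sum]
  simp only [mul_sub, Finset.sum_sub_distrib, sum_irr_one_mul, if_neg ha1, if_neg hb1]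
  simp

omit hK in
theorem classInner_eq_of_const {f α : L → ℂ} {c : ℂ} (hf : ∀ k ∈ K, k ≠ 1 → f k = c)
    (hα : ∀ x, x ∉ K → α x = 0) (hα1 : α 1 = 0) :
    classInner f α = c * classInner (fun _ => 1) α := by
  rw [← classInner_smul_left, classInner, classInner]
  congr 1
  refine Finset.sum_congr rfl fun x _ => ?_
  by_cases h1 : x = 1
  · simp [h1, hα1]
  · by_cases h2 : x ∈ K
    · simp [hf x h2 h1]
    · simp [hα x h2]

theorem exists_int_of_const {H : Type*} [Group H] [Finite H] {f : H → ℂ}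
    (hf : IsGeneralizedCharacter H f) {c : ℂ} (h : ∀ k, k ≠ 1 → f k = c) [Nontrivial H] :
    ∃ n m : ℤ, c = n ∧ f 1 = n + m * Nat.card H := by
  classical
  have := Fintype.ofFinite H
  obtain ⟨θ, h1, h2⟩ : ∃ θ, IsIrrCharacter H θ ∧ θ ≠ fun _ => 1 := by
    by_contra h0
    push Not at h0
    obtain ⟨k, hk⟩ := exists_ne (1 : H)
    exact hk (eq_one_of_forall_irr fun θ hθ => by rw [h0 θ hθ])
  set v := (f 1 - c) / Nat.card H with hv
  have h3 : f = c • (fun _ => (1 : ℂ)) + v • fun g => if g = 1 then (Nat.card H : ℂ) else 0 := by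
    ext k
    by_cases hk : k = 1
    · simp [hk, hv]
    · simp [hk, h k hk]
  have h4 : ∀ φ : H → ℂ, classInner φ f = conj c * classInner φ (fun _ => 1) + conj v * φ 1 := by
    intro φ
    conv_lhs => rw [h3]
    rw [classInner_add_right, classInner_smul_right, classInner_smul_right, classInner_regular]
  have h5 : ∀ θ, IsIrrCharacter H θ → θ ≠ (fun _ => 1) → IsIntegral ℤ (conj v * θ 1) := by
    intro θ h1 h2
    obtain ⟨n, hn⟩ := h1.isGen.classInner_int hf
    rw [h4, h1.classInner_of_ne isIrrCharacter_one h2, mul_zero, zero_add] at hn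
    rw [hn]; exact isIntegral_intCast n
  have h6 : IsIntegral ℤ (conj v * Nat.card H) := by
    obtain ⟨d, -, hd⟩ := h1.exists_nat
    obtain ⟨r, hr⟩ := h1.degree_dvd_card hd
    rw [hr, Nat.cast_mul, ← mul_assoc, ← hd]
    exact (h5 θ h1 h2).mul (isIntegral_natCast r)
  have h7 : IsIntegral ℤ (conj v) := by
    have h8 := sum_irr_one_sq (G := H)
    rw [← Finset.add_sum_erase _ _ (Finset.mem_univ (irrOne H))] at h8
    have h9 : conj v = conj v * Nat.card H -
        ∑ χ ∈ Finset.univ.erase (irrOne H), conj v * (χ : H → ℂ) 1 * (χ : H → ℂ) 1 := by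
      rw [← h8, mul_add, Finset.mul_sum]
      simp [sq, mul_assoc]
    rw [h9]
    refine h6.sub (IsIntegral.sum _ fun χ hχ => (h5 _ χ.2 fun e => ?_).mul
      (χ.2.isCharacter.isIntegral 1))
    exact (Finset.mem_erase.1 hχ).1 (Subtype.ext e)
  obtain ⟨n, hn⟩ := h1.isGen.classInner_int hf
  obtain ⟨d, hd0, hd⟩ := h1.exists_nat
  rw [h4, h1.classInner_of_ne isIrrCharacter_one h2, mul_zero, zero_add, hd] at hn
  have h8 : conj v = ((n / d : ℚ) : ℂ) := by
    push_cast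
    rw [← hn, mul_div_cancel_right₀ _ (by exact_mod_cast hd0.ne')]
  rw [h8] at h7
  obtain ⟨m, hm⟩ := exists_int_of_isIntegral_rat h7
  obtain ⟨r, hr⟩ := isGen_one.classInner_int hf
  rw [h4, isIrrCharacter_one.classInner_self, mul_one, mul_one, h8, hm] at hr
  have h9 : c = (r - m : ℤ) := by
    rw [← Complex.conj_conj c, eq_sub_of_add_eq hr]; simp
  have h10 : v = m := by rw [← Complex.conj_conj v, h8, hm]; simp
  refine ⟨r - m, m, h9, ?_⟩
  rw [← h9, ← h10, hv, div_mul_cancel₀ _ (card_ne_zero H)]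
  ring

end Frob

section TI

variable {G : Type*} [Group G] [Fintype G] {N : Subgroup G} [Fintype N]

/-- Induction is an isometry on virtual characters supported on a TI-subset. -/
theorem degIso_indLin_TI {T : Set G} (hTI : ∀ g, g ∉ N → ∀ t ∈ T, g * t * g⁻¹ ∈ T → t = 1)
    {S : Set (N → ℂ)} (h1 : ∀ φ ∈ S, IsCharacter N φ) (h2 : ∀ φ ∈ S, φ ≠ 0)
    (h3 : ∀ φ ∈ S, ∀ ψ ∈ S, φ ≠ ψ → classInner φ ψ = 0)
    (h4 : ∀ φ ∈ S, ∀ x : N, (x : G) ∉ T → φ x = 0) : DegIso S (indLin N) := by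
  have h5 : ∀ α ∈ Submodule.span ℤ S, IsGeneralizedCharacter N α :=
    fun α => mem_span_isGen fun φ hφ => (h1 φ hφ).isGen
  have h6 : ∀ α ∈ Submodule.span ℤ S, ∀ x : N, (x : G) ∉ T → α x = 0 := by
    intro α hα x hx
    induction hα using Submodule.span_induction with
    | mem φ hφ => exact h4 φ hφ x hx
    | zero => rfl
    | add a b _ _ ha hb => simp [ha, hb]
    | smul c a _ ha => simp [ha]
  exact ⟨h1, h2, h3, ⟨fun α hα β hβ => classInner_indFun_TI hTI (h5 β hβ.1).isClassFunction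
    (h6 α hα.1) (h6 β hβ.1) hα.2, fun α hα => (h5 α hα.1).indFun⟩,
    fun α hα => by rw [indLin_apply, indFun_one, hα.2, mul_zero]⟩

theorem degIso_indLin_seqInd {K : Subgroup G} [(K.subgroupOf N).Normal]
    (hTI : ∀ g, g ∉ N → ∀ k ∈ K, g * k * g⁻¹ ∈ K → k = 1) (A : Subgroup N) :
    DegIso (inducedIrrAbove (K.subgroupOf N) A) (indLin N) :=
  degIso_indLin_TI (T := K) hTI (fun _ => isCharacter_of_mem_inducedIrrAbove)
    (fun _ => ne_zero_of_mem_inducedIrrAbove) (fun _ h _ h' => orth_of_mem_inducedIrrAbove h h')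
    fun _ h _ => apply_eq_zero_of_mem_inducedIrrAbove h

omit [Fintype G] [Fintype N] in
theorem centralizer_le_subgroupOf {K : Subgroup G}
    (hC : ∀ k ∈ K, k ≠ 1 → N ⊓ Subgroup.centralizer {k} ≤ K) :
    ∀ k ∈ K.subgroupOf N, k ≠ 1 → Subgroup.centralizer {k} ≤ K.subgroupOf N :=
  fun k hk h1 x hx => hC k hk (fun e => h1 (Subtype.ext e)) ⟨x.2,
    Subgroup.mem_centralizer_singleton_iff.2
      (congrArg Subtype.val (Subgroup.mem_centralizer_singleton_iff.1 hx))⟩

omit [Fintype G] [Fintype N] in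
theorem mem_span_vanish {S : Set (N → ℂ)} {x : N} (h : ∀ φ ∈ S, φ x = 0) {α : N → ℂ}
    (hα : α ∈ Submodule.span ℤ S) : α x = 0 := by
  induction hα using Submodule.span_induction with
  | mem φ hφ => exact h φ hφ
  | zero => rfl
  | add a b _ _ ha hb => simp [ha, hb]
  | smul c a _ ha => simp [ha]

end TI

end Cfsg.Agent.Char
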