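import Mathlib
import Cfsg.Agent.Char.Coh3
import Cfsg.Prelude.Def_OddOrderLocal

/-!
# The Dade isometry (Peterfalvi, section 2) and its adjoint (section 7).
-/

set_option autoImplicit false

namespace Cfsg.Agent.Char

open Cfsg Subgroup
open scoped ComplexConjugate

section Group

variable {G : Type*} [Group G]

theorem mem_cent1 {a x : G} : x ∈ centralizer ({a} : Set G) ↔ x * a = a * x :=
  mem_centralizer_singleton_iff

theorem _root_.Cfsg.IsClassFunction.conjF {χ : G → ℂ} (h : IsClassFunction G χ) :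
    IsClassFunction G (conjFun χ) := h.conj

theorem _root_.Cfsg.IsCharacter.conjF [Finite G] {χ : G → ℂ} (h : IsCharacter G χ) :
    IsCharacter G (conjFun χ) := h.conj

theorem _root_.Cfsg.IsIrrCharacter.conjF [Finite G] {χ : G → ℂ} (h : IsIrrCharacter G χ) :
    IsIrrCharacter G (conjFun χ) := h.conj

theorem _root_.Cfsg.IsGeneralizedCharacter.conjF [Finite G] {χ : G → ℂ}
    (h : IsGeneralizedCharacter G χ) : IsGeneralizedCharacter G (conjFun χ) := h.conj

theorem _root_.Cfsg.IsIrrCharacter.conjF_ne_of_odd [Finite G] {χ : G → ℂ}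
    (h : IsIrrCharacter G χ) (hodd : Odd (Nat.card G)) (h1 : χ ≠ fun _ => 1) : conjFun χ ≠ χ :=
  h.conj_ne_of_odd hodd h1

theorem eq_of_pow_eq_of_coprime {x y : G} {m n : ℕ} (hmn : m.Coprime n) (h1 : x ^ m = y ^ m)
    (h2 : x ^ n = y ^ n) : x = y := by
  have h : ∀ z : G, z = (z ^ m) ^ Nat.gcdA m n * (z ^ n) ^ Nat.gcdB m n := fun z => by
    rw [← zpow_natCast, ← zpow_natCast, ← zpow_mul, ← zpow_mul, ← zpow_add, ← Nat.gcd_eq_gcd_ab,
      hmn]
    simp
  rw [h x, h1, h2, ← h]

/-- Extraction of the coprime parts of conjugate products. -/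
theorem conj_eq_of_coprime_parts {a b u v g : G} {m n : ℕ} (hmn : m.Coprime n)
    (ha : a ^ m = 1) (hb : b ^ m = 1) (hu : u ^ n = 1) (hv : v ^ n = 1) (hau : u * a = a * u)
    (hbv : v * b = b * v) (h : g * (a * u) * g⁻¹ = b * v) :
    g * a * g⁻¹ = b ∧ g * u * g⁻¹ = v := by
  have key : g * a * g⁻¹ = b := by
    have h1 : (g * (a * u) * g⁻¹) ^ n = (b * v) ^ n := by rw [h]
    rw [conj_pow, (show Commute a u from hau.symm).mul_pow, (show Commute b v from hbv.symm).mul_pow,
      hu, hv, mul_one, mul_one, ← conj_pow] at h1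
    have h2 : (g * a * g⁻¹) ^ m = b ^ m := by rw [conj_pow, ha, hb]; simp
    exact eq_of_pow_eq_of_coprime hmn h2 h1
  refine ⟨key, ?_⟩
  have : g * a * g⁻¹ * (g * u * g⁻¹) = b * v := by rw [← h]; group
  rw [key] at this
  exact mul_left_cancel this

/-- The average of `F` over the coset `a H`. -/
noncomputable def cavg (H : Subgroup G) (F : G → ℂ) (a : G) : ℂ :=
  (Nat.card H : ℂ)⁻¹ * ∑ᶠ u : H, F (a * u)

theorem cavg_eq (H : Subgroup G) [Fintype H] (F : G → ℂ) (a : G) :
    cavg H F a = (Nat.card H : ℂ)⁻¹ * ∑ u : H, F (a * u) := by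
  rw [cavg, finsum_eq_sum_of_fintype]

theorem cavg_eq' (H : Subgroup G) (F : G → ℂ) (a : G) :
    cavg H F a = (Nat.card H : ℂ)⁻¹ * ∑ᶠ u ∈ (H : Set G), F (a * u) := by
  rw [cavg, ← finsum_set_coe_eq_finsum_mem]; rfl

theorem cavg_of_const [Finite G] {H : Subgroup G} {F : G → ℂ} {a : G} {c : ℂ}
    (h : ∀ u ∈ H, F (a * u) = c) : cavg H F a = c := by
  have := Fintype.ofFinite H
  rw [cavg_eq, Finset.sum_congr rfl fun (u : H) _ => h u u.2, Finset.sum_const, Finset.card_univ,
    ← Nat.card_eq_fintype_card, nsmul_eq_mul, inv_mul_cancel_left₀ (card_ne_zero H)]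

theorem cavg_bot [Finite G] (F : G → ℂ) (a : G) : cavg ⊥ F a = F a :=
  cavg_of_const fun u hu => by rw [mem_bot.1 hu, mul_one]

theorem cavg_congr {H : Subgroup G} {F F' : G → ℂ} {a : G}
    (h : ∀ u ∈ H, F (a * u) = F' (a * u)) : cavg H F a = cavg H F' a := by
  unfold cavg
  rw [finsum_congr fun u : H => h u u.2]

theorem cavg_mul_left [Finite G] (H : Subgroup G) (c : ℂ) (F : G → ℂ) (a : G) :
    cavg H (fun g => c * F g) a = c * cavg H F a := by
  have := Fintype.ofFinite H
  rw [cavg_eq, cavg_eq, ← Finset.mul_sum]; ring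

theorem cavg_add [Finite G] (H : Subgroup G) (F F' : G → ℂ) (a : G) :
    cavg H (F + F') a = cavg H F a + cavg H F' a := by
  have := Fintype.ofFinite H
  simp only [cavg_eq, Pi.add_apply, Finset.sum_add_distrib, mul_add]

theorem cavg_conj [Finite G] (H : Subgroup G) (F : G → ℂ) (a : G) :
    cavg H (fun g => conj (F g)) a = conj (cavg H F a) := by
  have := Fintype.ofFinite H
  simp [cavg_eq]

theorem norm_cavg_sq_le [Finite G] (H : Subgroup G) (F : G → ℂ) (a : G) :
    ‖cavg H F a‖ ^ 2 ≤ (cavg H (fun g => ((‖F g‖ ^ 2 : ℝ) : ℂ)) a).re := by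
  have := Fintype.ofFinite H
  have hpos : (0 : ℝ) < Nat.card H := by exact_mod_cast Nat.card_pos
  rw [cavg_eq, cavg_eq, ← Complex.ofReal_sum, ← Complex.ofReal_natCast, ← Complex.ofReal_inv,
    ← Complex.ofReal_mul, Complex.ofReal_re, norm_mul, Complex.norm_real, Real.norm_eq_abs,
    abs_of_pos (inv_pos.2 hpos), mul_pow]
  have h1 : ‖∑ u : H, F (a * u)‖ ^ 2 ≤ Nat.card H * ∑ u : H, ‖F (a * u)‖ ^ 2 := by
    refine (pow_le_pow_left₀ (norm_nonneg _) (norm_sum_le _ _) 2).trans ?_
    rw [Nat.card_eq_fintype_card, ← Finset.card_univ]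
    exact sq_sum_le_card_mul_sum_sq
  calc (Nat.card H : ℝ)⁻¹ ^ 2 * ‖∑ u : H, F (a * u)‖ ^ 2
      ≤ (Nat.card H : ℝ)⁻¹ ^ 2 * (Nat.card H * ∑ u : H, ‖F (a * u)‖ ^ 2) := by gcongr
    _ = _ := by field_simp

open Pointwise in
theorem cavg_conj_smul [Finite G] (H : Subgroup G) {F : G → ℂ} (hF : IsClassFunction G F)
    (a x : G) : cavg (MulAut.conj x • H) F (x * a * x⁻¹) = cavg H F a := by
  have := Fintype.ofFinite H
  have := Fintype.ofFinite ↥(MulAut.conj x • H)
  rw [cavg_eq, cavg_eq, Core.card_smul]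
  congr 1
  refine (Fintype.sum_equiv (Subgroup.equivSMul (MulAut.conj x) H).toEquiv _ _ fun u => ?_).symm
  rw [← hF (a * u) x]
  congr 1
  simp [mul_assoc]

/-- Peterfalvi (2.1), in averaged form. -/
theorem cavg_eq_cavg_inf [Finite G] {H : Subgroup G} {F : G → ℂ} (hF : IsClassFunction G F)
    {a : G} (ha : a ∈ normalizer (H : Set G)) (hcop : (orderOf a).Coprime (Nat.card H)) :
    cavg H F a = cavg (H ⊓ centralizer {a}) F a := by
  classical
  set C := H ⊓ centralizer {a} with hC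
  have := Fintype.ofFinite H
  have := Fintype.ofFinite C
  have := Fintype.ofFinite (H ⧸ C.subgroupOf H)
  let f : (H ⧸ C.subgroupOf H) × C → H := fun p =>
    ⟨a⁻¹ * (p.1.out * (a * p.2) * (p.1.out : G)⁻¹), by
      have : a⁻¹ * (p.1.out * (a * p.2) * (p.1.out : G)⁻¹) =
        (a⁻¹ * p.1.out * a) * p.2 * (p.1.out : G)⁻¹ := by group
      rw [this]
      exact H.mul_mem (H.mul_mem (Core.conj_mem_of_mem_normalizer' ha p.1.out.2) p.2.2.1)
        (H.inv_mem p.1.out.2)⟩
  have hinj : Function.Injective f := by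
    rintro ⟨q, c⟩ ⟨q', c'⟩ e
    have e1 : (q.out : G) * (a * c) * (q.out : G)⁻¹ = q'.out * (a * c') * (q'.out : G)⁻¹ :=
      mul_left_cancel (congrArg Subtype.val e)
    have e2 : ((q'.out : G)⁻¹ * q.out) * (a * c) * ((q'.out : G)⁻¹ * q.out)⁻¹ = a * c' := by
      rw [mul_inv_rev, inv_inv, mul_assoc, mul_assoc, ← mul_assoc (a * c), ← mul_assoc (q.out : G),
        ← mul_assoc (q.out : G), e1]; group
    have h1 : ∀ c : C, (c : G) ^ Nat.card H = 1 := fun c =>
      orderOf_dvd_iff_pow_eq_one.1 (H.orderOf_dvd_natCard c.2.1)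
    obtain ⟨e3, e4⟩ := conj_eq_of_coprime_parts hcop (pow_orderOf_eq_one a) (pow_orderOf_eq_one a)
      (h1 c) (h1 c') (mem_cent1.1 c.2.2) (mem_cent1.1 c'.2.2) e2
    have e5 : q' = q := by
      rw [← q'.out_eq, ← q.out_eq]
      exact QuotientGroup.eq.2 ⟨(q'.out⁻¹ * q.out).2, mem_cent1.2 (mul_inv_eq_iff_eq_mul.1 e3)⟩
    subst e5
    simp only [inv_mul_cancel, one_mul, inv_one, mul_one] at e4
    rw [Subtype.ext e4]
  have hcard : Nat.card H = Nat.card (H ⧸ C.subgroupOf H) * Nat.card C := by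
    rw [card_eq_card_quotient_mul_card_subgroup (C.subgroupOf H),
      Core.card_subgroupOf_of_le inf_le_left]
  have hbij : Function.Bijective f :=
    (Nat.bijective_iff_injective_and_card f).2 ⟨hinj, by rw [Nat.card_prod, hcard]⟩
  rw [cavg_eq, cavg_eq, ← hbij.sum_comp fun u : H => F (a * u), Fintype.sum_prod_type]
  simp only [f, mul_inv_cancel_left, hF _ _, Finset.sum_const, Finset.card_univ, nsmul_eq_mul]
  rw [hcard, ← Nat.card_eq_fintype_card]
  have := card_ne_zero (H ⧸ C.subgroupOf H)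
  push_cast
  field_simp

/-- Averaging a character over the cosets of a normalised subgroup yields a character. -/
theorem _root_.Cfsg.IsCharacter.cavg [Finite G] {χ : G → ℂ} (hχ : IsCharacter G χ)
    {H : Subgroup G} {X : Type*} [Group X] (f : X →* G) (hf : ∀ x, f x ∈ normalizer (H : Set G)) :
    IsCharacter X fun x => cavg H χ (f x) := by
  set N := normalizer (H : Set G) with hN
  have : (H.subgroupOf N).Normal := normal_subgroupOf_of_le_normalizer le_rfl
  have := Fintype.ofFinite (H.subgroupOf N)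
  have := Fintype.ofFinite H
  have h1 := ((hχ.restrict N).cosetAvg (N := H.subgroupOf N)).comp (f.codRestrict N hf)
  convert h1 using 2 with x
  rw [cavg_eq, cosetAvg, Core.card_subgroupOf_of_le le_normalizer]
  congr 1
  refine (Fintype.sum_equiv (subgroupOfEquivOfLe le_normalizer).toEquiv _ _ fun u => ?_).symm
  exact hχ.isClassFunction.mul_comm _ _

theorem sum_dvd_of_invariant {Γ X : Type*} [Group Γ] [Finite Γ] [MulAction Γ X] [Fintype X]
    {f : X → ℂ} (h1 : ∀ (g : Γ) x, f (g • x) = f x)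
    (h2 : ∀ x, ∃ n : ℤ, f x = Nat.card (MulAction.stabilizer Γ x) * n) :
    ∃ n : ℤ, ∑ x, f x = Nat.card Γ * n := by
  classical
  choose n hn using h2
  let Q := Quotient (MulAction.orbitRel Γ X)
  refine ⟨∑ q : Q, n q.out, ?_⟩
  rw [← Finset.sum_fiberwise (s := Finset.univ) (g := fun x => (Quotient.mk _ x : Q)),
    Int.cast_sum, Finset.mul_sum]
  refine Finset.sum_congr rfl fun q _ => ?_
  have h3 : ∀ x, (Quotient.mk _ x : Q) = q ↔ x ∈ MulAction.orbit Γ q.out := fun x => by
    rw [← MulAction.orbitRel_apply, ← Quotient.eq (r := MulAction.orbitRel Γ X), Quotient.out_eq]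
  rw [Finset.sum_congr rfl (g := fun _ => f q.out) fun x hx => ?_, Finset.sum_const, hn,
    nsmul_eq_mul, ← mul_assoc, ← Nat.cast_mul, ← (MulAction.stabilizer Γ q.out).index_mul_card,
    MulAction.index_stabilizer, Set.ncard_eq_toFinset_card']
  · congr 4
    ext x
    simp [h3]
  · obtain ⟨g, rfl⟩ := (h3 x).1 (Finset.mem_filter.1 hx).2
    exact h1 g _

end Group

section Dade

variable {G : Type*} [Group G]

/-- The support of the Dade map: the union of the conjugates of the cosets `a H(a)`. -/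
def dadeSupp (A : Set G) (H : G → Subgroup G) : Set G :=
  {g | ∃ a ∈ A, ∃ u ∈ H a, ∃ x : G, x * g * x⁻¹ = a * u}

open Classical in
/-- The Dade map as a linear map. -/
noncomputable def dade (A : Set G) (L : Subgroup G) (H : G → Subgroup G) : CMap L G where
  toFun := dadeIsometry A L H
  map_add' α β := by
    ext g
    simp only [dadeIsometry, Pi.add_apply]
    split_ifs <;> simp
  map_smul' c α := by
    ext g
    simp only [dadeIsometry, Pi.smul_apply]
    split_ifs <;> simp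

open Classical in
/-- The adjoint `ρ` of the Dade map (Peterfalvi (7.1)). -/
noncomputable def invDade [Finite G] (A : Set G) (L : Subgroup G) (H : G → Subgroup G) :
    CMap G L where
  toFun χ a := if (a : G) ∈ A then cavg (H a) χ a else 0
  map_add' α β := by
    ext g
    simp only [Pi.add_apply]
    split_ifs
    · exact cavg_add _ _ _ _
    · simp
  map_smul' c α := by
    ext g
    simp only [Pi.smul_apply]
    split_ifs
    · exact cavg_mul_left _ _ _ _
    · simp

variable {A : Set G} {L : Subgroup G} {H : G → Subgroup G}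

theorem dade_eq (α : L → ℂ) : dade A L H α = dadeIsometry A L H α := rfl

theorem invDade_of_mem [Finite G] (χ : G → ℂ) {a : L} (ha : (a : G) ∈ A) :
    invDade A L H χ a = cavg (H a) χ a := if_pos ha

theorem invDade_of_notMem [Finite G] (χ : G → ℂ) {a : L} (ha : (a : G) ∉ A) :
    invDade A L H χ a = 0 := if_neg ha

theorem invDade_of_const [Finite G] {χ : G → ℂ} {a : L} (ha : (a : G) ∈ A)
    (h : ∀ u ∈ H a, χ (a * u) = χ a) : invDade A L H χ a = χ a := by
  rw [invDade_of_mem χ ha, cavg_of_const h]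

theorem invDade_conj [Finite G] (χ : G → ℂ) :
    invDade A L H (conjFun χ) = conjFun (invDade A L H χ) := by
  ext a
  by_cases ha : (a : G) ∈ A
  · rw [conjFun_apply, invDade_of_mem _ ha, invDade_of_mem _ ha, ← cavg_conj]; rfl
  · simp [invDade_of_notMem _ ha]

theorem conj_mem_dadeSupp {g : G} (x : G) : x * g * x⁻¹ ∈ dadeSupp A H ↔ g ∈ dadeSupp A H := by
  constructor
  · rintro ⟨a, ha, u, hu, y, e⟩
    exact ⟨a, ha, u, hu, y * x, by rw [← e]; group⟩
  · rintro ⟨a, ha, u, hu, y, e⟩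
    exact ⟨a, ha, u, hu, y * x⁻¹, by rw [← e]; group⟩

theorem mul_mem_dadeSupp {a u : G} (ha : a ∈ A) (hu : u ∈ H a) : a * u ∈ dadeSupp A H :=
  ⟨a, ha, u, hu, 1, by simp⟩

theorem subset_dadeSupp : A ⊆ dadeSupp A H := fun a ha =>
  ⟨a, ha, 1, (H a).one_mem, 1, by simp⟩

theorem dadeSupp_mono {A₁ : Set G} (h : A₁ ⊆ A) : dadeSupp A₁ H ⊆ dadeSupp A H :=
  fun _ ⟨a, ha, r⟩ => ⟨a, h ha, r⟩

theorem dade_of_notMem (α : L → ℂ) {g : G} (hg : g ∉ dadeSupp A H) : dade A L H α g = 0 :=
  dif_neg fun ⟨a, ha, x, u, hu, e⟩ => hg ⟨a, ha, u, hu, x, e⟩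

theorem dade_map (α : L → ℂ) (f : ℂ → ℂ) (hf : f 0 = 0) :
    dade A L H (fun x => f (α x)) = fun g => f (dade A L H α g) := by
  ext g
  simp only [dade_eq, dadeIsometry]
  split_ifs <;> simp [hf]

theorem dade_conj (α : L → ℂ) : dade A L H (conjFun α) = conjFun (dade A L H α) :=
  dade_map α _ (map_zero _)

theorem dade_mul (α β : L → ℂ) : dade A L H (α * β) = dade A L H α * dade A L H β := by
  ext g
  simp only [dade_eq, dadeIsometry, Pi.mul_apply]
  split_ifs <;> simp

theorem dade_congr {α β : L → ℂ} (h : ∀ a : L, (a : G) ∈ A → α a = β a) :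
    dade A L H α = dade A L H β := by
  ext g
  simp only [dade_eq, dadeIsometry]
  split_ifs with h1
  · exact h _ h1.choose_spec.1
  · rfl

end Dade

end Cfsg.Agent.Char

namespace Cfsg.DadeHypothesis

open Cfsg Subgroup Cfsg.Agent Cfsg.Agent.Char
open scoped ComplexConjugate

variable {G : Type*} [Group G] {A : Set G} {L : Subgroup G} {H : G → Subgroup G}

theorem comm (hD : DadeHypothesis A L H) {a u : G} (ha : a ∈ A) (hu : u ∈ H a) : u * a = a * u :=
  mem_cent1.1 (hD.le_centralizer a ha hu)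

theorem ne_one (hD : DadeHypothesis A L H) {a : G} (ha : a ∈ A) : a ≠ 1 :=
  fun e => hD.one_not_mem (e ▸ ha)

theorem conj_mem_iff (hD : DadeHypothesis A L H) {x a : G} (hx : x ∈ L) :
    x * a * x⁻¹ ∈ A ↔ a ∈ A :=
  ⟨fun h => by simpa [mul_assoc] using hD.conj_mem _ (L.inv_mem hx) _ h, hD.conj_mem x hx a⟩

theorem eq_one_of_mem (hD : DadeHypothesis A L H) {a u : G} (ha : a ∈ A) (hu : u ∈ H a)
    (huL : u ∈ L) : u = 1 :=
  mem_bot.1 (hD.inf_eq_bot a ha ▸ ⟨hu, huL, hD.le_centralizer a ha hu⟩)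

theorem le_normalizer [Finite G] (hD : DadeHypothesis A L H) {a : G} (ha : a ∈ A) :
    centralizer {a} ≤ normalizer (H a : Set G) := fun c hc =>
  Core.mem_normalizer_of_conj_mem (hD.conj_mem_H a ha c hc)

theorem exists_mul [Finite G] (hD : DadeHypothesis A L H) {a c : G} (ha : a ∈ A)
    (hc : c * a = a * c) : ∃ l ∈ L, l * a = a * l ∧ ∃ u ∈ H a, c = l * u := by
  have h1 : c ∈ (L ⊓ centralizer {a}) ⊔ H a := by
    rw [sup_comm, hD.sup_eq a ha]; exact mem_cent1.2 hc
  obtain ⟨l, hl, u, hu, e⟩ :=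
    (Core.mem_sup_of_le_normalizer_right (inf_le_right.trans (hD.le_normalizer ha))).1 h1
  exact ⟨l, hl.1, mem_cent1.1 hl.2, u, hu, e.symm⟩

theorem card_centralizer [Finite G] (hD : DadeHypothesis A L H) {a : G} (ha : a ∈ A) :
    Nat.card (centralizer ({a} : Set G)) =
      Nat.card ↥(L ⊓ centralizer ({a} : Set G)) * Nat.card (H a) := by
  rw [← Core.card_sup_of_disjoint (inf_le_right.trans (hD.le_normalizer ha))
    (by rw [inf_comm, hD.inf_eq_bot a ha]), sup_comm, hD.sup_eq a ha]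

theorem mem_of_coprime [Finite G] (hD : DadeHypothesis A L H) {a u : G} (ha : a ∈ A)
    (hu : u * a = a * u) (hc : (orderOf u).Coprime (Nat.card ↥(L ⊓ centralizer ({a} : Set G)))) :
    u ∈ H a := by
  have : ((H a).subgroupOf (centralizer {a})).Normal :=
    normal_subgroupOf_of_le_normalizer (hD.le_normalizer ha)
  refine mem_of_orderOf_coprime_index (H := (H a).subgroupOf (centralizer {a}))
    (x := ⟨u, mem_cent1.2 hu⟩) ?_
  have h1 := Core.card_mul_relIndex (hD.le_centralizer a ha)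
  rw [hD.card_centralizer ha, mul_comm] at h1
  rw [← Subgroup.orderOf_coe, ← relIndex, Nat.eq_of_mul_eq_mul_right Nat.card_pos h1]
  exact hc

theorem orderOf_dvd (hD : DadeHypothesis A L H) {a : G} (ha : a ∈ A) :
    orderOf a ∣ Nat.card ↥(L ⊓ centralizer ({a} : Set G)) :=
  orderOf_dvd_natCard _ ⟨hD.subset ha, mem_cent1.2 rfl⟩

theorem coprime_orderOf (hD : DadeHypothesis A L H) {a b : G} (ha : a ∈ A) (hb : b ∈ A) :
    (orderOf a).Coprime (Nat.card (H b)) :=
  (hD.coprime b hb a ha).symm.coprime_dvd_left (hD.orderOf_dvd ha)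

theorem conj_eq_of_conj_mul (hD : DadeHypothesis A L H) {a b u v g : G} (ha : a ∈ A) (hb : b ∈ A)
    (hu : u ∈ H a) (hv : v ∈ H b) (h : g * (a * u) * g⁻¹ = b * v) :
    g * a * g⁻¹ = b ∧ g * u * g⁻¹ = v := by
  refine conj_eq_of_coprime_parts (m := orderOf a * orderOf b)
    (n := Nat.card (H a) * Nat.card (H b)) ?_ ?_ ?_ ?_ ?_ (hD.comm ha hu) (hD.comm hb hv) h
  · exact Nat.Coprime.mul_left
      ((hD.coprime_orderOf ha ha).mul_right (hD.coprime_orderOf ha hb))
      ((hD.coprime_orderOf hb ha).mul_right (hD.coprime_orderOf hb hb))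
  · rw [pow_mul, pow_orderOf_eq_one, one_pow]
  · rw [mul_comm, pow_mul, pow_orderOf_eq_one, one_pow]
  · exact orderOf_dvd_iff_pow_eq_one.1 ((orderOf_dvd_natCard _ hu).mul_right _)
  · exact orderOf_dvd_iff_pow_eq_one.1 ((orderOf_dvd_natCard _ hv).mul_left _)

theorem conj_mem_H_conj [Finite G] (hD : DadeHypothesis A L H) {a g u : G} (ha : a ∈ A)
    (hg : g * a * g⁻¹ ∈ A) (hu : u ∈ H a) : g * u * g⁻¹ ∈ H (g * a * g⁻¹) := by
  refine hD.mem_of_coprime hg ?_ ?_
  · calc g * u * g⁻¹ * (g * a * g⁻¹) = g * (u * a) * g⁻¹ := by group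
      _ = _ := by rw [hD.comm ha hu]; group
  · rw [show g * u * g⁻¹ = MulAut.conj g u from rfl, MulEquiv.orderOf_eq]
    exact (hD.coprime a ha _ hg).coprime_dvd_left (orderOf_dvd_natCard _ hu)

open Pointwise in
theorem H_conj [Finite G] (hD : DadeHypothesis A L H) {a g : G} (ha : a ∈ A)
    (hg : g * a * g⁻¹ ∈ A) : H (g * a * g⁻¹) = MulAut.conj g • H a := by
  refine le_antisymm (fun u hu => ?_) (Core.conj_smul_le_iff.2 fun u => hD.conj_mem_H_conj ha hg)
  have h1 : g⁻¹ * (g * a * g⁻¹) * g⁻¹⁻¹ = a := by group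
  have := hD.conj_mem_H_conj (g := g⁻¹) hg (h1.symm ▸ ha) hu
  rw [h1, inv_inv] at this
  exact Core.mem_conj_smul.2 this

theorem card_H_conj [Finite G] (hD : DadeHypothesis A L H) {a g : G} (ha : a ∈ A)
    (hg : g * a * g⁻¹ ∈ A) : Nat.card (H (g * a * g⁻¹)) = Nat.card (H a) := by
  rw [hD.H_conj ha hg, Core.card_smul]

theorem one_notMem_supp (hD : DadeHypothesis A L H) : (1 : G) ∉ dadeSupp A H := by
  rintro ⟨a, ha, u, hu, x, e⟩
  have h1 : u = a⁻¹ := eq_inv_of_mul_eq_one_right (by simpa using e.symm)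
  exact hD.ne_one ha (inv_eq_one.1 (h1 ▸ hD.eq_one_of_mem ha hu (h1 ▸ L.inv_mem (hD.subset ha))))

theorem mono (hD : DadeHypothesis A L H) {A₁ : Set G} (h : A₁ ⊆ A)
    (hn : ∀ x ∈ L, ∀ a ∈ A₁, x * a * x⁻¹ ∈ A₁) : DadeHypothesis A₁ L H :=
  ⟨fun h1 => hD.one_not_mem (h h1), h.trans hD.subset, hn,
    fun a ha g hg => hD.fusion a (h ha) g (h hg), fun a ha => hD.le_centralizer a (h ha),
    fun a ha => hD.conj_mem_H a (h ha), fun a ha => hD.inf_eq_bot a (h ha),
    fun a ha => hD.sup_eq a (h ha), fun a ha b hb => hD.coprime a (h ha) b (h hb)⟩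

theorem dade_apply (hD : DadeHypothesis A L H) {α : L → ℂ} (hα : IsClassFunction L α) {a : L}
    (ha : (a : G) ∈ A) {u x g : G} (hu : u ∈ H a) (e : x * g * x⁻¹ = a * u) :
    dade A L H α g = α a := by
  have h1 : ∃ a : L, (a : G) ∈ A ∧ ∃ x : G, ∃ u ∈ H (a : G), x * g * x⁻¹ = (a : G) * u :=
    ⟨a, ha, x, u, hu, e⟩
  rw [dade_eq, dadeIsometry, dif_pos h1]
  obtain ⟨hb, y, v, hv, e'⟩ := h1.choose_spec
  have h2 := (hD.conj_eq_of_conj_mul (g := y * x⁻¹) ha hb hu hv (by rw [← e, ← e']; group)).1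
  obtain ⟨l, hl, e2⟩ := hD.fusion a ha _ (h2 ▸ hb)
  rw [← hα a ⟨l, hl⟩]
  congr 1
  exact Subtype.ext (e2.trans h2).symm

theorem dade_apply_mul (hD : DadeHypothesis A L H) {α : L → ℂ} (hα : IsClassFunction L α) {a : L}
    (ha : (a : G) ∈ A) {u : G} (hu : u ∈ H a) : dade A L H α (a * u) = α a :=
  hD.dade_apply hα ha hu (x := 1) (by simp)

theorem dade_apply_self (hD : DadeHypothesis A L H) {α : L → ℂ} (hα : IsClassFunction L α) {a : L}
    (ha : (a : G) ∈ A) : dade A L H α a = α a :=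
  hD.dade_apply hα ha (H a).one_mem (x := 1) (by simp)

theorem dade_one (hD : DadeHypothesis A L H) (α : L → ℂ) : dade A L H α 1 = 0 :=
  dade_of_notMem α hD.one_notMem_supp

theorem isClassFunction_dade (hD : DadeHypothesis A L H) {α : L → ℂ} (hα : IsClassFunction L α) :
    IsClassFunction G (dade A L H α) := fun g x => by
  by_cases h : g ∈ dadeSupp A H
  · obtain ⟨a, ha, u, hu, y, e⟩ := h
    rw [hD.dade_apply hα (a := ⟨a, hD.subset ha⟩) ha hu e,
      hD.dade_apply hα (a := ⟨a, hD.subset ha⟩) ha hu (x := y * x⁻¹) (by rw [← e]; group)]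
  · rw [dade_of_notMem α h, dade_of_notMem α (mt (conj_mem_dadeSupp x).1 h)]

/-- Peterfalvi (2.11). -/
theorem dade_restrict (hD : DadeHypothesis A L H) {A₁ : Set G} (h : A₁ ⊆ A)
    (hn : ∀ x ∈ L, ∀ a ∈ A₁, x * a * x⁻¹ ∈ A₁) {α : L → ℂ} (hα : IsClassFunction L α)
    (hαA : ∀ x : L, (x : G) ∉ A₁ → α x = 0) : dade A₁ L H α = dade A L H α := by
  ext g
  by_cases h1 : g ∈ dadeSupp A H
  · obtain ⟨a, ha, u, hu, y, e⟩ := h1
    rw [hD.dade_apply hα (a := ⟨a, hD.subset ha⟩) ha hu e]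
    by_cases h2 : g ∈ dadeSupp A₁ H
    · obtain ⟨b, hb, v, hv, z, e'⟩ := h2
      rw [(hD.mono h hn).dade_apply hα (a := ⟨b, hD.subset (h hb)⟩) hb hv e',
        ← hD.dade_apply hα (a := ⟨b, hD.subset (h hb)⟩) (h hb) hv e',
        hD.dade_apply hα (a := ⟨a, hD.subset ha⟩) ha hu e]
    · rw [dade_of_notMem α h2, hαA _ fun h3 => h2 ⟨a, h3, u, hu, y, e⟩]
  · rw [dade_of_notMem α h1, dade_of_notMem α fun h2 => h1 (dadeSupp_mono h h2)]

theorem dade_of_notMem' (hD : DadeHypothesis A L H) {A₁ : Set G} {α : L → ℂ}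
    (hα : IsClassFunction L α) (hαA : ∀ x : L, (x : G) ∉ A₁ → α x = 0) {g : G}
    (hg : g ∉ dadeSupp A₁ H) : dade A L H α g = 0 := by
  by_cases h1 : g ∈ dadeSupp A H
  · obtain ⟨a, ha, u, hu, y, e⟩ := h1
    rw [hD.dade_apply hα (a := ⟨a, hD.subset ha⟩) ha hu e]
    exact hαA _ fun h3 => hg ⟨a, h3, u, hu, y, e⟩
  · exact dade_of_notMem α h1

variable [Finite G]

theorem isClassFunction_invDade (hD : DadeHypothesis A L H) {χ : G → ℂ}
    (hχ : IsClassFunction G χ) : IsClassFunction L (invDade A L H χ) := fun a x => by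
  by_cases ha : (a : G) ∈ A
  · have h1 := hD.conj_mem x x.2 a ha
    rw [invDade_of_mem χ ha, invDade_of_mem χ (a := x * a * x⁻¹) h1]
    simp only [coe_mul, coe_inv]
    rw [hD.H_conj ha h1, cavg_conj_smul _ hχ]
  · rw [invDade_of_notMem χ ha, invDade_of_notMem χ (a := x * a * x⁻¹)
      (mt (hD.conj_mem_iff x.2).1 ha)]

/-- Peterfalvi (7.2)(a). -/
theorem invDade_dade (hD : DadeHypothesis A L H) {α : L → ℂ} (hα : IsClassFunction L α)
    (hαA : ∀ x : L, (x : G) ∉ A → α x = 0) : invDade A L H (dade A L H α) = α := by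
  ext a
  by_cases ha : (a : G) ∈ A
  · rw [invDade_of_mem _ ha, cavg_of_const fun u hu => hD.dade_apply_mul hα ha hu]
  · rw [invDade_of_notMem _ ha, hαA a ha]

theorem card_conj_mem (hD : DadeHypothesis A L H) {a : G} (ha : a ∈ A) :
    Nat.card {x : G // x * a * x⁻¹ ∈ A} = Nat.card L * Nat.card (H a) := by
  rw [← Nat.card_prod]
  have h0 : ∀ p : L × H a, (p.1 : G) * p.2 * a * ((p.1 : G) * p.2)⁻¹ ∈ A := fun p => by
    have : (p.1 : G) * p.2 * a * ((p.1 : G) * p.2)⁻¹ = p.1 * a * (p.1 : G)⁻¹ := by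
      rw [mul_assoc (p.1 : G), hD.comm ha p.2.2]; group
    rw [this]
    exact hD.conj_mem _ p.1.2 a ha
  refine (Nat.card_eq_of_bijective (fun p : L × H a => ⟨p.1 * p.2, h0 p⟩) ⟨?_, ?_⟩).symm
  · rintro ⟨l, u⟩ ⟨l', u'⟩ e
    have e1 : (l : G) * u = l' * u' := congrArg Subtype.val e
    have e2 : (u : G) * (u' : G)⁻¹ = (l : G)⁻¹ * l' := by
      rw [mul_inv_eq_iff_eq_mul, mul_assoc, ← e1, inv_mul_cancel_left]
    have e3 := hD.eq_one_of_mem ha ((H a).mul_mem u.2 ((H a).inv_mem u'.2))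
      (e2 ▸ L.mul_mem (L.inv_mem l.2) l'.2)
    exact Prod.ext (Subtype.ext (inv_mul_eq_one.1 (e2 ▸ e3))) (Subtype.ext (mul_inv_eq_one.1 e3))
  · rintro ⟨x, hx⟩
    obtain ⟨l, hl, e⟩ := hD.fusion a ha x hx
    obtain ⟨l', hl', -, u, hu, e'⟩ := hD.exists_mul (c := l⁻¹ * x) ha (by
      rw [← mul_left_inj x⁻¹, mul_assoc l⁻¹, mul_assoc l⁻¹, ← e]; group)
    exact ⟨(⟨l * l', L.mul_mem hl hl'⟩, ⟨u, hu⟩), Subtype.ext (by
      simp only [mul_assoc, ← e', mul_inv_cancel_left])⟩

/-- The integration formula behind Peterfalvi (2.7) and (7.3). -/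
theorem sum_indicator {G : Type*} [Group G] [Fintype G] {A : Set G} {L : Subgroup G} [Fintype L]
    {H : G → Subgroup G} (hD : DadeHypothesis A L H) {F : G → ℂ} (hF : IsClassFunction G F) :
    (Nat.card G : ℂ)⁻¹ * ∑ g, (dadeSupp A H).indicator F g =
      (Nat.card L : ℂ)⁻¹ * ∑ a : L, invDade A L H F a := by
  classical
  let c : G → ℂ := fun y => ∑ a : L,
    if (a : G) ∈ A ∧ (a : G)⁻¹ * y ∈ H a then (Nat.card (H a) : ℂ)⁻¹ else 0
  have hA : ∑ y, F y * c y = ∑ a : L, invDade A L H F a := by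
    simp only [c, Finset.mul_sum]
    rw [Finset.sum_comm]
    refine Finset.sum_congr rfl fun a _ => ?_
    by_cases ha : (a : G) ∈ A
    · rw [invDade_of_mem F ha, cavg_eq, ← Equiv.sum_comp (Equiv.mulLeft (a : G)), Finset.mul_sum,
        sum_eq_sum_subgroup (H := H a) fun g hg => by simp [hg]]
      exact Finset.sum_congr rfl fun u _ => by simp [ha, mul_comm]
    · simp [invDade_of_notMem F ha, ha]
  have hC : ∀ g, ∑ x, F g * c (x * g * x⁻¹) = Nat.card L * (dadeSupp A H).indicator F g := by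
    intro g
    rw [← Finset.mul_sum]
    by_cases hg : g ∈ dadeSupp A H
    · rw [Set.indicator_of_mem hg, mul_comm]
      congr 1
      obtain ⟨a, ha, u, hu, z, e⟩ := hg
      have h1 : ∀ x, c (x * z * g * (x * z)⁻¹) =
          (Nat.card (H a) : ℂ)⁻¹ * if x * a * x⁻¹ ∈ A then 1 else 0 := fun x => by
        have e1 : x * z * g * (x * z)⁻¹ = x * (a * u) * x⁻¹ := by rw [← e]; group
        have h2 : ∀ b : L, (b : G) ∈ A ∧ (b : G)⁻¹ * (x * (a * u) * x⁻¹) ∈ H b →
            x * a * x⁻¹ = b := fun b hb =>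
          (hD.conj_eq_of_conj_mul ha hb.1 hu hb.2 (by rw [mul_inv_cancel_left])).1
        rw [e1]
        split_ifs with h
        · simp only [c]
          rw [Finset.sum_eq_single ⟨_, hD.subset h⟩ (fun b _ hb => if_neg fun h3 =>
            hb (Subtype.ext (h2 b h3).symm)) (by simp), if_pos, hD.card_H_conj ha h, mul_one]
          refine ⟨h, ?_⟩
          convert hD.conj_mem_H_conj ha h hu using 1
          group
        · rw [mul_zero]
          exact Finset.sum_eq_zero fun b _ => if_neg fun h3 => h (h2 b h3 ▸ h3.1)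
      rw [← Equiv.sum_comp (Equiv.mulRight z)]
      simp only [Equiv.coe_mulRight, h1]
      rw [← Finset.mul_sum, sum_ite_eq_card, hD.card_conj_mem ha, Nat.cast_mul, mul_comm,
        mul_inv_cancel_right₀ (card_ne_zero _)]
    · rw [Set.indicator_of_notMem hg, mul_zero, Finset.sum_eq_zero, mul_zero]
      exact fun x _ => Finset.sum_eq_zero fun b _ => if_neg fun h3 =>
        hg ⟨b, h3.1, _, h3.2, x, by rw [mul_inv_cancel_left]⟩
  have hB : Nat.card G * ∑ y, F y * c y = ∑ g, ∑ x, F g * c (x * g * x⁻¹) := by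
    rw [Finset.sum_comm, Nat.card_eq_fintype_card, ← nsmul_eq_mul, ← Finset.card_univ,
      ← Finset.sum_const]
    refine Finset.sum_congr rfl fun x _ => ?_
    rw [← Equiv.sum_comp (MulAut.conj x).toEquiv]
    exact Finset.sum_congr rfl fun g _ => by simp [hF g x]
  rw [hA, Finset.sum_congr rfl fun g _ => hC g, ← Finset.mul_sum] at hB
  have := card_ne_zero G
  have := card_ne_zero L
  field_simp
  linear_combination -hB

end Cfsg.DadeHypothesis

namespace Cfsg.DadeHypothesis

open Cfsg Subgroup Cfsg.Agent Cfsg.Agent.Char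
open scoped ComplexConjugate

variable {G : Type*} [Group G] [Fintype G] {A : Set G} {L : Subgroup G} [Fintype L]
  {H : G → Subgroup G}

/-- Dade reciprocity, Peterfalvi (2.7). -/
theorem classInner_dade_left (hD : DadeHypothesis A L H) {α : L → ℂ} (hα : IsClassFunction L α)
    {χ : G → ℂ} (hχ : IsClassFunction G χ) :
    classInner (dade A L H α) χ = classInner α (invDade A L H χ) := by
  have h1 := hD.sum_indicator ((hD.isClassFunction_dade hα).mul hχ.conj)
  rw [classInner_def, classInner_def]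
  convert h1 using 3 with g _ a
  · by_cases hg : g ∈ dadeSupp A H
    · rw [Set.indicator_of_mem hg]; rfl
    · rw [Set.indicator_of_notMem hg, dade_of_notMem α hg, zero_mul]
  · by_cases ha : (a : G) ∈ A
    · rw [invDade_of_mem _ ha, invDade_of_mem _ ha, ← cavg_conj, ← cavg_mul_left]
      exact cavg_congr fun u hu => by simp [hD.dade_apply_mul hα ha hu]
    · simp [invDade_of_notMem _ ha]

theorem classInner_dade_right (hD : DadeHypothesis A L H) {α : L → ℂ} (hα : IsClassFunction L α)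
    {χ : G → ℂ} (hχ : IsClassFunction G χ) :
    classInner χ (dade A L H α) = classInner (invDade A L H χ) α := by
  rw [← conj_classInner, hD.classInner_dade_left hα hχ, conj_classInner]

theorem classInner_dade_of_eq (hD : DadeHypothesis A L H) {α : L → ℂ} (hα : IsClassFunction L α)
    (hαA : ∀ x : L, (x : G) ∉ A → α x = 0) {χ : G → ℂ} (hχ : IsClassFunction G χ) {ψ : L → ℂ}
    (hψ : ∀ a : L, (a : G) ∈ A → α a ≠ 0 → invDade A L H χ a = ψ a) :
    classInner (dade A L H α) χ = classInner α ψ := by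
  rw [hD.classInner_dade_left hα hχ, classInner_def, classInner_def]
  congr 1
  refine Finset.sum_congr rfl fun a _ => ?_
  by_cases h : α a = 0
  · simp [h]
  · rw [hψ a (by_contra fun h1 => h (hαA a h1)) h]

/-- Reciprocity for a class function that is constant on the cosets `a H(a)`. -/
theorem classInner_dade_of_const (hD : DadeHypothesis A L H) {α : L → ℂ}
    (hα : IsClassFunction L α) (hαA : ∀ x : L, (x : G) ∉ A → α x = 0) {χ : G → ℂ}
    (hχ : IsClassFunction G χ)
    (h : ∀ a : L, (a : G) ∈ A → α a ≠ 0 → ∀ u ∈ H a, χ (a * u) = χ a) :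
    classInner (dade A L H α) χ = classInner α fun x : L => χ x :=
  hD.classInner_dade_of_eq hα hαA hχ fun a ha h1 => invDade_of_const ha (h a ha h1)

theorem classInner_dade_one (hD : DadeHypothesis A L H) {α : L → ℂ}
    (hα : IsClassFunction L α) (hαA : ∀ x : L, (x : G) ∉ A → α x = 0) :
    classInner (dade A L H α) (fun _ => 1) = classInner α fun _ => 1 :=
  hD.classInner_dade_of_const hα hαA (isClassFunction_const 1) fun _ _ _ _ _ => rfl

/-- The Dade map is an isometry, Peterfalvi (2.6)(a). -/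
theorem classInner_dade (hD : DadeHypothesis A L H) {α β : L → ℂ} (hα : IsClassFunction L α)
    (hβ : IsClassFunction L β) (hαA : ∀ x : L, (x : G) ∉ A → α x = 0) :
    classInner (dade A L H α) (dade A L H β) = classInner α β :=
  hD.classInner_dade_of_eq hα hαA (hD.isClassFunction_dade hβ) fun a ha _ => by
    rw [invDade_of_mem _ ha, cavg_of_const fun u hu => hD.dade_apply_mul hβ ha hu]

theorem classInner_dade' (hD : DadeHypothesis A L H) {α β : L → ℂ} (hα : IsClassFunction L α)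
    (hβ : IsClassFunction L β) (hβA : ∀ x : L, (x : G) ∉ A → β x = 0) :
    classInner (dade A L H α) (dade A L H β) = classInner α β := by
  rw [← conj_classInner, hD.classInner_dade hβ hα hβA, conj_classInner]

theorem nrm_dade (hD : DadeHypothesis A L H) {α : L → ℂ} (hα : IsClassFunction L α)
    (hαA : ∀ x : L, (x : G) ∉ A → α x = 0) : nrm (dade A L H α) = nrm α :=
  nrm_eq_of_classInner (hD.classInner_dade hα hα hαA)

/-- The Dade map is induction on functions supported where `H` is trivial. -/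
theorem dade_eq_indFun (hD : DadeHypothesis A L H) {α : L → ℂ} (hα : IsClassFunction L α)
    (hαA : ∀ x : L, (x : G) ∉ A → α x = 0) (h : ∀ a : L, (a : G) ∈ A → α a ≠ 0 → H a = ⊥) :
    dade A L H α = indFun L α := by
  refine (hD.isClassFunction_dade hα).ext_irr (isClassFunction_indFun L α) fun χ hχ => ?_
  rw [classInner_indFun_left _ _ hχ.isClassFunction]
  refine hD.classInner_dade_of_const hα hαA hχ.isClassFunction fun a ha h1 u hu => ?_
  rw [h a ha h1] at hu
  rw [mem_bot.1 hu, mul_one]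

open Classical in
/-- Peterfalvi (7.3). -/
theorem nrm_invDade_le_sum (hD : DadeHypothesis A L H) {χ : G → ℂ} (hχ : IsClassFunction G χ) :
    nrm (invDade A L H χ) ≤
      (Nat.card G : ℝ)⁻¹ * ∑ g ∈ Finset.univ.filter (· ∈ dadeSupp A H), ‖χ g‖ ^ 2 := by
  have h1 := hD.sum_indicator (F := fun g => ((‖χ g‖ ^ 2 : ℝ) : ℂ)) fun g x => by
    simp only [hχ g x]
  have h2 := congrArg Complex.re h1
  rw [← Complex.ofReal_natCast, ← Complex.ofReal_natCast (Nat.card L), ← Complex.ofReal_inv,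
    ← Complex.ofReal_inv, Complex.re_ofReal_mul, Complex.re_ofReal_mul, Complex.re_sum,
    Complex.re_sum] at h2
  rw [nrm_eq_sum, Finset.sum_filter]
  refine le_of_le_of_eq ?_ (h2.symm.trans ?_)
  · gcongr with a
    by_cases ha : (a : G) ∈ A
    · rw [invDade_of_mem _ ha, invDade_of_mem _ ha]; exact norm_cavg_sq_le _ _ _
    · simp [invDade_of_notMem _ ha]
  · congr 1
    refine Finset.sum_congr rfl fun g _ => ?_
    rw [Set.indicator_apply]
    split_ifs
    · exact Complex.ofReal_re _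
    · rfl

/-- Peterfalvi (7.2)(b). -/
theorem nrm_invDade_le (hD : DadeHypothesis A L H) {χ : G → ℂ} (hχ : IsClassFunction G χ) :
    nrm (invDade A L H χ) ≤ nrm χ := by
  classical
  refine (hD.nrm_invDade_le_sum hχ).trans ?_
  rw [nrm_eq_sum]
  gcongr
  exact Finset.filter_subset _ _

theorem ncard_supp (hD : DadeHypothesis A L H) :
    (dadeSupp A H).ncard * Nat.card L = A.ncard * Nat.card G := by
  classical
  have h1 := hD.sum_indicator (isClassFunction_const 1)
  have h2 : ∀ a : L, invDade A L H (fun _ => 1) a = if (a : G) ∈ A then 1 else 0 := fun a => by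
    split_ifs with ha
    · exact invDade_of_const ha fun _ _ => rfl
    · exact invDade_of_notMem _ ha
  simp only [h2, Set.indicator_apply, sum_ite_eq_card] at h1
  have h3 : Nat.card {a : L // (a : G) ∈ A} = A.ncard :=
    Nat.card_eq_of_bijective (fun a => ⟨a.1, a.2⟩) ⟨fun a b e => Subtype.ext (Subtype.ext
      (congrArg (fun x : A => (x : G)) e)), fun a => ⟨⟨⟨a, hD.subset a.2⟩, a.2⟩, rfl⟩⟩
  rw [h3] at h1
  have := card_ne_zero G
  have := card_ne_zero L
  field_simp at h1
  rw [mul_comm A.ncard]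
  exact_mod_cast h1

open Pointwise in
/-- The Dade map sends virtual characters to virtual characters, Peterfalvi (2.6)(b). -/
theorem isGen_dade (hD : DadeHypothesis A L H) {α : L → ℂ} (hα : IsGeneralizedCharacter L α)
    (hαA : ∀ x : L, (x : G) ∉ A → α x = 0) : IsGeneralizedCharacter G (dade A L H α) := by
  classical
  refine (hD.isClassFunction_dade hα.isClassFunction).isGen_of_classInner fun χ hχ => ?_
  rw [hD.classInner_dade_left hα.isClassFunction hχ.isClassFunction]
  let HB : Finset L → Subgroup G := fun B => ⨅ b ∈ B, H b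
  have mHB : ∀ {B : Finset L} {u}, u ∈ HB B ↔ ∀ b ∈ B, u ∈ H (b : L) := by simp [HB, mem_iInf]
  have hconj : ∀ (g : ConjAct L) (B : Finset L), (∀ b ∈ B, (b : G) ∈ A) →
      HB (g • B) = MulAut.conj ((ConjAct.ofConjAct g : L) : G) • HB B := fun g B hB => by
    ext u
    rw [Core.mem_conj_smul, mHB, mHB]
    constructor
    · intro h b hb
      have h1 := h _ (Finset.smul_mem_smul_finset (a := g) hb)
      rw [ConjAct.smul_def, coe_mul, coe_mul, coe_inv, hD.H_conj (hB b hb)
        (hD.conj_mem _ (ConjAct.ofConjAct g).2 _ (hB b hb))] at h1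
      exact Core.mem_conj_smul.1 h1
    · intro h b hb
      obtain ⟨b, hb', rfl⟩ := Finset.mem_smul_finset.1 hb
      rw [ConjAct.smul_def, coe_mul, coe_mul, coe_inv, hD.H_conj (hB b hb')
        (hD.conj_mem _ (ConjAct.ofConjAct g).2 _ (hB b hb'))]
      exact Core.mem_conj_smul.2 (h b hb')
  let f : Finset L → ℂ := fun B => if B.Nonempty ∧ ∀ b ∈ B, (b : G) ∈ A then (-1) ^ B.card *
    ∑ y : ConjAct L, if y • B = B then α (ConjAct.ofConjAct y) *
      conj (cavg (HB B) χ (ConjAct.ofConjAct y : L)) else 0 else 0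
  have h1 : ∀ (g : ConjAct L) B, f (g • B) = f B := fun g B => by
    have h0 : (∀ b ∈ g • B, (b : G) ∈ A) ↔ ∀ b ∈ B, (b : G) ∈ A := by
      refine ⟨fun h b hb => (hD.conj_mem_iff (ConjAct.ofConjAct g).2).1
        (h _ (Finset.smul_mem_smul_finset (a := g) hb)), fun h b hb => ?_⟩
      obtain ⟨b, hb', rfl⟩ := Finset.mem_smul_finset.1 hb
      exact hD.conj_mem _ (ConjAct.ofConjAct g).2 _ (h b hb')
    simp only [f, Finset.smul_finset_nonempty, h0, Finset.card_smul_finset]
    split_ifs with h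
    · congr 1
      rw [← Equiv.sum_comp (MulAut.conj g).toEquiv]
      refine Finset.sum_congr rfl fun y _ => ?_
      simp only [MulEquiv.toEquiv_eq_coe, EquivLike.coe_coe, MulAut.conj_apply, mul_smul,
        inv_smul_smul, smul_left_cancel_iff, map_mul, map_inv, hα.isClassFunction _ _, coe_mul,
        coe_inv, hconj g B h.2, cavg_conj_smul _ hχ.isClassFunction]
    · rfl
  have hnorm : ∀ (y : ConjAct L) (B : Finset L), (∀ b ∈ B, (b : G) ∈ A) → y • B = B →
      ((ConjAct.ofConjAct y : L) : G) ∈ normalizer (HB B : Set G) := fun y B hB h =>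
    Core.conj_smul_eq_iff.1 (by rw [← hconj y B hB, h])
  have h2 : ∀ B, ∃ n : ℤ, f B = Nat.card (MulAction.stabilizer (ConjAct L) B) * n := fun B => by
    simp only [f]
    split_ifs with h
    · let ι : MulAction.stabilizer (ConjAct L) B →* L :=
        ConjAct.ofConjAct.toMonoidHom.comp (MulAction.stabilizer (ConjAct L) B).subtype
      obtain ⟨n, hn⟩ := (hα.comp ι).classInner_int (hχ.isCharacter.cavg (H := HB B)
        (L.subtype.comp ι) fun y => hnorm _ B h.2 y.2).isGen
      refine ⟨(-1) ^ B.card * n, ?_⟩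
      rw [sum_eq_sum_subgroup (H := MulAction.stabilizer (ConjAct L) B) fun g hg =>
        if_neg (show ¬ g • B = B from hg), Finset.sum_congr rfl
        fun (y : MulAction.stabilizer (ConjAct L) B) _ => if_pos (show (y : ConjAct L) • B = B from y.2), Int.cast_mul, ← hn, mul_left_comm,
        card_mul_classInner]
      simp [ι]
    · exact ⟨0, by simp⟩
  obtain ⟨n, hn⟩ := sum_dvd_of_invariant h1 h2
  have h3 : ∑ B, f B = -∑ y : L, α y * conj (invDade A L H χ y) := by
    simp only [f, Finset.mul_sum]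
    rw [Finset.sum_congr rfl fun B _ => (Finset.ite_sum_zero _ _ _), Finset.sum_comm,
      ← Finset.sum_neg_distrib, ← Equiv.sum_comp ConjAct.toConjAct.toEquiv]
    refine Finset.sum_congr rfl fun y _ => ?_
    by_cases hy : (y : G) ∈ A
    swap
    · simp [hαA y hy]
    simp only [MulEquiv.toEquiv_eq_coe, EquivLike.coe_coe, ConjAct.ofConjAct_toConjAct]
    let T : Finset (Finset L) :=
      Finset.univ.filter fun B => (∀ b ∈ B, (b : G) ∈ A) ∧ ConjAct.toConjAct y • B = B
    let g : Finset L → ℂ := fun B => (-1) ^ B.card * (α y * conj (cavg (HB (insert y B)) χ y))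
    have hfix : ConjAct.toConjAct y • y = y := by simp [ConjAct.smul_def]
    have h4 : ∑ B ∈ T, g B = 0 := by
      refine Finset.sum_involution (fun B _ => if y ∈ B then B.erase y else insert y B)
        (fun B _ => ?_) (fun B _ _ => ?_) (fun B hB => ?_) fun B _ => ?_
      · split_ifs with h
        · simp only [g, Finset.insert_erase h, Finset.insert_eq_of_mem h]
          rw [← Finset.card_erase_add_one h]; ring
        · simp only [g, Finset.insert_idem, Finset.card_insert_of_notMem h]; ring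
      · split_ifs with h
        · exact fun e => Finset.notMem_erase y B (e.symm ▸ h)
        · exact fun e => h (e ▸ Finset.mem_insert_self y B)
      · simp only [T, Finset.mem_filter, Finset.mem_univ, true_and] at hB ⊢
        split_ifs with h
        · refine ⟨fun b hb => hB.1 b (Finset.mem_of_mem_erase hb), ?_⟩
          rw [Finset.erase_eq, Finset.smul_finset_sdiff, hB.2, Finset.smul_finset_singleton, hfix]
        · refine ⟨by simpa [hy] using hB.1, ?_⟩
          rw [Finset.insert_eq, Finset.smul_finset_union, hB.2, Finset.smul_finset_singleton, hfix]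
      · by_cases h : y ∈ B
        · simp [h]
        · simp [h]
    have h5 : ∅ ∈ T := by simp [T]
    rw [← Finset.add_sum_erase _ _ h5] at h4
    have h6 : g ∅ = α y * conj (invDade A L H χ y) := by
      simp [g, HB, invDade_of_mem χ hy]
    rw [← h6, ← eq_neg_of_add_eq_zero_right h4, ← Finset.sum_subset (Finset.subset_univ
      (T.erase ∅)) fun B _ hB => ?_]
    · refine Finset.sum_congr rfl fun B hB => ?_
      simp only [T, Finset.mem_erase, Finset.mem_filter, Finset.mem_univ, true_and] at hB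
      obtain ⟨b, hb⟩ := Finset.nonempty_iff_ne_empty.2 hB.1
      have h7 : Nat.card (HB B) ∣ Nat.card (H b) := card_dvd_of_le fun u hu => mHB.1 hu b hb
      rw [if_pos ⟨⟨b, hb⟩, hB.2.1⟩, if_pos hB.2.2, cavg_eq_cavg_inf hχ.isClassFunction (a := y)
        (hnorm _ B hB.2.1 hB.2.2) ((hD.coprime_orderOf hy (hB.2.1 b hb)).coprime_dvd_right h7)]
      congr 4
      ext u
      simp only [mHB, Finset.forall_mem_insert, mem_inf]
      refine ⟨fun h => ⟨hD.mem_of_coprime hy (mem_cent1.1 h.2) ?_, h.1⟩,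
        fun h => ⟨h.2, hD.le_centralizer _ hy h.1⟩⟩
      exact (hD.coprime _ (hB.2.1 b hb) _ hy).coprime_dvd_left (orderOf_dvd_natCard _ (h.1 b hb))
    · simp only [T, Finset.mem_erase, Finset.mem_filter, Finset.mem_univ, true_and,
        ← Finset.nonempty_iff_ne_empty] at hB
      split_ifs with h h'
      · exact absurd ⟨h.1, h.2, h'⟩ hB
      · simp
      · rfl
  refine ⟨-n, ?_⟩
  rw [h3, ← card_mul_classInner, Nat.card_congr ConjAct.ofConjAct.toEquiv, ← mul_neg,
    mul_right_inj' (card_ne_zero L)] at hn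
  rw [Int.cast_neg, ← hn, neg_neg]

theorem zIso (hD : DadeHypothesis A L H) {E : Set (L → ℂ)}
    (h1 : ∀ α ∈ E, IsGeneralizedCharacter L α) (h2 : ∀ α ∈ E, ∀ x : L, (x : G) ∉ A → α x = 0) :
    ZIso E (dade A L H) :=
  ⟨fun α hα β hβ => hD.classInner_dade (h1 α hα).isClassFunction (h1 β hβ).isClassFunction
    (h2 α hα), fun α hα => hD.isGen_dade (h1 α hα) (h2 α hα)⟩

theorem degIso (hD : DadeHypothesis A L H) {S : Set (L → ℂ)} (h1 : ∀ φ ∈ S, IsCharacter L φ)
    (h2 : ∀ φ ∈ S, φ ≠ 0) (h3 : ∀ φ ∈ S, ∀ ψ ∈ S, φ ≠ ψ → classInner φ ψ = 0)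
    (h4 : ∀ φ ∈ S, ∀ x : L, x ≠ 1 → (x : G) ∉ A → φ x = 0) : DegIso S (dade A L H) := by
  refine ⟨h1, h2, h3, hD.zIso (fun α hα => mem_span_isGen (fun φ hφ => (h1 φ hφ).isGen) hα.1)
    fun α hα x hx => ?_, fun α _ => hD.dade_one α⟩
  by_cases h : x = 1
  · rw [h]; exact hα.2
  · exact mem_span_vanish (fun φ hφ => h4 φ hφ x h hx) hα.1

/-- Peterfalvi (5.9)(b). -/
theorem exists_irr_sub_conj (hD : DadeHypothesis A L H) {χ : L → ℂ} (hχ : IsIrrCharacter L χ)
    (hsupp : ∀ x : L, x ≠ 1 → (x : G) ∉ A → χ x = 0) :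
    ∃ μ, IsIrrCharacter G μ ∧ dade A L H (χ - conjFun χ) = μ - conjFun μ := by
  by_cases h : conjFun χ = χ
  · exact ⟨fun _ => 1, isIrrCharacter_one, by simp [h]⟩
  have h1 : IsGeneralizedCharacter L (χ - conjFun χ) := hχ.isGen.sub hχ.isGen.conj
  have h2 : ∀ x : L, (x : G) ∉ A → (χ - conjFun χ) x = 0 := fun x hx => by
    by_cases e : x = 1
    · rw [e, Pi.sub_apply, hχ.isCharacter.conjFun_one, sub_self]
    · simp [hsupp x e hx]
  obtain ⟨μ, ν, hμ, hν, hne, e⟩ := (hD.isGen_dade h1 h2).exists_sub_of_norm_two (by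
    rw [hD.classInner_dade h1.isClassFunction h1.isClassFunction h2, classInner_self_nrm,
      nrm_sub_of_orth (hχ.classInner_of_ne hχ.conjF (Ne.symm h)), nrm_conj, hχ.nrm_eq]
    norm_num) (hD.dade_one _)
  refine ⟨μ, hμ, ?_⟩
  have h3 : conjFun μ - conjFun ν = ν - μ := by
    rw [← conjFun_sub, ← e, ← dade_conj, conjFun_sub, conjFun_conjFun, ← neg_sub, map_neg, e,
      neg_sub]
  have h4 := congrArg (classInner · ν) h3
  simp only [classInner_sub_left, hν.classInner_self, hμ.classInner_of_ne hν hne] at h4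
  rw [e, IsIrrCharacter.eq_of_classInner_ne_zero (χ := conjFun μ) hμ.conj hν fun h5 => ?_]
  rw [h5, (IsIrrCharacter.classInner_eq (χ := conjFun ν) hν.conj hν)] at h4
  split_ifs at h4 <;> norm_num at h4

end Cfsg.DadeHypothesis

namespace Cfsg.Agent.Char

open Cfsg Subgroup

variable {G : Type*} [Group G] {A : Set G} {L : Subgroup G}

theorem dadeHypothesis_of_TI (h1 : (1 : G) ∉ A) (hTI : ∀ g, ∀ a ∈ A, g * a * g⁻¹ ∈ A → g ∈ L)
    (hn : ∀ x ∈ L, ∀ a ∈ A, x * a * x⁻¹ ∈ A) : DadeHypothesis A L fun _ => ⊥ :=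
  ⟨h1, fun a ha => hTI a a ha (by simpa using ha), hn,
    fun a ha g hg => ⟨g, hTI g a ha hg, rfl⟩, fun _ _ => bot_le,
    fun _ _ _ _ u hu => by simpa using hu, fun _ _ => bot_inf_eq _,
    fun a ha => by
      rw [bot_sup_eq, inf_eq_right]
      exact fun c hc => hTI c a ha (by rwa [mem_cent1.1 hc, mul_inv_cancel_right]),
    fun _ _ _ _ => by simp⟩

theorem _root_.Cfsg.DadeHypothesis.mem_of_conj_mem [Finite G] {H : G → Subgroup G}
    (hD : DadeHypothesis A L H) {a g : G} (ha : a ∈ A) (hH : H a = ⊥) (hg : g * a * g⁻¹ ∈ A) :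
    g ∈ L := by
  obtain ⟨l, hl, e⟩ := hD.fusion a ha g hg
  obtain ⟨l', hl', -, u, hu, e'⟩ := hD.exists_mul (c := l⁻¹ * g) ha (by
    rw [← mul_left_inj g⁻¹, mul_assoc l⁻¹, mul_assoc l⁻¹, ← e]; group)
  rw [hH, mem_bot] at hu
  rw [hu, mul_one, inv_mul_eq_iff_eq_mul] at e'
  exact e' ▸ L.mul_mem hl hl'

theorem mem_normalizer_of_conj_mem_set [Finite G] {g : G} (h : ∀ a ∈ A, g * a * g⁻¹ ∈ A) :
    g ∈ normalizer A := by
  intro a
  refine ⟨h a, fun ha => ?_⟩
  have h1 : Set.BijOn (MulAut.conj g) A A :=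
    (Set.toFinite A).injOn_iff_bijOn_of_mapsTo h |>.1 (MulAut.conj g).injective.injOn
  obtain ⟨b, hb, e⟩ := h1.surjOn ha
  rwa [← (MulAut.conj g).injective e]

end Cfsg.Agent.Char
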