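import Mathlib

/-!
# The combinatorial core of Peterfalvi (3.5), for integral lattices.
-/

set_option autoImplicit false

namespace Cfsg.Agent.Char.Grid

open Matrix

variable {ι : Type*} [Fintype ι]

/-- A list of orthonormal integral vectors. -/
def Ortho (l : List (ι → ℤ)) : Prop :=
  l.Pairwise (fun x y => x ⬝ᵥ y = 0) ∧ ∀ x ∈ l, x ⬝ᵥ x = 1

@[simp] theorem ortho_nil : Ortho ([] : List (ι → ℤ)) := ⟨List.Pairwise.nil, by simp⟩

@[simp] theorem ortho_cons {x : ι → ℤ} {l : List (ι → ℤ)} :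
    Ortho (x :: l) ↔ x ⬝ᵥ x = 1 ∧ (∀ y ∈ l, x ⬝ᵥ y = 0) ∧ Ortho l := by
  simp only [Ortho, List.pairwise_cons, List.forall_mem_cons]; tauto

theorem dot_self_nonneg (b : ι → ℤ) : 0 ≤ b ⬝ᵥ b :=
  Finset.sum_nonneg fun _ _ => mul_self_nonneg _

theorem dot_sub_proj {b x : ι → ℤ} (hx : x ⬝ᵥ x = 1) :
    (b - (b ⬝ᵥ x) • x) ⬝ᵥ (b - (b ⬝ᵥ x) • x) = b ⬝ᵥ b - (b ⬝ᵥ x) ^ 2 := by
  simp only [sub_dotProduct, dotProduct_sub, smul_dotProduct, dotProduct_smul, hx, smul_eq_mul,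
    dotProduct_comm x b]
  ring

theorem Ortho.bessel {l : List (ι → ℤ)} (h : Ortho l) (b : ι → ℤ) :
    (l.map fun x => ((b ⬝ᵥ x).natAbs : ℤ)).sum ≤ b ⬝ᵥ b := by
  induction l generalizing b with
  | nil => simpa using dot_self_nonneg b
  | cons x l ih =>
    obtain ⟨h1, h2, h3⟩ := ortho_cons.1 h
    have h4 := ih h3 (b - (b ⬝ᵥ x) • x)
    rw [dot_sub_proj h1, List.map_congr_left (g := fun y => ((b ⬝ᵥ y).natAbs : ℤ))
      fun y hy => by rw [sub_dotProduct, smul_dotProduct, h2 y hy, smul_zero, sub_zero]] at h4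
    have h5 : ((b ⬝ᵥ x).natAbs : ℤ) ≤ (b ⬝ᵥ x) ^ 2 := Int.natAbs_le_self_sq _
    simp only [List.map_cons, List.sum_cons]
    linarith

theorem coord_le {b x : ι → ℤ} (hb : b ⬝ᵥ b ≤ 3) (hx : x ⬝ᵥ x = 1) :
    -1 ≤ b ⬝ᵥ x ∧ b ⬝ᵥ x ≤ 1 := by
  have := dot_self_nonneg (b - (b ⬝ᵥ x) • x)
  rw [dot_sub_proj hx] at this
  constructor <;> nlinarith

theorem unit_cases {x y : ι → ℤ} (hx : x ⬝ᵥ x = 1) (hy : y ⬝ᵥ y = 1) :
    x ⬝ᵥ y = 0 ∨ x = y ∨ x = -y := by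
  have h1 := coord_le (b := x) (by omega) hy
  have h2 : x ⬝ᵥ y ≠ 0 → x = (x ⬝ᵥ y) • y := fun h => by
    rw [← sub_eq_zero, ← dotProduct_self_eq_zero, dot_sub_proj hy, hx]
    have : x ⬝ᵥ y = 1 ∨ x ⬝ᵥ y = -1 := by omega
    rcases this with h | h <;> simp [h]
  by_cases h : x ⬝ᵥ y = 0
  · exact Or.inl h
  have : x ⬝ᵥ y = 1 ∨ x ⬝ᵥ y = -1 := by omega
  rcases this with h3 | h3
  · exact Or.inr (Or.inl (by simpa [h3] using h2 h))
  · exact Or.inr (Or.inr (by simpa [h3] using h2 h))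

theorem orth_of_pt {b x u : ι → ℤ} (hx : x ⬝ᵥ x = 1) (hu : u ⬝ᵥ u = 1) (h1 : b ⬝ᵥ x = 1)
    (h0 : b ⬝ᵥ u = 0) : x ⬝ᵥ u = 0 := by
  rcases unit_cases hx hu with h | rfl | rfl
  · exact h
  · omega
  · rw [dotProduct_neg] at h1; omega

theorem exists_pt {b : ι → ℤ} (h0 : 0 < b ⬝ᵥ b) (hb : b ⬝ᵥ b ≤ 3) :
    ∃ x, x ⬝ᵥ x = 1 ∧ b ⬝ᵥ x = 1 := by
  classical
  obtain ⟨i, hi⟩ : ∃ i, b i ≠ 0 := by
    by_contra h
    push Not at h
    rw [funext h] at h0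
    simp at h0
  have h1 := coord_le hb (x := Pi.single i 1) (by simp)
  simp only [dotProduct_single, mul_one] at h1
  have : b i = 1 ∨ b i = -1 := by omega
  rcases this with h | h
  · exact ⟨Pi.single i 1, by simp, by simp [h]⟩
  · exact ⟨Pi.single i (-1), by simp, by simp [h]⟩

theorem complete2 {b x y : ι → ℤ} (hb : b ⬝ᵥ b = 3) (h : Ortho [x, y]) (hx : b ⬝ᵥ x = 1)
    (hy : b ⬝ᵥ y = 1) : Ortho [x, y, b - x - y] := by
  simp only [ortho_cons, List.forall_mem_cons, List.not_mem_nil, IsEmpty.forall_iff, implies_true,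
    ortho_nil, and_true, sub_dotProduct, dotProduct_sub, dotProduct_comm x b,
    dotProduct_comm y b, dotProduct_comm y x] at h ⊢
  omega

theorem complete1 {b x : ι → ℤ} (hb : b ⬝ᵥ b = 3) (h : x ⬝ᵥ x = 1) (hx : b ⬝ᵥ x = 1) :
    ∃ y z, Ortho [x, y, z] ∧ b = x + y + z := by
  have h1 : (b - x) ⬝ᵥ (b - x) = 2 := by
    simp only [sub_dotProduct, dotProduct_sub, dotProduct_comm x b]; omega
  obtain ⟨y, hy, hy'⟩ := exists_pt (b := b - x) (by omega) (by omega)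
  have h2 := orth_of_pt hy h hy' (by simp only [sub_dotProduct]; omega)
  rw [dotProduct_comm] at h2
  rw [sub_dotProduct] at hy'
  exact ⟨y, _, complete2 hb (by simp [h, hy, h2]) hx (by omega), by abel⟩

theorem eq_of_three {b x y z : ι → ℤ} (hb : b ⬝ᵥ b = 3) (h : Ortho [x, y, z]) (hx : b ⬝ᵥ x = 1)
    (hy : b ⬝ᵥ y = 1) (hz : b ⬝ᵥ z = 1) : b = x + y + z := by
  rw [← sub_eq_zero, ← dotProduct_self_eq_zero]
  simp only [ortho_cons, List.forall_mem_cons, List.not_mem_nil, IsEmpty.forall_iff, implies_true,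
    ortho_nil, and_true, sub_dotProduct, dotProduct_sub, add_dotProduct, dotProduct_add,
    dotProduct_comm x b, dotProduct_comm y b, dotProduct_comm z b, dotProduct_comm y x,
    dotProduct_comm z x, dotProduct_comm z y] at h ⊢
  omega

variable {deg : (ι → ℤ) →+ ℂ}

theorem clean (hd : ∀ u, u ⬝ᵥ u = 1 → deg u ≠ 0) {b b' x : ι → ℤ} (hb : b ⬝ᵥ b = 3)
    (hb' : b' ⬝ᵥ b' = 3) (h : b' ⬝ᵥ b = 1) (e : deg b' = deg b) (hx : x ⬝ᵥ x = 1)
    (h1 : b ⬝ᵥ x = 1) : 0 ≤ b' ⬝ᵥ x := by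
  have h2 := coord_le (b := b') (by omega) hx
  by_contra h3
  have h4 : b - b' - (x + x) = 0 := by
    rw [← dotProduct_self_eq_zero]
    simp only [sub_dotProduct, dotProduct_sub, add_dotProduct, dotProduct_add,
      dotProduct_comm x b, dotProduct_comm x b', dotProduct_comm b b']
    omega
  have h5 := congrArg deg h4
  simp only [map_sub, map_add, e, sub_self, map_zero] at h5
  exact hd x hx (by linear_combination (-1 / 2 : ℂ) * h5)

theorem dot_three {x y z : ι → ℤ} (h : Ortho [x, y, z]) :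
    (x + y + z) ⬝ᵥ (x + y + z) = 3 ∧ (x + y + z) ⬝ᵥ x = 1 ∧ (x + y + z) ⬝ᵥ y = 1 ∧
      (x + y + z) ⬝ᵥ z = 1 := by
  simp only [ortho_cons, List.forall_mem_cons, List.not_mem_nil, IsEmpty.forall_iff, implies_true,
    ortho_nil, and_true, add_dotProduct, dotProduct_add, dotProduct_comm y x,
    dotProduct_comm z x, dotProduct_comm z y] at h ⊢
  omega

theorem ortho_of_share (hd : ∀ u, u ⬝ᵥ u = 1 → deg u ≠ 0) {p x x' y y' : ι → ℤ}
    (h : Ortho [p, x, x']) (h' : Ortho [p, y, y']) (h1 : (p + y + y') ⬝ᵥ (p + x + x') = 1)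
    (e : deg (p + y + y') = deg (p + x + x')) : Ortho [p, x, x', y, y'] := by
  obtain ⟨a1, a2, a3, a4⟩ := dot_three h
  obtain ⟨b1, b2, b3, b4⟩ := dot_three h'
  simp only [ortho_cons, List.forall_mem_cons, List.not_mem_nil, IsEmpty.forall_iff, implies_true,
    ortho_nil, and_true] at h h' ⊢
  have c1 := clean hd a1 b1 h1 e h.2.2.1 a3
  have c2 := clean hd a1 b1 h1 e h.2.2.2.2 a4
  rw [dotProduct_add, dotProduct_add] at h1
  have d1 := fun {u} hu hu' => orth_of_pt (x := u) hu h.2.2.1 hu' (b := p + y + y') (by omega)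
  have d2 := fun {u} hu hu' => orth_of_pt (x := u) hu h.2.2.2.2 hu' (b := p + y + y') (by omega)
  have := d1 h'.2.2.1 b3
  have := d1 h'.2.2.2.2 b4
  have := d2 h'.2.2.1 b3
  have := d2 h'.2.2.2.2 b4
  simp only [dotProduct_comm x y, dotProduct_comm x y', dotProduct_comm x' y,
    dotProduct_comm x' y']
  tauto

theorem exists_common2 (hd : ∀ u, u ⬝ᵥ u = 1 → deg u ≠ 0) {b b' : ι → ℤ} (hb : b ⬝ᵥ b = 3)
    (hb' : b' ⬝ᵥ b' = 3) (h : b' ⬝ᵥ b = 1) (e : deg b' = deg b) :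
    ∃ x, x ⬝ᵥ x = 1 ∧ b ⬝ᵥ x = 1 ∧ b' ⬝ᵥ x = 1 := by
  obtain ⟨x, hx, h1⟩ := exists_pt (b := b) (by omega) (by omega)
  obtain ⟨y, z, h2, rfl⟩ := complete1 hb hx h1
  obtain ⟨-, a2, a3, a4⟩ := dot_three h2
  simp only [ortho_cons, List.forall_mem_cons] at h2
  have c1 := clean hd hb hb' h e hx a2
  have c2 := clean hd hb hb' h e h2.2.2.1 a3
  have c3 := clean hd hb hb' h e h2.2.2.2.2.1 a4
  rw [dotProduct_add, dotProduct_add] at h
  have : b' ⬝ᵥ x = 1 ∨ b' ⬝ᵥ y = 1 ∨ b' ⬝ᵥ z = 1 := by omega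
  rcases this with h3 | h3 | h3
  exacts [⟨x, hx, a2, h3⟩, ⟨y, h2.2.2.1, a3, h3⟩, ⟨z, h2.2.2.2.2.1, a4, h3⟩]

/-- Two columns of the grid. -/
structure TwoCol {I : Type*} (deg : (ι → ℤ) →+ ℂ) (A B : I → ι → ℤ) : Prop where
  hd : ∀ u, u ⬝ᵥ u = 1 → deg u ≠ 0
  A3 : ∀ i, A i ⬝ᵥ A i = 3
  A1 : ∀ i k, i ≠ k → A i ⬝ᵥ A k = 1
  B3 : ∀ i, B i ⬝ᵥ B i = 3
  B1 : ∀ i k, i ≠ k → B i ⬝ᵥ B k = 1
  BA1 : ∀ i, B i ⬝ᵥ A i = 1
  BA0 : ∀ i k, i ≠ k → B i ⬝ᵥ A k = 0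
  dA : ∀ i k, deg (A i) = deg (A k)
  dB : ∀ i k, deg (B i) = deg (A k)

variable {I : Type*} {A B : I → ι → ℤ}

theorem bessel7 {p a a' b b' c c' : ι → ℤ} (o : Ortho [p, a, a', b, b', c, c']) {E : ι → ℤ}
    (h : E ⬝ᵥ E = 3) : ((E ⬝ᵥ p).natAbs : ℤ) + (E ⬝ᵥ a).natAbs + (E ⬝ᵥ a').natAbs +
      (E ⬝ᵥ b).natAbs + (E ⬝ᵥ b').natAbs + (E ⬝ᵥ c).natAbs + (E ⬝ᵥ c').natAbs ≤ 3 ∧
      (-1 ≤ E ⬝ᵥ p ∧ E ⬝ᵥ p ≤ 1) ∧ (-1 ≤ E ⬝ᵥ a ∧ E ⬝ᵥ a ≤ 1) ∧ (-1 ≤ E ⬝ᵥ a' ∧ E ⬝ᵥ a' ≤ 1) ∧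
      (-1 ≤ E ⬝ᵥ b ∧ E ⬝ᵥ b ≤ 1) ∧ (-1 ≤ E ⬝ᵥ b' ∧ E ⬝ᵥ b' ≤ 1) ∧ (-1 ≤ E ⬝ᵥ c ∧ E ⬝ᵥ c ≤ 1) ∧
      (-1 ≤ E ⬝ᵥ c' ∧ E ⬝ᵥ c' ≤ 1) := by
  have h1 := o.bessel E
  have h2 := fun x hx => coord_le h.le (o.2 x hx)
  simp only [List.map_cons, List.sum_cons, List.map_nil, List.sum_nil] at h1
  simp only [List.forall_mem_cons] at h2
  exact ⟨by linarith, by tauto⟩

theorem TwoCol.caseT2 (h : TwoCol deg A B) {i j k l : I} {p a a' b b' c c' : ι → ℤ}
    (o : Ortho [p, a, a', b, b', c, c']) (hki : k ≠ i) (hkj : k ≠ j) (hkl : k ≠ l)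
    (ei : A i = p + a + a') (ej : A j = p + b + b') (ek : A k = p + c + c') (el : A l = a + b + c)
    (e : B i = a + -b + b') : False := by
  have h1 := bessel7 o (h.B3 k)
  have h2 := h.BA1 k
  have h3 := h.BA0 k i hki
  have h4 := h.BA0 k j hkj
  have h5 := h.BA0 k l hkl
  have h6 := h.B1 k i hki
  simp only [ei, ej, ek, el, e, dotProduct_add, dotProduct_neg] at h2 h3 h4 h5 h6
  omega

theorem int_aux1 {p a a' b b' c c' : ℤ}
    (h : (p.natAbs : ℤ) + a.natAbs + a'.natAbs + b.natAbs + b'.natAbs + c.natAbs + c'.natAbs ≤ 3)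
    (h1 : a + b + c = 1) (h2 : p + a + a' = 0) (h3 : p + b + b' = 0) (h4 : p + c + c' = 0)
    (hb : 0 ≤ b) (hc : 0 ≤ c) (ha : a = 1) : a' = -1 ∧ p = 0 ∧ b' = 0 ∧ c' = 0 := by
  obtain rfl : b = 0 := by omega
  obtain rfl : c = 0 := by omega
  subst ha
  omega

theorem int_aux2 {p a a' b b' c c' : ℤ}
    (h : (p.natAbs : ℤ) + a.natAbs + a'.natAbs + b.natAbs + b'.natAbs + c.natAbs + c'.natAbs ≤ 3)
    (h1 : p + a + a' = 1) (h2 : p + b + b' = 0) (h3 : p + c + c' = 0) (h4 : a + b + c = 0)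
    (hp : 0 ≤ p) (ha : 0 ≤ a) (ha' : 0 ≤ a') (ha'' : 0 ≤ -a') :
    (p = 1 ∧ b' = -1 ∧ c' = -1) ∨ (a = 1 ∧ b = -1 ∧ b' = 1) ∨ (a = 1 ∧ c = -1 ∧ c' = 1) := by
  obtain rfl : a' = 0 := by omega
  have : (p = 1 ∧ a = 0) ∨ (p = 0 ∧ a = 1) := by omega
  rcases this with ⟨rfl, rfl⟩ | ⟨rfl, rfl⟩
  · left; omega
  · right; omega

theorem TwoCol.caseT1 (h : TwoCol deg A B) {i j k l : I} {p a a' b b' c c' : ι → ℤ}
    (o : Ortho [p, a, a', b, b', c, c']) (hij : i ≠ j) (hik : i ≠ k) (hil : i ≠ l) (hjk : j ≠ k)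
    (hjl : j ≠ l) (hkl : k ≠ l)
    (ei : A i = p + a + a') (ej : A j = p + b + b') (ek : A k = p + c + c') (el : A l = a + b + c)
    (e : B l ⬝ᵥ a = 1) : False := by
  have g1 := bessel7 o (h.B3 l)
  have g2 := h.BA1 l
  have g3 := h.BA0 l i hil.symm
  have g4 := h.BA0 l j hjl.symm
  have g5 := h.BA0 l k hkl.symm
  have g6 := clean h.hd (h.A3 l) (h.B3 l) (h.BA1 l) (h.dB l l) (x := b) (o.2 b (by simp))
  have g7 := clean h.hd (h.A3 l) (h.B3 l) (h.BA1 l) (h.dB l l) (x := c) (o.2 c (by simp))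
  have h1 := bessel7 o (h.B3 i)
  have h2 := h.BA1 i
  have h3 := h.BA0 i j hij
  have h4 := h.BA0 i k hik
  have h5 := h.BA0 i l hil
  have h6 := clean h.hd (h.B3 l) (h.B3 i) (h.B1 i l hil) ((h.dB i l).trans (h.dB l l).symm)
    (x := -a') (by simpa using o.2 a' (by simp))
  have h7 := clean h.hd (h.A3 i) (h.B3 i) (h.BA1 i) (h.dB i i) (x := p) (o.2 p (by simp))
  have h8 := clean h.hd (h.A3 i) (h.B3 i) (h.BA1 i) (h.dB i i) (x := a) (o.2 a (by simp))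
  have h9 := clean h.hd (h.A3 i) (h.B3 i) (h.BA1 i) (h.dB i i) (x := a') (o.2 a' (by simp))
  have o' := o
  simp only [ortho_cons, List.forall_mem_cons, List.not_mem_nil, IsEmpty.forall_iff, implies_true,
    ortho_nil, and_true] at o'
  simp only [ei, ej, ek, el, dotProduct_add, dotProduct_neg, add_dotProduct, o',
    dotProduct_comm a p, dotProduct_comm a' p, dotProduct_comm a' a, dotProduct_comm c b,
    add_zero, zero_add, forall_const] at g2 g3 g4 g5 g6 g7 h2 h3 h4 h5 h6 h7 h8 h9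
  have g8 := int_aux1 g1.1 g2 g3 g4 g5 g6 g7 e
  have h10 := int_aux2 h1.1 h2 h3 h4 h5 h7 h8 h9 (h6 (by rw [g8.1]; rfl))
  clear g1 h1
  rcases h10 with h10 | h10 | h10
  · have e1 : B i = p + -b' + -c' :=
      eq_of_three (h.B3 i) (by simp [o']) h10.1 (by simp [h10]) (by simp [h10])
    have := h.B1 l i hil.symm
    simp only [e1, dotProduct_add, dotProduct_neg] at this
    omega
  · exact h.caseT2 o hik.symm hjk.symm hkl ei ej ek el
      (eq_of_three (h.B3 i) (by simp [o']) h10.1 (by simp [h10]) h10.2.2)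
  · refine h.caseT2 (b := c) (b' := c') (c := b) (c' := b') ?_ hij.symm hjk hjl ei ek ej
      (by rw [el]; abel) (eq_of_three (h.B3 i) (by simp [o']) h10.1 (by simp [h10]) h10.2.2)
    simp [o', dotProduct_comm c b, dotProduct_comm c b', dotProduct_comm c' b,
      dotProduct_comm c' b']

theorem Ortho.perm {l l' : List (ι → ℤ)} (h : Ortho l) (p : (l : Multiset (ι → ℤ)) = l') :
    Ortho l' := by
  rw [Multiset.coe_eq_coe] at p
  exact ⟨(p.pairwise_iff fun h => by rwa [dotProduct_comm]).1 h.1,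
    fun x hx => h.2 x (p.mem_iff.2 hx)⟩

theorem TwoCol.caseT (h : TwoCol deg A B) {i j k l : I} {p a a' b b' c c' : ι → ℤ}
    (o : Ortho [p, a, a', b, b', c, c']) (hij : i ≠ j) (hik : i ≠ k) (hil : i ≠ l) (hjk : j ≠ k)
    (hjl : j ≠ l) (hkl : k ≠ l) (ei : A i = p + a + a') (ej : A j = p + b + b')
    (ek : A k = p + c + c') (el : A l = a + b + c) : False := by
  have g2 := h.BA1 l
  have g5 := clean h.hd (h.A3 l) (h.B3 l) (h.BA1 l) (h.dB l l) (x := a) (o.2 a (by simp))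
  have g6 := clean h.hd (h.A3 l) (h.B3 l) (h.BA1 l) (h.dB l l) (x := b) (o.2 b (by simp))
  have g7 := clean h.hd (h.A3 l) (h.B3 l) (h.BA1 l) (h.dB l l) (x := c) (o.2 c (by simp))
  have o' := o
  simp only [ortho_cons, List.forall_mem_cons, List.not_mem_nil, IsEmpty.forall_iff, implies_true,
    ortho_nil, and_true] at o'
  simp only [el, dotProduct_add, add_dotProduct, o', dotProduct_comm b a, dotProduct_comm c a,
    dotProduct_comm c b, add_zero, zero_add, forall_const] at g2 g5 g6 g7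
  have : B l ⬝ᵥ a = 1 ∨ B l ⬝ᵥ b = 1 ∨ B l ⬝ᵥ c = 1 := by omega
  rcases this with e | e | e
  · exact h.caseT1 o hij hik hil hjk hjl hkl ei ej ek el e
  · refine h.caseT1 (o.perm ?_) hij.symm hjk hjl hik hil hkl ej ei ek (by rw [el]; abel) e
    simp only [← Multiset.cons_coe, ← Multiset.singleton_add]; abel
  · refine h.caseT1 (o.perm ?_) hik.symm hjk.symm hkl hij hil hjl ek ei ej (by rw [el]; abel) e
    simp only [← Multiset.cons_coe, ← Multiset.singleton_add]; abel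

theorem Ortho.snoc {l : List (ι → ℤ)} (h : Ortho l) {x : ι → ℤ} (hx : x ⬝ᵥ x = 1)
    (h1 : ∀ y ∈ l, x ⬝ᵥ y = 0) : Ortho (l ++ [x]) :=
  (ortho_cons.2 ⟨hx, h1, h⟩).perm (Multiset.coe_eq_coe.2 (List.perm_append_singleton x l).symm)

theorem exists_three_ne [Fintype I] (hI : 4 ≤ Fintype.card I) (i j k : I) :
    ∃ l, l ≠ i ∧ l ≠ j ∧ l ≠ k := by
  classical
  obtain ⟨l, -, hl⟩ := Finset.exists_mem_notMem_of_card_lt_card (s := {i, j, k})
    (t := Finset.univ) (Finset.card_le_three.trans_lt (by rw [Finset.card_univ]; omega))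
  exact ⟨l, by simpa using hl⟩

theorem TwoCol.exists_common [Fintype I] (h : TwoCol deg A B) (hI : 4 ≤ Fintype.card I) :
    ∃ p, p ⬝ᵥ p = 1 ∧ ∀ i, A i ⬝ᵥ p = 1 := by
  obtain ⟨i⟩ : Nonempty I := Fintype.card_pos_iff.1 (by omega)
  obtain ⟨j, hji, -⟩ := exists_three_ne hI i i i
  obtain ⟨p, hp, hi, hj⟩ := exists_common2 h.hd (h.A3 i) (h.A3 j) (h.A1 j i hji) (h.dA j i)
  refine ⟨p, hp, fun k => by_contra fun hk => ?_⟩
  have hki : k ≠ i := fun e => hk (e ▸ hi)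
  have hkj : k ≠ j := fun e => hk (e ▸ hj)
  have hkp : A k ⬝ᵥ p = 0 := by
    have := clean h.hd (h.A3 i) (h.A3 k) (h.A1 k i hki) (h.dA k i) hp hi
    have := coord_le (h.A3 k).le hp
    omega
  obtain ⟨x, hx, hix, hkx⟩ := exists_common2 h.hd (h.A3 i) (h.A3 k) (h.A1 k i hki) (h.dA k i)
  obtain ⟨y, hy, hjy, hky⟩ := exists_common2 h.hd (h.A3 j) (h.A3 k) (h.A1 k j hkj) (h.dA k j)
  have hpx : p ⬝ᵥ x = 0 := by rw [dotProduct_comm]; exact orth_of_pt hx hp hkx hkp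
  have hpy : p ⬝ᵥ y = 0 := by rw [dotProduct_comm]; exact orth_of_pt hy hp hky hkp
  have o1 := complete2 (h.A3 i) (x := p) (y := x) (by simp [hp, hx, hpx]) hi hix
  have o2 := complete2 (h.A3 j) (x := p) (y := y) (by simp [hp, hy, hpy]) hj hjy
  obtain ⟨x', ei⟩ : ∃ x', A i = p + x + x' := ⟨A i - p - x, by abel⟩
  obtain ⟨y', ej⟩ : ∃ y', A j = p + y + y' := ⟨A j - p - y, by abel⟩
  rw [show A i - p - x = x' by rw [ei]; abel] at o1
  rw [show A j - p - y = y' by rw [ej]; abel] at o2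
  have o3 := ortho_of_share h.hd o1 o2 (ei ▸ ej ▸ h.A1 j i hji) (ei ▸ ej ▸ h.dA j i)
  have o3' := o3
  simp only [ortho_cons, List.forall_mem_cons, List.not_mem_nil, IsEmpty.forall_iff, implies_true,
    ortho_nil, and_true] at o3'
  have o4 := complete2 (h.A3 k) (x := x) (y := y) (by simp [o3']) hkx hky
  obtain ⟨z, ek⟩ : ∃ z, A k = x + y + z := ⟨A k - x - y, by abel⟩
  rw [show A k - x - y = z by rw [ek]; abel] at o4
  have hz : z ⬝ᵥ z = 1 := o4.2 z (by simp)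
  have hkz : A k ⬝ᵥ z = 1 := ek ▸ (dot_three o4).2.2.2
  have a1 := h.A1 k i hki
  have a2 := h.A1 k j hkj
  rw [ei, dotProduct_add, dotProduct_add] at a1
  rw [ej, dotProduct_add, dotProduct_add] at a2
  have o5 : Ortho [p, x, x', y, y', z] := by
    refine o3.snoc hz ?_
    simp only [ortho_cons, List.forall_mem_cons, dotProduct_comm x z, dotProduct_comm y z] at o4
    simp only [List.forall_mem_cons, o4, orth_of_pt hz hp hkz hkp,
      orth_of_pt hz o3'.2.2.2.2.1 hkz (by omega), orth_of_pt hz o3'.2.2.2.2.2.2.2.2 hkz (by omega)]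
    simp
  obtain ⟨l, hli, hlj, hlk⟩ := exists_three_ne hI i j k
  have c := fun m (hm : l ≠ m) u => clean h.hd (h.A3 m) (h.A3 l) (h.A1 l m hm) (h.dA l m) (x := u)
  have c1 := c i hli p hp hi
  have c2 := c i hli x hx hix
  have c3 := c i hli x' (o1.2 x' (by simp)) (ei ▸ (dot_three o1).2.2.2)
  have c4 := c j hlj y hy hjy
  have c5 := c j hlj y' (o2.2 y' (by simp)) (ej ▸ (dot_three o2).2.2.2)
  have c6 := c k hlk z hz hkz
  have b1 := h.A1 l i hli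
  have b2 := h.A1 l j hlj
  have b3 := h.A1 l k hlk
  simp only [ei, ej, ek, dotProduct_add] at b1 b2 b3
  have o5' := o5
  simp only [ortho_cons, List.forall_mem_cons, List.not_mem_nil, IsEmpty.forall_iff, implies_true,
    ortho_nil, and_true] at o5'
  have key : ∀ u v, Ortho [u, v] → A l ⬝ᵥ u = 1 → A l ⬝ᵥ v = 1 →
      (∀ w ∈ [p, x, x', y, y', z], w = u ∨ w = v ∨ A l ⬝ᵥ w = 0) →
      ∃ n, A l = u + v + n ∧ Ortho [p, x, x', y, y', z, n] := fun u v o hu hv hw => by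
    have o6 := complete2 (h.A3 l) o hu hv
    have e : A l = u + v + (A l - u - v) := by abel
    refine ⟨_, e, o5.snoc (o6.2 _ (by simp)) fun w hw' => ?_⟩
    simp only [ortho_cons, List.forall_mem_cons] at o6
    rcases hw w hw' with rfl | rfl | h1
    · rw [dotProduct_comm]; exact o6.2.1.2.1
    · rw [dotProduct_comm]; exact o6.2.2.2.1.1
    · refine orth_of_pt o6.2.2.2.2.1 (o5.2 w hw') ?_ h1
      simp only [dotProduct_sub, h.A3 l, hu, hv]; rfl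
  have cases : (A l ⬝ᵥ x' = 1 ∧ A l ⬝ᵥ y' = 1 ∧ A l ⬝ᵥ z = 1) ∨ A l ⬝ᵥ p = 1 ∨ A l ⬝ᵥ x = 1 ∨
      A l ⬝ᵥ y = 1 := by omega
  rcases cases with h1 | h1 | h1 | h1
  · have el := eq_of_three (h.A3 l) (x := x') (y := y') (z := z) (by simp [o5']) h1.1 h1.2.1 h1.2.2
    have d1 := h.BA1 i
    have d2 := h.BA0 i j hji.symm
    have d3 := h.BA0 i k hki.symm
    have d4 := h.BA0 i l hli.symm
    simp only [ei, ej, ek, el, dotProduct_add] at d1 d2 d3 d4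
    omega
  · obtain ⟨n, el, o⟩ := key p z (by simp [o5']) h1 (by omega) (by
      simp only [List.forall_mem_cons]; simp; omega)
    exact h.caseT o hji.symm hli.symm hki.symm hlj.symm hkj.symm hlk ei ej el ek
  · obtain ⟨n, el, o⟩ := key x y' (by simp [o5']) h1 (by omega) (by
      simp only [List.forall_mem_cons]; simp; omega)
    refine h.caseT (p := x) (a := p) (a' := x') (b := y) (b' := z) (c := y') (c' := n) (o.perm ?_)
      hki.symm hli.symm hji.symm hlk.symm hkj hlj (by rw [ei]; abel) ek el ej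
    simp only [← Multiset.cons_coe, ← Multiset.singleton_add]; abel
  · obtain ⟨n, el, o⟩ := key y x' (by simp [o5', dotProduct_comm y x']) h1 (by omega) (by
      simp only [List.forall_mem_cons]; simp; omega)
    refine h.caseT (p := y) (a := p) (a' := y') (b := x) (b' := z) (c := x') (c' := n) (o.perm ?_)
      hkj.symm hlj.symm hji hlk.symm hki hli (by rw [ej]; abel) (by rw [ek]; abel) el ei
    simp only [← Multiset.cons_coe, ← Multiset.singleton_add]; abel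

theorem TwoCol.orth_common [Fintype I] (h : TwoCol deg A B) (hI : 4 ≤ Fintype.card I)
    {p : ι → ℤ} (hp : p ⬝ᵥ p = 1) (hA : ∀ i, A i ⬝ᵥ p = 1) (i : I) : B i ⬝ᵥ p = 0 := by
  obtain ⟨j, hj, -⟩ := exists_three_ne hI i i i
  obtain ⟨k, hk, hkj, -⟩ := exists_three_ne hI i j j
  obtain ⟨l, hl, hlj, hlk⟩ := exists_three_ne hI i j k
  obtain ⟨a, a', oa, ea⟩ := complete1 (h.A3 j) hp (hA j)
  obtain ⟨b, b', ob, eb⟩ := complete1 (h.A3 k) hp (hA k)
  obtain ⟨c, c', oc, ec⟩ := complete1 (h.A3 l) hp (hA l)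
  have o1 := ortho_of_share h.hd oa ob (ea ▸ eb ▸ h.A1 k j hkj) (ea ▸ eb ▸ h.dA k j)
  have o2 := ortho_of_share h.hd oa oc (ea ▸ ec ▸ h.A1 l j hlj) (ea ▸ ec ▸ h.dA l j)
  have o3 := ortho_of_share h.hd ob oc (eb ▸ ec ▸ h.A1 l k hlk) (eb ▸ ec ▸ h.dA l k)
  have o : Ortho [p, a, a', b, b', c, c'] := by
    simp only [ortho_cons, List.forall_mem_cons] at o1 o2 o3 ⊢
    tauto
  have h1 := bessel7 o (h.B3 i)
  have h2 := clean h.hd (h.A3 i) (h.B3 i) (h.BA1 i) (h.dB i i) hp (hA i)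
  have h3 := h.BA0 i j hj.symm
  have h4 := h.BA0 i k hk.symm
  have h5 := h.BA0 i l hl.symm
  simp only [ea, eb, ec, dotProduct_add] at h3 h4 h5
  omega

/-- Peterfalvi (3.5), lattice form. -/
theorem exists_grid {J : Type*} [Fintype I] [Fintype J] (hI : 4 ≤ Fintype.card I)
    (hJ : Fintype.card J = 2 ∨ 4 ≤ Fintype.card J) (hd : ∀ u, u ⬝ᵥ u = 1 → deg u ≠ 0)
    (b : I → J → ι → ℤ) (h3 : ∀ i j, b i j ⬝ᵥ b i j = 3)
    (hc : ∀ i k j, i ≠ k → b i j ⬝ᵥ b k j = 1) (hr : ∀ i j l, j ≠ l → b i j ⬝ᵥ b i l = 1)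
    (h0 : ∀ i k j l, i ≠ k → j ≠ l → b i j ⬝ᵥ b k l = 0)
    (hdeg : ∀ i j k l, deg (b i j) = deg (b k l)) :
    ∃ (x : I → ι → ℤ) (y : J → ι → ℤ) (z : I → J → ι → ℤ), (∀ i j, b i j = x i + y j + z i j) ∧
      (∀ i, x i ⬝ᵥ x i = 1) ∧ (∀ j, y j ⬝ᵥ y j = 1) ∧ (∀ i j, z i j ⬝ᵥ z i j = 1) ∧
      (∀ i k, i ≠ k → x i ⬝ᵥ x k = 0) ∧ (∀ j l, j ≠ l → y j ⬝ᵥ y l = 0) ∧
      (∀ i j, x i ⬝ᵥ y j = 0) ∧ (∀ k i j, x k ⬝ᵥ z i j = 0) ∧ (∀ l i j, y l ⬝ᵥ z i j = 0) ∧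
      ∀ i j k l, i ≠ k ∨ j ≠ l → z i j ⬝ᵥ z k l = 0 := by
  have : Nontrivial I := Fintype.one_lt_card_iff_nontrivial.1 (by omega)
  have : Nontrivial J := Fintype.one_lt_card_iff_nontrivial.1 (by omega)
  have hcol : ∀ j l, j ≠ l → TwoCol deg (b · j) (b · l) := fun j l hjl =>
    ⟨hd, fun i => h3 i j, fun i k => hc i k j, fun i => h3 i l, fun i k => hc i k l,
      fun i => hr i l j hjl.symm, fun i k hik => h0 i k l j hik hjl.symm, fun _ _ => hdeg _ _ _ _,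
      fun _ _ => hdeg _ _ _ _⟩
  have hrow : ∀ i k, i ≠ k → TwoCol deg (b i) (b k) := fun i k hik =>
    ⟨hd, h3 i, hr i, h3 k, hr k, fun j => hc k i j hik.symm,
      fun j l hjl => h0 k i j l hik.symm hjl, fun _ _ => hdeg _ _ _ _, fun _ _ => hdeg _ _ _ _⟩
  choose y hy hy' using fun j => (hcol j _ (exists_ne j).choose_spec.symm).exists_common hI
  have hx : ∀ i, ∃ p, p ⬝ᵥ p = 1 ∧ ∀ j, b i j ⬝ᵥ p = 1 := fun i => by
    rcases hJ with hJ | hJ
    · classical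
      obtain ⟨j, l, hjl, e⟩ := Finset.card_eq_two.1 hJ
      obtain ⟨p, hp, h1, h2⟩ := exists_common2 hd (h3 i j) (h3 i l) (hr i l j hjl.symm)
        (hdeg _ _ _ _)
      refine ⟨p, hp, fun m => ?_⟩
      have := Finset.mem_univ m
      rw [e, Finset.mem_insert, Finset.mem_singleton] at this
      rcases this with rfl | rfl <;> assumption
    · exact (hrow i _ (exists_ne i).choose_spec.symm).exists_common hJ
  choose x hx hx' using hx
  have hxy : ∀ i j, x i ⬝ᵥ y j = 0 := fun i j => by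
    obtain ⟨l, hl⟩ := exists_ne j
    exact orth_of_pt (hx i) (hy j) (hx' i l) ((hcol j l hl.symm).orth_common hI (hy j) (hy' j) i)
  have o := fun i j => complete2 (h3 i j) (x := x i) (y := y j) (by simp [hx, hy, hxy])
    (hx' i j) (hy' j i)
  obtain ⟨z, hz⟩ : ∃ z : I → J → ι → ℤ, ∀ i j, b i j = x i + y j + z i j :=
    ⟨fun i j => b i j - x i - y j, fun i j => by dsimp only; abel⟩
  replace o : ∀ i j, Ortho [x i, y j, z i j] := fun i j => by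
    convert o i j; rw [hz]; abel
  have or := fun i j l (h : j ≠ l) => ortho_of_share hd (o i j) (o i l)
    (hz i j ▸ hz i l ▸ hr i l j h.symm) (hz i j ▸ hz i l ▸ hdeg _ _ _ _)
  have o' : ∀ i j, Ortho [y j, x i, z i j] := fun i j => (o i j).perm (by
    simp only [← Multiset.cons_coe, ← Multiset.singleton_add]; abel)
  have hz' : ∀ i j, b i j = y j + x i + z i j := fun i j => by rw [hz]; abel
  have oc := fun i k j (h : i ≠ k) => ortho_of_share hd (o' i j) (o' k j)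
    (hz' i j ▸ hz' k j ▸ hc k i j h.symm) (hz' i j ▸ hz' k j ▸ hdeg _ _ _ _)
  simp only [ortho_cons, List.forall_mem_cons] at o or oc
  have hxx : ∀ i k, i ≠ k → x i ⬝ᵥ x k = 0 := fun i k h =>
    (oc i k (Classical.arbitrary J) h).2.2.2.1.2.1
  have hyy : ∀ j l, j ≠ l → y j ⬝ᵥ y l = 0 := fun j l h =>
    (or (Classical.arbitrary I) j l h).2.2.2.1.2.1
  have hxz : ∀ k i j, x k ⬝ᵥ z i j = 0 := fun k i j => by
    by_cases h : k = i
    · rw [h]; exact (o i j).2.1.2.1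
    · exact (oc k i j h).2.2.2.1.2.2.1
  have hyz : ∀ l i j, y l ⬝ᵥ z i j = 0 := fun l i j => by
    by_cases h : l = j
    · rw [h]; exact (o i j).2.2.2.1.1
    · exact (or i l j h).2.2.2.1.2.2.1
  refine ⟨x, y, z, hz, hx, hy, fun i j => (o i j).2.2.2.2.1, hxx, hyy, hxy, hxz, hyz,
    fun i j k l h => ?_⟩
  by_cases hik : i = k
  · subst hik
    exact (or i j l (h.resolve_left (by simp))).2.2.2.2.2.1.2.1
  by_cases hjl : j = l
  · subst hjl
    exact (oc i k j hik).2.2.2.2.2.1.2.1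
  have := h0 i k j l hik hjl
  simpa only [hz, add_dotProduct, dotProduct_add, hxx i k hik, hyy j l hjl, hxy, hxz, hyz,
    dotProduct_comm (y j) (x k), dotProduct_comm (z i j) (x k), dotProduct_comm (z i j) (y l),
    zero_add] using this

end Cfsg.Agent.Char.Grid
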