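import Mathlib
import Cfsg.Agent.Char.Dade
import Cfsg.Agent.Char.Grid

/-!
# Cyclic trivial intersection subsets (Peterfalvi, section 3).
-/

set_option autoImplicit false

namespace Cfsg.Agent.Char

open Cfsg Subgroup
open scoped ComplexConjugate

section IndH

variable {W G : Type*} [Group W] [Group G] [Fintype G]

/-- Induction along an injective homomorphism. -/
noncomputable def indH (f : W →* G) (hf : Function.Injective f) : CMap W G :=
  (indLin f.range).comp (LinearMap.funLeft ℂ ℂ (MonoidHom.ofInjective hf).symm)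

variable {f : W →* G} {hf : Function.Injective f}

theorem indH_apply (φ : W → ℂ) :
    indH f hf φ = indFun f.range fun x => φ ((MonoidHom.ofInjective hf).symm x) := rfl

theorem isClassFunction_indH (φ : W → ℂ) : IsClassFunction G (indH f hf φ) :=
  isClassFunction_indFun _ _

theorem classInner_indH_left [Fintype W] (φ : W → ℂ) {χ : G → ℂ} (hχ : IsClassFunction G χ) :
    classInner (indH f hf φ) χ = classInner φ fun w => χ (f w) := by
  have := Fintype.ofFinite f.range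
  rw [indH_apply, classInner_indFun_left _ _ hχ,
    ← classInner_comp_equiv (MonoidHom.ofInjective hf).toEquiv]
  simp [MonoidHom.ofInjective_apply]

theorem classInner_indH_right [Fintype W] (φ : W → ℂ) {χ : G → ℂ} (hχ : IsClassFunction G χ) :
    classInner χ (indH f hf φ) = classInner (fun w => χ (f w)) φ := by
  rw [← conj_classInner, classInner_indH_left φ hχ, conj_classInner]

theorem _root_.Cfsg.IsGeneralizedCharacter.indH {φ : W → ℂ} (h : IsGeneralizedCharacter W φ) :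
    IsGeneralizedCharacter G (indH f hf φ) :=
  (h.comp (MonoidHom.ofInjective hf).symm.toMonoidHom).indFun

theorem _root_.Cfsg.IsCharacter.indH {φ : W → ℂ} (h : IsCharacter W φ) :
    IsCharacter G (indH f hf φ) :=
  (h.comp (MonoidHom.ofInjective hf).symm.toMonoidHom).indFun

theorem indH_one (φ : W → ℂ) : indH f hf φ 1 = f.range.index * φ 1 := by
  rw [indH_apply, indFun_one, map_one]

theorem indH_eq_zero {φ : W → ℂ} {g : G} (h : ∀ x w, x * g * x⁻¹ = f w → φ w = 0) :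
    indH f hf φ g = 0 := by
  rw [indH_apply, indFun_apply', Finset.sum_eq_zero fun x _ => ?_, mul_zero]
  by_cases hx : x * g * x⁻¹ ∈ f.range
  · rw [extendByZero_of_mem _ _ hx]
    exact h x _ (MonoidHom.apply_ofInjective_symm hf ⟨_, hx⟩).symm
  · exact extendByZero_of_not_mem _ _ hx

theorem indH_apply_of_TI {φ : W → ℂ} (hφ : IsClassFunction W φ) {w : W}
    (h : ∀ g w', g * f w * g⁻¹ = f w' → φ w' ≠ 0 → g ∈ f.range) : indH f hf φ (f w) = φ w := by
  have h1 := indFun_apply_eq_of_forall (H := f.range)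
    (hφ.comp (MonoidHom.ofInjective hf).symm.toMonoidHom) (MonoidHom.ofInjective hf w)
    fun g hg => ?_
  · rw [indH_apply]
    exact h1.trans (congrArg φ ((MonoidHom.ofInjective hf).symm_apply_apply w))
  · by_cases hx : g * (MonoidHom.ofInjective hf w : G) * g⁻¹ ∈ f.range
    · rw [extendByZero_of_mem _ _ hx]
      by_contra h2
      exact hg (h g _ (MonoidHom.apply_ofInjective_symm hf ⟨_, hx⟩).symm h2)
    · exact extendByZero_of_not_mem _ _ hx

theorem indFun_indH {L : Subgroup G} [Fintype L] [Finite W] {f : W →* L}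
    (hf : Function.Injective f) (hf' : Function.Injective (L.subtype.comp f)) (φ : W → ℂ) :
    indFun L (indH f hf φ) = indH (L.subtype.comp f) hf' φ := by
  have := Fintype.ofFinite W
  refine (isClassFunction_indFun _ _).ext_irr (isClassFunction_indH _) fun χ hχ => ?_
  rw [classInner_indFun_left _ _ hχ.isClassFunction,
    classInner_indH_left _ (hχ.isClassFunction.restrict L),
    classInner_indH_left _ hχ.isClassFunction]
  rfl

end IndH

section HomGroup

variable {W : Type*} [Group W] (i j k : W →* ℂˣ)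

@[simp] theorem hom_mul_one : i * 1 = i := mul_one i
@[simp] theorem hom_one_mul : 1 * i = i := one_mul i
theorem hom_mul_comm : i * j = j * i := mul_comm i j
theorem hom_mul_assoc : i * j * k = i * (j * k) := mul_assoc i j k
@[simp] theorem hom_inv_inv : i⁻¹⁻¹ = i := inv_inv i
@[simp] theorem hom_inv_one : (1 : W →* ℂˣ)⁻¹ = 1 := by ext; simp
@[simp] theorem hom_mul_inv_cancel : i * i⁻¹ = 1 := mul_inv_cancel i
@[simp] theorem hom_inv_mul_cancel : i⁻¹ * i = 1 := inv_mul_cancel i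
@[simp] theorem hom_mul_inv_cancel_right : i * j * j⁻¹ = i := mul_inv_cancel_right i j
@[simp] theorem hom_inv_mul_cancel_right : i * j⁻¹ * j = i := inv_mul_cancel_right i j
@[simp] theorem hom_inv_mul_cancel_left : j⁻¹ * (j * i) = i := inv_mul_cancel_left j i
@[simp] theorem hom_mul_inv_cancel_left : j * (j⁻¹ * i) = i := mul_inv_cancel_left j i

variable {i j k}

@[simp] theorem hom_inv_inj : i⁻¹ = j⁻¹ ↔ i = j := @inv_inj (W →* ℂˣ) _ i j
@[simp] theorem hom_inv_eq_one : i⁻¹ = 1 ↔ i = 1 := @inv_eq_one (W →* ℂˣ) _ i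
@[simp] theorem hom_one_eq_inv : 1 = i⁻¹ ↔ 1 = i := by rw [eq_comm, hom_inv_eq_one, eq_comm]
@[simp] theorem hom_mul_inv_eq_one : i * j⁻¹ = 1 ↔ i = j := @mul_inv_eq_one (W →* ℂˣ) _ i j
@[simp] theorem hom_mul_left_inj : i * k = j * k ↔ i = j := mul_left_inj k
@[simp] theorem hom_mul_right_inj : k * i = k * j ↔ i = j := mul_right_inj k
@[simp] theorem hom_mul_eq_left : i * j = i ↔ j = 1 := @mul_eq_left (W →* ℂˣ) _ _ i j
@[simp] theorem hom_mul_eq_right : i * j = j ↔ i = 1 := @mul_eq_right (W →* ℂˣ) _ _ i j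

end HomGroup

section Omega

variable {W₁ W₂ : Type*} [Group W₁] [Group W₂]

/-- The linear character `ω_ij` of `W₁ × W₂`. -/
def om (i : W₁ →* ℂˣ) (j : W₂ →* ℂˣ) : W₁ × W₂ → ℂ := fun w => (i w.1 : ℂ) * j w.2

theorem om_apply (i : W₁ →* ℂˣ) (j : W₂ →* ℂˣ) (w : W₁ × W₂) :
    om i j w = (i w.1 : ℂ) * j w.2 := rfl

@[simp] theorem om_one_one : om (1 : W₁ →* ℂˣ) (1 : W₂ →* ℂˣ) = fun _ => 1 := by
  ext; simp [om]

@[simp] theorem om_apply_one (i : W₁ →* ℂˣ) (j : W₂ →* ℂˣ) : om i j 1 = 1 := by simp [om]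

theorem om_eq_hom (i : W₁ →* ℂˣ) (j : W₂ →* ℂˣ) : om i j = fun w =>
    ((i.comp (MonoidHom.fst W₁ W₂) * j.comp (MonoidHom.snd W₁ W₂)) w : ℂ) := by
  ext; simp [om]

theorem isIrr_om (i : W₁ →* ℂˣ) (j : W₂ →* ℂˣ) : IsIrrCharacter (W₁ × W₂) (om i j) :=
  om_eq_hom i j ▸ isIrrCharacter_hom _

theorem om_mul (i k : W₁ →* ℂˣ) (j l : W₂ →* ℂˣ) : om (i * k) (j * l) = om i j * om k l := by
  ext; simp [om]; ring

theorem hom_eq_om (l : W₁ × W₂ →* ℂˣ) :
    (fun w => (l w : ℂ)) = om (l.comp (MonoidHom.inl W₁ W₂)) (l.comp (MonoidHom.inr W₁ W₂)) := by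
  ext w
  simp [om, ← Units.val_mul, ← map_mul]

/-- The Galois conjugate of a linear character. -/
def homMap (u : ℂ →+* ℂ) (i : W₁ →* ℂˣ) : W₁ →* ℂˣ := (Units.map u.toMonoidHom).comp i

@[simp] theorem homMap_apply (u : ℂ →+* ℂ) (i : W₁ →* ℂˣ) (w : W₁) :
    (homMap u i w : ℂ) = u (i w) := rfl

@[simp] theorem homMap_one (u : ℂ →+* ℂ) : homMap u (1 : W₁ →* ℂˣ) = 1 := by
  ext; simp

theorem homMap_injective (u : ℂ →+* ℂ) : Function.Injective (homMap u : (W₁ →* ℂˣ) → _) :=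
  fun i k h => by
    ext w
    exact u.injective (by rw [← homMap_apply, h, homMap_apply])

@[simp] theorem homMap_eq_one {u : ℂ →+* ℂ} {i : W₁ →* ℂˣ} : homMap u i = 1 ↔ i = 1 :=
  (homMap_injective u).eq_iff' (homMap_one u)

theorem homMap_conj [Finite W₁] (i : W₁ →* ℂˣ) : homMap (starRingEnd ℂ) i = i⁻¹ := by
  ext w
  rw [homMap_apply, ← hom_inv_eq_conj, MonoidHom.inv_apply, map_inv]

theorem om_map (u : ℂ →+* ℂ) (i : W₁ →* ℂˣ) (j : W₂ →* ℂˣ) (w : W₁ × W₂) :
    om (homMap u i) (homMap u j) w = u (om i j w) := by simp [om]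

theorem hom_inv_ne_self [Finite W₁] (hodd : Odd (Nat.card W₁)) {i : W₁ →* ℂˣ} (hi : i ≠ 1) :
    i⁻¹ ≠ i := fun e => hi (by
  ext w
  have h1 : (i w) ^ 2 = 1 := by
    have := DFunLike.congr_fun e w
    rw [MonoidHom.inv_apply] at this
    rw [sq, ← inv_mul_cancel (i w), this]
  have h2 : (i w) ^ Nat.card W₁ = 1 := by rw [← map_pow, pow_card_eq_one', map_one]
  have := eq_of_pow_eq_of_coprime (x := i w) (y := 1) (Nat.coprime_two_left.2 hodd)
    (by simpa using h1) (by simpa using h2)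
  simp [this])

noncomputable instance homFintype [Finite W₁] : Fintype (W₁ →* ℂˣ) := Fintype.ofFinite _

noncomputable instance homDecEq : DecidableEq (W₁ →* ℂˣ) := Classical.decEq _

theorem card_hom_of_isCyclic [Finite W₁] (h : IsCyclic W₁) :
    Fintype.card (W₁ →* ℂˣ) = Nat.card W₁ := by
  rw [← Nat.card_eq_fintype_card, card_hom_of_comm h.isMulCommutative.is_comm.comm]

theorem sum_hom_apply [Finite W₁] (h : IsCyclic W₁) (w : W₁) [Decidable (w = 1)] :
    ∑ i : W₁ →* ℂˣ, (i w : ℂ) = if w = 1 then (Nat.card W₁ : ℂ) else 0 := by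
  split_ifs with hw
  · simp [hw, card_hom_of_isCyclic h]
  · obtain ⟨l, hl⟩ := exists_hom_apply_ne_one h.isMulCommutative.is_comm.comm hw
    have h1 := Equiv.sum_comp (Equiv.mulLeft l) fun i : W₁ →* ℂˣ => (i w : ℂ)
    simp only [Equiv.coe_mulLeft, MonoidHom.mul_apply, Units.val_mul, ← Finset.mul_sum] at h1
    have h2 : (l w : ℂ) - 1 ≠ 0 := sub_ne_zero.2 (by simpa using hl)
    exact (mul_eq_zero.1 (by linear_combination h1)).resolve_left h2

variable [Fintype W₁] [Fintype W₂]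

theorem classInner_om (i k : W₁ →* ℂˣ) (j l : W₂ →* ℂˣ) :
    classInner (om i j) (om k l) = if i = k ∧ j = l then 1 else 0 := by
  have := classInner_prod (fun w => (i w : ℂ)) (fun w => (k w : ℂ)) (fun w => (j w : ℂ))
    fun w => (l w : ℂ)
  rw [classInner_hom, classInner_hom] at this
  refine this.trans ?_
  by_cases h : i = k <;> by_cases h' : j = l <;> simp [h, h']

theorem eq_sum_om (h1 : IsCyclic W₁) (h2 : IsCyclic W₂) (φ : W₁ × W₂ → ℂ) :
    φ = ∑ i, ∑ j, classInner φ (om i j) • om i j := by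
  have hc : ∀ a b : W₁ × W₂, a * b = b * a := fun a b =>
    Prod.ext (h1.isMulCommutative.is_comm.comm _ _) (h2.isMulCommutative.is_comm.comm _ _)
  have hcf : ∀ f : W₁ × W₂ → ℂ, IsClassFunction _ f := fun f g x => by
    rw [hc x, mul_inv_cancel_right]
  refine (hcf _).ext_irr (hcf _) fun χ hχ => ?_
  obtain ⟨l, rfl⟩ := hχ.exists_hom_of_comm hc
  rw [hom_eq_om]
  simp [classInner_sum_left, classInner_smul_left, classInner_om, ite_and]

/-- The function `α_ij = (1 - ω_i0)(1 - ω_0j)`. -/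
def alph (i : W₁ →* ℂˣ) (j : W₂ →* ℂˣ) : W₁ × W₂ → ℂ := om 1 1 - om i 1 - om 1 j + om i j

omit [Fintype W₁] [Fintype W₂] in
theorem alph_apply (i : W₁ →* ℂˣ) (j : W₂ →* ℂˣ) (w : W₁ × W₂) :
    alph i j w = (1 - i w.1) * (1 - j w.2) := by
  simp [alph, om]; ring

omit [Fintype W₁] [Fintype W₂] in
theorem alph_eq_zero (i : W₁ →* ℂˣ) (j : W₂ →* ℂˣ) (w : W₁ × W₂) (h : w.1 = 1 ∨ w.2 = 1) :
    alph i j w = 0 := by
  rcases h with h | h <;> simp [alph_apply, h]

omit [Fintype W₁] [Fintype W₂] in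
theorem isGen_alph (i : W₁ →* ℂˣ) (j : W₂ →* ℂˣ) : IsGeneralizedCharacter _ (alph i j) :=
  (((isIrr_om 1 1).isGen.sub (isIrr_om i 1).isGen).sub (isIrr_om 1 j).isGen).add
    (isIrr_om i j).isGen

theorem eq_sum_alph (h1 : IsCyclic W₁) (h2 : IsCyclic W₂) {φ : W₁ × W₂ → ℂ}
    (hφ : ∀ w, w.1 = 1 ∨ w.2 = 1 → φ w = 0) :
    φ = ∑ i, ∑ j, classInner φ (om i j) • alph i j := by
  ext w
  have e := fun w => congrFun (eq_sum_om h1 h2 φ) w
  have e1 := e 1
  have e2 := e (w.1, 1)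
  have e3 := e (1, w.2)
  have e4 := e w
  rw [hφ _ (Or.inl rfl)] at e1 e3
  rw [hφ _ (Or.inr rfl)] at e2
  simp only [Finset.sum_apply, Pi.smul_apply, smul_eq_mul, om, map_one, Units.val_one, mul_one,
    one_mul, Prod.fst_one, Prod.snd_one] at e1 e2 e3 e4
  simp only [Finset.sum_apply, Pi.smul_apply, smul_eq_mul, alph_apply, mul_sub, sub_mul, mul_one,
    one_mul, Finset.sum_sub_distrib]
  linear_combination e4 + e1 - e2 - e3

theorem eq_sum_om_sub (h1 : IsCyclic W₁) (h2 : IsCyclic W₂) {φ : W₁ × W₂ → ℂ}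
    (hφ : ∀ w, w.1 = 1 → φ w = 0) :
    φ = ∑ i, ∑ j, classInner φ (om i j) • (om i j - om 1 j) := by
  ext w
  have e := fun w => congrFun (eq_sum_om h1 h2 φ) w
  have e3 := e (1, w.2)
  have e4 := e w
  rw [hφ _ rfl] at e3
  simp only [Finset.sum_apply, Pi.smul_apply, smul_eq_mul, om, map_one, Units.val_one,
    one_mul] at e3 e4
  simp only [Finset.sum_apply, Pi.smul_apply, smul_eq_mul, Pi.sub_apply, mul_sub,
    one_mul, Finset.sum_sub_distrib, om, MonoidHom.one_apply, Units.val_one]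
  linear_combination e4 - e3

theorem classInner_alph_om (i k : W₁ →* ℂˣ) (j l : W₂ →* ℂˣ) : classInner (alph i j) (om k l) =
    ((if 1 = k then 1 else 0) - if i = k then 1 else 0) *
      ((if 1 = l then 1 else 0) - if j = l then 1 else 0) := by
  simp only [alph, classInner_add_left, classInner_sub_left, classInner_om, ite_and]
  split_ifs <;> norm_num

theorem classInner_alph {i k : W₁ →* ℂˣ} {j l : W₂ →* ℂˣ} (hi : i ≠ 1) (hk : k ≠ 1) (hj : j ≠ 1)
    (hl : l ≠ 1) : classInner (alph i j) (alph k l) =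
      (1 + if i = k then 1 else 0) * (1 + if j = l then 1 else 0) := by
  rw [show alph k l = om 1 1 - om k 1 - om 1 l + om k l from rfl]
  simp only [classInner_add_right, classInner_sub_right, classInner_alph_om, hi, hj, hk.symm,
    hl.symm, if_true, if_false]
  ring

end Omega

/-- The combinatorial content of Peterfalvi (3.8). -/
theorem grid_small {I J : Type*} [Fintype I] [Fintype J] [DecidableEq I] [DecidableEq J]
    {a : I → J → ℂ} (ha : ∀ i j k l, a i j + a k l = a i l + a k j)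
    (hw : Fintype.card I + 2 ≤ Fintype.card J)
    (hlt : {p : I × J | a p.1 p.2 ≠ 0}.ncard < 2 * Fintype.card I) {i₀ : I} {j₀ : J}
    (h0 : a i₀ j₀ ≠ 0) : (∀ i j, a i j = if j = j₀ then a i₀ j₀ else 0) ∨
      ∀ i j, a i j = if i = i₀ then a i₀ j₀ else 0 := by
  classical
  obtain ⟨n, hn'⟩ : ∃ n : I → ℕ, n = fun i => (Finset.univ.filter fun j => a i j ≠ 0).card :=
    ⟨_, rfl⟩
  have hn : {p : I × J | a p.1 p.2 ≠ 0}.ncard = Finset.univ.sum n := by
    subst hn'
    rw [Set.ncard_eq_toFinset_card', Finset.card_eq_sum_card_fiberwise (f := Prod.fst)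
      (t := Finset.univ) (by simp)]
    refine Finset.sum_congr rfl fun i _ => (Finset.card_bij (fun j _ => (i, j)) ?_ ?_ ?_).symm
    · simp
    · simp
    · rintro ⟨k, j⟩ h
      simp only [Finset.mem_filter, Set.mem_toFinset, Set.mem_ofPred_eq] at h
      obtain ⟨h, rfl⟩ := h
      exact ⟨j, by simpa using h, rfl⟩
  rw [hn] at hlt
  clear hn
  obtain ⟨i, hi⟩ : ∃ i, n i ≤ 1 := by
    by_contra h
    push Not at h
    have := Finset.card_nsmul_le_sum Finset.univ n 2 fun i _ => h i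
    rw [Finset.card_univ, smul_eq_mul] at this
    omega
  have hfull : ∀ k, (∀ j, a k j ≠ 0) → n k = Fintype.card J := fun k hk => by simp [hn', hk]
  by_cases hi0 : ∀ j, a i j = 0
  · right
    have h1 : ∀ k j, a k j = a k j₀ := fun k j => by simpa [hi0] using ha k j i j₀
    intro k j
    split_ifs with hk
    · rw [hk, h1]
    · by_contra h2
      have h3 := Finset.sum_le_sum_of_subset (f := n) (Finset.subset_univ {k, i₀})
      rw [Finset.sum_pair hk, hfull k fun l => by rwa [h1, ← h1 k j],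
        hfull i₀ fun l => by rwa [h1]] at h3
      change _ ≤ Finset.univ.sum n at h3
      omega
  push Not at hi0
  obtain ⟨j₁, hj₁⟩ := hi0
  have h1 : ∀ j, j ≠ j₁ → a i j = 0 := fun j hj => by_contra fun h =>
    hj (Finset.card_le_one.1 (hn' ▸ hi) j (by simpa using h) j₁ (by simpa using hj₁))
  obtain ⟨j₂, hj₂⟩ : ∃ j₂, j₂ ≠ j₁ := by
    have : Nontrivial J := Fintype.one_lt_card_iff_nontrivial.1 (by omega)
    exact exists_ne j₁
  have h2 : ∀ k j, j ≠ j₁ → a k j = a k j₂ := fun k j hj => by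
    simpa [h1 j hj, h1 j₂ hj₂] using ha k j i j₂
  have h3 : ∀ k, a k j₁ = a k j₂ + a i j₁ := fun k => by simpa [h1 j₂ hj₂] using ha k j₁ i j₂
  have h4 : ∀ k, 1 ≤ n k := fun k => by
    rw [hn']
    refine Finset.card_pos.2 ?_
    by_cases h : a k j₂ = 0
    · exact ⟨j₁, by simp [h3 k, h, hj₁]⟩
    · exact ⟨j₂, by simpa using h⟩
  have h5 : ∀ k, a k j₂ = 0 := fun k => by_contra fun h => by
    have h6 : Fintype.card J - 1 ≤ n k := by
      rw [← Finset.card_univ, ← Finset.card_erase_of_mem (Finset.mem_univ j₁), hn']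
      exact Finset.card_le_card fun j hj => by simpa [h2 k j (Finset.ne_of_mem_erase hj)] using h
    have h7 := Finset.card_nsmul_le_sum (Finset.univ.erase k) n 1 fun i _ => h4 i
    rw [Finset.card_erase_of_mem (Finset.mem_univ k), Finset.card_univ, smul_eq_mul] at h7
    rw [← Finset.add_sum_erase _ n (Finset.mem_univ k)] at hlt
    have : 0 < Fintype.card I := Fintype.card_pos_iff.2 ⟨k⟩
    change n k + (Finset.univ.erase k).sum n < _ at hlt
    omega
  obtain rfl : j₀ = j₁ := by_contra fun h => h0 (by rw [h2 _ _ h, h5])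
  left
  intro k j
  split_ifs with hj
  · rw [hj, h3, h3 i₀, h5, h5]
  · rw [h2 k j hj, h5]

section CycTI

variable {W₁ W₂ G : Type*} [Group W₁] [Group W₂] [Group G]

/-- Peterfalvi (3.1), without the oddness assumption. -/
structure CycTI (ι : W₁ × W₂ →* G) : Prop where
  inj : Function.Injective ι
  cyc₁ : IsCyclic W₁
  cyc₂ : IsCyclic W₂
  nt₁ : Nontrivial W₁
  nt₂ : Nontrivial W₂
  cop : (Nat.card W₁).Coprime (Nat.card W₂)
  ti : ∀ g w w', w.1 ≠ 1 → w.2 ≠ 1 → w'.1 ≠ 1 → w'.2 ≠ 1 → g * ι w * g⁻¹ = ι w' → g ∈ ι.range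

variable {ι : W₁ × W₂ →* G}

theorem CycTI.comm (h : CycTI ι) (a b : W₁ × W₂) : a * b = b * a :=
  Prod.ext (h.cyc₁.isMulCommutative.is_comm.comm _ _) (h.cyc₂.isMulCommutative.is_comm.comm _ _)

theorem CycTI.isClassFunction (h : CycTI ι) (f : W₁ × W₂ → ℂ) : IsClassFunction _ f :=
  fun g x => by rw [h.comm x, mul_inv_cancel_right]

theorem CycTI.swap (h : CycTI ι) : CycTI (ι.comp (MulEquiv.prodComm : W₂ × W₁ ≃* W₁ × W₂).toMonoidHom) :=
  ⟨h.inj.comp MulEquiv.prodComm.injective, h.cyc₂, h.cyc₁, h.nt₂, h.nt₁, h.cop.symm,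
    fun g w w' h1 h2 h3 h4 e => by
      obtain ⟨v, rfl⟩ := h.ti g w.swap w'.swap h2 h1 h4 h3 e
      exact ⟨v.swap, rfl⟩⟩

theorem CycTI.eq_of_conj (h : CycTI ι) {g : G} {w w' : W₁ × W₂} (h1 : w.1 ≠ 1) (h2 : w.2 ≠ 1)
    (h3 : w'.1 ≠ 1) (h4 : w'.2 ≠ 1) (e : g * ι w * g⁻¹ = ι w') : w = w' := by
  obtain ⟨v, rfl⟩ := h.ti g w w' h1 h2 h3 h4 e
  rw [← map_inv, ← map_mul, ← map_mul, h.comm v, mul_inv_cancel_right] at e
  exact h.inj e

theorem CycTI.mem_range_of_comm (h : CycTI ι) {g : G} {w : W₁ × W₂} (h1 : w.1 ≠ 1) (h2 : w.2 ≠ 1)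
    (e : g * ι w = ι w * g) : g ∈ ι.range :=
  h.ti g w w h1 h2 h1 h2 (by rw [e, mul_inv_cancel_right])

theorem CycTI.of_subgroup {L : Subgroup G} {ι : W₁ × W₂ →* L} (h : CycTI (L.subtype.comp ι)) :
    CycTI ι :=
  ⟨fun _ _ e => h.inj (congrArg Subtype.val e), h.cyc₁, h.cyc₂, h.nt₁, h.nt₂, h.cop,
    fun g w w' h1 h2 h3 h4 e => by
      obtain ⟨v, hv⟩ := h.ti g w w' h1 h2 h3 h4 (congrArg Subtype.val e)
      exact ⟨v, Subtype.ext hv⟩⟩

variable [Fintype G]

theorem CycTI.indH_apply (h : CycTI ι) {φ : W₁ × W₂ → ℂ} (hφ : ∀ w, w.1 = 1 ∨ w.2 = 1 → φ w = 0)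
    {w : W₁ × W₂} (h1 : w.1 ≠ 1) (h2 : w.2 ≠ 1) : indH ι h.inj φ (ι w) = φ w :=
  indH_apply_of_TI (h.isClassFunction φ) fun g w' e h3 =>
    h.ti g w w' h1 h2 (fun e => h3 (hφ _ (Or.inl e))) (fun e => h3 (hφ _ (Or.inr e))) e

variable [Fintype W₁] [Fintype W₂]

theorem classInner_congr_of_supp {X : Type*} [Group X] [Fintype X] {φ ψ ψ' : X → ℂ}
    (h : ∀ x, φ x ≠ 0 → ψ x = ψ' x) : classInner φ ψ = classInner φ ψ' := by
  rw [classInner_def, classInner_def]
  congr 1
  refine Finset.sum_congr rfl fun x _ => ?_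
  by_cases h1 : φ x = 0
  · simp [h1]
  · rw [h x h1]

theorem CycTI.classInner_indH (h : CycTI ι) {φ ψ : W₁ × W₂ → ℂ}
    (hφ : ∀ w, w.1 = 1 ∨ w.2 = 1 → φ w = 0) (hψ : ∀ w, w.1 = 1 ∨ w.2 = 1 → ψ w = 0) :
    classInner (indH ι h.inj φ) (indH ι h.inj ψ) = classInner φ ψ := by
  rw [classInner_indH_left _ (isClassFunction_indH _)]
  exact classInner_congr_of_supp fun w hw =>
    h.indH_apply hψ (fun e => hw (hφ _ (Or.inl e))) fun e => hw (hφ _ (Or.inr e))

/-- The family `η_ij = σ(ω_ij)` of Peterfalvi (3.5). -/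
structure CycFam₀ (ι : W₁ × W₂ →* G) (η : (W₁ →* ℂˣ) → (W₂ →* ℂˣ) → G → ℂ) : Prop
    extends CycTI ι where
  dirr : ∀ i j, IsDirr (η i j)
  orth : ∀ i j k l, i ≠ k ∨ j ≠ l → classInner (η i j) (η k l) = 0
  one : η 1 1 = fun _ => 1
  ind : ∀ i j, indH ι inj (alph i j) = η 1 1 - η i 1 - η 1 j + η i j

/-- The family `η_ij = σ(ω_ij)` of Peterfalvi (3.5), in odd order. -/
structure CycFam (ι : W₁ × W₂ →* G) (η : (W₁ →* ℂˣ) → (W₂ →* ℂˣ) → G → ℂ) : Prop
    extends CycFam₀ ι η where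
  odd₁ : Odd (Nat.card W₁)
  odd₂ : Odd (Nat.card W₂)

variable {η : (W₁ →* ℂˣ) → (W₂ →* ℂˣ) → G → ℂ}

theorem CycFam₀.swap (h : CycFam₀ ι η) :
    CycFam₀ (ι.comp (MulEquiv.prodComm : W₂ × W₁ ≃* W₁ × W₂).toMonoidHom) fun j i => η i j :=
  ⟨h.toCycTI.swap, fun _ _ => h.dirr _ _, fun _ _ _ _ e => h.orth _ _ _ _ e.symm, h.one,
    fun j i => by
      rw [sub_right_comm, ← h.ind]
      refine (isClassFunction_indH _).ext_irr (isClassFunction_indH _) fun χ hχ => ?_
      rw [classInner_indH_left _ hχ.isClassFunction, classInner_indH_left _ hχ.isClassFunction,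
        ← classInner_comp_equiv (Equiv.prodComm W₂ W₁)]
      congr 1
      ext w
      simp [alph_apply, mul_comm]⟩

theorem CycFam.swap (h : CycFam ι η) :
    CycFam (ι.comp (MulEquiv.prodComm : W₂ × W₁ ≃* W₁ × W₂).toMonoidHom) fun j i => η i j :=
  ⟨h.toCycFam₀.swap, h.odd₂, h.odd₁⟩

theorem CycTI.exists_fam_aux (h : CycTI ι) (h1 : 5 ≤ Nat.card W₁)
    (h2 : Nat.card W₂ = 3 ∨ 5 ≤ Nat.card W₂) : ∃ η, CycFam₀ ι η := by
  classical
  let T : (IrrCharacter G → ℤ) →+ (G → ℂ) :=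
    ⟨⟨fun m => ∑ χ : IrrCharacter G, (m χ : ℂ) • (χ : G → ℂ), by simp⟩,
      fun m n => by simp [add_smul, Finset.sum_add_distrib]⟩
  have hT : ∀ m n, classInner (T m) (T n) = (m ⬝ᵥ n : ℤ) := fun m n => by
    simp [T, classInner_sum_irr_sum_irr, dotProduct]
  have hT1 : ∀ m, m ⬝ᵥ m = 1 → IsDirr (T m) := fun m hm =>
    (isGen_sum_irr m).isDirr (by rw [show ∑ χ : IrrCharacter G, (m χ : ℂ) • (χ : G → ℂ) = T m
      from rfl, hT, hm, Int.cast_one])
  let β : {i : W₁ →* ℂˣ // i ≠ 1} → {j : W₂ →* ℂˣ // j ≠ 1} → G → ℂ :=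
    fun i j => indH ι h.inj (alph i j) - fun _ => 1
  have hβ1 : ∀ (i : {i : W₁ →* ℂˣ // i ≠ 1}) (j : {j : W₂ →* ℂˣ // j ≠ 1}),
      classInner (indH ι h.inj (alph i.1 j.1)) (fun _ => 1) = 1 := fun i j => by
    rw [classInner_indH_left _ (isClassFunction_const 1), ← om_one_one, classInner_alph_om]
    simp [i.2, j.2]
  have hβ : ∀ i j k l, classInner (β i j) (β k l) =
      (1 + if i = k then 1 else 0) * (1 + if j = l then 1 else 0) - 1 := fun i j k l => by
    simp only [β, classInner_sub_left, classInner_sub_right, hβ1,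
      h.classInner_indH (alph_eq_zero _ _) (alph_eq_zero _ _), classInner_alph i.2 k.2 j.2 l.2,
      isIrrCharacter_one.classInner_self, Subtype.ext_iff]
    rw [← conj_classInner (indH _ _ _), hβ1]
    simp
  choose b hb hb' using fun i j : _ =>
    ((isGen_alph i.1 j.1).indH.sub isGen_one : IsGeneralizedCharacter G (β i j)).exists_mult
  replace hb' : ∀ i j, T (b i j) = β i j := fun i j => (hb' i j).symm
  have hbb : ∀ i j k l, b i j ⬝ᵥ b k l =
      (1 + if i = k then 1 else 0) * (1 + if j = l then 1 else 0) - 1 := fun i j k l => by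
    have := hT (b i j) (b k l)
    rw [hb', hb', hβ] at this
    exact_mod_cast this.symm
  obtain ⟨x, y, z, e, hx, hy, hz, hxx, hyy, hxy, hxz, hyz, hzz⟩ := Grid.exists_grid
    (deg := (Pi.evalAddMonoidHom (fun _ => ℂ) (1 : G)).comp T)
    (by rw [Fintype.card_subtype_compl, card_hom_of_isCyclic h.cyc₁, Fintype.card_unique]; omega)
    (by rw [Fintype.card_subtype_compl, card_hom_of_isCyclic h.cyc₂, Fintype.card_unique]; omega)
    (fun u hu => (hT1 u hu).one_ne_zero) b (fun i j => by simp [hbb])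
    (fun i k j h => by simp [hbb, h]) (fun i j l h => by simp [hbb, h])
    (fun i k j l h h' => by simp [hbb, h, h'])
    fun i j k l => by simp [hb', β, indH_one, alph_apply]
  let u : IrrCharacter G → ℤ := Pi.single (irrOne G) 1
  have hu : T u = fun _ => 1 := by simp [T, u, Pi.single_apply]
  have huu : u ⬝ᵥ u = 1 := by simp [u]
  have hbu : ∀ i j, x i ⬝ᵥ u = 0 ∧ y j ⬝ᵥ u = 0 ∧ z i j ⬝ᵥ u = 0 := fun i j => by
    have h3 := hT (b i j) u
    rw [hb', hu, classInner_sub_left, hβ1, isIrrCharacter_one.classInner_self, sub_self] at h3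
    have h4 : b i j ⬝ᵥ u = 0 := by exact_mod_cast h3.symm
    obtain ⟨-, h5, h6, h7⟩ := Grid.dot_three (x := x i) (y := y j) (z := z i j) (by simp [*])
    rw [← e] at h5 h6 h7
    exact ⟨Grid.orth_of_pt (hx i) huu h5 h4, Grid.orth_of_pt (hy j) huu h6 h4,
      Grid.orth_of_pt (hz i j) huu h7 h4⟩
  have : Nonempty {i : W₁ →* ℂˣ // i ≠ 1} := Fintype.card_pos_iff.1
    (by rw [Fintype.card_subtype_compl, card_hom_of_isCyclic h.cyc₁, Fintype.card_unique]; omega)
  have : Nonempty {i : W₂ →* ℂˣ // i ≠ 1} := Fintype.card_pos_iff.1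
    (by rw [Fintype.card_subtype_compl, card_hom_of_isCyclic h.cyc₂, Fintype.card_unique]; omega)
  have hxu := fun i => (hbu i (Classical.arbitrary _)).1
  have hyu := fun j => (hbu (Classical.arbitrary _) j).2.1
  have hzu := fun i j => (hbu i j).2.2
  let v : (W₁ →* ℂˣ) → (W₂ →* ℂˣ) → IrrCharacter G → ℤ := fun i j =>
    if hi : i = 1 then (if hj : j = 1 then u else -y ⟨j, hj⟩)
    else if hj : j = 1 then -x ⟨i, hi⟩ else z ⟨i, hi⟩ ⟨j, hj⟩
  refine ⟨fun i j => T (v i j), h, fun i j => hT1 _ ?_, fun i j k l hne => ?_, by simp [v, hu],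
    fun i j => ?_⟩
  · simp only [v]
    split_ifs <;> simp [*]
  · rw [hT, Int.cast_eq_zero]
    simp only [v]
    have hux := fun i => (dotProduct_comm _ _).trans (hxu i)
    have huy := fun i => (dotProduct_comm _ _).trans (hyu i)
    have huz := fun i j => (dotProduct_comm _ _).trans (hzu i j)
    have hyx := fun i j => (dotProduct_comm _ _).trans (hxy i j)
    have hzx := fun i j k => (dotProduct_comm _ _).trans (hxz i j k)
    have hzy := fun i j k => (dotProduct_comm _ _).trans (hyz i j k)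
    split_ifs with a1 a2 a3 a4 a5 a6 a7 a8 a9 b1 b2 b3 b4 b5 b6 <;>
      try simp only [dotProduct_neg, neg_dotProduct, neg_neg, neg_eq_zero, hxy, hxz, hyz, hxu,
        hyu, hzu, hux, huy, huz, hyx, hzx, hzy]
    · exact (hne.elim (· (a1.trans a3.symm)) (· (a2.trans a4.symm)) : False).elim
    · exact hyy _ _ fun e => hne.elim (· (a1.trans a6.symm)) (· (congrArg Subtype.val e))
    · exact hxx _ _ fun e => hne.elim (· (congrArg Subtype.val e)) (· (a9.trans b3.symm))
    · exact hzz _ _ _ _ (hne.imp (fun h e => h (congrArg Subtype.val e))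
        fun h e => h (congrArg Subtype.val e))
  · by_cases hi : i = 1
    · have : alph i j = 0 := by ext; simp [alph_apply, hi]
      rw [this]
      simp [hi]
    by_cases hj : j = 1
    · have : alph i j = 0 := by ext; simp [alph_apply, hj]
      rw [this]
      simp [hj]
    have := hb' ⟨i, hi⟩ ⟨j, hj⟩
    rw [e, map_add, map_add, eq_sub_iff_add_eq] at this
    simp only [v, hi, hj, dite_true, dite_false, map_neg, hu, ← this]
    abel

/-- Peterfalvi (3.5). -/
theorem CycTI.exists_fam (h : CycTI ι) (h1 : Odd (Nat.card W₁)) (h2 : Odd (Nat.card W₂)) :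
    ∃ η, CycFam ι η := by
  have a1 := h.nt₁
  have a2 := h.nt₂
  have b1 := Finite.one_lt_card (α := W₁)
  have b2 := Finite.one_lt_card (α := W₂)
  have hne : Nat.card W₁ ≠ Nat.card W₂ := fun e => by
    have := h.cop
    rw [e, Nat.coprime_self] at this
    omega
  obtain ⟨a, ha⟩ := id h1
  obtain ⟨b, hb⟩ := id h2
  by_cases h3 : 5 ≤ Nat.card W₁
  · obtain ⟨η, hη⟩ := h.exists_fam_aux h3 (by omega)
    exact ⟨η, hη, h1, h2⟩
  · obtain ⟨η, hη⟩ := h.swap.exists_fam_aux (by omega) (by omega)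
    exact ⟨_, hη.swap, h1, h2⟩

end CycTI

end Cfsg.Agent.Char
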