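import Mathlib
import Cfsg.Agent.Char.CycTI

/-!
# The isometry `σ` of a cyclic trivial intersection subset (Peterfalvi 3.2, 3.6 - 3.9).
-/

set_option autoImplicit false
set_option linter.unusedSectionVars false

namespace Cfsg.Agent.Char

open Cfsg Subgroup
open scoped ComplexConjugate

section NC

variable {G I J : Type*} [Group G] [Fintype G]

/-- The number of nonzero coordinates of `ψ` on the family `η`. -/
noncomputable def NC (η : I → J → G → ℂ) (ψ : G → ℂ) : ℕ :=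
  {p : I × J | classInner ψ (η p.1 p.2) ≠ 0}.ncard

variable [Finite I] [Finite J] {η : I → J → G → ℂ}

theorem NC_eq_zero {ψ : G → ℂ} : NC η ψ = 0 ↔ ∀ i j, classInner ψ (η i j) = 0 := by
  simp [NC, Set.ncard_eq_zero (Set.toFinite _), Set.eq_empty_iff_forall_notMem]

theorem NC_add_le (φ ψ : G → ℂ) : NC η (φ + ψ) ≤ NC η φ + NC η ψ := by
  refine le_trans (Set.ncard_le_ncard (fun p hp => ?_) (Set.toFinite _)) (Set.ncard_union_le _ _)
  by_contra h
  simp only [Set.mem_union, Set.mem_ofPred_eq, not_or, not_not] at h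
  exact hp (by rw [classInner_add_left, h.1, h.2, add_zero])

theorem NC_smul_le (c : ℂ) (φ : G → ℂ) : NC η (c • φ) ≤ NC η φ :=
  Set.ncard_le_ncard (fun p hp h => hp (by rw [classInner_smul_left, h, mul_zero])) (Set.toFinite _)

omit [Finite I] [Finite J] in
theorem NC_neg (φ : G → ℂ) : NC η (-φ) = NC η φ := by simp [NC, classInner_neg_left]

theorem NC_sub_le (φ ψ : G → ℂ) : NC η (φ - ψ) ≤ NC η φ + NC η ψ := by
  rw [sub_eq_add_neg, ← NC_neg ψ]
  exact NC_add_le _ _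

omit [Finite I] [Finite J] in
theorem NC_swap (φ : G → ℂ) : NC (fun j i => η i j) φ = NC η φ :=
  Set.ncard_congr (fun p _ => p.swap) (fun _ h => h) (fun _ _ _ _ h => Prod.swap_injective h)
    fun p h => ⟨p.swap, h, rfl⟩

end NC

/-- A matrix `x i + y j` with few nonzero entries vanishes. -/
theorem grid_zero {I J : Type*} [Finite I] [Finite J] {a : I → J → ℂ}
    (ha : ∀ i j k l, a i j + a k l = a i l + a k j)
    (h1 : {p : I × J | a p.1 p.2 ≠ 0}.ncard < Nat.card I)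
    (h2 : {p : I × J | a p.1 p.2 ≠ 0}.ncard < Nat.card J) (i : I) (j : J) : a i j = 0 := by
  obtain ⟨k, hk⟩ : ∃ k, ∀ l, a k l = 0 := by
    by_contra h
    push Not at h
    choose f hf using h
    have := Set.ncard_le_ncard_of_injOn (s := Set.univ) (t := {p : I × J | a p.1 p.2 ≠ 0})
      (fun i => (i, f i)) (fun i _ => hf i) (fun _ _ _ _ e => congrArg Prod.fst e)
    rw [Set.ncard_univ] at this
    omega
  obtain ⟨l, hl⟩ : ∃ l, ∀ k, a k l = 0 := by
    by_contra h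
    push Not at h
    choose f hf using h
    have := Set.ncard_le_ncard_of_injOn (s := Set.univ) (t := {p : I × J | a p.1 p.2 ≠ 0})
      (fun i => (f i, i)) (fun i _ => hf i) (fun _ _ _ _ e => congrArg Prod.snd e)
    rw [Set.ncard_univ] at this
    omega
  simpa [hk, hl] using ha i j k l

theorem int_six_sq {u v t d : ℤ}
    (h : (u + 1) ^ 2 + (u - d - 1) ^ 2 + v ^ 2 + (v - d) ^ 2 + t ^ 2 + (t - d) ^ 2 ≤ 2) :
    u = 0 ∧ d = 0 := by
  have h1 : ∀ x : ℤ, x ^ 2 ≤ 2 → -1 ≤ x ∧ x ≤ 1 := fun x hx => by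
    constructor <;> nlinarith
  have := sq_nonneg (u + 1)
  have := sq_nonneg (u - d - 1)
  have := sq_nonneg v
  have := sq_nonneg (v - d)
  have := sq_nonneg t
  have := sq_nonneg (t - d)
  obtain ⟨a1, a2⟩ := h1 (u + 1) (by linarith)
  obtain ⟨b1, b2⟩ := h1 v (by linarith)
  obtain ⟨c1, c2⟩ := h1 t (by linarith)
  obtain ⟨d1, d2⟩ := h1 (v - d) (by linarith)
  have e1 : -2 ≤ u := by omega
  have e2 : u ≤ 0 := by omega
  have e3 : -2 ≤ d := by omega
  have e4 : d ≤ 2 := by omega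
  interval_cases u <;> interval_cases v <;> interval_cases t <;> interval_cases d <;> simp_all

theorem homMap_eq_pow {W : Type*} [Group W] {u : ℂ →+* ℂ} {N n k m : ℕ}
    (hu : ∀ z : ℂ, z ^ (N * n) = 1 → u z = z ^ k) (hk : k ≡ m [MOD n]) {i : W →* ℂˣ}
    (hi : i ^ n = 1) : homMap u i = i ^ m := by
  ext w
  have h2 : (i w : ℂ) ^ n = 1 := by
    rw [← Units.val_pow_eq_pow_val, ← MonoidHom.pow_apply, hi]; rfl
  rw [homMap_apply, hu _ (by rw [mul_comm, pow_mul, h2, one_pow]), MonoidHom.pow_apply,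
    Units.val_pow_eq_pow_val]
  exact pow_eq_pow_of_modEq hk h2

theorem homMap_eq_self {W : Type*} [Group W] {u : ℂ →+* ℂ} {N n k : ℕ}
    (hu : ∀ z : ℂ, z ^ (N * n) = 1 → u z = z ^ k) (hk : k ≡ 1 [MOD n]) {i : W →* ℂˣ}
    (hi : i ^ n = 1) : homMap u i = i :=
  (homMap_eq_pow hu hk hi).trans (by ext; simp)

variable {W₁ W₂ G : Type*} [Group W₁] [Group W₂] [Group G] [Fintype G] [Fintype W₁] [Fintype W₂]
  {ι : W₁ × W₂ →* G} {η : (W₁ →* ℂˣ) → (W₂ →* ℂˣ) → G → ℂ}

/-- The linear map `σ` sending `ω_ij` to `η_ij`. -/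
noncomputable def sig (η : (W₁ →* ℂˣ) → (W₂ →* ℂˣ) → G → ℂ) : CMap (W₁ × W₂) G where
  toFun φ := ∑ i, ∑ j, classInner φ (om i j) • η i j
  map_add' φ ψ := by simp [classInner_add_left, add_smul, Finset.sum_add_distrib]
  map_smul' c φ := by simp [classInner_smul_left, Finset.smul_sum, smul_smul]

omit [Group G] [Fintype G] in
theorem sig_apply (φ : W₁ × W₂ → ℂ) : sig η φ = ∑ i, ∑ j, classInner φ (om i j) • η i j := rfl

omit [Group G] [Fintype G] in
@[simp] theorem sig_om (i : W₁ →* ℂˣ) (j : W₂ →* ℂˣ) : sig η (om i j) = η i j := by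
  simp [sig_apply, classInner_om, ite_and]

omit [Fintype G] in
theorem CycTI.card_hom₁ (h : CycTI ι) : Fintype.card (W₁ →* ℂˣ) = Nat.card W₁ :=
  card_hom_of_isCyclic h.cyc₁

omit [Fintype G] in
theorem CycTI.card_hom₂ (h : CycTI ι) : Fintype.card (W₂ →* ℂˣ) = Nat.card W₂ :=
  card_hom_of_isCyclic h.cyc₂

omit [Fintype G] in
theorem CycTI.card_ne (h : CycTI ι) : Nat.card W₁ ≠ Nat.card W₂ := fun e => by
  have := h.cop
  have a := h.nt₂
  have := Finite.one_lt_card (α := W₂)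
  rw [e, Nat.coprime_self] at *
  omega

namespace CycFam₀

theorem isGen (h : CycFam₀ ι η) (i j) : IsGeneralizedCharacter G (η i j) := (h.dirr i j).isGen

theorem cf (h : CycFam₀ ι η) (i j) : IsClassFunction G (η i j) := (h.dirr i j).isClassFunction

theorem nrm_eq (h : CycFam₀ ι η) (i j) : nrm (η i j) = 1 := (h.dirr i j).nrm_eq

theorem inner (h : CycFam₀ ι η) (i j k l) :
    classInner (η i j) (η k l) = if i = k ∧ j = l then 1 else 0 := by
  split_ifs with e
  · rw [e.1, e.2, (h.dirr k l).classInner_self]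
  · exact h.orth _ _ _ _ (not_and_or.1 e)

theorem eq_iff (h : CycFam₀ ι η) {i j k l} : η i j = η k l ↔ i = k ∧ j = l :=
  ⟨fun e => by_contra fun h1 => by
    have := h.inner i j k l
    rw [if_neg h1, e, (h.dirr k l).classInner_self] at this
    exact one_ne_zero this, fun e => by rw [e.1, e.2]⟩

theorem ne_neg (h : CycFam₀ ι η) (i j k l) : η i j ≠ -η k l := fun e => by
  have := h.inner i j k l
  rw [e, classInner_neg_left, (h.dirr k l).classInner_self] at this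
  split_ifs at this <;> norm_num at this

theorem orth' (h : CycFam₀ ι η) (s : Finset ((W₁ →* ℂˣ) × (W₂ →* ℂˣ))) :
    ∀ p ∈ s, ∀ q ∈ s, p ≠ q → classInner (η p.1 p.2) (η q.1 q.2) = 0 :=
  fun _ _ _ _ e => h.orth _ _ _ _ (not_and_or.1 fun e' => e (Prod.ext e'.1 e'.2))

theorem classInner_sig_eta (h : CycFam₀ ι η) (φ : W₁ × W₂ → ℂ) (i j) :
    classInner (sig η φ) (η i j) = classInner φ (om i j) := by
  simp [sig_apply, classInner_sum_left, classInner_smul_left, h.inner, ite_and]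

theorem classInner_sig (h : CycFam₀ ι η) (φ ψ : W₁ × W₂ → ℂ) :
    classInner (sig η φ) (sig η ψ) = classInner φ ψ := by
  conv_rhs => rw [eq_sum_om h.cyc₁ h.cyc₂ ψ]
  simp only [sig_apply ψ, classInner_sum_right, classInner_smul_right, h.classInner_sig_eta]

theorem cf_sig (h : CycFam₀ ι η) (φ : W₁ × W₂ → ℂ) : IsClassFunction G (sig η φ) :=
  isClassFunction_sum _ _ fun i _ => isClassFunction_sum _ _ fun j _ => (h.cf i j).smul _

theorem isGen_sig (h : CycFam₀ ι η) {φ : W₁ × W₂ → ℂ} (hφ : IsGeneralizedCharacter _ φ) :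
    IsGeneralizedCharacter G (sig η φ) :=
  isGen_sum _ _ fun i _ => isGen_sum _ _ fun j _ => by
    obtain ⟨n, hn⟩ := hφ.classInner_int (isIrr_om i j).isGen
    exact hn ▸ (h.isGen i j).intCast_smul n

theorem sig_alph (h : CycFam₀ ι η) (i j) : sig η (alph i j) = indH ι h.inj (alph i j) := by
  rw [h.ind, alph, map_add, map_sub, map_sub, sig_om, sig_om, sig_om, sig_om]

/-- Peterfalvi (3.2.a). -/
theorem sig_eq_indH (h : CycFam₀ ι η) {φ : W₁ × W₂ → ℂ} (hφ : ∀ w, w.1 = 1 ∨ w.2 = 1 → φ w = 0) :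
    sig η φ = indH ι h.inj φ := by
  rw [eq_sum_alph h.cyc₁ h.cyc₂ hφ]
  simp only [map_sum, map_smul, h.sig_alph]

/-- The values on `V` of a class function only depend on its coordinates on the `η_ij`. -/
theorem apply_eq_sum (h : CycFam₀ ι η) {ψ : G → ℂ} (hψ : IsClassFunction G ψ) {w : W₁ × W₂}
    (h1 : w.1 ≠ 1) (h2 : w.2 ≠ 1) : ψ (ι w) = ∑ i, ∑ j, classInner ψ (η i j) * om i j w := by
  classical
  have h3 := h.sig_eq_indH (φ := Pi.single w 1) fun v hv => Pi.single_eq_of_ne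
    (by rintro rfl; exact hv.elim h1 h2) _
  have h4 : ∀ f : W₁ × W₂ → ℂ, classInner f (Pi.single w 1) =
      (Nat.card (W₁ × W₂) : ℂ)⁻¹ * f w := fun f => by
    rw [classInner_def, Finset.sum_eq_single w] <;> simp +contextual
  have h5 := congrArg (classInner ψ) h3
  rw [classInner_indH_right _ hψ, h4, sig_apply] at h5
  simp only [classInner_sum_right, classInner_smul_right, conj_classInner, h4] at h5
  refine mul_left_cancel₀ (inv_ne_zero (card_ne_zero (W₁ × W₂))) (h5.symm.trans ?_)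
  simp only [Finset.mul_sum]
  exact Finset.sum_congr rfl fun i _ => Finset.sum_congr rfl fun j _ => by ring

/-- Peterfalvi (3.2.c). -/
theorem apply_V (h : CycFam₀ ι η) (i j) {w : W₁ × W₂} (h1 : w.1 ≠ 1) (h2 : w.2 ≠ 1) :
    η i j (ι w) = om i j w := by
  simp [h.apply_eq_sum (h.cf i j) h1 h2, h.inner, ite_and]

theorem sig_apply_V (h : CycFam₀ ι η) (φ : W₁ × W₂ → ℂ) {w : W₁ × W₂} (h1 : w.1 ≠ 1)
    (h2 : w.2 ≠ 1) : sig η φ (ι w) = φ w := by
  conv_rhs => rw [eq_sum_om h.cyc₁ h.cyc₂ φ]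
  simp [sig_apply, h.apply_V _ _ h1 h2]

/-- Peterfalvi (3.2.d). -/
theorem vanish (h : CycFam₀ ι η) {ψ : G → ℂ} (hψ : IsClassFunction G ψ)
    (h0 : ∀ i j, classInner ψ (η i j) = 0) {w : W₁ × W₂} (h1 : w.1 ≠ 1) (h2 : w.2 ≠ 1) :
    ψ (ι w) = 0 := by
  simp [h.apply_eq_sum hψ h1 h2, h0]

/-- Peterfalvi (3.7). -/
theorem exchange (h : CycFam₀ ι η) {ψ : G → ℂ} (hψ : IsClassFunction G ψ)
    (hV : ∀ w : W₁ × W₂, w.1 ≠ 1 → w.2 ≠ 1 → ψ (ι w) = 0) (i j k l) :
    classInner ψ (η i j) + classInner ψ (η k l) = classInner ψ (η i l) + classInner ψ (η k j) := by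
  have key : ∀ i j, classInner ψ (η 1 1) - classInner ψ (η i 1) - classInner ψ (η 1 j) +
      classInner ψ (η i j) = 0 := fun i j => by
    rw [← classInner_sub_right, ← classInner_sub_right, ← classInner_add_right, ← h.ind,
      classInner_indH_right _ hψ, classInner_eq_zero_comm,
      classInner_congr_of_supp (ψ' := 0) fun w hw => hV w (fun e => hw (alph_eq_zero _ _ _ (.inl e)))
        fun e => hw (alph_eq_zero _ _ _ (.inr e)), classInner_zero_right]
  linear_combination key i j + key k l - key i l - key k j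

theorem bessel (h : CycFam₀ ι η) (ψ : G → ℂ) (s : Finset ((W₁ →* ℂˣ) × (W₂ →* ℂˣ))) :
    ∑ p ∈ s, ‖classInner ψ (η p.1 p.2)‖ ^ 2 ≤ nrm ψ := by
  have := Char.bessel (e := fun p : (W₁ →* ℂˣ) × (W₂ →* ℂˣ) => η p.1 p.2) (h.orth' s) ψ
  simpa only [h.nrm_eq, div_one] using this

theorem NC_le_nrm (h : CycFam₀ ι η) {ψ : G → ℂ} (hψ : IsGeneralizedCharacter G ψ) :
    (NC η ψ : ℝ) ≤ nrm ψ := by
  classical
  refine le_trans ?_ (h.bessel ψ {p | classInner ψ (η p.1 p.2) ≠ 0})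
  rw [NC, Set.ncard_eq_toFinset_card', Set.toFinset_ofPred, Finset.card_eq_sum_ones]
  push_cast
  refine Finset.sum_le_sum fun p hp => ?_
  obtain ⟨n, hn⟩ := hψ.classInner_int (h.isGen p.1 p.2)
  have h1 : n ≠ 0 := by rintro rfl; simp [hn] at hp
  rw [hn, Complex.norm_intCast, sq_abs]
  exact_mod_cast (one_le_sq_iff_one_le_abs n).2 (Int.one_le_abs h1)

theorem NC_dirr (h : CycFam₀ ι η) {ψ : G → ℂ} (hψ : IsDirr ψ) : NC η ψ ≤ 1 := by
  have := h.NC_le_nrm hψ.isGen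
  rw [hψ.nrm_eq] at this
  exact_mod_cast this

/-- A class function vanishing on `V` with few coordinates has none. -/
theorem orth_of_NC_lt (h : CycFam₀ ι η) {ψ : G → ℂ} (hψ : IsClassFunction G ψ)
    (hV : ∀ w : W₁ × W₂, w.1 ≠ 1 → w.2 ≠ 1 → ψ (ι w) = 0) (h1 : NC η ψ < Nat.card W₁)
    (h2 : NC η ψ < Nat.card W₂) (i j) : classInner ψ (η i j) = 0 :=
  grid_zero (a := fun i j => classInner ψ (η i j)) (h.exchange hψ hV)
    (by rwa [Nat.card_eq_fintype_card, h.card_hom₁]) (by rwa [Nat.card_eq_fintype_card, h.card_hom₂])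
    i j

theorem sig_comp (h : CycFam₀ ι η) {ψ : G → ℂ} (hψ : IsClassFunction G ψ) {w : W₁ × W₂}
    (h1 : w.1 ≠ 1) (h2 : w.2 ≠ 1) :
    (ψ - ∑ i, ∑ j, classInner ψ (η i j) • η i j) (ι w) = 0 := by
  simp [h.apply_eq_sum hψ h1 h2, h.apply_V _ _ h1 h2]

end CycFam₀

namespace CycFam

theorem three_le₁ (h : CycFam ι η) : 3 ≤ Nat.card W₁ := by
  have := h.nt₁
  have := Finite.one_lt_card (α := W₁)
  obtain ⟨a, ha⟩ := h.odd₁
  omega

theorem three_le₂ (h : CycFam ι η) : 3 ≤ Nat.card W₂ := h.swap.three_le₁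

/-- Peterfalvi (3.8). -/
theorem small (h : CycFam ι η) {ψ : G → ℂ} (hψ : IsClassFunction G ψ)
    (hV : ∀ w : W₁ × W₂, w.1 ≠ 1 → w.2 ≠ 1 → ψ (ι w) = 0) (hw : Nat.card W₁ < Nat.card W₂)
    (hlt : NC η ψ < 2 * Nat.card W₁) {i₀ j₀} (h0 : classInner ψ (η i₀ j₀) ≠ 0) :
    (∀ i j, classInner ψ (η i j) = if j = j₀ then classInner ψ (η i₀ j₀) else 0) ∨
      ∀ i j, classInner ψ (η i j) = if i = i₀ then classInner ψ (η i₀ j₀) else 0 := by
  refine grid_small (a := fun i j => classInner ψ (η i j)) (h.exchange hψ hV) ?_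
    (by rwa [h.card_hom₁]) h0
  rw [h.card_hom₁, h.card_hom₂]
  obtain ⟨a, ha⟩ := h.odd₁
  obtain ⟨b, hb⟩ := h.odd₂
  omega

/-- Peterfalvi (3.8), symmetric form. -/
theorem small' (h : CycFam ι η) {ψ : G → ℂ} (hψ : IsClassFunction G ψ)
    (hV : ∀ w : W₁ × W₂, w.1 ≠ 1 → w.2 ≠ 1 → ψ (ι w) = 0) (h1 : NC η ψ < 2 * Nat.card W₁)
    (h2 : NC η ψ < 2 * Nat.card W₂) {i₀ j₀} (h0 : classInner ψ (η i₀ j₀) ≠ 0) :
    (∀ i j, classInner ψ (η i j) = if j = j₀ then classInner ψ (η i₀ j₀) else 0) ∨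
      ∀ i j, classInner ψ (η i j) = if i = i₀ then classInner ψ (η i₀ j₀) else 0 := by
  rcases lt_or_gt_of_ne h.card_ne with hw | hw
  · exact h.small hψ hV hw h1 h0
  · have := h.swap.small hψ (fun w a b => hV w.swap b a) hw (by rwa [NC_swap]) h0
    exact this.symm.imp (fun h i j => h j i) fun h i j => h j i

theorem orth_of_NC_le (h : CycFam ι η) {ψ : G → ℂ} (hψ : IsClassFunction G ψ)
    (hV : ∀ w : W₁ × W₂, w.1 ≠ 1 → w.2 ≠ 1 → ψ (ι w) = 0) (h1 : NC η ψ ≤ 2) (i j) :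
    classInner ψ (η i j) = 0 :=
  h.orth_of_NC_lt hψ hV (by have := h.three_le₁; omega) (by have := h.three_le₂; omega) i j

theorem orth_of_nrm_le (h : CycFam ι η) {ψ : G → ℂ} (hψ : IsGeneralizedCharacter G ψ)
    (hV : ∀ w : W₁ × W₂, w.1 ≠ 1 → w.2 ≠ 1 → ψ (ι w) = 0) (h1 : nrm ψ ≤ 2) (i j) :
    classInner ψ (η i j) = 0 :=
  h.orth_of_NC_le hψ.isClassFunction hV (by exact_mod_cast (h.NC_le_nrm hψ).trans h1) i j

/-- Peterfalvi (3.9.a). -/
theorem eq_of_V (h : CycFam ι η) {φ : G → ℂ} (hφ : IsDirr φ) {i j}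
    (hV : ∀ w : W₁ × W₂, w.1 ≠ 1 → w.2 ≠ 1 → φ (ι w) = om i j w) : φ = η i j := by
  have h1 := h.orth_of_NC_le (hφ.isClassFunction.sub (h.cf i j))
    (fun w a b => by rw [Pi.sub_apply, hV w a b, h.apply_V _ _ a b, sub_self])
    ((NC_sub_le _ _).trans (add_le_add (h.NC_dirr hφ) (h.NC_dirr (h.dirr i j)))) i j
  rw [classInner_sub_left, (h.dirr i j).classInner_self, sub_eq_zero] at h1
  exact hφ.eq_of_classInner_eq_one (h.dirr i j) h1

theorem eq_eta (h : CycFam ι η) {η' : (W₁ →* ℂˣ) → (W₂ →* ℂˣ) → G → ℂ} (h' : CycFam₀ ι η') :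
    η' = η :=
  funext₂ fun i j => h.eq_of_V (h'.dirr i j) fun _ a b => h'.apply_V i j a b

/-- Peterfalvi (3.9.b). -/
theorem map_eta (h : CycFam ι η) (u : ℂ →+* ℂ) (i j) (g : G) :
    η (homMap u i) (homMap u j) g = u (η i j g) :=
  (congrFun (h.eq_of_V ((h.dirr i j).map_ringHom u) fun w a b => by
    rw [h.apply_V _ _ a b, om_map]) g).symm

theorem conjFun_eta (h : CycFam ι η) (i j) : conjFun (η i j) = η i⁻¹ j⁻¹ := by
  ext g
  rw [← homMap_conj, ← homMap_conj, h.map_eta, conjFun_apply]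

/-- Peterfalvi (3.9.c). -/
theorem exists_int (h : CycFam ι η) (i j) {g : G} {n : ℕ} (hi : i ^ n = 1) (hj : j ^ n = 1)
    (hg : (orderOf g).Coprime n) : ∃ m : ℤ, η i j g = m := by
  rcases eq_or_ne n 0 with rfl | hn
  · rw [Nat.coprime_zero_right, orderOf_eq_one_iff] at hg
    exact hg ▸ (h.isGen i j).exists_int
  refine (h.isGen i j).exists_int_of_pow g fun m hm => ?_
  obtain ⟨k, hk1, hk2⟩ := Nat.chineseRemainder hg m 1
  have hk : k.Coprime (orderOf g * n) := Nat.Coprime.mul_right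
    (by rw [Nat.Coprime, hk1.gcd_eq]; exact hm) (by rw [Nat.Coprime, hk2.gcd_eq]; simp)
  obtain ⟨σ, hσ⟩ := exists_ringEquiv_pow (mul_ne_zero (orderOf_pos g).ne' hn) hk
  have h2 := h.map_eta σ.toRingHom i j g
  rw [homMap_eq_self (u := σ.toRingHom) hσ hk2 hi, homMap_eq_self (u := σ.toRingHom) hσ hk2 hj,
    (h.isGen i j).ringHom_apply' σ.toRingHom hσ (Dvd.intro _ rfl),
    pow_eq_pow_iff_modEq.2 hk1] at h2
  exact h2.symm

/-- A virtual character of norm two agreeing on `V` with `± (η_ij - η_ik)`. -/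
theorem eq_signed_sub (h : CycFam ι η) {φ : G → ℂ} (hφ : IsGeneralizedCharacter G φ)
    (hn : nrm φ = 2) {e : ℂ} (he : e = 1 ∨ e = -1) {i j k} (hjk : j ≠ k)
    (hV : ∀ w : W₁ × W₂, w.1 ≠ 1 → w.2 ≠ 1 → φ (ι w) = e * (om i j w - om i k w)) :
    φ = e • (η i j - η i k) := by
  wlog h1 : e = 1 generalizing φ e
  · obtain rfl := he.resolve_left h1
    have := this hφ.neg (by rwa [nrm_neg]) (Or.inl rfl)
      (fun w a b => by rw [Pi.neg_apply, hV w a b]; ring) rfl
    rw [neg_smul, ← this, neg_neg]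
  subst h1
  obtain ⟨i', i'', h1, h2, h3⟩ : ∃ i' i'', i ≠ i' ∧ i ≠ i'' ∧ i' ≠ i'' := by
    have := h.three_le₁
    rw [← h.card_hom₁] at this
    obtain ⟨i', i'', h1, h2, h3⟩ := Finset.one_lt_card_iff.1
      (show 1 < (Finset.univ.erase i).card by rw [Finset.card_erase_of_mem (by simp)]; simp; omega)
    exact ⟨i', i'', (Finset.ne_of_mem_erase h1).symm, (Finset.ne_of_mem_erase h2).symm, h3⟩
  choose b hb using fun a c => hφ.classInner_int (h.isGen a c)
  have hx := h.exchange (hφ.isClassFunction.sub ((h.cf i j).sub (h.cf i k))) fun w a b => by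
    simp [hV w a b, h.apply_V _ _ a b]
  have e1 := hx i j i' k
  have e2 := hx i j i'' k
  simp only [classInner_sub_left, hb, h.inner, h1, h2, hjk, hjk.symm, and_true, and_false, if_true,
    if_false, sub_zero, zero_sub, sub_neg_eq_add] at e1 e2
  have h4 := h.bessel φ {(i, j), (i, k), (i', j), (i', k), (i'', j), (i'', k)}
  rw [Finset.sum_insert (by simp [*]), Finset.sum_insert (by simp [*]),
    Finset.sum_insert (by simp [*]), Finset.sum_insert (by simp [*]),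
    Finset.sum_pair (by simp [*]), hn] at h4
  simp only [hb, Complex.norm_intCast, sq_abs] at h4
  norm_cast at e1 e2 h4
  obtain ⟨h5, h6⟩ := int_six_sq (u := b i j - 1) (v := b i' j) (t := b i'' j)
    (d := b i j - b i k - 2) (by
      rw [show b i' j - (b i j - b i k - 2) = b i' k by omega,
        show b i'' j - (b i j - b i k - 2) = b i'' k by omega]
      linarith)
  have h7 : classInner φ (η i j - η i k) = 2 := by
    rw [classInner_sub_right, hb, hb, show b i j = 1 by omega, show b i k = -1 by omega]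
    norm_num
  rw [one_smul, ← sub_eq_zero, ← nrm_eq_zero, nrm_sub, h7, hn,
    nrm_sub_of_orth (h.orth _ _ _ _ (Or.inr hjk)), h.nrm_eq, h.nrm_eq]
  norm_num

end CycFam

end Cfsg.Agent.Char
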