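import Mathlib
import Cfsg.Agent.Char.CycTI2
import Cfsg.Prelude.Def_OddOrderChar
import Cfsg.Prelude.Def_OddOrderLocal

/-!
# Cyclic trivial intersection subsets given by two subgroups.
-/

set_option autoImplicit false
set_option linter.unusedSectionVars false

namespace Cfsg.Agent.Char

open Cfsg Subgroup
open scoped ComplexConjugate

theorem indH_eq_indFun {W G : Type*} [Group W] [Group G] [Fintype G] {f : W →* G}
    (hf : Function.Injective f) {H : Subgroup G} (e : W ≃* H) (he : ∀ w, (e w : G) = f w)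
    (φ : W → ℂ) : indH f hf φ = indFun H fun x => φ (e.symm x) := by
  obtain rfl : f.range = H := by
    ext x
    exact ⟨fun ⟨w, hw⟩ => hw ▸ he w ▸ (e w).2, fun hx => ⟨e.symm ⟨x, hx⟩, by rw [← he]; simp⟩⟩
  rw [indH_apply]
  congr
  ext x
  congr 1
  exact hf (by rw [MonoidHom.apply_ofInjective_symm, ← he, MulEquiv.apply_symm_apply])

variable {G : Type*} [Group G] {W₁ W₂ : Subgroup G}

/-- The multiplication map `W₁ × W₂ → G` of two commuting subgroups. -/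
def cycι (h : ∀ a ∈ W₁, ∀ b ∈ W₂, a * b = b * a) : W₁ × W₂ →* G :=
  W₁.subtype.noncommCoprod W₂.subtype fun a b => h a a.2 b b.2

variable {h : ∀ a ∈ W₁, ∀ b ∈ W₂, a * b = b * a}

theorem cycι_apply (w : W₁ × W₂) : cycι h w = w.1 * w.2 := rfl

theorem cycι_range : (cycι h).range = W₁ ⊔ W₂ := by
  refine (MonoidHom.noncommCoprod_range _ _ _).trans ?_
  rw [range_subtype, range_subtype]

theorem cycι_swap : (cycι h).comp (MulEquiv.prodComm : W₂ × W₁ ≃* W₁ × W₂).toMonoidHom =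
    cycι fun a ha b hb => (h b hb a ha).symm :=
  MonoidHom.ext fun w => h _ w.2.2 _ w.1.2

theorem cycι_mem_left (hd : W₁ ⊓ W₂ = ⊥) {w : W₁ × W₂} : cycι h w ∈ W₁ ↔ w.2 = 1 := by
  rw [cycι_apply, W₁.mul_mem_cancel_left w.1.2, Subtype.ext_iff]
  exact ⟨fun e => mem_bot.1 (hd ▸ ⟨e, w.2.2⟩), fun e => e ▸ W₁.one_mem⟩

theorem cycι_mem_right (hd : W₁ ⊓ W₂ = ⊥) {w : W₁ × W₂} : cycι h w ∈ W₂ ↔ w.1 = 1 := by
  rw [cycι_apply, W₂.mul_mem_cancel_right w.2.2, Subtype.ext_iff]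
  exact ⟨fun e => mem_bot.1 (hd ▸ ⟨w.1.2, e⟩), fun e => e ▸ W₂.one_mem⟩

theorem cycι_injective (hd : W₁ ⊓ W₂ = ⊥) : Function.Injective (cycι h) :=
  (injective_iff_map_eq_one _).2 fun _ e => Prod.ext
    ((cycι_mem_right hd).1 (e ▸ W₂.one_mem)) ((cycι_mem_left hd).1 (e ▸ W₁.one_mem))

/-- The isomorphism `W₁ × W₂ ≃ W₁ ⊔ W₂`. -/
noncomputable def cycE (h : ∀ a ∈ W₁, ∀ b ∈ W₂, a * b = b * a) (hd : W₁ ⊓ W₂ = ⊥) :
    W₁ × W₂ ≃* ↥(W₁ ⊔ W₂) :=
  (MonoidHom.ofInjective (cycι_injective (h := h) hd)).trans (MulEquiv.subgroupCongr cycι_range)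

theorem cycE_apply (hd : W₁ ⊓ W₂ = ⊥) (w : W₁ × W₂) : (cycE h hd w : G) = cycι h w := rfl

theorem exists_cycι {x : G} (hx : x ∈ W₁ ⊔ W₂) : ∃ w, cycι h w = x := by
  rwa [← cycι_range (h := h)] at hx

theorem cycι_mem (w : W₁ × W₂) : cycι h w ∈ W₁ ⊔ W₂ := cycι_range (h := h) ▸ ⟨w, rfl⟩

theorem fst_eq_one_iff_pow {A B : Type*} [Group A] [Group B]
    (hc : (Nat.card A).Coprime (Nat.card B)) {w : A × B} : w.1 = 1 ↔ w ^ Nat.card B = 1 :=
  ⟨fun e => Prod.ext (by simp [e]) (by simp), fun e => by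
    have h1 : w.1 ^ Nat.card B = 1 := congrArg Prod.fst e
    exact eq_of_pow_eq_of_coprime hc (by simp) (by simpa using h1)⟩

theorem snd_eq_one_iff_pow {A B : Type*} [Group A] [Group B]
    (hc : (Nat.card A).Coprime (Nat.card B)) {w : A × B} : w.2 = 1 ↔ w ^ Nat.card A = 1 :=
  ⟨fun e => Prod.ext (by simp) (by simp [e]), fun e => by
    have h1 : w.2 ^ Nat.card A = 1 := congrArg Prod.snd e
    exact eq_of_pow_eq_of_coprime hc (by simpa using h1) (by simp)⟩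

/-- Conjugate elements of `W₁ × W₂` have trivial components at the same time. -/
theorem fst_eq_one_of_conj {A B : Type*} [Group A] [Group B] {ι : A × B →* G}
    (hι : Function.Injective ι) (hc : (Nat.card A).Coprime (Nat.card B)) {g : G} {w w' : A × B}
    (e : g * ι w * g⁻¹ = ι w') : w.1 = 1 ↔ w'.1 = 1 := by
  rw [fst_eq_one_iff_pow hc, fst_eq_one_iff_pow hc, ← map_eq_one_iff ι hι, ← map_eq_one_iff ι hι,
    map_pow, map_pow, ← e, conj_pow, conj_eq_one_iff]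

theorem snd_eq_one_of_conj {A B : Type*} [Group A] [Group B] {ι : A × B →* G}
    (hι : Function.Injective ι) (hc : (Nat.card A).Coprime (Nat.card B)) {g : G} {w w' : A × B}
    (e : g * ι w * g⁻¹ = ι w') : w.2 = 1 ↔ w'.2 = 1 := by
  rw [snd_eq_one_iff_pow hc, snd_eq_one_iff_pow hc, ← map_eq_one_iff ι hι, ← map_eq_one_iff ι hι,
    map_pow, map_pow, ← e, conj_pow, conj_eq_one_iff]

theorem _root_.Cfsg.IsSelfNormalizingCyclic.cycTI [Finite G] (hW : IsSelfNormalizingCyclic W₁ W₂) :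
    CycTI (cycι hW.2.2.2.1) := by
  obtain ⟨h1, h2, hd, h, hc, hN⟩ := hW
  rw [← (cycE h hd).isCyclic, Group.isCyclic_prod_iff] at hc
  refine ⟨cycι_injective hd, hc.1, hc.2.1, W₁.nontrivial_iff_ne_bot.2 h1,
    W₂.nontrivial_iff_ne_bot.2 h2, hc.2.2, fun g w w' a1 a2 a3 a4 e => ?_⟩
  have hV : ∀ w : W₁ × W₂, w.1 ≠ 1 → w.2 ≠ 1 →
      cycι h w ∈ (↑(W₁ ⊔ W₂) : Set G) \ (↑W₁ ∪ ↑W₂) := fun w a b =>
    ⟨cycι_mem w, fun e => e.elim (fun e => b ((cycι_mem_left hd).1 e))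
      fun e => a ((cycι_mem_right hd).1 e)⟩
  have hC : ∀ w : W₁ × W₂, w.1 ≠ 1 → w.2 ≠ 1 → ∀ x, x ∈ W₁ ⊔ W₂ ↔ x * cycι h w * x⁻¹ = cycι h w :=
    fun w a b x => by
      rw [← hN {cycι h w} (Set.singleton_subset_iff.2 (hV w a b)) (Set.singleton_nonempty _)]
      exact ⟨fun e => (e _).1 rfl, fun e => mem_normalizer_of_conj_mem_set (by simpa using e)⟩
  rw [cycι_range, ← hN _ subset_rfl ⟨_, hV w a1 a2⟩]
  refine mem_normalizer_of_conj_mem_set fun x hx => ?_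
  obtain ⟨v, rfl⟩ := exists_cycι (h := h) hx.1
  obtain ⟨v', hv'⟩ : ∃ v', cycι h v' = g * cycι h v * g⁻¹ := exists_cycι ((hC w' a3 a4 _).2 (by
    rw [← e]
    conv_rhs => rw [← (hC w a1 a2 _).1 hx.1]
    group))
  rw [← hv']
  refine hV v' (fun e => hx.2 (Or.inr ((cycι_mem_right hd).2 ?_)))
    fun e => hx.2 (Or.inl ((cycι_mem_left hd).2 ?_))
  · exact (fst_eq_one_of_conj (cycι_injective hd) hc.2.2 hv'.symm).2 e
  · exact (snd_eq_one_of_conj (cycι_injective hd) hc.2.2 hv'.symm).2 e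

theorem CycTI.isSelfNormalizingCyclic [Finite G] (hd : W₁ ⊓ W₂ = ⊥) (hW : CycTI (cycι h)) :
    IsSelfNormalizingCyclic W₁ W₂ := by
  refine ⟨W₁.nontrivial_iff_ne_bot.1 hW.nt₁, W₂.nontrivial_iff_ne_bot.1 hW.nt₂, hd, h, ?_,
    fun X hX ⟨x, hx⟩ => le_antisymm (fun g hg => ?_) fun g hg => ?_⟩
  · rw [← (cycE h hd).isCyclic, Group.isCyclic_prod_iff]
    exact ⟨hW.cyc₁, hW.cyc₂, hW.cop⟩
  · obtain ⟨v, rfl⟩ := exists_cycι (h := h) (hX hx).1
    have h1 := hX ((hg _).1 hx)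
    obtain ⟨v', hv'⟩ := exists_cycι (h := h) h1.1
    rw [← hv'] at h1
    rw [← cycι_range (h := h)]
    exact hW.ti g v v' (fun e => (hX hx).2 (.inr ((cycι_mem_right hd).2 e)))
      (fun e => (hX hx).2 (.inl ((cycι_mem_left hd).2 e)))
      (fun e => h1.2 (.inr ((cycι_mem_right hd).2 e)))
      (fun e => h1.2 (.inl ((cycι_mem_left hd).2 e))) hv'.symm
  · refine mem_normalizer_of_conj_mem_set fun x hx => ?_
    obtain ⟨v, rfl⟩ := exists_cycι (h := h) (hX hx).1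
    obtain ⟨u, rfl⟩ := exists_cycι (h := h) hg
    rwa [← map_mul, hW.comm u, map_mul, mul_inv_cancel_right]

/-- The linear characters of `W₁ ⊔ W₂` are the pairs of linear characters. -/
noncomputable def homE (h : ∀ a ∈ W₁, ∀ b ∈ W₂, a * b = b * a) (hd : W₁ ⊓ W₂ = ⊥) :
    (↥(W₁ ⊔ W₂) →* ℂˣ) ≃* (W₁ →* ℂˣ) × (W₂ →* ℂˣ) where
  toFun ω := (ω.comp (inclusion le_sup_left), ω.comp (inclusion le_sup_right))
  invFun p := (p.1.comp (MonoidHom.fst _ _) * p.2.comp (MonoidHom.snd _ _)).comp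
    (cycE h hd).symm.toMonoidHom
  left_inv ω := by
    ext x
    obtain ⟨w, rfl⟩ := (cycE h hd).surjective x
    simp only [MulEquiv.toMonoidHom_eq_coe, MonoidHom.comp_apply, MonoidHom.coe_coe,
      MulEquiv.symm_apply_apply, MonoidHom.mul_apply, ← map_mul]
    rfl
  right_inv p := by
    have h1 : ∀ a, inclusion le_sup_left a = cycE h hd (a, 1) := fun a =>
      Subtype.ext (by simp [cycE_apply, cycι_apply])
    have h2 : ∀ a, inclusion le_sup_right a = cycE h hd (1, a) := fun a =>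
      Subtype.ext (by simp [cycE_apply, cycι_apply])
    ext a
    · simp [h1]
    · simp [h2]
  map_mul' _ _ := rfl

variable {hd : W₁ ⊓ W₂ = ⊥}

theorem homE_symm_apply (i j) (w : W₁ × W₂) :
    ((homE h hd).symm (i, j) (cycE h hd w) : ℂ) = om i j w := by
  simp [homE, om]

theorem om_homE (ω) (w : W₁ × W₂) : om (homE h hd ω).1 (homE h hd ω).2 w = ω (cycE h hd w) := by
  rw [← homE_symm_apply (h := h) (hd := hd), MulEquiv.symm_apply_apply]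

theorem homE_fst_eq_one {ω} :
    (homE h hd ω).1 = 1 ↔ ∀ w : ↥(W₁ ⊔ W₂), (w : G) ∈ W₁ → ω w = 1 :=
  ⟨fun e w hw => DFunLike.congr_fun e ⟨w, hw⟩, fun e => MonoidHom.ext fun a => e _ a.2⟩

theorem homE_snd_eq_one {ω} :
    (homE h hd ω).2 = 1 ↔ ∀ w : ↥(W₁ ⊔ W₂), (w : G) ∈ W₂ → ω w = 1 :=
  ⟨fun e w hw => DFunLike.congr_fun e ⟨w, hw⟩, fun e => MonoidHom.ext fun a => e _ a.2⟩

theorem homE_snd_eq {ω ω'} :
    (homE h hd ω).2 = (homE h hd ω').2 ↔ ∀ w : ↥(W₁ ⊔ W₂), (w : G) ∈ W₂ → ω w = ω' w :=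
  ⟨fun e w hw => DFunLike.congr_fun e ⟨w, hw⟩, fun e => MonoidHom.ext fun a => e _ a.2⟩

theorem alph_homE {φ ψ : ↥(W₁ ⊔ W₂) →* ℂˣ} (hφ : (homE h hd φ).2 = 1) (hψ : (homE h hd ψ).1 = 1) :
    (fun w => alph (homE h hd φ).1 (homE h hd ψ).2 ((cycE h hd).symm w)) =
      fun w => 1 - (φ w : ℂ) - (ψ w : ℂ) + (φ w : ℂ) * (ψ w : ℂ) := by
  ext x
  obtain ⟨w, rfl⟩ := (cycE h hd).surjective x
  rw [← om_homE, ← om_homE, hφ, hψ, MulEquiv.symm_apply_apply, alph_apply]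
  simp [om]
  ring

variable [Fintype G]

theorem indFun_eq_indH (φ : W₁ × W₂ → ℂ) :
    (indFun (W₁ ⊔ W₂) fun w => φ ((cycE h hd).symm w)) = indH (cycι h) (cycι_injective hd) φ :=
  (indH_eq_indFun _ _ (cycE_apply hd) _).symm

theorem CycFam₀.isCyclicTIFamily {η : (W₁ →* ℂˣ) → (W₂ →* ℂˣ) → G → ℂ} (hη : CycFam₀ (cycι h) η) :
    IsCyclicTIFamily W₁ W₂ fun ω => η (homE h hd ω).1 (homE h hd ω).2 := by
  classical
  refine ⟨fun ω => hη.dirr _ _, fun ω ω' => ?_, by simpa using hη.one, fun ω x h1 h2 => ?_,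
    fun φ ψ _ _ h1 h2 => ?_⟩
  · simp only [hη.inner, ← Prod.ext_iff, (homE h hd).injective.eq_iff]
  · obtain ⟨w, rfl⟩ := (cycE h hd).surjective x
    rw [cycE_apply, hη.apply_V _ _ (fun e => h2 ((cycι_mem_right (h := h) hd).2 e))
      fun e => h1 ((cycι_mem_left (h := h) hd).2 e), om_homE]
  · rw [← homE_snd_eq_one (h := h) (hd := hd)] at h1
    rw [← homE_fst_eq_one (h := h) (hd := hd)] at h2
    rw [← alph_homE h1 h2, indFun_eq_indH, hη.ind, hη.one]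
    ext g
    simp [h1, h2]

theorem _root_.Cfsg.IsCyclicTIFamily.cycFam₀ (hW : IsSelfNormalizingCyclic W₁ W₂)
    {χ : (↥(W₁ ⊔ W₂) →* ℂˣ) → G → ℂ} (hχ : IsCyclicTIFamily W₁ W₂ χ) :
    CycFam₀ (cycι hW.2.2.2.1) fun i j => χ ((homE hW.2.2.2.1 hW.2.2.1).symm (i, j)) := by
  refine ⟨hW.cycTI, fun i j => hχ.irr_or_neg _, fun i j k l e => ?_, ?_, fun i j => ?_⟩
  · rw [hχ.orthonormal, if_neg]
    rw [(homE _ _).symm.injective.eq_iff, Prod.ext_iff, not_and_or]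
    exact e
  · rw [← hχ.map_one, ← map_one (homE hW.2.2.2.1 hW.2.2.1).symm]
    rfl
  by_cases hi : i = 1
  · have : alph i j = 0 := by ext; simp [alph_apply, hi]
    rw [this]
    simp [hi]
  by_cases hj : j = 1
  · have : alph i j = 0 := by ext; simp [alph_apply, hj]
    rw [this]
    simp [hj]
  have h1 : (homE hW.2.2.2.1 hW.2.2.1 ((homE hW.2.2.2.1 hW.2.2.1).symm (i, 1))).2 = 1 := by simp
  have h2 : (homE hW.2.2.2.1 hW.2.2.1 ((homE hW.2.2.2.1 hW.2.2.1).symm (1, j))).1 = 1 := by simp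
  have := hχ.induced_eq _ _ (by simpa using hi) (by simpa using hj) (homE_snd_eq_one.1 h1)
    (homE_fst_eq_one.1 h2)
  rw [← alph_homE h1 h2, indFun_eq_indH, ← map_mul] at this
  simp only [MulEquiv.apply_symm_apply, Prod.mk_mul_mk, hom_mul_one, hom_one_mul] at this
  rw [this, Prod.mk_one_one, map_one, hχ.map_one]
  rfl

theorem _root_.Cfsg.IsSelfNormalizingCyclic.odd (_ : IsSelfNormalizingCyclic W₁ W₂)
    (hodd : Odd (Nat.card ↥(W₁ ⊔ W₂))) : Odd (Nat.card W₁) ∧ Odd (Nat.card W₂) :=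
  ⟨hodd.of_dvd_nat (card_dvd_of_le le_sup_left), hodd.of_dvd_nat (card_dvd_of_le le_sup_right)⟩

theorem _root_.Cfsg.IsCyclicTIFamily.cycFam (hW : IsSelfNormalizingCyclic W₁ W₂)
    (hodd : Odd (Nat.card ↥(W₁ ⊔ W₂))) {χ : (↥(W₁ ⊔ W₂) →* ℂˣ) → G → ℂ}
    (hχ : IsCyclicTIFamily W₁ W₂ χ) :
    CycFam (cycι hW.2.2.2.1) fun i j => χ ((homE hW.2.2.2.1 hW.2.2.1).symm (i, j)) :=
  ⟨hχ.cycFam₀ hW, (hW.odd hodd).1, (hW.odd hodd).2⟩

end Cfsg.Agent.Char
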