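import Mathlib
import Cfsg.Agent.Char.CycTI3
import Cfsg.Agent.S1512

/-!
# Prime trivial intersection subsets (Peterfalvi 4.2 - 4.5).
-/

set_option autoImplicit false
set_option linter.unusedSectionVars false

namespace Cfsg.Agent.Char

open Cfsg Subgroup
open scoped ComplexConjugate

variable {W₁ W₂ L : Type*} [Group W₁] [Group W₂] [Group L]

attribute [local simp] Prod.mk_one_one

/-- Peterfalvi (4.2). -/
structure PrimeTI (K : Subgroup L) (ι : W₁ × W₂ →* L) : Prop where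
  normal : K.Normal
  inj : Function.Injective ι
  cyc₁ : IsCyclic W₁
  cyc₂ : IsCyclic W₂
  nt₁ : Nontrivial W₁
  nt₂ : Nontrivial W₂
  odd₁ : Odd (Nat.card W₁)
  odd₂ : Odd (Nat.card W₂)
  compl : ∀ x : L, ∃ k ∈ K, ∃ a, x = k * ι (a, 1)
  mem_iff : ∀ w, ι w ∈ K ↔ w.1 = 1
  cop : (Nat.card K).Coprime (Nat.card W₁)
  cent : ∀ a, a ≠ 1 → ∀ k ∈ K, k * ι (a, 1) = ι (a, 1) * k → ∃ b, k = ι (1, b)

variable {K : Subgroup L} {ι : W₁ × W₂ →* L}

namespace PrimeTI

theorem exists_proj (h : PrimeTI K ι) :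
    ∃ π : L →* W₁, (∀ w, π (ι w) = w.1) ∧ ∀ x, π x = 1 ↔ x ∈ K := by
  have := h.normal
  let f : W₁ →* L ⧸ K := (QuotientGroup.mk' K).comp (ι.comp (MonoidHom.inl _ _))
  have hf : Function.Bijective f := by
    refine ⟨(injective_iff_map_eq_one _).2 fun a ha => ?_, fun q => ?_⟩
    · exact (h.mem_iff (a, 1)).1 ((QuotientGroup.eq_one_iff _).1 ha)
    · obtain ⟨x, rfl⟩ := QuotientGroup.mk_surjective q
      obtain ⟨k, hk, a, rfl⟩ := h.compl x
      exact ⟨a, by simp [f, (QuotientGroup.eq_one_iff k).2 hk]⟩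
  refine ⟨(MulEquiv.ofBijective f hf).symm.toMonoidHom.comp (QuotientGroup.mk' K), fun w => ?_,
    fun x => by simp⟩
  refine ((MulEquiv.ofBijective f hf).symm_apply_eq (x := (ι w : L ⧸ K))).2 (QuotientGroup.eq.2 ?_)
  change (ι w)⁻¹ * ι (w.1, 1) ∈ K
  rw [← map_inv, ← map_mul, h.mem_iff]
  simp

/-- The projection of `L = K ⋊ W₁` onto `W₁`. -/
noncomputable def proj (h : PrimeTI K ι) : L →* W₁ := h.exists_proj.choose

@[simp] theorem proj_ι (h : PrimeTI K ι) (w) : h.proj (ι w) = w.1 := h.exists_proj.choose_spec.1 w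

theorem proj_eq_one (h : PrimeTI K ι) {x} : h.proj x = 1 ↔ x ∈ K := h.exists_proj.choose_spec.2 x

@[simp] theorem proj_coe (h : PrimeTI K ι) (k : K) : h.proj k = 1 := h.proj_eq_one.2 k.2

theorem proj_surjective (h : PrimeTI K ι) : Function.Surjective h.proj :=
  fun a => ⟨ι (a, 1), h.proj_ι _⟩

theorem ker_proj (h : PrimeTI K ι) : h.proj.ker = K := by
  ext; exact h.proj_eq_one

theorem index_eq (h : PrimeTI K ι) : K.index = Nat.card W₁ := by
  rw [← h.ker_proj, index_ker, MonoidHom.range_eq_top.2 h.proj_surjective, card_top]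

theorem card_dvd (h : PrimeTI K ι) : Nat.card W₂ ∣ Nat.card K :=
  card_dvd_of_injective ((ι.comp (MonoidHom.inr _ _)).codRestrict K
    fun b => (h.mem_iff (1, b)).2 rfl) fun _ _ e => (Prod.ext_iff.1 (h.inj (Subtype.ext_iff.1 e))).2

theorem cop' (h : PrimeTI K ι) : (Nat.card W₁).Coprime (Nat.card W₂) :=
  (h.cop.coprime_dvd_left h.card_dvd).symm

theorem comm (h : PrimeTI K ι) (a b : W₁ × W₂) : a * b = b * a :=
  Prod.ext (h.cyc₁.isMulCommutative.is_comm.comm _ _) (h.cyc₂.isMulCommutative.is_comm.comm _ _)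

theorem ι_comm (h : PrimeTI K ι) (a b : W₁ × W₂) : ι a * ι b = ι b * ι a := by
  rw [← map_mul, h.comm, map_mul]

/-- Peterfalvi (4.3.a). -/
theorem ti (h : PrimeTI K ι) {g : L} {w w' : W₁ × W₂} (h1 : w.1 ≠ 1) (e : g * ι w * g⁻¹ = ι w') :
    g ∈ ι.range := by
  obtain ⟨k, hk, a, rfl⟩ := h.compl g
  have e1 : k * ι w * k⁻¹ = ι w' := by
    rw [← e, mul_assoc k (ι _) (ι w), h.ι_comm]; group
  have e2 : w.1 = w'.1 := by simpa [h.proj_eq_one.2 hk] using congrArg h.proj e1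
  have hw : ∀ w : W₁ × W₂, ι w = ι (w.1, 1) * ι (1, w.2) := fun w => by simp [← map_mul]
  have e3 := (conj_eq_of_coprime_parts (g := k) (a := ι (w.1, 1)) (b := ι (w'.1, 1))
    (u := ι (1, w.2)) (v := ι (1, w'.2)) h.cop' (by simp [← map_pow]) (by simp [← map_pow])
    (by simp [← map_pow]) (by simp [← map_pow]) (h.ι_comm _ _) (h.ι_comm _ _)
    (by rw [← hw, ← hw, e1])).1
  obtain ⟨b, rfl⟩ := h.cent w.1 h1 k hk (by rw [← e2] at e3; rw [← mul_inv_eq_iff_eq_mul, e3])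
  exact mul_mem ⟨_, rfl⟩ ⟨_, rfl⟩

theorem cycTI (h : PrimeTI K ι) : CycTI ι :=
  ⟨h.inj, h.cyc₁, h.cyc₂, h.nt₁, h.nt₂, h.cop', fun _ _ _ h1 _ _ _ e => h.ti h1 e⟩

/-- Every element outside `K` is conjugate to an element of `W - W₂`. -/
theorem exists_conj [Finite L] (h : PrimeTI K ι) {x : L} (hx : x ∉ K) :
    ∃ g w, w.1 ≠ 1 ∧ g * x * g⁻¹ = ι w := by
  have := h.normal
  obtain ⟨k, hk, a, rfl⟩ := h.compl x
  have ha : a ≠ 1 := by rintro rfl; exact hx (by simpa using hk)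
  obtain ⟨g, -, c, hc, h1, h2⟩ := exists_conj_mul_eq_of_coprime (H := K) (g := ι (a, 1))
    (by simp [normalizer_eq_top]) (h.cop.symm.coprime_dvd_left
      (orderOf_dvd_of_pow_eq_one (by simp [← map_pow]))) hk
  obtain ⟨b, rfl⟩ := h.cent a ha c hc h1
  exact ⟨g, (a, b), ha, by simp [h2, ← map_mul]⟩

/-- The linear character of `L` inflated from `W₁`. -/
noncomputable def lam (h : PrimeTI K ι) (i : W₁ →* ℂˣ) : L → ℂ := fun x => i (h.proj x)

theorem isIrr_lam (h : PrimeTI K ι) (i) : IsIrrCharacter L (h.lam i) :=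
  isIrrCharacter_hom (i.comp h.proj)

@[simp] theorem lam_one (h : PrimeTI K ι) : h.lam 1 = fun _ => 1 := rfl

@[simp] theorem lam_apply_one (h : PrimeTI K ι) (i) : h.lam i 1 = 1 := by simp [lam]

@[simp] theorem lam_coe (h : PrimeTI K ι) (i) (k : K) : h.lam i k = 1 := by simp [lam]

theorem lam_of_mem (h : PrimeTI K ι) (i) {k : L} (hk : k ∈ K) : h.lam i k = 1 := h.lam_coe i ⟨k, hk⟩

@[simp] theorem lam_ι (h : PrimeTI K ι) (i) (w) : h.lam i (ι w) = i w.1 := by simp [lam]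

theorem lam_mul (h : PrimeTI K ι) (i k) : h.lam (i * k) = h.lam i * h.lam k := by
  ext; simp [lam]

variable [Fintype L] [Fintype W₁] [Fintype W₂]

theorem exists_lam (h : PrimeTI K ι) {χ : L → ℂ} (hχ : IsIrrCharacter L χ)
    (hK : ∀ k ∈ K, χ k = χ 1) : ∃ i, χ = h.lam i := by
  obtain ⟨χ', h1, h2⟩ := hχ.exists_of_surjective h.proj h.proj_surjective (h.ker_proj.symm ▸ hK)
  obtain ⟨i, rfl⟩ := h1.exists_hom_of_comm h.cyc₁.isMulCommutative.is_comm.comm
  exact ⟨i, funext fun x => (h2 x).symm⟩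

theorem indFun_const (h : PrimeTI K ι) : indFun K (fun _ => 1) = ∑ i, h.lam i := by
  classical
  have := h.normal
  ext x
  simp only [Finset.sum_apply, lam, sum_hom_apply h.cyc₁, h.proj_eq_one]
  split_ifs with hx
  · simpa [h.index_eq] using congrFun
      (restrict_indFun_of_invariant (N := K) (θ := fun _ => 1) (by simp)) ⟨x, hx⟩
  · exact indFun_eq_zero_of_normal _ _ hx

theorem indH_apply (h : PrimeTI K ι) {φ : W₁ × W₂ → ℂ} {w : W₁ × W₂} (h1 : w.1 ≠ 1) :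
    indH ι h.inj φ (ι w) = φ w :=
  indH_apply_of_TI (h.cycTI.isClassFunction φ) fun _ _ e _ => h.ti h1 e

theorem classInner_indH (h : PrimeTI K ι) {φ : W₁ × W₂ → ℂ} (hφ : ∀ w, w.1 = 1 → φ w = 0)
    (ψ : W₁ × W₂ → ℂ) : classInner (indH ι h.inj φ) (indH ι h.inj ψ) = classInner φ ψ := by
  rw [classInner_indH_left _ (isClassFunction_indH _)]
  exact classInner_congr_of_supp fun w hw => h.indH_apply fun e => hw (hφ _ e)

theorem indH_om_sub (h : PrimeTI K ι) {η} (hη : CycFam ι η) (i k j) :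
    indH ι h.inj (om i j - om k j) = η i j - η k j := by
  by_cases hik : i = k
  · simp [hik]
  have := hη.swap.eq_signed_sub (φ := indH ι h.inj (om i j - om k j))
    ((isIrr_om i j).isGen.sub (isIrr_om k j).isGen).indH ?_ (Or.inl rfl) (i := j) hik
    fun w a b => ?_
  · simpa using this
  · rw [nrm_eq_of_classInner (h.classInner_indH (fun w hw => by simp [om, hw]) _),
      nrm_sub_of_orth (by simp [classInner_om, hik]), (isIrr_om _ _).nrm_eq, (isIrr_om _ _).nrm_eq]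
    norm_num
  · refine (h.indH_apply (w := w.swap) b).trans ?_
    simp [om, mul_comm]

end PrimeTI

variable [Fintype L]

/-- The characters `μ_ij` and signs `δ_j` of Peterfalvi (4.3). -/
structure PrimeFam (K : Subgroup L) (ι : W₁ × W₂ →* L) (μ : (W₁ →* ℂˣ) → (W₂ →* ℂˣ) → L → ℂ)
    (δ : (W₂ →* ℂˣ) → ℤ) : Prop extends PrimeTI K ι where
  sign : ∀ j, δ j = 1 ∨ δ j = -1
  irr : ∀ i j, IsIrrCharacter L (μ i j)
  fam : CycFam ι fun i j => (δ j : ℂ) • μ i j

variable [Fintype W₁] [Fintype W₂]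

theorem PrimeTI.exists_fam (h : PrimeTI K ι) : ∃ μ δ, PrimeFam K ι μ δ := by
  obtain ⟨η, hη⟩ := h.cycTI.exists_fam h.odd₁ h.odd₂
  have h1 : ∀ i j, η i j 1 = η 1 j 1 := fun i j => by
    have := congrFun (h.indH_om_sub hη i 1 j) 1
    rw [indH_one] at this
    simpa [sub_eq_zero] using this.symm
  let δ : (W₂ →* ℂˣ) → ℤ := fun j => if 0 ≤ (η 1 j 1).re then 1 else -1
  have h2 : ∀ j, δ j = 1 ∨ δ j = -1 := fun j => by simp only [δ]; split_ifs <;> simp
  refine ⟨fun i j => (δ j : ℂ) • η i j, δ, h, h2, fun i j => ?_, ?_⟩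
  · refine ((hη.dirr i j).smul ((h2 j).imp (by simp +contextual) (by simp +contextual))
      ).isIrr_of_re_nonneg ?_
    simp only [δ, Pi.smul_apply, h1 i j]
    split_ifs with h3
    · simpa using h3
    · simpa using (not_le.1 h3).le
  · convert hη using 3 with i j
    rcases h2 j with h3 | h3 <;> simp [h3]

/-- The sum `μ_j` of a column of the family. -/
noncomputable def muR (μ : (W₁ →* ℂˣ) → (W₂ →* ℂˣ) → L → ℂ) (j : W₂ →* ℂˣ) : L → ℂ := ∑ i, μ i j

/-- The irreducible character `χ_j` of `K`. -/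
def chiR (K : Subgroup L) (μ : (W₁ →* ℂˣ) → (W₂ →* ℂˣ) → L → ℂ) (j : W₂ →* ℂˣ) : K → ℂ :=
  fun k => μ 1 j k

variable {μ : (W₁ →* ℂˣ) → (W₂ →* ℂˣ) → L → ℂ} {δ : (W₂ →* ℂˣ) → ℤ}

namespace PrimeFam

theorem sign' (h : PrimeFam K ι μ δ) (j) : (δ j : ℂ) = 1 ∨ (δ j : ℂ) = -1 :=
  (h.sign j).imp (by simp +contextual) (by simp +contextual)

theorem sign_mul (h : PrimeFam K ι μ δ) (j) : (δ j : ℂ) * δ j = 1 := by
  rcases h.sign' j with e | e <;> simp [e]

theorem sign_ne_zero (h : PrimeFam K ι μ δ) (j) : (δ j : ℂ) ≠ 0 :=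
  left_ne_zero_of_mul_eq_one (h.sign_mul j)

theorem cf (h : PrimeFam K ι μ δ) (i j) : IsClassFunction L (μ i j) := (h.irr i j).isClassFunction

theorem inner (h : PrimeFam K ι μ δ) (i j k l) :
    classInner (μ i j) (μ k l) = if i = k ∧ j = l then 1 else 0 := by
  split_ifs with e
  · rw [e.1, e.2, (h.irr k l).classInner_self]
  · have := h.fam.inner i j k l
    simpa [e, classInner_smul_left, classInner_smul_right, (h.sign_ne_zero _),
      ← Int.cast_eq_zero (α := ℂ)] using this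

theorem eq_iff (h : PrimeFam K ι μ δ) {i j k l} : μ i j = μ k l ↔ i = k ∧ j = l :=
  ⟨fun e => by_contra fun h1 => by
    have := h.inner i j k l
    rw [if_neg h1, e, (h.irr k l).classInner_self] at this
    exact one_ne_zero this, fun e => by rw [e.1, e.2]⟩

/-- Peterfalvi (4.3.b). -/
theorem indH_om_sub' (h : PrimeFam K ι μ δ) (i k j) :
    indH ι h.inj (om i j - om k j) = (δ j : ℂ) • (μ i j - μ k j) := by
  rw [h.indH_om_sub h.fam, smul_sub]

theorem sig_eq_indH (h : PrimeFam K ι μ δ) {φ : W₁ × W₂ → ℂ} (hφ : ∀ w, w.1 = 1 → φ w = 0) :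
    sig (fun i j => (δ j : ℂ) • μ i j) φ = indH ι h.inj φ := by
  rw [eq_sum_om_sub h.cyc₁ h.cyc₂ hφ]
  simp only [map_sum, map_smul, h.indH_om_sub h.fam, map_sub (sig _), sig_om]

theorem apply_eq_sum (h : PrimeFam K ι μ δ) {ψ : L → ℂ} (hψ : IsClassFunction L ψ) {w : W₁ × W₂}
    (h1 : w.1 ≠ 1) : ψ (ι w) = ∑ i, ∑ j, δ j * classInner ψ (μ i j) * om i j w := by
  classical
  have h3 := h.sig_eq_indH (φ := Pi.single w 1) fun v hv => Pi.single_eq_of_ne
    (by rintro rfl; exact h1 hv) _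
  have h4 : ∀ f : W₁ × W₂ → ℂ, classInner f (Pi.single w 1) =
      (Nat.card (W₁ × W₂) : ℂ)⁻¹ * f w := fun f => by
    rw [classInner_def, Finset.sum_eq_single w] <;> simp +contextual
  have h5 := congrArg (classInner ψ) h3
  rw [classInner_indH_right _ hψ, h4, sig_apply] at h5
  simp only [classInner_sum_right, classInner_smul_right, conj_classInner, h4, map_intCast] at h5
  refine mul_left_cancel₀ (inv_ne_zero (card_ne_zero (W₁ × W₂))) (h5.symm.trans ?_)
  simp only [Finset.mul_sum]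
  exact Finset.sum_congr rfl fun i _ => Finset.sum_congr rfl fun j _ => by ring

/-- Peterfalvi (4.3.c). -/
theorem apply_ι (h : PrimeFam K ι μ δ) (i j) {w : W₁ × W₂} (h1 : w.1 ≠ 1) :
    μ i j (ι w) = δ j * om i j w := by
  simp [h.apply_eq_sum (h.cf i j) h1, h.inner, ite_and]

/-- Peterfalvi (4.3.c). -/
theorem vanish (h : PrimeFam K ι μ δ) {ψ : L → ℂ} (hψ : IsClassFunction L ψ)
    (h0 : ∀ i j, classInner ψ (μ i j) = 0) {x : L} (hx : x ∉ K) : ψ x = 0 := by
  obtain ⟨g, w, h1, e⟩ := h.exists_conj hx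
  rw [← hψ x g, e]
  simp [h.apply_eq_sum hψ h1, h0]

theorem vanish_irr (h : PrimeFam K ι μ δ) {ψ : L → ℂ} (hψ : IsIrrCharacter L ψ)
    (h0 : ∀ i j, ψ ≠ μ i j) {x : L} (hx : x ∉ K) : ψ x = 0 :=
  h.vanish hψ.isClassFunction (fun i j => hψ.classInner_of_ne (h.irr i j) (h0 i j)) hx

theorem lam_mul (h : PrimeFam K ι μ δ) (i k j) : h.lam i * μ k j = μ (i * k) j := by
  have := h.fam.eq_of_V (φ := (δ j : ℂ) • (h.lam i * μ k j)) (i := i * k) (j := j)
    (IsDirr.smul (mul_comm (μ k j) _ ▸ (h.irr k j).mul_hom (i.comp h.proj)).isDirr (h.sign' j))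
    fun w a b => by
      simp only [Pi.smul_apply, Pi.mul_apply, PrimeTI.lam_ι, h.apply_ι _ _ a, om, smul_eq_mul,
        MonoidHom.mul_apply, Units.val_mul]
      linear_combination (i w.1 * k w.1 * j w.2) * h.sign_mul j
  exact smul_right_injective _ (h.sign_ne_zero j) this

theorem eq_lam_mul (h : PrimeFam K ι μ δ) (i j) : μ i j = h.lam i * μ 1 j := by
  rw [h.lam_mul, hom_mul_one]

theorem apply_mem (h : PrimeFam K ι μ δ) (i j) {x : L} (hx : x ∈ K) : μ i j x = μ 1 j x := by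
  rw [h.eq_lam_mul, Pi.mul_apply, h.lam_of_mem _ hx, one_mul]

theorem apply_one (h : PrimeFam K ι μ δ) (i j) : μ i j 1 = μ 1 j 1 := h.apply_mem i j K.one_mem

theorem restrict (h : PrimeFam K ι μ δ) (i j) : (fun k : K => μ i j k) = chiR K μ j :=
  funext fun k => h.apply_mem i j k.2

theorem chiR_one (h : PrimeFam K ι μ δ) (i j) : chiR K μ j 1 = μ i j 1 := (h.apply_one i j).symm

/-- The signs and characters are determined by the family. -/
theorem eq_of_smul_eq {G : Type*} [Group G] [Fintype G] {χ ψ : G → ℂ} (hχ : IsIrrCharacter G χ)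
    (hψ : IsIrrCharacter G ψ) {a b : ℤ} (ha : a = 1 ∨ a = -1) (hb : b = 1 ∨ b = -1)
    (e : (a : ℂ) • χ = (b : ℂ) • ψ) : a = b ∧ χ = ψ := by
  have h1 : χ ≠ -ψ := fun e => by
    have := hχ.classInner_eq hψ
    rw [e, classInner_neg_left, hψ.classInner_self] at this
    split_ifs at this <;> norm_num at this
  rcases ha with rfl | rfl <;> rcases hb with rfl | rfl
  · simpa using e
  · exact (h1 (by simpa using e)).elim
  · exact (h1 (by simpa [neg_eq_iff_eq_neg] using e)).elim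
  · simpa using e

theorem sign_one (h : PrimeFam K ι μ δ) : δ 1 = 1 :=
  (eq_of_smul_eq (h.irr 1 1) isIrrCharacter_one (h.sign 1) (Or.inl rfl)
    (h.fam.one.trans (by simp))).1

theorem one_one (h : PrimeFam K ι μ δ) : μ 1 1 = fun _ => 1 :=
  (eq_of_smul_eq (h.irr 1 1) isIrrCharacter_one (h.sign 1) (Or.inl rfl)
    (h.fam.one.trans (by simp))).2

/-- Peterfalvi (4.4). -/
theorem eq_lam (h : PrimeFam K ι μ δ) (i) : μ i 1 = h.lam i := by
  rw [h.eq_lam_mul, h.one_one]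
  exact mul_one _

theorem exists_of_ker (h : PrimeFam K ι μ δ) {χ : L → ℂ} (hχ : IsIrrCharacter L χ)
    (hK : ∀ k ∈ K, χ k = χ 1) : ∃ i, χ = μ i 1 := by
  simpa [h.eq_lam] using h.exists_lam hχ hK

theorem chiR_one' (h : PrimeFam K ι μ δ) : chiR K μ 1 = fun _ => 1 := by
  ext; simp [chiR, h.one_one]

theorem map_aux (h : PrimeFam K ι μ δ) (u : ℂ →+* ℂ) (i j) : δ (homMap u j) = δ j ∧
    μ (homMap u i) (homMap u j) = fun x => u (μ i j x) :=
  eq_of_smul_eq (h.irr _ _) ((h.irr i j).map_ringHom u) (h.sign _) (h.sign _)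
    (funext fun x => by simpa using h.fam.map_eta u i j x)

theorem sign_map (h : PrimeFam K ι μ δ) (u : ℂ →+* ℂ) (j) : δ (homMap u j) = δ j :=
  (h.map_aux u 1 j).1

theorem map_mu (h : PrimeFam K ι μ δ) (u : ℂ →+* ℂ) (i j x) :
    μ (homMap u i) (homMap u j) x = u (μ i j x) := congrFun (h.map_aux u i j).2 x

theorem sign_inv (h : PrimeFam K ι μ δ) (j) : δ j⁻¹ = δ j := by
  rw [← homMap_conj, h.sign_map]

theorem conjFun_mu (h : PrimeFam K ι μ δ) (i j) : conjFun (μ i j) = μ i⁻¹ j⁻¹ := by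
  ext g
  rw [← homMap_conj, ← homMap_conj, h.map_mu, conjFun_apply]

theorem degree_map (h : PrimeFam K ι μ δ) (u : ℂ →+* ℂ) (i k j) : μ k (homMap u j) 1 = μ i j 1 := by
  obtain ⟨d, hd⟩ := (h.irr i j).isGen.exists_int
  rw [h.apply_one, ← h.apply_one (homMap u i), h.map_mu, hd, map_intCast]

theorem degree_inv (h : PrimeFam K ι μ δ) (i k j) : μ k j⁻¹ 1 = μ i j 1 := by
  rw [← homMap_conj, h.degree_map]

/-- Peterfalvi (4.3.d). -/
theorem degree_mod (h : PrimeFam K ι μ δ) (i j) :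
    ∃ n : ℤ, μ i j 1 = δ j + n * Nat.card W₁ := by
  classical
  obtain ⟨n, hn⟩ := ((h.irr 1 j).isGen.comp (ι.comp (MonoidHom.inl _ _))).classInner_int isGen_one
  refine ⟨n - δ j, ?_⟩
  have h1 := congrArg ((Nat.card W₁ : ℂ) * ·) hn
  simp only [card_mul_classInner, map_one, mul_one] at h1
  rw [← Finset.add_sum_erase _ _ (Finset.mem_univ 1), map_one,
    Finset.sum_congr rfl (g := fun _ => (δ j : ℂ)) fun a ha => by
      simpa [om] using h.apply_ι 1 j (w := (a, 1)) (Finset.ne_of_mem_erase ha),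
    Finset.sum_const, Finset.card_erase_of_mem (Finset.mem_univ _), Finset.card_univ,
    ← Nat.card_eq_fintype_card, nsmul_eq_mul, Nat.cast_pred Nat.card_pos] at h1
  rw [h.apply_one]
  push_cast
  linear_combination h1

theorem indFun_chiR (h : PrimeFam K ι μ δ) (j) : indFun K (chiR K μ j) = muR μ j := by
  rw [← h.restrict 1, indFun_restrict _ (h.cf 1 j), h.indFun_const, Finset.sum_mul, muR]
  simp only [← h.eq_lam_mul]

theorem inner_muR_mu (h : PrimeFam K ι μ δ) (j k l) :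
    classInner (muR μ j) (μ k l) = if j = l then 1 else 0 := by
  simp [muR, classInner_sum_left, h.inner, ite_and]

theorem inner_mu_muR (h : PrimeFam K ι μ δ) (j k l) :
    classInner (μ k l) (muR μ j) = if l = j then 1 else 0 := by
  simp [muR, classInner_sum_right, h.inner, ite_and]

theorem inner_muR (h : PrimeFam K ι μ δ) (j l) :
    classInner (muR μ j) (muR μ l) = if j = l then (Nat.card W₁ : ℂ) else 0 := by
  rw [muR.eq_1 μ l]
  simp [classInner_sum_right, h.inner_muR_mu, card_hom_of_isCyclic h.cyc₁,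
    -Nat.card_eq_fintype_card]

theorem nrm_muR (h : PrimeFam K ι μ δ) (j) : nrm (muR μ j) = Nat.card W₁ :=
  nrm_eq_iff.2 (by simp [h.inner_muR])

theorem inner_chiR [Fintype K] (h : PrimeFam K ι μ δ) (j l) :
    classInner (chiR K μ j) (chiR K μ l) = if j = l then 1 else 0 := by
  rw [← h.restrict 1 l, ← classInner_indFun_left _ _ (h.cf 1 l), h.indFun_chiR, h.inner_muR_mu]

/-- Peterfalvi (4.5.a). -/
theorem isIrr_chiR (h : PrimeFam K ι μ δ) (j) : IsIrrCharacter K (chiR K μ j) := by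
  have := Fintype.ofFinite K
  exact ((h.irr 1 j).isCharacter.restrict K).isIrr_of_classInner_eq_one
    ((h.inner_chiR j j).trans (by simp))

theorem chiR_injective (h : PrimeFam K ι μ δ) : Function.Injective (chiR K μ) := fun j l e => by
  have := Fintype.ofFinite K
  have h1 := h.inner_chiR j l
  rw [e, h.inner_chiR, if_pos rfl] at h1
  by_contra h2
  simp [h2] at h1

theorem chiR_ne_one (h : PrimeFam K ι μ δ) {j} (hj : j ≠ 1) : chiR K μ j ≠ fun _ => 1 :=
  fun e => hj (h.chiR_injective (e.trans h.chiR_one'.symm))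

theorem muR_injective (h : PrimeFam K ι μ δ) : Function.Injective (muR μ) := fun j l e => by
  have h1 := h.inner_muR_mu j 1 l
  rw [e, h.inner_muR_mu, if_pos rfl] at h1
  by_contra h2
  simp [h2] at h1

theorem isCharacter_muR (h : PrimeFam K ι μ δ) (j) : IsCharacter L (muR μ j) :=
  h.indFun_chiR j ▸ (h.isIrr_chiR j).isCharacter.indFun

theorem muR_one (h : PrimeFam K ι μ δ) (i j) : muR μ j 1 = Nat.card W₁ * μ i j 1 := by
  rw [← h.indFun_chiR, indFun_one, h.index_eq, h.chiR_one]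

theorem muR_ne_zero (h : PrimeFam K ι μ δ) (j) : muR μ j ≠ 0 :=
  h.indFun_chiR j ▸ indFun_ne_zero (h.isIrr_chiR j).one_ne_zero

theorem muR_of_mem (h : PrimeFam K ι μ δ) (i j) {x : L} (hx : x ∈ K) :
    muR μ j x = Nat.card W₁ * μ i j x := by
  simp [muR, h.apply_mem _ j hx, card_hom_of_isCyclic h.cyc₁, -Nat.card_eq_fintype_card]

theorem muR_of_notMem (h : PrimeFam K ι μ δ) (j) {x : L} (hx : x ∉ K) : muR μ j x = 0 :=
  have := h.normal
  h.indFun_chiR j ▸ indFun_eq_zero_of_normal _ _ hx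

theorem not_irr_muR (h : PrimeFam K ι μ δ) (j) : ¬ IsIrrCharacter L (muR μ j) := fun e => by
  have h1 := e.nrm_eq
  have := h.fam.three_le₁
  rw [h.nrm_muR] at h1
  norm_cast at h1
  omega

theorem map_muR (h : PrimeFam K ι μ δ) (u : ℂ →+* ℂ) (j x) :
    muR μ (homMap u j) x = u (muR μ j x) := by
  simp only [muR, Finset.sum_apply, map_sum, ← h.map_mu]
  exact ((Finite.injective_iff_bijective.1 (homMap_injective u)).sum_comp
    fun i => μ i (homMap u j) x).symm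

theorem conjFun_muR (h : PrimeFam K ι μ δ) (j) : conjFun (muR μ j) = muR μ j⁻¹ := by
  ext g
  rw [← homMap_conj, h.map_muR, conjFun_apply]

theorem conjFun_muR_ne (h : PrimeFam K ι μ δ) {j} (hj : j ≠ 1) : conjFun (muR μ j) ≠ muR μ j :=
  h.conjFun_muR j ▸ h.muR_injective.ne (hom_inv_ne_self h.odd₂ hj)

theorem conjBy_chiR (h : PrimeFam K ι μ δ) [K.Normal] (j g) : conjBy (chiR K μ j) g = chiR K μ j :=
  conjBy_restrict (h.cf 1 j) g

/-- An irreducible character of `K` fixed by a nontrivial element of `W₁` is some `χ_j`. -/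
theorem exists_chiR (h : PrimeFam K ι μ δ) [K.Normal] {θ : K → ℂ} (hθ : IsIrrCharacter K θ) {a : W₁}
    (ha : a ≠ 1) (e : conjBy θ (ι (a, 1)) = θ) : ∃ j, θ = chiR K μ j := by
  have h1 := S1512.result K (ι.comp (MonoidHom.inr W₁ W₂)).range (ι (a, 1))
    (fun e => ha (congrArg Prod.fst ((map_eq_one_iff ι h.inj).1 e)))
    (h.cop.symm.coprime_dvd_left (orderOf_dvd_of_pow_eq_one (by simp [← map_pow]))) ?_
  · rw [← card_fixed_irr_aut (MulAut.conjNormal (ι (a, 1))) _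
      fun g => ConjClasses.mk_eq_mk_iff_isConj, ← Nat.card_congr (MonoidHom.ofInjective
        (f := ι.comp (MonoidHom.inr W₁ W₂)) fun _ _ e => congrArg Prod.snd (h.inj e)).toEquiv,
      ← card_hom_of_isCyclic h.cyc₂, ← Nat.card_eq_fintype_card] at h1
    obtain ⟨j, hj⟩ := (Function.Injective.bijective_of_nat_card_le (f := fun j =>
      (⟨⟨chiR K μ j, h.isIrr_chiR j⟩, h.conjBy_chiR j _⟩ : {χ : IrrCharacter K //
        (χ : K → ℂ) ∘ MulAut.conjNormal (ι (a, 1)) = χ}))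
      (fun j l e => h.chiR_injective (congrArg (·.1.1) e)) h1).2 ⟨⟨θ, hθ⟩, e⟩
    exact ⟨j, (congrArg (·.1.1) hj).symm⟩
  · rintro _ ⟨n, rfl⟩ hn
    simp only [← map_zpow, Prod.pow_mk, one_zpow] at hn ⊢
    ext k
    refine ⟨fun hk => ?_, ?_⟩
    · obtain ⟨b, rfl⟩ := h.cent (a ^ n) (fun e => hn (by simp [e])) k hk.1 (mem_cent1.1 hk.2)
      exact ⟨b, rfl⟩
    · rintro ⟨b, rfl⟩
      exact ⟨(h.mem_iff _).2 rfl, mem_cent1.2 (h.ι_comm _ _)⟩

theorem inertia_le (h : PrimeFam K ι μ δ) [K.Normal] {θ : K → ℂ} (hθ : IsIrrCharacter K θ)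
    (h1 : ∀ j, θ ≠ chiR K μ j) : inertia θ ≤ K := fun g hg => by
  obtain ⟨k, hk, a, rfl⟩ := h.compl g
  by_cases ha : a = 1
  · simpa [ha] using hk
  obtain ⟨j, hj⟩ := h.exists_chiR hθ ha
    (((inertia θ).mul_mem_cancel_left (le_inertia hθ.isClassFunction hk)).1 hg)
  exact (h1 j hj).elim

/-- Peterfalvi (4.5.b). -/
theorem irr_cases (h : PrimeFam K ι μ δ) {θ : K → ℂ} (hθ : IsIrrCharacter K θ) :
    (∃ j, θ = chiR K μ j) ∨ IsIrrCharacter L (indFun K θ) ∧ ∀ i j, indFun K θ ≠ μ i j := by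
  have := h.normal
  have := Fintype.ofFinite K
  refine or_iff_not_imp_left.2 fun h1 => ?_
  push Not at h1
  refine ⟨hθ.indFun_of_inertia_le (h.inertia_le hθ h1), fun i j e => h1 j ?_⟩
  refine hθ.eq_of_classInner_ne_zero (h.isIrr_chiR j) ?_
  rw [← h.restrict i, ← classInner_indFun_left _ _ (h.cf i j), e, (h.irr i j).classInner_self]
  exact one_ne_zero

theorem indFun_cases (h : PrimeFam K ι μ δ) {θ : K → ℂ} (hθ : IsIrrCharacter K θ) :
    (∃ j, indFun K θ = muR μ j) ∨ IsIrrCharacter L (indFun K θ) ∧ ∀ i j, indFun K θ ≠ μ i j :=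
  (h.irr_cases hθ).imp_left fun ⟨j, hj⟩ => ⟨j, hj ▸ h.indFun_chiR j⟩

theorem eq_chiR_of_indFun (h : PrimeFam K ι μ δ) {θ : K → ℂ} (hθ : IsIrrCharacter K θ) {j}
    (e : indFun K θ = muR μ j) : θ = chiR K μ j := by
  have := h.normal
  obtain ⟨g, hg⟩ := (indFun_eq_iff (h.isIrr_chiR j) hθ).1 ((h.indFun_chiR j).trans e.symm)
  rw [← hg, h.conjBy_chiR]

/-- Every irreducible character is some `μ_ij` or is induced from `K`. -/
theorem irr_cases' (h : PrimeFam K ι μ δ) {χ : L → ℂ} (hχ : IsIrrCharacter L χ) :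
    (∃ i j, χ = μ i j) ∨ ∃ θ, IsIrrCharacter K θ ∧ χ = indFun K θ := by
  have := h.normal
  have := Fintype.ofFinite K
  obtain ⟨θ, hθ, h1⟩ := hχ.exists_restrict_constituent (N := K)
  rw [← classInner_indFun_right _ _ hχ.isClassFunction] at h1
  rcases h.indFun_cases hθ with ⟨j, hj⟩ | h2
  · rw [hj, muR, classInner_sum_right] at h1
    obtain ⟨i, -, hi⟩ := Finset.exists_ne_zero_of_sum_ne_zero h1
    exact Or.inl ⟨i, j, hχ.eq_of_classInner_ne_zero (h.irr i j) hi⟩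
  · exact Or.inr ⟨θ, hθ, hχ.eq_of_classInner_ne_zero h2.1 h1⟩

end PrimeFam

theorem comm_of_inf_centralizer {K W₁ W₂ : Subgroup L}
    (hC : ∀ x ∈ W₁, x ≠ 1 → K ⊓ centralizer ({x} : Set L) = W₂) :
    ∀ a ∈ W₁, ∀ b ∈ W₂, a * b = b * a := fun a ha b hb => by
  by_cases h : a = 1
  · simp [h]
  · exact (mem_cent1.1 ((hC a ha h).ge hb).2).symm

theorem primeTI_of_subgroups {K W₁ W₂ : Subgroup L} [hK : K.Normal] (hKW₁ : K ⊓ W₁ = ⊥)
    (hKW₁' : K ⊔ W₁ = ⊤) (hW₁ : W₁ ≠ ⊥) (hW₁c : IsCyclic W₁)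
    (hHall : Nat.Coprime (Nat.card W₁) W₁.index) (hW₂ : W₂ ≠ ⊥) (hW₂c : IsCyclic W₂)
    (hW₂K : W₂ ≤ K) (hC : ∀ x ∈ W₁, x ≠ 1 → K ⊓ centralizer ({x} : Set L) = W₂)
    (hodd₁ : Odd (Nat.card W₁)) (hodd₂ : Odd (Nat.card W₂)) :
    PrimeTI K (cycι (comm_of_inf_centralizer hC)) := by
  have hc : IsComplement' K W₁ := isComplement'_of_disjoint_and_mul_eq_univ (disjoint_iff.2 hKW₁)
    (by rw [← normal_mul, hKW₁', coe_top])
  refine ⟨hK, cycι_injective (eq_bot_iff.2 fun x hx => hKW₁ ▸ ⟨hW₂K hx.2, hx.1⟩), hW₁c, hW₂c,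
    W₁.nontrivial_iff_ne_bot.2 hW₁, W₂.nontrivial_iff_ne_bot.2 hW₂, hodd₁, hodd₂, fun x => ?_,
    fun w => ?_, hc.index_eq_card ▸ hHall.symm, fun a ha k hk e => ?_⟩
  · obtain ⟨⟨k, a⟩, rfl⟩ := hc.2 x
    exact ⟨k, k.2, a, by simp [cycι_apply]⟩
  · rw [cycι_apply, K.mul_mem_cancel_right (hW₂K w.2.2), Subtype.ext_iff]
    exact ⟨fun e => mem_bot.1 (hKW₁ ▸ ⟨e, w.1.2⟩), fun e => e ▸ K.one_mem⟩
  · refine ⟨⟨k, (hC a a.2 (by simpa using ha)).le ⟨hk, mem_cent1.2 ?_⟩⟩, by simp [cycι_apply]⟩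
    simpa [cycι_apply] using e

end Cfsg.Agent.Char
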