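import Mathlib
import Cfsg.Agent.Char.PrimeTI
import Cfsg.Agent.Char.Coh3

/-!
# The Dade isometry of a prime trivial intersection subset (Peterfalvi 4.6 - 4.10, 5.3, 5.8, 5.9).
-/

set_option autoImplicit false
set_option linter.unusedSectionVars false

namespace Cfsg.Agent.Char

open Cfsg Subgroup
open scoped ComplexConjugate

section IndD

variable {L : Type*} [Group L] [Fintype L]

/-- The characters induced from the irreducible characters of `K` whose kernel contains `M` but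
not `H`. -/
def indD (K H M : Subgroup L) : Set (L → ℂ) :=
  {φ | ∃ θ : K → ℂ, IsIrrCharacter K θ ∧ (∀ a : K, (a : L) ∈ M → θ a = θ 1) ∧
    (∃ a : K, (a : L) ∈ H ∧ θ a ≠ θ 1) ∧ φ = indFun K θ}

variable {K H M : Subgroup L} {φ ψ : L → ℂ}

theorem mem_indD : φ ∈ indD K H M ↔ ∃ θ : K → ℂ, IsIrrCharacter K θ ∧
    (∀ a : K, (a : L) ∈ M → θ a = θ 1) ∧ (∃ a : K, (a : L) ∈ H ∧ θ a ≠ θ 1) ∧ φ = indFun K θ :=
  Iff.rfl

theorem indD_subset : indD K H M ⊆ inducedIrrAbove K M := fun _ ⟨θ, h1, h2, ⟨_, _, h3⟩, e⟩ =>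
  ⟨θ, h1, fun e => h3 (by simp [e]), h2, e⟩

theorem indD_self (hKH : K ≤ H) : indD K H M = inducedIrrAbove K M :=
  indD_subset.antisymm fun _ ⟨θ, h1, h2, h3, e⟩ => ⟨θ, h1, h3, by
    by_contra h
    push Not at h
    exact h2 (h1.eq_one_of_forall_eq fun a => h a (hKH a.2)), e⟩

theorem indD_mono {H' M' : Subgroup L} (h1 : H ≤ H') (h2 : M' ≤ M) : indD K H M ⊆ indD K H' M' :=
  fun _ ⟨θ, a, b, ⟨c, d, d'⟩, e⟩ => ⟨θ, a, fun x hx => b x (h2 hx), ⟨c, h1 d, d'⟩, e⟩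

theorem indD_subset_bot : indD K H M ⊆ indD K H ⊥ := indD_mono le_rfl bot_le

theorem conjFun_mem_indD (h : φ ∈ indD K H M) : conjFun φ ∈ indD K H M := by
  obtain ⟨θ, h1, h2, ⟨a, h3, h4⟩, rfl⟩ := h
  exact ⟨conjFun θ, h1.conjF, fun a ha => by simp [h2 a ha], ⟨a, h3, (starRingEnd ℂ).injective.ne h4⟩,
    (indFun_conjFun _ _).symm⟩

theorem indFun_map (K : Subgroup L) (u : ℂ →+* ℂ) (θ : K → ℂ) :
    indFun K (fun x => u (θ x)) = fun g => u (indFun K θ g) := by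
  ext g
  rw [indFun_apply, indFun_apply, map_mul, map_inv₀, map_natCast, map_sum]
  congr 1
  refine Finset.sum_congr rfl fun x _ => ?_
  rw [extendByZero_apply, extendByZero_apply]
  split_ifs <;> simp

theorem map_mem_indD (u : ℂ →+* ℂ) (h : φ ∈ indD K H M) : (fun x => u (φ x)) ∈ indD K H M := by
  obtain ⟨θ, h1, h2, ⟨a, h3, h4⟩, rfl⟩ := h
  exact ⟨fun x => u (θ x), h1.map_ringHom u, fun a ha => by simp [h2 a ha],
    ⟨a, h3, u.injective.ne h4⟩, (indFun_map _ _ _).symm⟩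

theorem map_mem_inducedIrrAbove (u : ℂ →+* ℂ) (h : φ ∈ inducedIrrAbove K M) :
    (fun x => u (φ x)) ∈ inducedIrrAbove K M := by
  rw [← indD_self le_rfl] at h ⊢
  exact map_mem_indD u h

theorem isCharacter_of_mem_indD (h : φ ∈ indD K H M) : IsCharacter L φ :=
  isCharacter_of_mem_inducedIrrAbove (indD_subset h)

theorem ne_zero_of_mem_indD (h : φ ∈ indD K H M) : φ ≠ 0 :=
  ne_zero_of_mem_inducedIrrAbove (indD_subset h)

theorem finite_indD : (indD K H M).Finite := (finite_inducedIrrAbove M).subset indD_subset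

variable [hK : K.Normal]

theorem orth_of_mem_indD {H' M' : Subgroup L} (h : φ ∈ indD K H M) (h' : ψ ∈ indD K H' M')
    (hne : φ ≠ ψ) : classInner φ ψ = 0 :=
  orth_of_mem_inducedIrrAbove (indD_subset h) (indD_subset h') hne

theorem apply_eq_zero_of_mem_indD (h : φ ∈ indD K H M) {x : L} (hx : x ∉ K) : φ x = 0 :=
  apply_eq_zero_of_mem_inducedIrrAbove (indD_subset h) hx

theorem conjBy_ker {N : Subgroup L} [hN : N.Normal] {θ : K → ℂ}
    (h : ∀ a : K, (a : L) ∈ N → θ a = θ 1) (g : L) :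
    ∀ a : K, (a : L) ∈ N → conjBy θ g a = conjBy θ g 1 := fun a ha => by
  rw [conjBy_apply_one, conjBy_apply]
  exact h _ (hN.conj_mem _ ha g)

theorem indD_eq_sdiff [H.Normal] :
    indD K H M = inducedIrrAbove K M \ inducedIrrAbove K H := by
  refine Set.Subset.antisymm (fun φ h => ⟨indD_subset h, ?_⟩) ?_
  · obtain ⟨θ, h1, -, ⟨a, h3, h4⟩, rfl⟩ := h
    rintro ⟨θ', h5, -, h6, e⟩
    obtain ⟨g, rfl⟩ := (indFun_eq_iff h5 h1).1 e.symm
    exact h4 (conjBy_ker h6 g a h3)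
  · rintro _ ⟨⟨θ, h1, h2, h3, rfl⟩, h4⟩
    refine ⟨θ, h1, h3, ?_, rfl⟩
    by_contra h
    push Not at h
    exact h4 ⟨θ, h1, h2, h, rfl⟩

theorem indFun_mem_indD_iff [H.Normal] [M.Normal] {θ : K → ℂ} (hθ : IsIrrCharacter K θ) :
    indFun K θ ∈ indD K H M ↔
      (∀ a : K, (a : L) ∈ M → θ a = θ 1) ∧ ∃ a : K, (a : L) ∈ H ∧ θ a ≠ θ 1 := by
  refine ⟨fun ⟨θ', h1, h2, h3, e⟩ => ?_, fun h => ⟨θ, hθ, h.1, h.2, rfl⟩⟩
  obtain ⟨g, rfl⟩ := (indFun_eq_iff hθ h1).1 e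
  refine ⟨by simpa using conjBy_ker h2 g⁻¹, ?_⟩
  by_contra h
  push Not at h
  obtain ⟨a, h4, h5⟩ := h3
  exact h5 (conjBy_ker h g a h4)

theorem conjFun_ne_of_mem_inducedIrrAbove (hodd : Odd (Nat.card L))
    (h : φ ∈ inducedIrrAbove K M) : conjFun φ ≠ φ := by
  obtain ⟨θ, h1, h2, -, rfl⟩ := h
  intro e
  rw [← indFun_conjFun] at e
  obtain ⟨g, hg⟩ := (indFun_eq_iff h1 h1.conjF).1 e.symm
  have h3 : g ^ 2 ∈ inertia θ := by
    rw [sq, mem_inertia, conjBy_mul, hg]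
    exact (conjBy_conj θ g).trans (by rw [hg]; exact conjFun_conjFun θ)
  have h4 : g ∈ inertia θ := by
    obtain ⟨k, hk⟩ := hodd
    have := pow_mem h3 (k + 1)
    rwa [← pow_mul, show 2 * (k + 1) = Nat.card L + 1 by omega, pow_succ, pow_card_eq_one',
      one_mul] at this
  exact h1.conjF_ne_of_odd (hodd.of_dvd_nat (card_subgroup_dvd_card K)) h2 (hg.symm.trans h4)

theorem conjFun_ne_of_mem_indD (hodd : Odd (Nat.card L)) (h : φ ∈ indD K H M) : conjFun φ ≠ φ :=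
  conjFun_ne_of_mem_inducedIrrAbove hodd (indD_subset h)

omit [Fintype L] hK in
/-- Peterfalvi (4.7), first part. -/
theorem exists_comm_of_apply_ne_zero [Finite L] [hH : H.Normal] {θ : K → ℂ}
    (hθ : IsIrrCharacter K θ) (h : ∃ a : K, (a : L) ∈ H ∧ θ a ≠ θ 1) {x : K} (hx : θ x ≠ 0) :
    ∃ h ∈ H, h ∈ K ∧ h ≠ 1 ∧ h * x = x * h := by
  by_contra h1
  push Not at h1
  refine hx (hθ.eq_zero_of_centralizer_trivial (H.subgroupOf K) h fun n hn e => ?_)
  by_contra h2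
  exact h1 n hn n.2 (by simpa using h2) (congrArg Subtype.val e)

theorem exists_comm_of_mem_indD [hH : H.Normal] (h : φ ∈ indD K H M) {x : L} (hx : φ x ≠ 0) :
    x ∈ K ∧ ∃ h ∈ H, h ∈ K ∧ h ≠ 1 ∧ h * x = x * h := by
  have hxK : x ∈ K := by_contra fun e => hx (apply_eq_zero_of_mem_indD h e)
  obtain ⟨θ, h1, -, h2, rfl⟩ := h
  rw [indFun_of_normal K θ ⟨x, hxK⟩] at hx
  obtain ⟨g, -, hg⟩ := Finset.exists_ne_zero_of_sum_ne_zero (right_ne_zero_of_mul hx)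
  obtain ⟨y, h3, h4, h5, h6⟩ := exists_comm_of_apply_ne_zero h1 h2 hg
  refine ⟨hxK, g⁻¹ * y * g⁻¹⁻¹, hH.conj_mem _ h3 _, hK.conj_mem _ h4 _,
    mt conj_eq_one_iff.1 h5, ?_⟩
  have h7 : y * (g * x * g⁻¹) = g * x * g⁻¹ * y := h6
  calc _ = g⁻¹ * (y * (g * x * g⁻¹)) * g := by group
    _ = _ := by rw [h7]; group

end IndD

section Aut

variable {L G : Type*} [Group L] [Fintype L] [Group G] [Fintype G] {S : Set (L → ℂ)}
  {τ ν : CMap L G}

/-- Peterfalvi (5.9.a). -/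
theorem DegIso.map_cohWith (h : DegIso S τ) (hν : CohWith S τ ν) (u : ℂ →+* ℂ)
    (hτ : ∀ α, τ (fun x => u (α x)) = fun g => u (τ α g)) {χ ψ : L → ℂ} (hχ : χ ∈ S) (hψ : ψ ∈ S)
    (hχi : IsIrrCharacter L χ) (hψi : IsIrrCharacter L ψ) (hne : χ ≠ ψ) (hd : χ 1 = ψ 1)
    (huχ : (fun x => u (χ x)) ∈ S) (huψ : (fun x => u (ψ x)) ∈ S) :
    ν (fun x => u (χ x)) = fun g => u (ν χ g) := by
  have h1 := hτ (χ - ψ)
  have e1 : (fun x => u ((χ - ψ) x)) = (fun x => u (χ x)) - fun x => u (ψ x) := by ext; simp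
  rw [e1, hν.agree.sub hd, hν.agree.sub (by simp [hd])] at h1
  have d1 := hν.isDirr huχ (hχi.map_ringHom u)
  have d2 := hν.isDirr huψ (hψi.map_ringHom u)
  have d3 := (hν.isDirr hχ hχi).map_ringHom u
  have d4 := (hν.isDirr hψ hψi).map_ringHom u
  have h2 := congrArg (classInner · fun g => u (ν χ g)) h1
  have e2 : (fun g => u ((ν χ - ν ψ) g)) = (fun g => u (ν χ g)) - fun g => u (ν ψ g) := by ext; simp
  simp only [e2, classInner_sub_left, classInner_map_ringHom (hν.gen _ hψ) (hν.gen _ hχ),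
    hν.inner _ hψ _ hχ, h.orth _ hψ _ hχ hne.symm, d3.classInner_self, sub_zero] at h2
  rcases d1.classInner_cases d3 with h3 | h3 | h3
  · rcases d2.classInner_cases d3 with h4 | h4 | h4
    · simp [h3, h4] at h2
    · rw [h3, h4.2] at h2
      norm_num at h2
    · have h5 := h.degree_mul hν.agree (Submodule.subset_span hχ) (Submodule.subset_span huψ)
      obtain ⟨n, hn⟩ := (hν.gen _ hχ).exists_int
      obtain ⟨m, hm⟩ := hχi.isGen.exists_int
      have h6 := (hν.isDirr hχ hχi).one_ne_zero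
      have h7 := hχi.one_ne_zero
      simp only [h4.1, ← hd, Pi.neg_apply, hn, hm, map_intCast] at h5 h6 h7
      exact (mul_ne_zero (two_ne_zero (α := ℂ)) (mul_ne_zero h7 h6)
        (by linear_combination h5)).elim
  · exact h3.1
  · rcases d2.classInner_cases d3 with h4 | ⟨-, h4⟩ | ⟨-, h4⟩ <;> norm_num [h3.2, h4] at h2

theorem DegIso.conj_cohWith (h : DegIso S τ) (hν : CohWith S τ ν)
    (hτ : ∀ α, τ (conjFun α) = conjFun (τ α)) {χ : L → ℂ} (hχ : χ ∈ S) (hχi : IsIrrCharacter L χ)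
    (hc : conjFun χ ∈ S) (hne : conjFun χ ≠ χ) : ν (conjFun χ) = conjFun (ν χ) :=
  h.map_cohWith hν (starRingEnd ℂ) hτ hχ hc hχi hχi.conjF hne.symm
    hχi.isCharacter.conjFun_one.symm hc (by
      have : (fun x => conj (conjFun χ x)) = χ := conjFun_conjFun χ
      rwa [this])

end Aut

variable {W₁ W₂ G : Type*} [Group W₁] [Group W₂] [Group G] [Fintype G]

/-- Peterfalvi (4.6). -/
structure PrimeDade (A : Set G) (L : Subgroup G) [Fintype L] (R : G → Subgroup G)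
    (K H : Subgroup L) (ι : W₁ × W₂ →* L) (η : (W₁ →* ℂˣ) → (W₂ →* ℂˣ) → G → ℂ)
    (μ : (W₁ →* ℂˣ) → (W₂ →* ℂˣ) → L → ℂ) (δ : (W₂ →* ℂˣ) → ℤ) : Prop where
  hyp : DadeHypothesis A L R
  cyc : CycFam (L.subtype.comp ι) η
  prim : PrimeFam K ι μ δ
  normal : H.Normal
  le : H ≤ K
  mem : ∀ b, ι (1, b) ∈ H
  cent : ∀ h ∈ H, h ≠ 1 → ∀ k ∈ K, k ≠ 1 → h * k = k * h → (k : G) ∈ A
  memV : ∀ w : W₁ × W₂, w.1 ≠ 1 → w.2 ≠ 1 → (ι w : G) ∈ A

variable [Fintype W₁] [Fintype W₂] {A : Set G} {L : Subgroup G} [Fintype L] {R : G → Subgroup G}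
  {K H : Subgroup L} {ι : W₁ × W₂ →* L} {η : (W₁ →* ℂˣ) → (W₂ →* ℂˣ) → G → ℂ}
  {μ : (W₁ →* ℂˣ) → (W₂ →* ℂˣ) → L → ℂ} {δ : (W₂ →* ℂˣ) → ℤ}

theorem PrimeFam.exists_ne_chiR {L : Type*} [Group L] [Fintype L] {K : Subgroup L}
    {ι : W₁ × W₂ →* L} {μ : (W₁ →* ℂˣ) → (W₂ →* ℂˣ) → L → ℂ} (h : PrimeFam K ι μ δ) {j}
    (hj : j ≠ 1) : ∃ b, μ 1 j (ι (1, b)) ≠ μ 1 j 1 := by
  by_contra h1
  push Not at h1
  have := h.nt₁
  obtain ⟨a, ha⟩ := exists_ne (1 : W₁)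
  refine hj (MonoidHom.ext fun b => Units.ext ?_)
  have h2 := (h.irr 1 j).isCharacter.apply_mul_of_eq_one (h1 b) (ι (a, 1))
  rw [← map_mul, h.apply_ι _ _ (by simpa using ha), h.apply_ι _ _ ha] at h2
  simpa [om, ← Int.cast_eq_zero (α := ℂ), h.sign_ne_zero] using h2

theorem PrimeFam.sign_eq {L : Type*} [Group L] [Fintype L] {K : Subgroup L}
    {ι : W₁ × W₂ →* L} {μ : (W₁ →* ℂˣ) → (W₂ →* ℂˣ) → L → ℂ} (h : PrimeFam K ι μ δ) {i k j l}
    (e : μ i j 1 = μ k l 1) : δ j = δ l := by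
  obtain ⟨n, hn⟩ := h.degree_mod i j
  obtain ⟨m, hm⟩ := h.degree_mod k l
  have h1 : δ j - δ l = (m - n) * Nat.card W₁ := by
    have : (δ j : ℂ) - δ l = (m - n) * Nat.card W₁ := by linear_combination e - hn + hm
    exact_mod_cast this
  have h2 : (3 : ℤ) ≤ Nat.card W₁ := by exact_mod_cast h.fam.three_le₁
  have h3 : m - n = 0 := by
    rcases h.sign j with a | a <;> rcases h.sign l with b | b <;> rw [a, b] at h1 <;> nlinarith
  rwa [h3, zero_mul, sub_eq_zero] at h1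

namespace PrimeDade

theorem muR_mem (h : PrimeDade A L R K H ι η μ δ) {j} (hj : j ≠ 1) : muR μ j ∈ indD K H ⊥ := by
  obtain ⟨b, hb⟩ := h.prim.exists_ne_chiR hj
  refine ⟨_, h.prim.isIrr_chiR j, fun a ha => ?_, ⟨⟨_, h.le (h.mem b)⟩, h.mem b, hb⟩,
    (h.prim.indFun_chiR j).symm⟩
  rw [show a = 1 from Subtype.ext (mem_bot.1 ha)]

theorem ne_one_of_muR_mem (h : PrimeDade A L R K H ι η μ δ) {j M} (hj : muR μ j ∈ indD K H M) :
    j ≠ 1 := by
  rintro rfl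
  obtain ⟨θ, h1, -, ⟨a, -, h2⟩, e⟩ := hj
  rw [h.prim.eq_chiR_of_indFun h1 e.symm, h.prim.chiR_one'] at h2
  exact h2 rfl

/-- Peterfalvi (4.7). -/
theorem supp_indD (h : PrimeDade A L R K H ι η μ δ) {φ M} (hφ : φ ∈ indD K H M) (x : L)
    (h1 : x ≠ 1) (hx : (x : G) ∉ A) : φ x = 0 := by
  have := h.normal
  have := h.prim.normal
  by_contra h2
  obtain ⟨h3, y, h4, -, h5, h6⟩ := exists_comm_of_mem_indD hφ h2
  exact hx (h.cent y h4 h5 x h3 h1 h6)

theorem supp_mu (h : PrimeDade A L R K H ι η μ δ) (i) {j} (hj : j ≠ 1) {x : L} (hK : x ∈ K)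
    (h1 : x ≠ 1) (hx : (x : G) ∉ A) : μ i j x = 0 := by
  have := h.supp_indD (h.muR_mem hj) x h1 hx
  rw [h.prim.muR_of_mem i j hK] at this
  exact (mul_eq_zero.1 this).resolve_left (card_ne_zero W₁)

theorem degIso (h : PrimeDade A L R K H ι η μ δ) : DegIso (indD K H ⊥) (dade A L R) :=
  have := h.prim.normal
  h.hyp.degIso (fun _ => isCharacter_of_mem_indD) (fun _ => ne_zero_of_mem_indD)
    (fun _ a _ b => orth_of_mem_indD a b) fun _ => h.supp_indD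

theorem supp_of (h : PrimeDade A L R K H ι η μ δ) {φ : L → ℂ} (hφ : IsClassFunction L φ)
    (hK : ∀ x ∈ K, (x : G) ∉ A → φ x = 0) (hW : ∀ a, a ≠ 1 → φ (ι (a, 1)) = 0) (x : L)
    (hx : (x : G) ∉ A) : φ x = 0 := by
  by_cases h1 : x ∈ K
  · exact hK x h1 hx
  obtain ⟨g, ⟨a, b⟩, h2, e⟩ := h.prim.exists_conj h1
  rw [← hφ x g, e]
  by_cases hb : b = 1
  · exact hb ▸ hW a h2
  · exact (hx ((h.hyp.conj_mem_iff g.2).1 (by
      simpa [← e] using h.memV (a, b) h2 hb))).elim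

theorem dade_apply_V (h : PrimeDade A L R K H ι η μ δ) {φ : L → ℂ} (hφ : IsClassFunction L φ)
    {w : W₁ × W₂} (h1 : w.1 ≠ 1) (h2 : w.2 ≠ 1) : dade A L R φ (ι w) = φ (ι w) :=
  h.hyp.dade_apply_self hφ (h.memV w h1 h2)

/-- Peterfalvi (4.8). -/
theorem supp_sub (h : PrimeDade A L R K H ι η μ δ) {i j k} (hj : j ≠ 1) (hk : k ≠ 1)
    (e : μ i j 1 = μ i k 1) (x : L) (hx : (x : G) ∉ A) : (μ i j - μ i k) x = 0 := by
  refine h.supp_of ((h.prim.cf i j).sub (h.prim.cf i k)) (fun x h1 h2 => ?_) (fun a ha => ?_) x hx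
  · by_cases h3 : x = 1
    · simp [h3, e]
    · simp [h.supp_mu i hj h1 h3 h2, h.supp_mu i hk h1 h3 h2]
  · simp [h.prim.apply_ι _ _ (w := (a, 1)) ha, om, h.prim.sign_eq e]

/-- Peterfalvi (4.8). -/
theorem dade_sub (h : PrimeDade A L R K H ι η μ δ) {i j k} (hj : j ≠ 1) (hk : k ≠ 1)
    (e : μ i j 1 = μ i k 1) : dade A L R (μ i j - μ i k) = (δ j : ℂ) • (η i j - η i k) := by
  by_cases hjk : j = k
  · simp [hjk]
  have h1 := (h.prim.irr i j).isGen.sub (h.prim.irr i k).isGen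
  refine h.cyc.eq_signed_sub (h.hyp.isGen_dade h1 (h.supp_sub hj hk e)) ?_ (h.prim.sign' j) hjk
    fun w a b => (h.dade_apply_V h1.isClassFunction a b).trans ?_
  · rw [h.hyp.nrm_dade h1.isClassFunction (h.supp_sub hj hk e), nrm_sub_of_orth
      (by simp [h.prim.inner, hjk]), (h.prim.irr _ _).nrm_eq, (h.prim.irr _ _).nrm_eq]
    norm_num
  · simp [h.prim.apply_ι _ _ a, h.prim.sign_eq e, mul_sub]

/-- Peterfalvi (4.9). -/
theorem dade_sub_muR (h : PrimeDade A L R K H ι η μ δ) {j k} (hj : j ≠ 1) (hk : k ≠ 1)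
    (e : muR μ j 1 = muR μ k 1) :
    dade A L R (muR μ j - muR μ k) = (δ j : ℂ) • ∑ i, η i j - (δ j : ℂ) • ∑ i, η i k := by
  rw [muR, muR, ← Finset.sum_sub_distrib, map_sum, ← smul_sub, ← Finset.sum_sub_distrib,
    Finset.smul_sum]
  refine Finset.sum_congr rfl fun i _ => h.dade_sub hj hk ?_
  rw [h.prim.muR_one i, h.prim.muR_one i] at e
  exact mul_left_cancel₀ (card_ne_zero W₁) e

theorem sign_eq_of_muR (h : PrimeDade A L R K H ι η μ δ) {j k} (e : muR μ j 1 = muR μ k 1) :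
    δ j = δ k := by
  rw [h.prim.muR_one 1, h.prim.muR_one 1] at e
  exact h.prim.sign_eq (mul_left_cancel₀ (card_ne_zero W₁) e)

theorem inner_sum_eta (h : PrimeDade A L R K H ι η μ δ) (j k) :
    classInner (∑ i, η i j) (∑ i, η i k) = if j = k then (Nat.card W₁ : ℂ) else 0 := by
  simp [classInner_sum_left, classInner_sum_right, h.cyc.inner, ite_and,
    card_hom_of_isCyclic h.prim.cyc₁, -Nat.card_eq_fintype_card]

/-- Peterfalvi (4.9). -/
theorem exists_cohWith_muR (h : PrimeDade A L R K H ι η μ δ) {k} (hk : k ≠ 1) :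
    ∃ ν, CohWith {φ | ∃ j, j ≠ 1 ∧ muR μ j 1 = muR μ k 1 ∧ φ = muR μ j} (dade A L R) ν ∧
      ∀ j, j ≠ 1 → muR μ j 1 = muR μ k 1 → ν (muR μ j) = (δ k : ℂ) • ∑ i, η i j := by
  obtain ⟨ν, h1, h2⟩ := exists_agree (dade A L R) (h.degIso.one_ne_zero (h.muR_mem hk))
    ((δ k : ℂ) • ∑ i, η i k)
  have h3 : ∀ j, j ≠ 1 → muR μ j 1 = muR μ k 1 → ν (muR μ j) = (δ k : ℂ) • ∑ i, η i j :=
    fun j hj e => by
      have := h1.sub e
      rw [h.dade_sub_muR hj hk e, h2, h.sign_eq_of_muR e, sub_left_inj] at this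
      exact this.symm
  refine ⟨ν, ⟨⟨?_, ?_⟩, h1⟩, h3⟩
  · rintro _ ⟨j, a, b, rfl⟩ _ ⟨l, c, d, rfl⟩
    rw [h3 j a b, h3 l c d, classInner_smul_left, classInner_smul_right, map_intCast,
      ← mul_assoc, h.prim.sign_mul, one_mul, h.inner_sum_eta, h.prim.inner_muR]
  · rintro _ ⟨j, a, b, rfl⟩
    exact h3 j a b ▸ (isGen_sum _ _ fun i _ => h.cyc.isGen i j).intCast_smul _

theorem R_eq_bot (h : PrimeDade A L R K H ι η μ δ) {w : W₁ × W₂} (h1 : w.1 ≠ 1) (h2 : w.2 ≠ 1) :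
    R (ι w) = ⊥ := by
  refine eq_bot_iff.2 fun u hu => h.hyp.eq_one_of_mem (h.memV w h1 h2) hu ?_
  obtain ⟨v, rfl⟩ := h.cyc.mem_range_of_comm h1 h2 (h.hyp.comm (h.memV w h1 h2) hu)
  exact (ι v).2

theorem exists_conj_of_indH (h : PrimeDade A L R K H ι η μ δ) {φ : W₁ × W₂ → ℂ}
    (hφ : ∀ w, w.1 = 1 ∨ w.2 = 1 → φ w = 0) {x : L} (hx : indH ι h.prim.inj φ x ≠ 0) :
    ∃ g w, w.1 ≠ 1 ∧ w.2 ≠ 1 ∧ g * ι w * g⁻¹ = x := by
  by_contra h1
  push Not at h1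
  refine hx (indH_eq_zero fun g w e => hφ w ?_)
  by_contra h2
  push Not at h2
  exact h1 g⁻¹ w h2.1 h2.2 (by rw [← e]; group)

theorem supp_indH (h : PrimeDade A L R K H ι η μ δ) {φ : W₁ × W₂ → ℂ}
    (hφ : ∀ w, w.1 = 1 ∨ w.2 = 1 → φ w = 0) (x : L) (hx : (x : G) ∉ A) :
    indH ι h.prim.inj φ x = 0 := by
  by_contra h1
  obtain ⟨g, w, a, b, rfl⟩ := h.exists_conj_of_indH hφ h1
  exact hx (h.hyp.conj_mem g g.2 _ (h.memV w a b))

theorem dade_indH (h : PrimeDade A L R K H ι η μ δ) {φ : W₁ × W₂ → ℂ}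
    (hφ : ∀ w, w.1 = 1 ∨ w.2 = 1 → φ w = 0) : dade A L R (indH ι h.prim.inj φ) = sig η φ := by
  rw [h.hyp.dade_eq_indFun (isClassFunction_indH _) (h.supp_indH hφ) fun x _ h1 => ?_,
    indFun_indH _ h.cyc.inj, h.cyc.sig_eq_indH hφ]
  obtain ⟨g, w, a, b, rfl⟩ := h.exists_conj_of_indH hφ h1
  refine (h.hyp.H_conj (h.memV w a b) (h.hyp.conj_mem g g.2 _ (h.memV w a b))).trans ?_
  rw [h.R_eq_bot a b, smul_bot]

theorem supp_sub2 (h : PrimeDade A L R K H ι η μ δ) (i j) (x : L) (hx : (x : G) ∉ A) :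
    ((δ j : ℂ) • μ i j - (δ j : ℂ) • μ 1 j - μ i 1 + μ 1 1) x = 0 := by
  have := h.supp_indH (alph_eq_zero i j) x hx
  rw [h.prim.fam.ind, h.prim.sign_one] at this
  simp only [Int.cast_one, one_smul, Pi.add_apply, Pi.sub_apply] at this ⊢
  linear_combination this

/-- Peterfalvi (4.10). -/
theorem dade_sub2 (h : PrimeDade A L R K H ι η μ δ) (i j) :
    dade A L R ((δ j : ℂ) • μ i j - (δ j : ℂ) • μ 1 j - μ i 1 + μ 1 1) =
      η i j - η 1 j - η i 1 + η 1 1 := by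
  have := h.dade_indH (alph_eq_zero i j)
  rw [h.prim.fam.ind, h.cyc.sig_alph, h.cyc.ind, h.prim.sign_one] at this
  simp only [Int.cast_one, one_smul] at this
  convert this using 1
  · congr 1; abel
  · abel

theorem dade_V_of_mem_span (h : PrimeDade A L R K H ι η μ δ) {α : L → ℂ}
    (hα : α ∈ Submodule.span ℤ (indD K H ⊥)) {w : W₁ × W₂} (h1 : w.1 ≠ 1) (h2 : w.2 ≠ 1) :
    dade A L R α (ι w) = 0 := by
  have := h.prim.normal
  rw [h.dade_apply_V (mem_span_isGen (fun _ e => (isCharacter_of_mem_indD e).isGen)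
    hα).isClassFunction h1 h2]
  exact mem_span_vanish (fun φ hφ => apply_eq_zero_of_mem_indD hφ
    fun e => h1 ((h.prim.mem_iff w).1 e)) hα

theorem orth_dade_sub (h : PrimeDade A L R K H ι η μ δ) {χ ψ : L → ℂ} (hχ : χ ∈ indD K H ⊥)
    (hψ : ψ ∈ indD K H ⊥) (hχi : IsIrrCharacter L χ) (hψi : IsIrrCharacter L ψ) (hd : χ 1 = ψ 1)
    (i j) : classInner (dade A L R (χ - ψ)) (η i j) = 0 := by
  have h1 := sub_mem_span1 hχ hψ hd
  refine h.cyc.orth_of_nrm_le (h.degIso.iso.gen _ h1) (fun w a b => h.dade_V_of_mem_span h1.1 a b)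
    ?_ i j
  rw [h.degIso.iso.nrm_eq h1]
  by_cases e : χ = ψ
  · simp [e]
  · rw [nrm_sub_of_orth (hχi.classInner_of_ne hψi e), hχi.nrm_eq, hψi.nrm_eq]
    norm_num

/-- The images of irreducible characters under a coherent extension are orthogonal to the `η_ij`. -/
theorem orth_of_cohWith (h : PrimeDade A L R K H ι η μ δ) {S : Set (L → ℂ)} (hS : S ⊆ indD K H ⊥)
    {ν : CMap L G} (hν : CohWith S (dade A L R) ν) {χ ψ : L → ℂ} (hχ : χ ∈ S) (hψ : ψ ∈ S)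
    (hχi : IsIrrCharacter L χ) (hψi : IsIrrCharacter L ψ) (hne : χ ≠ ψ) (hd : χ 1 = ψ 1) (i j) :
    classInner (ν χ) (η i j) = 0 := by
  by_contra h1
  have h2 := h.orth_dade_sub (hS hχ) (hS hψ) hχi hψi hd i j
  have h3 := (h.cyc.dirr i j).eq_smul (hν.isDirr hχ hχi) (mt classInner_eq_zero_comm.1 h1)
  rw [hν.agree.sub hd, classInner_sub_left, h3, classInner_smul_right, classInner_smul_right,
    hν.inner _ hψ _ hχ, hψi.classInner_of_ne hχi hne.symm, mul_zero, sub_zero,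
    ← classInner_smul_right, ← h3] at h2
  exact h1 h2

/-- Peterfalvi (5.3.b). -/
theorem exists_subCoh (h : PrimeDade A L R K H ι η μ δ) (hodd : Odd (Nat.card L)) :
    ∃ R', SubCoh (indD K H ⊥) (dade A L R) R' ∧
      (∀ φ ∈ indD K H ⊥, IsIrrCharacter L φ → ∀ α ∈ R' φ, ∀ i j, classInner α (η i j) = 0) ∧
      ∀ j α, α ∈ R' (muR μ j) ↔ (∃ i, α = (δ j : ℂ) • η i j) ∨ ∃ i, α = -((δ j : ℂ) • η i j⁻¹) := by
  classical
  have := h.prim.normal
  obtain ⟨R₀, h0⟩ := (h.degIso.mono (T := {φ | φ ∈ indD K H ⊥ ∧ IsIrrCharacter L φ})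
    fun _ e => e.1).exists_subCoh (fun _ e => e.2) (fun _ e => ⟨conjFun_mem_indD e.1, e.2.conjF⟩)
    fun _ e => conjFun_ne_of_mem_indD hodd e.1
  have h1 : ∀ φ ∈ indD K H ⊥, IsIrrCharacter L φ → ∀ α ∈ R₀ φ, ∀ i j, classInner α (η i j) = 0 :=
    fun φ a b α hα i j => by
      by_contra h1
      have h2 := h.orth_dade_sub a (conjFun_mem_indD a) b b.conjF b.isCharacter.conjFun_one.symm i j
      have h3 := (h.cyc.dirr i j).eq_smul ((h0.gen φ ⟨a, b⟩ α hα).isDirr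
        ((h0.orthon φ ⟨a, b⟩).self hα)) (mt classInner_eq_zero_comm.1 h1)
      have h4 := (h0.orthon φ ⟨a, b⟩).classInner_sum_sum (Finset.singleton_subset_iff.2 hα)
      rw [Finset.sum_singleton] at h4
      rw [h0.sum_eq φ ⟨a, b⟩, h3, classInner_smul_right, h4, conj_classInner] at h2
      simp [h1] at h2
  let Rm : (W₂ →* ℂˣ) → Finset (G → ℂ) := fun j => (Finset.univ.image fun i => (δ j : ℂ) • η i j) ∪
    Finset.univ.image fun i => -((δ j : ℂ) • η i j⁻¹)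
  have hRm : ∀ j α, α ∈ Rm j ↔ (∃ i, α = (δ j : ℂ) • η i j) ∨ ∃ i, α = -((δ j : ℂ) • η i j⁻¹) :=
    fun j α => by simp [Rm, eq_comm]
  let R' : (L → ℂ) → Finset (G → ℂ) := fun φ => if e : ∃ j, φ = muR μ j then Rm e.choose else R₀ φ
  have h2 : ∀ j, R' (muR μ j) = Rm j := fun j => by
    have e : ∃ l, muR μ j = muR μ l := ⟨j, rfl⟩
    simp only [R', dif_pos e, ← h.prim.muR_injective e.choose_spec]
  have h3 : ∀ φ, IsIrrCharacter L φ → R' φ = R₀ φ := fun φ hφ =>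
    dif_neg fun ⟨j, e⟩ => h.prim.not_irr_muR j (e ▸ hφ)
  have h4 : ∀ φ ∈ indD K H ⊥, (∃ j, j ≠ 1 ∧ φ = muR μ j) ∨ IsIrrCharacter L φ := fun φ hφ => by
    obtain ⟨θ, a, -, -, rfl⟩ := id hφ
    exact (h.prim.indFun_cases a).imp (fun ⟨j, e⟩ => ⟨j, h.ne_one_of_muR_mem (e ▸ hφ), e⟩) And.left
  have h5 : ∀ i j k l, classInner ((δ j : ℂ) • η i k) ((δ j : ℂ) • η l k) = if i = l then 1 else 0 :=
    fun i j k l => by
      rw [classInner_smul_left, classInner_smul_right, map_intCast, ← mul_assoc, h.prim.sign_mul]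
      simp [h.cyc.inner]
  have h6 : ∀ (c d : ℂ) i j k l, j ≠ l → classInner (c • η i j) (d • η k l) = 0 :=
    fun c d i j k l e => by simp [classInner_smul_left, classInner_smul_right, h.cyc.inner, e]
  have hinj : ∀ j k, Function.Injective fun i => (δ j : ℂ) • η i k := fun j k i l e =>
    (h.cyc.eq_iff.1 (smul_right_injective _ (h.prim.sign_ne_zero j) e)).1
  refine ⟨R', ⟨h.degIso, fun _ => conjFun_mem_indD, fun _ => conjFun_ne_of_mem_indD hodd,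
    fun φ hφ => ?_, fun φ hφ α hα => ?_, fun φ hφ => ?_, fun χ hχ φ hφ a b α hα β hβ => ?_⟩,
    fun φ a b => h3 φ b ▸ h1 φ a b, fun j α => h2 j ▸ hRm j α⟩
  · rcases h4 φ hφ with ⟨j, hj, rfl⟩ | e
    · have hj' := hom_inv_ne_self h.prim.odd₂ hj
      refine h2 j ▸ orthon_of (fun α hα => ?_) fun α hα β hβ hne => ?_
      · rcases (hRm j α).1 hα with ⟨i, rfl⟩ | ⟨i, rfl⟩ <;>
          simp [classInner_neg_left, classInner_neg_right, h5]
      · rcases (hRm j α).1 hα with ⟨i, rfl⟩ | ⟨i, rfl⟩ <;>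
          rcases (hRm j β).1 hβ with ⟨k, rfl⟩ | ⟨k, rfl⟩ <;>
          simp only [classInner_neg_left, classInner_neg_right, h5, neg_neg, neg_eq_zero]
        · exact if_neg fun e => hne (by rw [e])
        · exact h6 _ _ _ _ _ _ hj'.symm
        · exact h6 _ _ _ _ _ _ hj'
        · exact if_neg fun e => hne (by rw [e])
    · exact h3 φ e ▸ h0.orthon φ ⟨hφ, e⟩
  · rcases h4 φ hφ with ⟨j, hj, rfl⟩ | e
    · rcases (hRm j α).1 (h2 j ▸ hα) with ⟨i, rfl⟩ | ⟨i, rfl⟩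
      · exact (h.cyc.isGen _ _).intCast_smul _
      · exact ((h.cyc.isGen _ _).intCast_smul _).neg
    · exact h0.gen φ ⟨hφ, e⟩ α (h3 φ e ▸ hα)
  · rcases h4 φ hφ with ⟨j, hj, rfl⟩ | e
    · have hj' := hom_inv_ne_self h.prim.odd₂ hj
      rw [h2, Finset.sum_union, Finset.sum_image (hinj _ _).injOn, Finset.sum_image
        fun _ _ _ _ e => hinj _ _ (neg_injective e), h.prim.conjFun_muR, h.dade_sub_muR hj (by simpa)]
      · simp [Finset.smul_sum, sub_eq_add_neg]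
      · rw [← h.prim.conjFun_muR, (h.prim.isCharacter_muR j).conjFun_one]
      · simp only [Finset.disjoint_left, Finset.mem_image, Finset.mem_univ, true_and, not_exists]
        rintro _ ⟨i, rfl⟩ k e
        rw [← smul_neg] at e
        exact h.cyc.ne_neg _ _ _ _ (smul_right_injective _ (h.prim.sign_ne_zero j) e).symm
    · exact h3 φ e ▸ h0.sum_eq φ ⟨hφ, e⟩
  · rcases h4 φ hφ with ⟨j, hj, rfl⟩ | e <;> rcases h4 χ hχ with ⟨k, hk, rfl⟩ | e'
    · rw [h.prim.conjFun_muR] at b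
      have c1 : j ≠ k := fun e => a (e ▸ rfl)
      have c2 : j ≠ k⁻¹ := fun e => b (e ▸ rfl)
      have c3 : j⁻¹ ≠ k := fun e => c2 (by simp [← e])
      rcases (hRm j α).1 (h2 j ▸ hα) with ⟨i, rfl⟩ | ⟨i, rfl⟩ <;>
        rcases (hRm k β).1 (h2 k ▸ hβ) with ⟨l, rfl⟩ | ⟨l, rfl⟩ <;>
        (try simp only [classInner_neg_left, classInner_neg_right, neg_neg, neg_eq_zero]) <;>
        apply h6 <;> simpa
    · rw [classInner_eq_zero_comm]
      rcases (hRm j α).1 (h2 j ▸ hα) with ⟨i, rfl⟩ | ⟨i, rfl⟩ <;>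
        simp [classInner_neg_right, classInner_smul_right, h1 χ hχ e' β (h3 χ e' ▸ hβ)]
    · rcases (hRm k β).1 (h2 k ▸ hβ) with ⟨i, rfl⟩ | ⟨i, rfl⟩ <;>
        simp [classInner_neg_right, classInner_smul_right, h1 φ hφ e α (h3 φ e ▸ hα)]
    · exact h0.disj χ ⟨hχ, e'⟩ φ ⟨hφ, e⟩ a b α (h3 φ e ▸ hα) β (h3 χ e' ▸ hβ)

theorem cases_indD (h : PrimeDade A L R K H ι η μ δ) {φ M} (hφ : φ ∈ indD K H M) :
    (∃ j, j ≠ 1 ∧ φ = muR μ j) ∨ IsIrrCharacter L φ ∧ ∀ i j, φ ≠ μ i j := by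
  obtain ⟨θ, a, -, -, rfl⟩ := id hφ
  exact (h.prim.indFun_cases a).imp_left fun ⟨j, e⟩ => ⟨j, h.ne_one_of_muR_mem (e ▸ hφ), e⟩

/-- Peterfalvi (5.8). -/
theorem cohWith_muR (h : PrimeDade A L R K H ι η μ δ) (hodd : Odd (Nat.card L)) {S : Set (L → ℂ)}
    (hS : S ⊆ indD K H ⊥) (hc : ∀ φ ∈ S, conjFun φ ∈ S) {ν : CMap L G}
    (hν : CohWith S (dade A L R) ν) {χ : L → ℂ} (hχ : χ ∈ S) (hχi : IsIrrCharacter L χ) {k}
    (hk : muR μ k ∈ S) : ν (muR μ k) = (δ k : ℂ) • ∑ i, η i k ∨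
      ν (muR μ k) = -((δ k : ℂ) • ∑ i, η i k⁻¹) ∧
        ∀ l, muR μ l ∈ S → muR μ l 1 = muR μ k 1 → l = k ∨ l = k⁻¹ := by
  classical
  have := h.prim.normal
  have hk1 := h.ne_one_of_muR_mem (hS hk)
  have hk' := hom_inv_ne_self h.prim.odd₂ hk1
  obtain ⟨R', h1, -, h2⟩ := h.exists_subCoh hodd
  obtain ⟨E, h3, h4, h5⟩ := h1.exists_subset_of_cohWith hν (hS hk) hk (hc _ hk)
  have h6 : ∀ w : W₁ × W₂, w.1 ≠ 1 → w.2 ≠ 1 → ν (muR μ k) (L.subtype.comp ι w) = 0 :=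
    fun w a b => by
      have e1 := smul_sub_smul_mem_span1 (hS hχ) (hS hk) hχi.isCharacter (h.prim.isCharacter_muR k)
      have e2 := h.dade_V_of_mem_span e1.1 a b
      have e3 := h.cyc.vanish (hν.gen χ hχ).isClassFunction (h.orth_of_cohWith hS hν hχ (hc χ hχ)
        hχi hχi.conjF (conjFun_ne_of_mem_indD hodd (hS hχ)).symm
        hχi.isCharacter.conjFun_one.symm) a b
      rw [← hν.agree _ e1.2, map_sub, map_smul, map_smul] at e2
      simp only [MonoidHom.comp_apply, coe_subtype] at e3 ⊢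
      simpa [e3, hχi.one_ne_zero] using e2
  have h7 : ∀ i l, l ≠ k → l ≠ k⁻¹ → classInner (ν (muR μ k)) (η i l) = 0 := fun i l a b => by
    rw [h4, classInner_sum_left]
    refine Finset.sum_eq_zero fun α hα => ?_
    rcases (h2 k α).1 (h3 hα) with ⟨j, rfl⟩ | ⟨j, rfl⟩ <;>
      simp [classInner_neg_left, classInner_smul_left, h.cyc.inner, a.symm, b.symm]
  have h8 : ∀ i i' l, classInner (ν (muR μ k)) (η i l) = classInner (ν (muR μ k)) (η i' l) :=
    fun i i' l => by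
      simpa [h7 _ 1 hk1.symm (by simpa using hk1.symm)] using
        h.cyc.exchange (hν.gen _ hk).isClassFunction h6 i l i' 1
  have h9 : ∀ α ∈ R' (muR μ k), classInner (ν (muR μ k)) α = if α ∈ E then 1 else 0 :=
    fun α hα => by
      rw [h4, classInner_sum_left]
      split_ifs with e
      · simpa [classInner_sum_left] using ((h1.orthon _ (hS hk)).mono h3).classInner_sum_sum
          (Finset.singleton_subset_iff.2 e)
      · exact Finset.sum_eq_zero fun β hβ => (h1.orthon _ (hS hk)).orth _ (h3 hβ) _ hα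
          fun e' => e (e' ▸ hβ)
  have hinj : ∀ j, Function.Injective fun i => (δ k : ℂ) • η i j := fun j i l e =>
    (h.cyc.eq_iff.1 (smul_right_injective _ (h.prim.sign_ne_zero k) e)).1
  rw [h.prim.nrm_muR, Nat.cast_inj, ← card_hom_of_isCyclic h.prim.cyc₁] at h5
  by_cases h10 : (δ k : ℂ) • η 1 k ∈ E
  · left
    have : (Finset.univ.image fun i => (δ k : ℂ) • η i k) = E := by
      refine Finset.eq_of_subset_of_card_le (fun α hα => ?_)
        (by rw [Finset.card_image_of_injective _ (hinj k), h5, Finset.card_univ])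
      obtain ⟨i, -, rfl⟩ := Finset.mem_image.1 hα
      have e1 := h9 _ (h3 h10)
      rw [if_pos h10, classInner_smul_right, h8 1 i, ← classInner_smul_right,
        h9 _ ((h2 k _).2 (Or.inl ⟨i, rfl⟩))] at e1
      by_contra e
      simp [e] at e1
    rw [h4, ← this, Finset.sum_image (hinj k).injOn, Finset.smul_sum]
  · have h11 : ν (muR μ k) = -((δ k : ℂ) • ∑ i, η i k⁻¹) := by
      have : E = Finset.univ.image fun i => -((δ k : ℂ) • η i k⁻¹) := by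
        refine Finset.eq_of_subset_of_card_le (fun α hα => ?_)
          (Finset.card_image_le.trans (by rw [h5, Finset.card_univ]))
        rcases (h2 k α).1 (h3 hα) with ⟨i, rfl⟩ | ⟨i, rfl⟩
        · have e1 := h9 _ (h3 hα)
          rw [if_pos hα, classInner_smul_right, h8 i 1, ← classInner_smul_right,
            h9 _ ((h2 k _).2 (Or.inl ⟨1, rfl⟩))] at e1
          simp [h10] at e1
        · exact Finset.mem_image_of_mem _ (Finset.mem_univ i)
      rw [h4, this, Finset.sum_image fun _ _ _ _ e => hinj _ (neg_injective e), Finset.smul_sum,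
        Finset.sum_neg_distrib]
    refine Or.inr ⟨h11, fun l hl e => by_contra fun h12 => ?_⟩
    push Not at h12
    have e1 := hν.agree.sub e
    rw [h.dade_sub_muR (h.ne_one_of_muR_mem (hS hl)) hk1 e, h11, h.sign_eq_of_muR e] at e1
    have e2 := congrArg (classInner · ((δ k : ℂ) • ∑ i, η i k⁻¹)) e1
    have e3 := hν.inner _ hl _ hk
    rw [h11, classInner_neg_right, h.prim.inner_muR, if_neg h12.1, neg_eq_zero] at e3
    simp only [classInner_sub_left, e3, classInner_neg_left] at e2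
    simp [classInner_smul_left, classInner_smul_right, h.inner_sum_eta, h12.2, hk'.symm,
      h.prim.sign_ne_zero] at e2

end PrimeDade

end Cfsg.Agent.Char
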