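import Mathlib
import Cfsg.Agent.Char.PrimeDade

/-!
# Sibley's coherence theorem (Peterfalvi 6.7, 6.8).
-/

set_option autoImplicit false
set_option linter.unusedSectionVars false

namespace Cfsg.Agent.Char

open Cfsg Subgroup
open scoped ComplexConjugate

section SixSeven

variable {G : Type*} [Group G]

theorem dvdA_sum_of_free [Finite G] (P : Subgroup G) {f : G → ℂ} (hf : ∀ y, IsIntegral ℤ (f y))
    (hinv : ∀ x ∈ P, ∀ y, f (x * y * x⁻¹) = f y) (s : Finset G)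
    (hs : ∀ x ∈ P, ∀ y ∈ s, x * y * x⁻¹ ∈ s) (hfree : ∀ x ∈ P, ∀ y ∈ s, x * y = y * x → x = 1) :
    DvdA (Nat.card P) (∑ y ∈ s, f y) := by
  classical
  have := Fintype.ofFinite P
  induction s using Finset.strongInduction with
  | H s ih =>
  rcases s.eq_empty_or_nonempty with rfl | ⟨y, hy⟩
  · exact DvdA.zero _
  have h1 : (Finset.univ.image fun x : P => x * y * x⁻¹) ⊆ s := fun u hu => by
    obtain ⟨x, -, rfl⟩ := Finset.mem_image.1 hu
    exact hs x x.2 y hy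
  rw [← Finset.sum_sdiff h1, Finset.sum_image fun a _ b _ e => ?_]
  · refine (ih _ (Finset.sdiff_ssubset h1 (by simp)) (fun x hx u hu => ?_)
      fun x hx u hu => hfree x hx u (Finset.mem_sdiff.1 hu).1).add ?_
    · rw [Finset.mem_sdiff] at hu ⊢
      refine ⟨hs x hx u hu.1, fun h2 => hu.2 ?_⟩
      obtain ⟨a, -, e⟩ := Finset.mem_image.1 h2
      refine Finset.mem_image.2 ⟨⟨x, hx⟩⁻¹ * a, Finset.mem_univ _, ?_⟩
      calc _ = x⁻¹ * (a * y * a⁻¹) * x := by simp [mul_assoc]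
        _ = u := by rw [show (a * y * a⁻¹ : G) = _ from e]; group
    · rw [Finset.sum_congr rfl (g := fun _ => f y) fun (x : P) _ => by simpa using hinv x x.2 y, Finset.sum_const,
        Finset.card_univ, ← Nat.card_eq_fintype_card, nsmul_eq_mul]
      exact DvdA.mul_self (hf y)
  · have := hfree (b⁻¹ * a) (b⁻¹ * a).2 y hy (by
      calc _ = b⁻¹ * (a * y * a⁻¹) * a := by simp [mul_assoc]
        _ = _ := by rw [show (a * y * a⁻¹ : G) = _ from e]; simp [mul_assoc])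
    exact (inv_mul_eq_one.1 (Subtype.ext this)).symm

theorem not_conj_inv_of_odd {L : Subgroup G} (hodd : Odd (Nat.card L)) {g z : G} (hg : g ∈ L)
    (hz : z ∈ L) (h : g * z * g⁻¹ = z⁻¹) : z = 1 := by
  obtain ⟨k, hk⟩ := hodd
  have h1 : g ^ 2 * z = z * g ^ 2 := by
    have : g * (g * z * g⁻¹) * g⁻¹ = z := by
      rw [h, ← conj_inv, h, inv_inv]
    calc _ = g * (g * z * g⁻¹) * g⁻¹ * g ^ 2 := by rw [sq]; group
      _ = _ := by rw [this]
  have h2 : ∀ x ∈ L, x = (x ^ 2) ^ (k + 1) := fun x hx => by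
    have : x ^ Nat.card L = 1 := congrArg Subtype.val (pow_card_eq_one' (x := (⟨x, hx⟩ : L)))
    rw [← pow_mul, show 2 * (k + 1) = Nat.card L + 1 by omega, pow_succ, this, one_mul]
  have h3 : g * z = z * g := h2 g hg ▸ (Commute.pow_left h1 _)
  rw [h3, mul_inv_cancel_right] at h
  rw [h2 z hz, sq]
  nth_rw 1 [h]
  simp

/-- Peterfalvi (6.7). -/
theorem dvdA_sub_of_const [Finite G] {L P Z : Subgroup G} (hodd : Odd (Nat.card L))
    (hTI : ∀ g, g ∉ L → ∀ x ∈ P, g * x * g⁻¹ ∈ P → x = 1) (hPL : P ≤ L)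
    (hP : ∀ x ∈ L, orderOf x ∣ Nat.card P → x ∈ P) (hZP : Z ≤ P)
    (hZn : ∀ x ∈ L, ∀ z ∈ Z, x * z * x⁻¹ ∈ Z) (hZc : ∀ z ∈ Z, ∀ y ∈ P, z * y = y * z) {ψ : G → ℂ}
    (hψ : IsIrrCharacter G ψ) (hc : ∀ z ∈ Z, ∀ z' ∈ Z, z ≠ 1 → z' ≠ 1 → ψ z = ψ z') {z : G}
    (hz : z ∈ Z) (hz1 : z ≠ 1) : DvdA (Nat.card P) (ψ 1 - ψ z) := by
  classical
  have := Fintype.ofFinite G
  let f : G → ℂ := fun y => ψ (y⁻¹ * z) - ψ (y * z)
  have h1 : ∑ y ∈ Finset.univ.filter (IsConj z ·), f y = 0 := by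
    refine (mul_eq_zero.1 ((sum_conj_eq z f).symm.trans ?_)).resolve_left (card_ne_zero _)
    simp only [f, Finset.sum_sub_distrib, conj_inv, hψ.sum_conj_mul,
      hc _ (Z.inv_mem hz) _ hz (by simpa) hz1, sub_self]
  rw [← Finset.sum_filter_add_sum_filter_not _ (· ∈ Z), Finset.sum_eq_single z, add_eq_zero_iff_eq_neg]
    at h1
  · have hzz : z * z ≠ 1 := fun e => hz1 (not_conj_inv_of_odd hodd L.one_mem (hPL (hZP hz))
      (by simpa using eq_inv_of_mul_eq_one_left e))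
    simp only [f, inv_mul_cancel, hc _ (Z.mul_mem hz hz) _ hz hzz hz1] at h1
    rw [h1]
    refine (dvdA_sum_of_free P (fun y => (hψ.isCharacter.isIntegral _).sub
      (hψ.isCharacter.isIntegral _)) (fun x hx y => ?_) _ (fun x hx y hy => ?_)
      fun x hx y hy e => ?_).neg
    · have e : ∀ u, x * u * x⁻¹ * z = x * (u * z) * x⁻¹ := fun u => by
        rw [mul_assoc, ← hZc z hz _ (P.inv_mem hx)]; group
      rw [conj_inv, e, e, hψ.isClassFunction, hψ.isClassFunction]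
    · simp only [Finset.mem_filter, Finset.mem_univ, true_and] at hy ⊢
      refine ⟨hy.1.trans (isConj_iff.2 ⟨x, rfl⟩), fun e => hy.2 ?_⟩
      simpa [mul_assoc] using hZn _ (hPL (P.inv_mem hx)) _ e
    · simp only [Finset.mem_filter, Finset.mem_univ, true_and] at hy
      by_contra h2
      obtain ⟨g, rfl⟩ := isConj_iff.1 hy.1
      have h3 : g * z * g⁻¹ ∈ L := by_contra fun h3 =>
        h2 (hTI _ h3 x hx (by rwa [← e, mul_inv_cancel_right]))
      have h4 := hP _ h3 (by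
        rw [← MulAut.conj_apply, MulEquiv.orderOf_eq]; exact P.orderOf_dvd_natCard (hZP hz))
      exact hy.2 (hZn g (by_contra fun h5 => hz1 (hTI g h5 z (hZP hz) h4)) z hz)
  · intro y hy hne
    simp only [Finset.mem_filter, Finset.mem_univ, true_and] at hy
    refine sub_eq_zero.2 (hc _ (Z.mul_mem (Z.inv_mem hy.2) hz) _ (Z.mul_mem hy.2 hz)
      (fun e => hne (inv_mul_eq_one.1 e)) fun e => ?_)
    obtain ⟨g, rfl⟩ := isConj_iff.1 hy.1
    exact hz1 (not_conj_inv_of_odd hodd (by_contra fun h5 => hz1 (hTI g h5 z (hZP hz) (hZP hy.2)))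
      (hPL (hZP hz)) (eq_inv_of_mul_eq_one_left e))
  · exact fun h => (h (by simp [hz, -isConj_iff, IsConj.refl])).elim

end SixSeven

section Lemmas

variable {L G : Type*} [Group L] [Fintype L] [Group G] [Fintype G]

theorem frob_mod {K N : Subgroup L} [K.Normal] [hN : N.Normal] (hNK : N ≤ K)
    (hcop : (Nat.card K).Coprime K.index) (h : ∀ x, x ∉ K → ∀ k ∈ K, x * k = k * x → k ∈ N) :
    ∀ k ∈ K, k ∉ N → ∀ x : L, x * k * x⁻¹ * k⁻¹ ∈ N → x ∈ K := fun k hk hkN x hx => by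
  by_contra hxK
  have h1 : x ^ Nat.card K ∉ K := fun e => hxK (by
    rw [← QuotientGroup.eq_one_iff] at e ⊢
    exact eq_of_pow_eq_of_coprime hcop (by simpa using e)
      (by simp [← QuotientGroup.mk_pow, K.pow_index_mem]))
  have h2 : (orderOf (x ^ Nat.card K)).Coprime (Nat.card N) :=
    (hcop.symm.coprime_dvd_left (orderOf_dvd_of_pow_eq_one (by
      rw [← pow_mul, K.card_mul_index, pow_card_eq_one']))).coprime_dvd_right (card_dvd_of_le hNK)
  have h3 : Commute (k : L ⧸ N) x := by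
    rw [← QuotientGroup.eq_one_iff] at hx
    simp only [QuotientGroup.mk_mul, QuotientGroup.mk_inv, mul_inv_eq_iff_eq_mul, one_mul] at hx
    exact hx.symm
  obtain ⟨c, hc, e⟩ := (Core.map_mk'_inf_centralizer_singleton hNK h2).le
    ⟨mem_map_of_mem _ hk, mem_cent1.2 (by simpa using (h3.pow_right _).eq)⟩
  refine hkN ((QuotientGroup.eq_one_iff _).1 (e.symm.trans ((QuotientGroup.eq_one_iff _).2 ?_)))
  exact h _ h1 c hc.1 (mem_cent1.1 hc.2).symm

theorem centralizer_le_of_fpf {K W : Subgroup L} [hK : K.Normal] (hc : K ⊔ W = ⊤)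
    (hf : ∀ w ∈ W, w ≠ 1 → ∀ k ∈ K, w * k = k * w → k = 1) :
    ∀ k ∈ K, k ≠ 1 → centralizer {k} ≤ K := fun k hk h1 x hx => by
  obtain ⟨a, ha, w, hw, rfl⟩ := mem_sup_of_normal_left.1 (hc ▸ mem_top x : x ∈ K ⊔ W)
  by_cases h2 : w = 1
  · simpa [h2] using ha
  obtain ⟨y, hy, e⟩ := exists_conj_of_centralizer_trivial K (fun h hh => hK.conj_mem h hh w)
    (fun h hh e => hf w hw h2 h hh e.symm) ha
  refine (h1 (conj_eq_one_iff.1 (hf w hw h2 _ (hK.conj_mem k hk y⁻¹) ?_))).elim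
  have e2 := mem_cent1.1 hx
  rw [← e] at e2
  calc _ = y⁻¹ * (y * w * y⁻¹ * k) * y := by group
    _ = _ := by rw [e2]; group

theorem indFun_eq_sum_indFun {Z H : Subgroup L} [Fintype Z] (hZH : Z ≤ H) (l : Z → ℂ) :
    indFun Z l = ∑ θ : IrrCharacter H,
      classInner l (fun z : Z => (θ : H → ℂ) (inclusion hZH z)) • indFun H θ := by
  have := Fintype.ofFinite H
  have h1 := (indFun_indH (f := inclusion hZH) (inclusion_injective hZH) Z.subtype_injective
    l).trans (indH_eq_indFun _ (MulEquiv.refl Z) (fun _ => rfl) l)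
  rw [(isClassFunction_indH (hf := inclusion_injective hZH) l).eq_sum_irr, indFun_sum] at h1
  refine h1.symm.trans (Finset.sum_congr rfl fun θ _ => ?_)
  rw [indFun_smul, classInner_indH_left _ θ.2.isClassFunction]

theorem indFun_mem_indD {Z H : Subgroup L} [Fintype Z] (hZH : Z ≤ H) {l : Z → ℂ}
    (hl : IsIrrCharacter Z l) (h1 : l ≠ fun _ => 1) {θ : H → ℂ} (hθ : IsIrrCharacter H θ)
    (h : classInner l (fun z : Z => θ (inclusion hZH z)) ≠ 0) : indFun H θ ∈ indD H Z ⊥ := by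
  refine ⟨θ, hθ, fun a ha => by rw [show a = 1 from Subtype.ext (mem_bot.1 ha)], ?_, rfl⟩
  by_contra h2
  push Not at h2
  refine h ?_
  rw [show (fun z : Z => θ (inclusion hZH z)) = θ 1 • fun _ => 1 from
    funext fun z => by simpa using h2 _ z.2, classInner_smul_right,
    hl.classInner_of_ne isIrrCharacter_one h1, mul_zero]

theorem indFun_mem_span {Z H : Subgroup L} (hZH : Z ≤ H) {l : Z → ℂ}
    (hl : IsIrrCharacter Z l) (h1 : l ≠ fun _ => 1) :
    indFun Z l ∈ Submodule.span ℤ (indD H Z ⊥) := by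
  have := Fintype.ofFinite Z
  rw [indFun_eq_sum_indFun hZH]
  refine Submodule.sum_mem _ fun θ _ => ?_
  by_cases h : classInner l (fun z : Z => (θ : H → ℂ) (inclusion hZH z)) = 0
  · simp [h]
  obtain ⟨n, hn⟩ := hl.isCharacter.classInner_nat (θ.2.isCharacter.comp (inclusion hZH))
  exact hn ▸ natCast_smul_mem_span (Submodule.subset_span (indFun_mem_indD hZH hl h1 θ.2 h)) n

variable {S : Set (L → ℂ)} {τ ν : CMap L G} {R : (L → ℂ) → Finset (G → ℂ)}

theorem SubCoh.inner_sum_of_notMem (h : SubCoh S τ R) {S₁ : Set (L → ℂ)} (h1 : S₁ ⊆ S)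
    (hc : ∀ φ ∈ S₁, conjFun φ ∈ S₁) (hν : CohWith S₁ τ ν) {χ φ₁ : L → ℂ}
    (hχ : χ ∈ S) (hχ₁ : χ ∉ S₁) (hφ₁ : φ₁ ∈ S₁) :
    classInner (ν χ) (∑ α ∈ R χ, α) = nrm χ := by
  have hne : χ ≠ φ₁ := fun e => hχ₁ (e ▸ hφ₁)
  have h2 := h.inner0 hν.agree (α := χ - (χ 1 / φ₁ 1) • φ₁) (β := χ - conjFun χ)
    (sub_mem (Submodule.subset_span hχ) (Submodule.smul_mem _ _ (Submodule.subset_span (h1 hφ₁))))
    (mem_span_complex_of_int (h.sub_conj_mem hχ).1) (by simp [h.one_ne_zero (h1 hφ₁)])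
    (h.sub_conj_mem hχ).2
  have h3 : classInner (ν φ₁) (∑ α ∈ R χ, α) = 0 := by
    rw [classInner_sum_right]
    exact Finset.sum_eq_zero fun α hα => h.orth_supp h1 hc hν hχ hχ₁ hφ₁ hα
  rw [map_sub ν χ (conjFun χ), h.sub_eq_sum hν.agree hχ, map_sub, map_smul, classInner_sub_left,
    classInner_smul_left, h3, classInner_sub_left, classInner_smul_left, classInner_sub_right,
    classInner_sub_right, h.orth_conj hχ, h.orth _ (h1 hφ₁) _ hχ hne.symm,
    h.orth _ (h1 hφ₁) _ (h.conj_mem χ hχ) fun e => hχ₁ (by simpa [e] using hc _ hφ₁),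
    classInner_self_nrm] at h2
  simpa using h2

/-- A consequence of Peterfalvi (5.4.a). -/
theorem SubCoh.re_nonneg (h : SubCoh S τ R) {S₁ : Set (L → ℂ)} (h1 : S₁ ⊆ S)
    (hc : ∀ φ ∈ S₁, conjFun φ ∈ S₁) (hν : CohWith S₁ τ ν) {χ φ₁ : L → ℂ}
    (hχ : χ ∈ S) (hχ₁ : χ ∉ S₁) (hφ₁ : φ₁ ∈ S₁) (hg : IsGeneralizedCharacter G (ν χ)) :
    0 ≤ (classInner (ν χ) (ν φ₁)).re := by
  obtain ⟨d, hd0, hd⟩ := h.exists_deg (h1 hφ₁)
  obtain ⟨a, ha0, ha⟩ := h.exists_deg hχ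
  have e1 := h.nrm_of_notMem hν.agree hχ (h1 hφ₁) (fun e => hχ₁ (e ▸ hφ₁)) (hν.nrm_eq hφ₁)
    (a := a / d) (by rw [ha, hd]; push_cast; rw [div_mul_cancel₀ _ (by exact_mod_cast hd0.ne')])
  have e2 := ((h.orthon χ hχ).le_nrm_proj (h.gen χ hχ) hg
    (h.inner_sum_of_notMem h1 hc hν hχ hχ₁ hφ₁)).1
  have e3 := nrm_proj_le (h.orthon χ hχ).orth' (ν χ)
  have e4 : (0 : ℝ) < a / d := by positivity
  nlinarith

end Lemmas

section Core

variable {G : Type*} [Group G] [Fintype G] {L : Subgroup G} [Fintype L] {H : Subgroup L}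
  [hH : H.Normal] {τ : CMap L G} {R : (L → ℂ) → Finset (G → ℂ)}

theorem int_sq_aux {n e k : ℤ} {m : ℤ} (he : e < n) (h0 : 0 ≤ e)
    (h : (n * k) ^ 2 + m * (n * (k + 1)) ^ 2 ≤ e * n + n ^ 2) : k ^ 2 + m * (k + 1) ^ 2 ≤ 1 := by
  by_contra h1
  have h2 : 2 ≤ k ^ 2 + m * (k + 1) ^ 2 := by omega
  have h3 : 0 < n := by omega
  nlinarith [mul_le_mul_of_nonneg_left h2 (sq_nonneg n), mul_lt_mul_of_pos_right he h3]

theorem SubCoh.sibley_core (h : SubCoh (inducedIrrAbove H ⊥) τ R)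
    (hτ : ∀ α, IsClassFunction L α → (∀ x, x ∉ H → α x = 0) → α 1 = 0 → τ α = indFun L α)
    (hodd : Odd (Nat.card L)) (hTI : ∀ g, g ∉ L → ∀ x ∈ H, ∀ y ∈ H, g * x * g⁻¹ = y → x = 1)
    (hcop : (Nat.card H).Coprime H.index) {Z : Subgroup L} [hZn : Z.Normal] (hZ : Z ≤ ⁅H, H⁆)
    (hZc : ∀ z ∈ Z, ∀ k ∈ H, z * k = k * z) (hZ1 : Z ≠ ⊥)
    (hY : ∀ φ ∈ inducedIrrAbove H ⁅H, H⁆, IsIrrCharacter L φ) (hlt : H.index < Z.relIndex H)
    (hbig : ¬ ⁅H, H⁆ ≤ Z → 4 * H.index ^ 2 ≤ Z.relIndex H * (Nat.card Z - 1) ^ 2)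
    {ν : CMap L G} (hν : CohWith (inducedIrrAbove H ⁅H, H⁆) τ ν) {η : L → ℂ}
    (hη : η ∈ inducedIrrAbove H ⁅H, H⁆)
    (hconst : ∀ z ∈ Z, ∀ z' ∈ Z, z ≠ 1 → z' ≠ 1 → ν η z = ν η z') :
    Coh (inducedIrrAbove H ⊥) τ := by
  classical
  have := Fintype.ofFinite Z
  have hZH : Z ≤ H := hZ.trans (commutator_le_left H H)
  have hYS : inducedIrrAbove H ⁅H, H⁆ ⊆ inducedIrrAbove H ⊥ := inducedIrrAbove_anti bot_le
  have hXY : ∀ χ ∈ indD H Z ⊥, χ ∉ inducedIrrAbove H ⁅H, H⁆ := fun χ a b =>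
    (indD_eq_sdiff.le a).2 (inducedIrrAbove_anti hZ b)
  have hdeg : ∀ φ ∈ inducedIrrAbove H ⁅H, H⁆, φ 1 = H.index := fun φ =>
    degree_eq_of_commutator_le le_rfl
  have hconj : ∀ φ ∈ inducedIrrAbove H ⁅H, H⁆, conjFun φ ∈ inducedIrrAbove H ⁅H, H⁆ := fun _ =>
    conjFun_mem_inducedIrrAbove
  obtain ⟨n, hn⟩ : ∃ n, n = Z.relIndex H := ⟨_, rfl⟩
  have hnZ : Nat.card Z * n = Nat.card H := hn ▸ Core.card_mul_relIndex hZH
  have hZi : Z.index = n * H.index := hn ▸ (relIndex_mul_index hZH).symm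
  obtain ⟨z, hz, hz1⟩ : ∃ z ∈ Z, z ≠ 1 := by
    by_contra h1
    push Not at h1
    exact hZ1 (eq_bot_iff.2 h1)
  -- the congruence (6.7)
  have hψ := hν.isDirr hη (hY η hη)
  have h1 : DvdA (Nat.card H) (ν η 1 - ν η z) := by
    obtain ⟨ε, ψ, h1, h2, h3⟩ := hψ.exists_sign
    have hε : ε ≠ 0 := by rcases h1 with rfl | rfl <;> simp
    have := dvdA_sub_of_const (P := H.map L.subtype) (Z := Z.map L.subtype) hodd
      (by rintro g hg _ ⟨x, hx, rfl⟩ ⟨y, hy, e⟩; simpa using hTI g hg x hx y hy e.symm)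
      (map_subtype_le H) (fun x hx e => ⟨⟨x, hx⟩, mem_of_orderOf_coprime_index
        (hcop.coprime_dvd_left (by rwa [← orderOf_coe, ← card_subtype])), rfl⟩) (map_mono hZH)
      (by rintro x hx _ ⟨y, hy, rfl⟩; exact ⟨_, hZn.conj_mem y hy ⟨x, hx⟩, rfl⟩)
      (by rintro _ ⟨x, hx, rfl⟩ _ ⟨y, hy, rfl⟩; exact congrArg Subtype.val (hZc x hx y hy)) h2
      (by
        rintro _ ⟨x, hx, rfl⟩ _ ⟨y, hy, rfl⟩ a b
        have := hconst x hx y hy (by simpa using a) (by simpa using b)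
        simpa [h3, hε] using this) (mem_map_of_mem _ hz) (by simpa using hz1)
    rw [card_subtype] at this
    simp only [h3, Pi.smul_apply, smul_eq_mul, ← mul_sub]
    exact this.mul_left (by rcases h1 with rfl | rfl <;> simp [isIntegral_one])
  -- the functions `α_l`
  have hα : ∀ l : Z → ℂ, IsIrrCharacter Z l → (l ≠ fun _ => 1) →
      indFun Z l - (n : ℂ) • η ∈ span1 (inducedIrrAbove H ⊥) := fun l a b =>
    ⟨sub_mem (Submodule.span_mono indD_subset (indFun_mem_span hZH a b))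
      (natCast_smul_mem_span (Submodule.subset_span (hYS hη)) n), by
      simp [indFun_one, hZi, hdeg η hη, a.one_eq_one_of_comm fun x y =>
        Subtype.ext (hZc x x.2 y (hZH y.2))]⟩
  have hαY : ∀ l : Z → ℂ, IsIrrCharacter Z l → (l ≠ fun _ => 1) →
      ∀ φ ∈ inducedIrrAbove H ⁅H, H⁆, classInner (indFun Z l) φ = 0 := fun l a b φ hφ =>
    orth_span_of (fun χ hχ => orth_of_mem_inducedIrrAbove (indD_subset hχ) hφ
      fun e => hXY χ hχ (e ▸ hφ)) (mem_span_complex_of_int (indFun_mem_span hZH a b))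
  obtain ⟨k, hk⟩ : ∃ k : ℤ, ∀ l : Z → ℂ, IsIrrCharacter Z l → (l ≠ fun _ => 1) →
      classInner (τ (indFun Z l - (n : ℂ) • η)) (ν η) = n * k := by
    obtain ⟨t, ht⟩ := (hY η hη).isGen.classInner_int (hψ.isGen.restrict L)
    have : Nontrivial Z := Z.nontrivial_iff_ne_bot.2 hZ1
    obtain ⟨c, a, h2, h3⟩ := exists_int_of_const ((hψ.isGen.restrict L).restrict Z)
      (c := ν η z) fun x hx => hconst x x.2 z hz (by simpa using hx) hz1
    simp only [OneMemClass.coe_one] at h3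
    rw [h2, h3, add_sub_cancel_left, ← hnZ] at h1
    obtain ⟨b, rfl⟩ : (n : ℤ) ∣ a := by
      have h4 : ((Nat.card Z * n : ℕ) : ℤ) ∣ a * Nat.card Z := DvdA.int_dvd (by exact_mod_cast h1)
      rw [mul_comm a, Nat.cast_mul] at h4
      exact (mul_dvd_mul_iff_left (by exact_mod_cast Nat.card_pos.ne')).1 h4
    refine ⟨b - t, fun l a1 a2 => ?_⟩
    have hg := mem_span_isGen (fun _ e => (isCharacter_of_mem_inducedIrrAbove e).isGen)
      (hα l a1 a2).1
    rw [hτ _ hg.isClassFunction (fun x hx => mem_span_vanish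
      (fun _ e => apply_eq_zero_of_mem_inducedIrrAbove e hx) (hα l a1 a2).1) (hα l a1 a2).2,
      classInner_indFun_left _ _ hψ.isClassFunction, classInner_sub_left, classInner_smul_left, ht,
      classInner_indFun_left _ _ (hψ.isClassFunction.restrict L),
      show (fun x : Z => ν η x) = (c : ℂ) • (fun _ => 1) + ((n * b : ℤ) : ℂ) •
        fun g => if g = 1 then (Nat.card Z : ℂ) else 0 from funext fun x => ?_,
      classInner_add_right, classInner_smul_right, classInner_smul_right, classInner_regular,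
      a1.classInner_of_ne isIrrCharacter_one a2, a1.one_eq_one_of_comm fun x y =>
        Subtype.ext (hZc x x.2 y (hZH y.2))]
    · simp [mul_sub]
    · by_cases hx : x = 1
      · simp [hx, h3]
      · simp [hx, ← h2, hconst x x.2 z hz (by simpa using hx) hz1]
  have hk' : ∀ l : Z → ℂ, IsIrrCharacter Z l → (l ≠ fun _ => 1) → ∀ φ ∈ inducedIrrAbove H ⁅H, H⁆,
      φ ≠ η → classInner (τ (indFun Z l - (n : ℂ) • η)) (ν φ) = n * (k + 1) := fun l a b φ c d => by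
    have e := (hdeg φ c).trans (hdeg η hη).symm
    have h2 := h.iso.inner _ (hα l a b) _ (sub_mem_span1 (hYS c) (hYS hη) e)
    rw [hν.agree.sub e, classInner_sub_right, hk l a b, classInner_sub_left, classInner_sub_right,
      hαY l a b φ c, hαY l a b η hη, classInner_smul_left, classInner_sub_right,
      (hY η hη).classInner_self, h.orth _ (hYS hη) _ (hYS c) d.symm] at h2
    linear_combination h2
  have hb : ∀ s : Finset (L → ℂ), ↑s ⊆ inducedIrrAbove H ⁅H, H⁆ → η ∉ s →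
      k ^ 2 + s.card * (k + 1) ^ 2 ≤ 1 := fun s h2 h3 => by
    obtain ⟨l, hl⟩ := exists_hom_apply_ne_one
      (fun x y : Z => Subtype.ext (hZc x x.2 y (hZH y.2))) (g := ⟨z, hz⟩) (by simpa using hz1)
    have a := isIrrCharacter_hom l
    have b : (fun g => (l g : ℂ)) ≠ fun _ => 1 := fun e => hl (Units.ext (congrFun e _))
    have h4 : ∀ φ ∈ insert η s, φ ∈ inducedIrrAbove H ⁅H, H⁆ := fun φ hφ =>
      (Finset.mem_insert.1 hφ).elim (· ▸ hη) (h2 ·)
    have h5 := bessel (s := insert η s) (e := ν) (fun φ c ψ d e => by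
      rw [hν.inner φ (h4 φ c) ψ (h4 ψ d), h.orth _ (hYS (h4 φ c)) _ (hYS (h4 ψ d)) e])
      (τ (indFun Z (fun g => l g) - (n : ℂ) • η))
    rw [Finset.sum_insert h3, hk _ a b, Finset.sum_congr rfl (g := fun _ => (n * (k + 1) : ℝ) ^ 2)
      fun φ c => by
        rw [hk' _ a b φ (h2 c) fun e => h3 (e ▸ c), (hν.isDirr (h2 c) (hY φ (h2 c))).nrm_eq]
        norm_cast
        simp [mul_pow],
      hψ.nrm_eq, h.iso.nrm_eq (hα _ a b), nrm_sub_of_orth
        (by rw [classInner_smul_right, hαY _ a b η hη, mul_zero]), nrm_natCast_smul,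
      (hY η hη).nrm_eq, nrm_indFun a, Finset.sum_const, nsmul_eq_mul, ← Int.cast_natCast,
      ← Int.cast_mul, Complex.norm_intCast, sq_abs] at h5
    have h6 : Z.relIndex (inertia fun g => (l g : ℂ)) ≤ H.index * n := by
      rw [mul_comm, ← hZi]
      exact Nat.le_of_dvd (Core.index_pos Z) (relIndex_dvd_index_of_normal _ _)
    refine int_sq_aux (n := n) (e := H.index) (by exact_mod_cast hn ▸ hlt) (by positivity) ?_
    have h7 : (Z.relIndex (inertia fun g => (l g : ℂ)) : ℝ) ≤ H.index * n := by exact_mod_cast h6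
    have h8 : ((n * k : ℤ) : ℝ) ^ 2 + s.card * (n * (k + 1)) ^ 2 ≤ H.index * n + n ^ 2 := by
      linarith
    exact_mod_cast h8
  have hne := h.conj_ne η (hYS hη)
  obtain ⟨ν₂, hν₂, h2⟩ : ∃ ν₂, CohWith (inducedIrrAbove H ⁅H, H⁆) τ ν₂ ∧ ∀ l : Z → ℂ,
      IsIrrCharacter Z l → (l ≠ fun _ => 1) → classInner (ν₂ (indFun Z l)) (ν₂ η) = 0 := by
    have key : ∀ ν₂, CohWith (inducedIrrAbove H ⁅H, H⁆) τ ν₂ → ∀ l : Z → ℂ, IsIrrCharacter Z l →
        (l ≠ fun _ => 1) → classInner (ν₂ (indFun Z l)) (ν₂ η) =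
          classInner (τ (indFun Z l - (n : ℂ) • η)) (ν₂ η) + n := fun ν₂ a l b c => by
      rw [← a.agree _ (hα l b c).2, map_sub, map_smul, classInner_sub_left, classInner_smul_left,
        a.inner _ hη _ hη, (hY η hη).classInner_self]
      ring
    have h2 := hb {conjFun η} (by simpa using hconj η hη) (by simpa using hne.symm)
    by_cases hk1 : k = -1
    · exact ⟨ν, hν, fun l a b => by rw [key ν hν l a b, hk l a b, hk1]; simp⟩
    obtain rfl : k = 0 := by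
      simp only [Finset.card_singleton, Nat.cast_one, one_mul] at h2
      have : -1 ≤ k := by nlinarith
      have : k ≤ 0 := by nlinarith
      omega
    have h3 : ∀ φ ∈ inducedIrrAbove H ⁅H, H⁆, φ = η ∨ φ = conjFun η := fun φ hφ => by
      by_contra h3
      push Not at h3
      have := hb {φ, conjFun η} (by simp [Set.insert_subset_iff, hφ, hconj η hη])
        (by simp [h3.1.symm, hne.symm])
      rw [Finset.card_pair h3.2] at this
      norm_num at this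
    obtain ⟨ν₂, h4, h5⟩ := exists_agree τ (hY η hη).one_ne_zero (-ν (conjFun η))
    have h6 : ν₂ (conjFun η) = -ν η := by
      have e := (hY η hη).isCharacter.conjFun_one
      have := (h4.sub e).symm.trans (hν.agree.sub e)
      rw [h5] at this
      linear_combination (norm := abel) this
    have h7 : CohWith (inducedIrrAbove H ⁅H, H⁆) τ ν₂ := by
      refine h.mono hYS (fun _ => hconj _) |>.cohWith_of_pivot h4 (Submodule.subset_span hη)
        (hY η hη).one_ne_zero (fun φ hφ => ?_) fun φ hφ => ?_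
      · rcases h3 φ hφ with rfl | rfl
        · exact h5 ▸ (hν.gen _ (hconj _ hφ)).neg
        · exact h6 ▸ (hν.gen _ hη).neg
      · rcases h3 φ hφ with rfl | rfl
        · rw [h5, classInner_neg_left, classInner_neg_right, neg_neg,
            hν.inner _ (hconj _ hφ) _ (hconj _ hφ), classInner_conjFun]
        · rw [h5, h6, classInner_neg_left, classInner_neg_right, neg_neg, hν.inner _ hη _ hφ,
            h.orth_conj (hYS hη), h.orth _ (hYS hφ) _ (hYS hη) hne]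
    refine ⟨ν₂, h7, fun l a b => ?_⟩
    rw [key ν₂ h7 l a b, h5, classInner_neg_right, hk' l a b _ (hconj η hη) hne]
    simp
  have hgen : ∀ χ ∈ inducedIrrAbove H ⊥, IsGeneralizedCharacter G (ν₂ χ) := fun χ hχ => by
    obtain ⟨a, -, ha⟩ := exists_degree_of_mem_inducedIrrAbove hχ
    exact h.gen_of_dvd hν₂.agree hχ (hYS hη) (by rw [ha, hdeg η hη]) (hν₂.gen η hη)
  have h3 : CohWith (inducedIrrAbove H ⁅H, H⁆ ∪ indD H Z ⊥) τ ν₂ := by
    refine h.cohWith_union hYS indD_subset hν₂ hη (fun χ a _ => hgen χ (indD_subset a)) ?_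
    rintro _ ⟨θ, a, -, ⟨y, b, c⟩, rfl⟩ -
    obtain ⟨l, hl⟩ := a.exists_hom_of_central (inclusion hZH) fun x y =>
      Subtype.ext (hZc x x.2 y y.2)
    have e1 : (fun z : Z => θ (inclusion hZH z)) = θ 1 • fun z => (l z : ℂ) :=
      funext fun z => by simpa [mul_comm] using hl z 1
    have e2 : (fun z => (l z : ℂ)) ≠ fun _ => 1 := fun e => c (
      (congrFun e1 ⟨y, b⟩).trans (by simp [congrFun e]))
    have e3 := congrArg Complex.re (h2 _ (isIrrCharacter_hom l) e2)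
    rw [indFun_eq_sum_indFun hZH, map_sum,
      classInner_sum_left, Complex.re_sum, Complex.zero_re,
      Finset.sum_eq_zero_iff_of_nonneg fun θ' _ => ?_] at e3
    · have e4 := e3 ⟨θ, a⟩ (Finset.mem_univ _)
      obtain ⟨d, hd0, hd⟩ := a.exists_nat
      rw [map_smul, classInner_smul_left, e1, classInner_smul_right,
        (isIrrCharacter_hom l).classInner_self, hd] at e4
      have e5 := indFun_mem_indD hZH (isIrrCharacter_hom l) e2 a (by
        rw [e1, classInner_smul_right, (isIrrCharacter_hom l).classInner_self]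
        simpa using a.one_ne_zero)
      rw [← (hgen _ (indD_subset e5)).classInner_re (hν₂.gen η hη)]
      simpa [hd0.ne'] using e4
    · by_cases h0 : classInner (fun z => (l z : ℂ)) (fun z => (θ' : H → ℂ) (inclusion hZH z)) = 0
      · simp [h0]
      obtain ⟨m, hm⟩ := (isCharacter_hom l).classInner_nat (θ'.2.isCharacter.comp (inclusion hZH))
      have e5 := indFun_mem_indD hZH (isIrrCharacter_hom l) e2 θ'.2 h0
      rw [map_smul, classInner_smul_left, hm]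
      simpa using mul_nonneg (Nat.cast_nonneg m) (h.re_nonneg hYS hconj hν₂ (indD_subset e5)
        (hXY _ e5) hη (hgen _ (indD_subset e5)))
  have h4 : ((seqInd H ⁅H, H⁆ ∪ (seqInd H ⊥ \ seqInd H Z) : Finset (L → ℂ)) : Set (L → ℂ)) =
      inducedIrrAbove H ⁅H, H⁆ ∪ indD H Z ⊥ := by simp [indD_eq_sdiff]
  refine ⟨ν₂, (h.preCoh.extend (h4 ▸ Set.union_subset hYS indD_subset) (fun φ hφ => ?_) (h4 ▸ h3)
    (φ₁ := η) (by simp [mem_seqInd, hη]) subset_rfl fun χ hχ h5 => ?_).mono Set.subset_union_right⟩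
  · rw [← Finset.mem_coe, h4] at hφ ⊢
    exact hφ.imp (hconj φ) conjFun_mem_indD
  rw [← Finset.mem_coe, h4] at h5
  have h6 := hbig fun e => h5 (by
    by_cases h6 : χ ∈ inducedIrrAbove H Z
    · exact Or.inl (inducedIrrAbove_anti e h6)
    · exact Or.inr (indD_eq_sdiff.ge ⟨hχ, h6⟩))
  obtain ⟨θ, a, -, -, rfl⟩ := hχ
  obtain ⟨d, hd0, hd⟩ := a.exists_nat
  have h7 := a.sq_mul_card_le (Z.subgroupOf H) fun x hx =>
    a.norm_eq_of_comm fun y => Subtype.ext (hZc x hx y y.2)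
  rw [hd, Nat.card_congr (subgroupOfEquivOfLe hZH).toEquiv, ← hnZ, Complex.norm_natCast] at h7
  have h8 : d ^ 2 ≤ n := by
    have : d ^ 2 * Nat.card Z ≤ n * Nat.card Z := by rw [mul_comm n]; exact_mod_cast h7
    exact Nat.le_of_mul_le_mul_right this Nat.card_pos
  refine ⟨⟨d, by rw [indFun_one, hd, hdeg η hη, mul_comm]⟩, ?_⟩
  rw [Finset.sum_union (Finset.disjoint_left.2 fun φ a b => (Finset.mem_sdiff.1 b).2
    (mem_seqInd.2 (inducedIrrAbove_anti hZ (mem_seqInd.1 a)))), Finset.sum_sdiff_eq_sub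
    fun φ a => mem_seqInd.2 (inducedIrrAbove_anti bot_le (mem_seqInd.1 a)), sum_seqInd_sq ⊥,
    sum_seqInd_sq Z, indFun_one, hd, hdeg η hη, relIndex_bot_left, ← hn, ← hnZ]
  have h9 : 0 < ∑ φ ∈ seqInd H ⁅H, H⁆, (φ 1).re ^ 2 / nrm φ :=
    Finset.sum_pos (fun φ a => by
      rw [hdeg φ (mem_seqInd.1 a), (hY φ (mem_seqInd.1 a)).nrm_eq]
      have := Core.index_pos H
      simp only [Complex.natCast_re]
      positivity) ⟨η, mem_seqInd.2 hη⟩
  obtain ⟨m, hm⟩ : ∃ m, Nat.card Z = m + 1 := Nat.exists_eq_succ_of_ne_zero Nat.card_pos.ne'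
  rw [hm, Nat.add_sub_cancel, ← hn] at h6
  have h10 : 2 * d * H.index ≤ n * m := by
    refine (Nat.pow_le_pow_iff_left two_ne_zero).1 ?_
    calc _ = d ^ 2 * (4 * H.index ^ 2) := by ring
      _ ≤ n * (n * m ^ 2) := Nat.mul_le_mul h8 h6
      _ = _ := by ring
  have h11 : (2 * d * H.index : ℝ) ≤ n * m := by exact_mod_cast h10
  simp only [hm, Complex.mul_re, Complex.natCast_re, Complex.natCast_im, mul_zero, sub_zero]
  push_cast
  nlinarith [mul_le_mul_of_nonneg_left h11 (Nat.cast_nonneg (α := ℝ) H.index)]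

/-- Case (A) of Peterfalvi (6.8). -/
theorem SubCoh.sibley_of_center (h : SubCoh (inducedIrrAbove H ⊥) τ R)
    (hτ : ∀ α, IsClassFunction L α → (∀ x, x ∉ H → α x = 0) → α 1 = 0 → τ α = indFun L α)
    (hodd : Odd (Nat.card L)) (hTI : ∀ g, g ∉ L → ∀ x ∈ H, ∀ y ∈ H, g * x * g⁻¹ = y → x = 1)
    (hcop : (Nat.card H).Coprime H.index) (hn : Group.IsNilpotent H) (hH' : ⁅H, H⁆ ≠ ⊥)
    (hfrob : ∀ x, x ∉ H → ∀ k ∈ H, x * k = k * x → k ∈ ⁅H, H⁆)
    (hY : ∀ φ ∈ inducedIrrAbove H ⁅H, H⁆, IsIrrCharacter L φ)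
    (hZ : ∀ z ∈ ⁅H, H⁆ ⊓ centralizer (H : Set L), z ≠ 1 → centralizer {z} ≤ H)
    (hX : ∀ φ ∈ indD H (⁅H, H⁆ ⊓ centralizer (H : Set L)) ⊥, IsIrrCharacter L φ) :
    Coh (inducedIrrAbove H ⊥) τ := by
  have hK' : ¬ H ≤ ⁅H, H⁆ := Core.not_le_commutator_of_isNilpotent hn le_rfl le_rfl
    fun e => hH' (by simp [e])
  have hf := frob_mod (commutator_le_left H H) hcop hfrob
  obtain ⟨ν, hν⟩ := h.preCoh.coh_of_commutator_le le_rfl
  obtain ⟨η, hη, -⟩ := exists_mem_inducedIrrAbove_of_not_le (K := H) (A := ⁅H, H⁆) (by simpa)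
  have hZ1 : ⁅H, H⁆ ⊓ centralizer (H : Set L) ≠ ⊥ :=
    Core.inf_centralizer_ne_bot hn (commutator_le_left H H)
      (le_normalizer_of_normal) hH'
  generalize hZ' : ⁅H, H⁆ ⊓ centralizer (H : Set L) = Z at *
  have : Z.Normal := hZ' ▸ inferInstance
  have hZH' : Z ≤ ⁅H, H⁆ := hZ' ▸ inf_le_left
  have hZH : Z ≤ H := hZH'.trans (commutator_le_left H H)
  have hZc : ∀ z ∈ Z, ∀ k ∈ H, z * k = k * z := fun z hz k hk =>
    ((hZ' ▸ hz : z ∈ ⁅H, H⁆ ⊓ centralizer (H : Set L)).2 k hk).symm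
  have h1 := le_of_modEq_one (relIndex_modEq_one_of_frobenius (commutator_le_left H H) hf le_rfl
    (commutator_le_left H H) le_rfl) (one_lt_relIndex hK')
  have h2 : ⁅H, H⁆.relIndex H ≤ Z.relIndex H :=
    relIndex_le_of_le_left hZH' (Core.relIndex_pos _ _).ne'
  have h3 := le_of_modEq_one_of_odd (card_modEq_one_of_centralizer_le hZ)
    ((one_lt_card_iff_ne_bot Z).2 hZ1) (hodd.of_dvd_nat (card_subgroup_dvd_card Z))
    (hodd.of_dvd_nat H.index_dvd_card)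
  rw [indD_eq_sdiff] at hX
  obtain ⟨ν', hν'⟩ := h.preCoh.coh_sdiff hodd hn hK' hf hZH hZc hX
  refine h.sibley_core hτ hodd hTI hcop hZH' hZc hZ1 hY (by omega) (fun _ => ?_) hν hη
    fun z hz z' hz' a b => ?_
  · calc _ = 1 * (2 * H.index) ^ 2 := by ring
      _ ≤ _ := by gcongr <;> omega
  · have hc := (hν.gen η hη).isClassFunction
    refine apply_eq_of_orth_span1 (hc.restrict L) (fun α hα => ?_) hz a hz' b
    rw [← inducedIrrAbove_sdiff_eq hZH hX] at hα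
    have hg := mem_span_isGen (fun _ e => (isCharacter_of_mem_inducedIrrAbove e.1).isGen) hα.1
    rw [← classInner_indFun_right _ _ hc, ← hτ _ hg.isClassFunction (fun x hx => mem_span_vanish
      (fun _ e => apply_eq_zero_of_mem_inducedIrrAbove e.1 hx) hα.1) hα.2, ← hν'.agree _ hα.2,
      classInner_eq_zero_comm]
    refine orth_span_of (E := ν' '' _) ?_ (mem_span_complex_of_int
      (Submodule.apply_mem_span_image_of_mem_span (ν'.restrictScalars ℤ) hα.1))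
    rintro _ ⟨φ, hφ, rfl⟩
    refine h.orth_of_disjoint Set.sdiff_subset (inducedIrrAbove_anti bot_le) (fun φ e => ?_)
      (fun _ => conjFun_mem_inducedIrrAbove) hν' hν hφ hη
      fun e => e.2 (inducedIrrAbove_anti hZH' hη)
    rw [← indD_eq_sdiff] at e ⊢
    exact conjFun_mem_indD e

/-- Peterfalvi (6.8), case (c1). -/
theorem sibley_frobenius {τ : CMap L G}
    (hτ : ∀ α, IsClassFunction L α → (∀ x, x ∉ H → α x = 0) → α 1 = 0 → τ α = indFun L α)
    (hodd : Odd (Nat.card L)) (hTI : ∀ g, g ∉ L → ∀ x ∈ H, ∀ y ∈ H, g * x * g⁻¹ = y → x = 1)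
    (hn : Group.IsNilpotent H) (hC : ∀ k ∈ H, k ≠ 1 → centralizer {k} ≤ H) :
    Coh (inducedIrrAbove H ⊥) τ := by
  have h0 : DegIso (inducedIrrAbove H ⊥) (indLin L) := degIso_indLin_TI (T := H.map L.subtype)
    (by rintro g hg _ ⟨x, hx, rfl⟩ ⟨y, hy, e⟩; simpa using hTI g hg x hx y hy e.symm)
    (fun _ => isCharacter_of_mem_inducedIrrAbove) (fun _ => ne_zero_of_mem_inducedIrrAbove)
    (fun _ a _ => orth_of_mem_inducedIrrAbove a) fun φ a x hx =>
      apply_eq_zero_of_mem_inducedIrrAbove a fun e => hx (mem_map_of_mem L.subtype e)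
  have e : ∀ α ∈ span1 (inducedIrrAbove H ⊥), τ α = indLin L α := fun α hα => hτ α
    (mem_span_isGen (fun _ e => (isCharacter_of_mem_inducedIrrAbove e).isGen) hα.1).isClassFunction
    (fun x hx => mem_span_vanish (fun _ e => apply_eq_zero_of_mem_inducedIrrAbove e hx) hα.1) hα.2
  have h1 : DegIso (inducedIrrAbove H ⊥) τ :=
    ⟨h0.char, h0.ne_zero, h0.orth, h0.iso.congr e, fun α hα => e α hα ▸ h0.map_one α hα⟩
  have hirr : ∀ {A}, ∀ φ ∈ inducedIrrAbove H A, IsIrrCharacter L φ := fun _ =>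
    isIrr_of_mem_inducedIrrAbove hC
  obtain ⟨R, h⟩ := h1.exists_subCoh hirr (fun _ => conjFun_mem_inducedIrrAbove)
    fun _ => conjFun_ne_of_mem_inducedIrrAbove hodd
  by_cases hH' : ⁅H, H⁆ = ⊥
  · exact h.preCoh.coh_of_commutator_le hH'.le
  exact h.sibley_of_center hτ hodd hTI (coprime_of_modEq_one (card_modEq_one_of_centralizer_le hC))
    hn hH' (fun x hx k hk e => by_contra fun h2 =>
      hx (hC k hk (fun e => h2 (e ▸ one_mem _)) (mem_cent1.2 e))) hirr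
    (fun z hz => hC z (commutator_le_left H H hz.1)) fun φ a => hirr φ (indD_subset a)

end Core

section Prime

variable {W₁ W₂ : Type*} [Group W₁] [Group W₂] [Fintype W₁] [Fintype W₂] {δ : (W₂ →* ℂˣ) → ℤ}

section

variable {L : Type*} [Group L] [Fintype L] {K : Subgroup L} {ι : W₁ × W₂ →* L}
  {μ : (W₁ →* ℂˣ) → (W₂ →* ℂˣ) → L → ℂ}

theorem PrimeTI.exists_conj_of_comm (h : PrimeTI K ι) {x k : L} (hx : x ∉ K) (hk : k ∈ K)
    (e : x * k = k * x) : ∃ g b, k = g * ι (1, b) * g⁻¹ := by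
  obtain ⟨g, w, h1, h2⟩ := h.exists_conj hx
  obtain ⟨⟨a, b⟩, hv⟩ := h.ti (g := g * k * g⁻¹) h1 (w' := w) (by
    rw [← h2]
    calc _ = g * (k * x) * k⁻¹ * g⁻¹ := by group
      _ = _ := by rw [← e]; group)
  obtain rfl : a = 1 := (h.mem_iff (a, b)).1 (hv ▸ h.normal.conj_mem k hk g)
  exact ⟨g⁻¹, b, by rw [hv]; group⟩

theorem PrimeTI.mem_of_comm (h : PrimeTI K ι) {N : Subgroup L} [hN : N.Normal]
    (hW : ∀ b, ι (1, b) ∈ N) : ∀ x, x ∉ K → ∀ k ∈ K, x * k = k * x → k ∈ N := fun x hx k hk e => by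
  obtain ⟨g, b, rfl⟩ := h.exists_conj_of_comm hx hk e
  exact hN.conj_mem _ (hW b) g

theorem PrimeTI.centralizer_le (h : PrimeTI K ι) {N : Subgroup L} [hN : N.Normal] (hNK : N ≤ K)
    (hW : ∀ b, ι (1, b) ∈ N → b = 1) : ∀ z ∈ N, z ≠ 1 → centralizer {z} ≤ K := fun z hz h1 x hx => by
  by_contra h2
  obtain ⟨g, b, rfl⟩ := h.exists_conj_of_comm h2 (hNK hz) (mem_cent1.1 hx)
  rw [hW b (by simpa [mul_assoc] using hN.conj_mem _ hz g⁻¹)] at h1
  exact h1 (by simp [Prod.mk_one_one])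

theorem PrimeTI.frob_mod (h : PrimeTI K ι) {N : Subgroup L} [hN : N.Normal] (hNK : N ≤ K)
    (hW : ∀ b, ι (1, b) ∈ N) : ∀ k ∈ K, k ∉ N → ∀ x : L, x * k * x⁻¹ * k⁻¹ ∈ N → x ∈ K :=
  have := h.normal
  Char.frob_mod hNK (h.index_eq ▸ h.cop) (h.mem_of_comm hW)

/-- The kernel of `μ_ij` is determined by its intersection with `W₂`. -/
theorem PrimeFam.ker_iff (h : PrimeFam K ι μ δ) {N : Subgroup L} [hN : N.Normal] (hNK : N ≤ K)
    {i j} : (∀ n ∈ N, μ i j n = μ i j 1) ↔ ∀ b, ι (1, b) ∈ N → j b = 1 := by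
  have := h.nt₁
  have := Fintype.ofFinite N
  obtain ⟨a, ha⟩ := exists_ne (1 : W₁)
  have h1 : ∀ b, μ i j (ι (a, 1) * ι (1, b)) = δ j * (i a * j b) := fun b => by
    rw [← map_mul, h.apply_ι _ _ (by simpa using ha)]
    simp [om]
  refine ⟨fun h2 b hb => Units.ext ?_, fun h2 => by_contra fun h3 => ?_⟩
  · have := (h.irr i j).isCharacter.apply_mul_of_eq_one' (h2 _ hb) (ι (a, 1))
    rw [h1, h.apply_ι _ _ ha] at this
    simpa [om, ← Int.cast_eq_zero (α := ℂ), h.sign_ne_zero] using this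
  · push Not at h3
    have h4 := cavg_eq_cavg_inf (H := N) (h.cf i j) (a := ι (a, 1)) (by simp [normalizer_eq_top])
      ((h.cop.symm.coprime_dvd_left (orderOf_dvd_of_pow_eq_one (by
        simp [← map_pow, Prod.mk_one_one]))).coprime_dvd_right (card_dvd_of_le hNK))
    rw [cavg_eq, cavg_of_const (c := δ j * i a) fun u hu => ?_] at h4
    · simp only [(h.cf i j).mul_comm (ι (a, 1)), (h.irr i j).sum_normal_mul_eq_zero N h3,
        mul_zero] at h4
      exact mul_ne_zero (h.sign_ne_zero j) (i a).ne_zero h4.symm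
    · obtain ⟨b, rfl⟩ := h.cent a ha u (hNK hu.1) (mem_cent1.1 hu.2)
      simp [h1, h2 b hu.1]

theorem PrimeFam.muR_mem_iff (h : PrimeFam K ι μ δ) {N : Subgroup L} [hN : N.Normal] (hNK : N ≤ K)
    {j} : muR μ j ∈ inducedIrrAbove K N ↔ j ≠ 1 ∧ ∀ b, ι (1, b) ∈ N → j b = 1 := by
  rw [← h.ker_iff (i := 1) hNK]
  refine ⟨fun ⟨θ, h1, h2, h3, e⟩ => ?_, fun h1 => ⟨_, h.isIrr_chiR j, h.chiR_ne_one h1.1,
    fun a ha => h1.2 a ha, (h.indFun_chiR j).symm⟩⟩
  obtain rfl := h.eq_chiR_of_indFun h1 e.symm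
  exact ⟨fun e => h2 (e ▸ h.chiR_one'), fun n hn => h3 ⟨n, hNK hn⟩ hn⟩

theorem PrimeFam.isIrr_of_mem (h : PrimeFam K ι μ δ) {N : Subgroup L} [hN : N.Normal]
    (hNK : N ≤ K) (hW : ∀ b, ι (1, b) ∈ N) {φ} (hφ : φ ∈ inducedIrrAbove K N) :
    IsIrrCharacter L φ := by
  obtain ⟨θ, a, -, -, rfl⟩ := id hφ
  refine ((h.indFun_cases a).resolve_left fun ⟨j, e⟩ => ?_).1
  rw [e, h.muR_mem_iff hNK] at hφ
  exact hφ.1 (MonoidHom.ext fun b => hφ.2 b (hW b))

theorem PrimeFam.isIrr_of_mem_indD (h : PrimeFam K ι μ δ) {N M : Subgroup L} [hN : N.Normal]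
    (hNK : N ≤ K) (hW : ∀ b, ι (1, b) ∈ N → b = 1) {φ} (hφ : φ ∈ indD K N M) :
    IsIrrCharacter L φ := by
  obtain ⟨θ, a, -, ⟨y, b, c⟩, rfl⟩ := hφ
  refine ((h.irr_cases a).resolve_left fun ⟨j, e⟩ => c ?_).1
  exact e ▸ (h.ker_iff hNK).2 (fun b hb => by simp [hW b hb]) y b

end

variable {G : Type*} [Group G] [Fintype G] {A : Set G} {L : Subgroup G} [Fintype L]
  {R : G → Subgroup G} {H : Subgroup L} {ι : W₁ × W₂ →* L} {η : (W₁ →* ℂˣ) → (W₂ →* ℂˣ) → G → ℂ}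
  {μ : (W₁ →* ℂˣ) → (W₂ →* ℂˣ) → L → ℂ}

theorem DadeHypothesis.dade_eq_indFun_of_TI {H : Subgroup L} (hD : DadeHypothesis A L R)
    (hA : ∀ x ∈ H, x ≠ 1 → (x : G) ∈ A)
    (hTI : ∀ g, g ∉ L → ∀ x ∈ H, ∀ y ∈ H, g * x * g⁻¹ = y → x = 1) (α : L → ℂ)
    (h1 : IsClassFunction L α) (h2 : ∀ x, x ∉ H → α x = 0) (h3 : α 1 = 0) :
    dade A L R α = indFun L α := by
  have h4 : ∀ x, α x ≠ 0 → x ∈ H ∧ x ≠ 1 := fun x hx =>
    ⟨by_contra fun e => hx (h2 x e), fun e => hx (e ▸ h3)⟩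
  refine hD.dade_eq_indFun h1 (fun x hx => by_contra fun e => hx (hA x (h4 x e).1 (h4 x e).2))
    fun a ha e => eq_bot_iff.2 fun u hu => hD.eq_one_of_mem ha hu (by_contra fun h5 => ?_)
  exact (h4 a e).2 (hTI u h5 a (h4 a e).1 a (h4 a e).1
    (by rw [hD.comm ha hu, mul_inv_cancel_right]))

/-- Peterfalvi (6.8), case (c2). -/
theorem PrimeDade.sibley (h : PrimeDade A L R H H ι η μ δ) (hodd : Odd (Nat.card L))
    (hTI : ∀ g, g ∉ L → ∀ x ∈ H, ∀ y ∈ H, g * x * g⁻¹ = y → x = 1) (hn : Group.IsNilpotent H)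
    (hp : (Nat.card W₂).Prime) (hW : ∀ b, ι (1, b) ∈ ⁅H, H⁆) :
    Coh (inducedIrrAbove H ⊥) (dade A L R) := by
  have := h.normal
  obtain ⟨R', h1, -⟩ := h.exists_subCoh hodd
  rw [indD_self le_rfl] at h1
  have hA : ∀ x ∈ H, x ≠ 1 → (x : G) ∈ A := fun x a b => h.cent x a b x a b rfl
  have hτ := DadeHypothesis.dade_eq_indFun_of_TI h.hyp hA hTI
  have hcop : (Nat.card H).Coprime H.index := h.prim.index_eq ▸ h.prim.cop
  have hH' := commutator_le_left H H
  have hY : ∀ φ ∈ inducedIrrAbove H ⁅H, H⁆, IsIrrCharacter L φ := fun _ =>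
    h.prim.isIrr_of_mem hH' hW
  have hinj : Function.Injective (ι.comp (MonoidHom.inr W₁ W₂)) := fun _ _ e =>
    congrArg Prod.snd (h.prim.inj e)
  have := h.prim.nt₂
  have hb : ∀ {b}, ι (1, b) = 1 → b = 1 := fun e => hinj (e.trans (map_one _).symm)
  obtain ⟨b₀, hb₀⟩ := exists_ne (1 : W₂)
  by_cases hc : ∀ b, ι (1, b) ∈ ⁅H, H⁆ ⊓ centralizer (H : Set L) → b = 1
  · exact h1.sibley_of_center hτ hodd hTI hcop hn (fun e => hb₀ (hb (mem_bot.1 (e ▸ hW b₀))))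
      (h.prim.mem_of_comm hW) hY (h.prim.centralizer_le (inf_le_left.trans hH') hc)
      fun _ => h.prim.isIrr_of_mem_indD (inf_le_left.trans hH') hc
  push Not at hc
  obtain ⟨b, h2, h3⟩ := hc
  have := Fact.mk hp
  have h4 : ∀ c : W₂, c ≠ 1 → ∀ d, d ∈ zpowers c := fun c hc d =>
    mem_zpowers_of_prime_card rfl hc
  have hZc : ∀ z ∈ (ι.comp (MonoidHom.inr W₁ W₂)).range, ∀ k ∈ H, z * k = k * z := by
    rintro _ ⟨c, rfl⟩ k hk
    obtain ⟨m, rfl⟩ := h4 b h3 c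
    rw [map_zpow]
    exact (Commute.zpow_right (h2.2 k hk) m).symm
  have : (ι.comp (MonoidHom.inr W₁ W₂)).range.Normal := ⟨fun z hz g => by
    obtain ⟨k, hk, a, rfl⟩ := h.prim.compl g
    obtain ⟨c, rfl⟩ := id hz
    have e1 := hZc _ hz k hk
    have e2 := h.prim.ι_comm (a, 1) (1, c)
    simp only [MonoidHom.comp_apply, MonoidHom.inr_apply] at e1 hz ⊢
    rwa [mul_assoc k, e2, ← mul_assoc, ← e1, mul_assoc _ k, mul_inv_cancel_right]⟩
  have hZ : (ι.comp (MonoidHom.inr W₁ W₂)).range ≤ ⁅H, H⁆ := by rintro _ ⟨c, rfl⟩; exact hW c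
  have hcard := (Nat.card_congr (MonoidHom.ofInjective hinj).toEquiv).symm
  have hf := h.prim.frob_mod (hZ.trans hH') fun b => ⟨b, rfl⟩
  have hK' : ¬ H ≤ ⁅H, H⁆ := Core.not_le_commutator_of_isNilpotent hn le_rfl le_rfl
    fun e => hb₀ (hb (mem_bot.1 (e ▸ hH' (hW b₀))))
  obtain ⟨ν, hν⟩ := h1.preCoh.coh_of_commutator_le le_rfl
  obtain ⟨φ, hφ, -⟩ := exists_mem_inducedIrrAbove_of_not_le (K := H) (A := ⁅H, H⁆) (by simpa)
  have hoe : Odd H.index := hodd.of_dvd_nat H.index_dvd_card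
  have hor : ∀ A B : Subgroup L, Odd (A.relIndex B) := fun A B =>
    hodd.of_dvd_nat ((relIndex_dvd_card A B).trans (card_subgroup_dvd_card B))
  have h5 := le_of_modEq_one_of_odd (relIndex_modEq_one_of_frobenius (hZ.trans hH') hf hZ hH'
    le_rfl) (one_lt_relIndex hK') (hor _ _) hoe
  refine h1.sibley_core hτ hodd hTI hcop hZ hZc (fun e => hb₀ (hb (mem_bot.1 (e ▸ ⟨b₀, rfl⟩)))) hY
    ?_ (fun h6 => ?_) hν hφ ?_
  · have := relIndex_le_of_le_left (L := H) hZ (Core.relIndex_pos _ _).ne'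
    omega
  · have h7 := le_of_modEq_one_of_odd (relIndex_modEq_one_of_frobenius (hZ.trans hH') hf le_rfl hZ
      hH') (one_lt_relIndex h6) (hor _ _) hoe
    have h8 := hp.two_le
    rw [← relIndex_mul_relIndex _ _ _ hZ hH', hcard]
    calc _ = 2 * H.index * (2 * H.index) * 1 ^ 2 := by ring
      _ ≤ _ := by gcongr <;> omega
  · rintro _ ⟨c, rfl⟩ _ ⟨d, rfl⟩ hc hd
    obtain ⟨m, rfl⟩ := mem_powers_iff_mem_zpowers.2 (h4 d (fun e => hd (by rw [e, map_one])) c)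
    have hm : m.Coprime (Nat.card W₂) := ((Nat.coprime_or_dvd_of_prime hp m).resolve_right
      fun ⟨r, e⟩ => hc (by simp [e, pow_mul, Prod.mk_one_one])).symm
    obtain ⟨u, hu⟩ := exists_ringEquiv_pow hp.ne_zero hm
    have hu' := map_mem_inducedIrrAbove u.toRingHom hφ
    have h6 := (h1.toDegIso.mono (inducedIrrAbove_anti bot_le)).map_cohWith hν u.toRingHom
      (fun α => dade_map α _ (map_zero _)) hφ (conjFun_mem_inducedIrrAbove hφ) (hY φ hφ)
      (hY φ hφ).conjF (h1.conj_ne φ (inducedIrrAbove_anti bot_le hφ)).symm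
      (hY φ hφ).isCharacter.conjFun_one.symm hu'
      (map_mem_inducedIrrAbove _ (conjFun_mem_inducedIrrAbove hφ))
    have h7 : ∀ ψ ∈ inducedIrrAbove H ⁅H, H⁆, ψ (ι (1, d)) = H.index := fun ψ hψ => by
      rw [← degree_eq_of_commutator_le le_rfl hψ]
      obtain ⟨θ, -, -, a, rfl⟩ := hψ
      exact indFun_apply_eq_of_ker hH' a (hW d)
    have h8 := congrFun (hν.agree.sub (φ := fun x => u.toRingHom (φ x)) (ψ := φ) ((degree_eq_of_commutator_le le_rfl hu').trans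
      (degree_eq_of_commutator_le le_rfl hφ).symm)) (ι (1, d))
    rw [h.hyp.dade_apply_self ((hY _ hu').isClassFunction.sub (hY _ hφ).isClassFunction)
      (hA _ (hH' (hW d)) hd), Pi.sub_apply, h7 _ hu', h7 _ hφ, sub_self, h6, Pi.sub_apply,
      (hν.gen φ hφ).ringHom_apply' u.toRingHom hu (orderOf_dvd_of_pow_eq_one (by
        simp [← coe_pow, ← map_pow, Prod.mk_one_one]))] at h8
    simp only [map_pow]
    exact (sub_eq_zero.1 h8.symm)

end Prime

end Cfsg.Agent.Char
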