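import Mathlib
import Cfsg.Agent.Char.Sibley

/-!
# Clifford correspondence relative to an intermediate subgroup, and two coherence lemmas
-/

set_option autoImplicit false
set_option linter.unusedSectionVars false

namespace Cfsg.Agent.Char

open Cfsg Subgroup
open scoped ComplexConjugate

section Rel

variable {L : Type*} [Group L] [Fintype L] {K T N H : Subgroup L}

/-- induction from `T` to `K` for subgroups `T ≤ K` of `L` -/
noncomputable def indS [Fintype K] (h : T ≤ K) : CMap T K :=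
  indH (inclusion h) (inclusion_injective h)

variable [Fintype K]

theorem indS_eq (h : T ≤ K) (ξ : T → ℂ) :
    indS h ξ = indFun (T.subgroupOf K) fun x => ξ (subgroupOfEquivOfLe h x) :=
  indH_eq_indFun _ (subgroupOfEquivOfLe h).symm (fun _ => rfl) ξ

theorem indFun_indS (h : T ≤ K) (ξ : T → ℂ) : indFun K (indS h ξ) = indFun T ξ :=
  (indFun_indH (f := inclusion h) (inclusion_injective h) T.subtype_injective ξ).trans
    (indH_eq_indFun _ (MulEquiv.refl T) (fun _ => rfl) ξ)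

theorem indS_one (h : T ≤ K) (ξ : T → ℂ) : indS h ξ 1 = T.relIndex K * ξ 1 := by
  rw [indS_eq, indFun_one, map_one]; rfl

theorem apply_eq_of_indS (h : T ≤ K) {ξ : T → ℂ} (hξ : IsIrrCharacter T ξ) {t : T}
    (e : indS h ξ (inclusion h t) = indS h ξ 1) : ξ t = ξ 1 := by
  rw [indS_eq] at e
  simpa using (hξ.comp_equiv (subgroupOfEquivOfLe h)).apply_eq_of_indFun
    (a := (subgroupOfEquivOfLe h).symm t) e

theorem inertia_subgroupOf [N.Normal] (hNK : N ≤ K) (l : N → ℂ) :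
    (K ⊓ inertia l).subgroupOf K =
      inertia fun n : N.subgroupOf K => l (subgroupOfEquivOfLe hNK n) := by
  ext g
  rw [inf_subgroupOf_left, mem_subgroupOf, mem_inertia', mem_inertia']
  exact ⟨fun h n => h (subgroupOfEquivOfLe hNK n),
    fun h n => h ((subgroupOfEquivOfLe hNK).symm n)⟩

theorem exists_indS [N.Normal] [Fintype N] (hNT : N ≤ T) (hTK : T ≤ K) {l : N → ℂ}
    (hl : IsIrrCharacter N l) (hT : T = K ⊓ inertia l) {θ : K → ℂ} (hθ : IsIrrCharacter K θ)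
    (h : classInner (fun n : N => θ (inclusion (hNT.trans hTK) n)) l ≠ 0) :
    ∃ ξ : T → ℂ, IsIrrCharacter T ξ ∧ classInner (fun n : N => ξ (inclusion hNT n)) l ≠ 0 ∧
      θ = indS hTK ξ := by
  have := Fintype.ofFinite (N.subgroupOf K)
  have e := subgroupOfEquivOfLe (hNT.trans hTK)
  have h1 : ∀ f : N → ℂ, classInner (fun n : N.subgroupOf K =>
      f (subgroupOfEquivOfLe (hNT.trans hTK) n))
      (fun n => l (subgroupOfEquivOfLe (hNT.trans hTK) n)) = classInner f l := fun f =>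
    classInner_comp_equiv (subgroupOfEquivOfLe (hNT.trans hTK)).toEquiv f l
  obtain ⟨ψ, h2, h3, h4⟩ := (hl.comp_equiv (subgroupOfEquivOfLe (hNT.trans hTK))).exists_indFun_inertia
    (T := T.subgroupOf K) (by rw [← inertia_subgroupOf, ← hT]) (fun _ hx => hNT hx) hθ
    (by rw [← h1] at h; exact h)
  refine ⟨fun t => ψ ((subgroupOfEquivOfLe hTK).symm t), h2.comp_equiv _, ?_, ?_⟩
  · rw [← h1] at h ⊢
    exact fun i => h (h4.symm.trans i)
  · rw [indS_eq, ← h3]; rfl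

theorem isIrr_indS [N.Normal] [Fintype N] (hNT : N ≤ T) (hTK : T ≤ K) {l : N → ℂ}
    (hl : IsIrrCharacter N l) (hT : T = K ⊓ inertia l) {ξ : T → ℂ} (hξ : IsIrrCharacter T ξ)
    (h : classInner (fun n : N => ξ (inclusion hNT n)) l ≠ 0) : IsIrrCharacter K (indS hTK ξ) := by
  have := Fintype.ofFinite (N.subgroupOf K)
  rw [indS_eq]
  refine (hl.comp_equiv (subgroupOfEquivOfLe (hNT.trans hTK))).indFun_inertia
    (T := T.subgroupOf K) (by rw [← inertia_subgroupOf, ← hT]) (fun _ hx => hNT hx)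
    (hξ.comp_equiv _) ?_
  rw [← classInner_comp_equiv (subgroupOfEquivOfLe (hNT.trans hTK)).toEquiv] at h
  exact h

omit [Fintype K] in
theorem mem_indD_of [K.Normal] (hHK : H ≤ K) [H.Normal] {θ : K → ℂ} (hθ : IsIrrCharacter K θ)
    (h1 : ∀ n ∈ N, indFun K θ n = indFun K θ 1) (h2 : ∃ x ∈ H, indFun K θ x ≠ indFun K θ 1) :
    indFun K θ ∈ indD K H N := by
  refine ⟨θ, hθ, fun a ha => hθ.apply_eq_of_indFun (h1 a ha), ?_, rfl⟩
  by_contra h
  push Not at h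
  obtain ⟨x, a, b⟩ := h2
  exact b (indFun_apply_eq_of_ker hHK h a)

omit [Fintype K] in
theorem ker_of_mem_indD [N.Normal] (hNK : N ≤ K) {φ : L → ℂ} (h : φ ∈ indD K H N) :
    ∀ n ∈ N, φ n = φ 1 := by
  obtain ⟨θ, -, h1, -, rfl⟩ := h
  exact fun n hn => indFun_apply_eq_of_ker hNK h1 hn

omit [Fintype K] in
theorem exists_ne_of_mem_indD {φ : L → ℂ} (h : φ ∈ indD K H N) : ∃ x ∈ H, φ x ≠ φ 1 := by
  obtain ⟨θ, h1, -, ⟨a, h2, h3⟩, rfl⟩ := h
  exact ⟨a, h2, fun i => h3 (h1.apply_eq_of_indFun i)⟩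

omit [Fintype K] in
theorem mem_indD_of_ker {N' : Subgroup L} {φ : L → ℂ} (h : φ ∈ indD K H N)
    (h1 : ∀ n ∈ N', φ n = φ 1) : φ ∈ indD K H N' := by
  obtain ⟨θ, h2, -, h3, rfl⟩ := h
  exact ⟨θ, h2, fun a ha => h2.apply_eq_of_indFun (h1 a ha), h3, rfl⟩

omit [Fintype K] in
theorem indD_eq_sdiff_sup [K.Normal] [H.Normal] [N.Normal] (hHK : H ≤ K) (hNK : N ≤ K) :
    indD K H N = inducedIrrAbove K N \ inducedIrrAbove K (H ⊔ N) := by
  rw [indD_eq_sdiff]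
  refine Set.ext fun φ => and_congr_right fun h => not_congr ⟨?_, fun i =>
    inducedIrrAbove_anti le_sup_left i⟩
  rintro ⟨θ, h1, h2, h3, rfl⟩
  obtain ⟨θ', h4, -, h5, e⟩ := h
  refine ⟨θ, h1, h2, fun a ha => ?_, rfl⟩
  obtain ⟨x, hx, y, hy, e'⟩ := (mem_sup_of_normal_left).1 ha
  have : θ ⟨y, hNK hy⟩ = θ 1 := h1.apply_eq_of_indFun (a := ⟨y, hNK hy⟩)
    (by rw [e]; exact indFun_apply_eq_of_ker hNK h5 hy)
  rw [show a = ⟨x, hHK hx⟩ * ⟨y, hNK hy⟩ from Subtype.ext e'.symm,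
    h1.isCharacter.apply_mul_of_eq_one (h3 _ hx), this]

omit [Fintype K] in
/-- `indD K H N` as a finite set -/
noncomputable def seqD (K H N : Subgroup L) : Finset (L → ℂ) :=
  (finite_indD (K := K) (H := H) (M := N)).toFinset

omit [Fintype K] in
@[simp] theorem coe_seqD : (seqD K H N : Set (L → ℂ)) = indD K H N := Set.Finite.coe_toFinset _

omit [Fintype K] in
@[simp] theorem mem_seqD {φ : L → ℂ} : φ ∈ seqD K H N ↔ φ ∈ indD K H N :=
  Set.Finite.mem_toFinset _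

omit [Fintype K] in
theorem sum_seqD_sq [K.Normal] [H.Normal] [N.Normal] (hHK : H ≤ K) (hNK : N ≤ K) :
    ∑ φ ∈ seqD K H N, (φ 1).re ^ 2 / nrm φ =
      K.index * ((N.relIndex K : ℝ) - (H ⊔ N).relIndex K) := by
  classical
  have h1 : seqInd K (H ⊔ N) ⊆ seqInd K N := fun φ h =>
    mem_seqInd.2 (inducedIrrAbove_anti le_sup_right (mem_seqInd.1 h))
  have h2 : seqD K H N = seqInd K N \ seqInd K (H ⊔ N) := by
    rw [← Finset.coe_inj, coe_seqD, Finset.coe_sdiff, coe_seqInd, coe_seqInd,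
      indD_eq_sdiff_sup hHK hNK]
  rw [h2, Finset.sum_sdiff_eq_sub h1, sum_seqInd_sq, sum_seqInd_sq]
  ring

omit [Fintype L] [Fintype K] in
/-- an invariant linear character extends to a semidirect product -/
theorem exists_hom_extend [hH : H.Normal] {V : Subgroup L} (hT : H ⊔ V = T) (hd : H ⊓ V = ⊥)
    (l : H →* ℂˣ) (hinv : V ≤ inertia fun n : H => (l n : ℂ)) :
    ∃ ξ : T →* ℂˣ, (∀ x : H, ∀ hx, ξ ⟨x, hx⟩ = l x) ∧ ∀ v : T, (v : L) ∈ V → ξ v = 1 := by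
  subst hT
  have h1 : ∀ t : ↥(H ⊔ V), ∃ x : H, (x : L)⁻¹ * t ∈ V := fun t => by
    obtain ⟨x, hx, y, hy, e⟩ := mem_sup_of_normal_left.1 t.2
    exact ⟨⟨x, hx⟩, by simpa [← e] using hy⟩
  choose f hf using h1
  have h2 : ∀ (t : ↥(H ⊔ V)) (x : H), (x : L)⁻¹ * t ∈ V → f t = x := fun t x hx => by
    have : ((f t : L))⁻¹ * x ∈ H ⊓ V := mem_inf.2 ⟨mul_mem (inv_mem (f t).2) x.2, by
      simpa [mul_assoc] using mul_mem (hf t) (inv_mem hx)⟩
    rw [hd, mem_bot, inv_mul_eq_one] at this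
    exact Subtype.ext this
  refine ⟨MonoidHom.mk' (fun t => l (f t)) fun s t => ?_, fun x hx => ?_, fun v hv => ?_⟩
  · have h3 := mem_inertia'.1 (hinv (hf s)) (f t)
    rw [← Units.val_inj.1 h3, ← map_mul, h2]
    simpa [mul_assoc] using mul_mem (hf s) (hf t)
  · simp only [MonoidHom.mk'_apply]
    rw [h2 _ x (by simp)]
  · simp only [MonoidHom.mk'_apply]
    rw [h2 _ 1 (by simpa using hv), map_one]

omit [Fintype L] [Fintype K] in
theorem card_hom_ker {W : Type*} [Group W] [Finite W] (hW : ∀ a b : W, a * b = b * a)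
    (A : Subgroup W) : Nat.card {j : W →* ℂˣ // ∀ a ∈ A, j a = 1} = A.index := by
  have : A.Normal := ⟨fun n hn g => by rwa [hW g, mul_inv_cancel_right]⟩
  rw [index, ← card_hom_of_comm (G := W ⧸ A) fun a b => by
    obtain ⟨a, rfl⟩ := QuotientGroup.mk_surjective a
    obtain ⟨b, rfl⟩ := QuotientGroup.mk_surjective b
    rw [← QuotientGroup.mk_mul, hW, QuotientGroup.mk_mul]]
  refine Nat.card_congr ⟨fun j => QuotientGroup.lift A j.1 j.2, fun j =>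
    ⟨j.comp (QuotientGroup.mk' A), fun a ha => by
      rw [MonoidHom.comp_apply, QuotientGroup.mk'_apply, (QuotientGroup.eq_one_iff a).2 ha,
        map_one]⟩, fun j => rfl, fun j => ?_⟩
  ext x; rfl

omit [Fintype K] in
/-- the norm of a permutation character -/
theorem nrm_indFun_one (T : Subgroup L) : (Nat.card T : ℝ) ^ 2 * nrm (indFun T fun _ => 1) =
    ∑ x : L, (Nat.card ↥(T ⊓ T.map (MulAut.conj x).toMonoidHom) : ℝ) := by
  classical
  have := Fintype.ofFinite T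
  rw [← Complex.ofReal_inj]
  push_cast
  rw [← classInner_self_nrm, classInner_indFun_left _ _ (isClassFunction_indFun _ _),
    ← conj_classInner, classInner_one_right, sq, mul_assoc, map_mul, map_inv₀, map_natCast,
    mul_inv_cancel_left₀ (card_ne_zero _), map_sum, Finset.mul_sum]
  have h1 : ∀ t : T, (Nat.card T : ℂ) * conj (indFun T (fun _ => 1) t) =
      ∑ x : L, if x⁻¹ * t * x ∈ T then 1 else 0 := fun t => by
    rw [sum_ite_eq_card, ← card_mul_indFun_one_apply, ← Complex.conj_natCast, ← map_mul,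
      card_mul_indFun_one_apply, Complex.conj_natCast, Complex.conj_natCast,
      card_mul_indFun_one_apply]
  simp only [h1]
  rw [Finset.sum_comm]
  refine Finset.sum_congr rfl fun x _ => ?_
  rw [sum_ite_eq_card]
  congr 1
  refine Nat.card_congr ⟨fun t => ⟨t.1, t.1.2, x⁻¹ * t.1 * x, t.2, by simp [mul_assoc]⟩,
    fun t => ⟨⟨t.1, t.2.1⟩, ?_⟩, fun _ => rfl, fun _ => rfl⟩
  obtain ⟨y, hy, e⟩ := t.2.2
  simpa [← e, mul_assoc] using hy

end Rel

section Coh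

variable {L G : Type*} [Group L] [Fintype L] [Group G] [Fintype G] {S : Set (L → ℂ)}
  {τ ν : CMap L G} {R : (L → ℂ) → Finset (G → ℂ)}

/-- if the bound of (5.6) is nearly reached, one more pair of characters is enough -/
theorem SubCoh.coh_of_step (h : SubCoh S τ R) {S₁ : Finset (L → ℂ)} (h1 : ↑S₁ ⊆ S)
    (hc : ∀ φ ∈ S₁, conjFun φ ∈ S₁) {φ₁ : L → ℂ} (hφ₁ : φ₁ ∈ S₁)
    (hd : ∀ χ ∈ S, (∃ a : ℕ, χ 1 = a * φ₁ 1) ∧
      2 * (χ 1).re * (φ₁ 1).re ≤ ∑ φ ∈ S₁, (φ 1).re ^ 2 / nrm φ)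
    {χ : L → ℂ} (hχ : χ ∈ S) (hχ₁ : χ ∉ S₁) (hν : CohWith (↑S₁ ∪ {χ, conjFun χ}) τ ν) :
    Coh S τ := by
  classical
  have h2 : (↑(S₁ ∪ {χ, conjFun χ}) : Set (L → ℂ)) = ↑S₁ ∪ {χ, conjFun χ} := by simp
  have h3 : (↑(S₁ ∪ {χ, conjFun χ}) : Set (L → ℂ)) ⊆ S := by
    rw [h2]
    rintro φ (i | rfl | rfl)
    exacts [h1 i, hχ, h.conj_mem _ hχ]
  refine ⟨ν, (h.preCoh.extend h3 (fun φ i => ?_) (h2 ▸ hν) (Finset.mem_union_left _ hφ₁)
    le_rfl fun ψ i _ => ⟨(hd ψ i).1, (hd ψ i).2.trans_lt ?_⟩).mono Set.subset_union_right⟩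
  · simp only [Finset.mem_union, Finset.mem_insert, Finset.mem_singleton] at i ⊢
    rcases i with i | rfl | rfl
    exacts [Or.inl (hc _ i), Or.inr (Or.inr rfl), Or.inr (Or.inl (conjFun_conjFun _))]
  · refine Finset.sum_lt_sum_of_subset Finset.subset_union_left (i := χ) (by simp) hχ₁ ?_
      fun φ _ _ => div_nonneg (sq_nonneg _) (nrm_nonneg _)
    obtain ⟨d, h4, h5⟩ := h.exists_deg hχ
    exact div_pos (by rw [h5]; simpa using pow_pos (Nat.cast_pos.2 h4) 2) (h.nrm_pos hχ)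

/-- Peterfalvi (9.11.6) - (9.11.8) -/
theorem SubCoh.exists_step (h : SubCoh S τ R) {S₁ S₄ : Finset (L → ℂ)} (h1 : ↑S₁ ⊆ S)
    (hc : ∀ φ ∈ S₁, conjFun φ ∈ S₁) {ψ₁ : L → ℂ} (hψ₁ : ψ₁ ∈ S₁)
    (hi1 : ∀ φ ∈ S₁, IsIrrCharacter L φ) (hd1 : ∀ φ ∈ S₁, φ 1 = ψ₁ 1) {n : ℕ} (hn : n ≠ 1)
    (hcard : S₁.card = 2 * n) (hd : ∀ φ ∈ S, φ ∉ S₁ → φ 1 = n * ψ₁ 1) (h4 : ↑S₄ ⊆ S \ ↑S₁)
    (hi4 : ∀ φ ∈ S₄, IsIrrCharacter L φ) {α : L → ℂ} (hα : IsGeneralizedCharacter G (τ α))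
    (hiso : ∀ β, IsClassFunction L β → classInner (τ α) (τ β) = classInner α β)
    (hαψ : classInner α ψ₁ = -1) (hαS : ∀ φ ∈ S, φ ≠ ψ₁ → classInner α φ = 0)
    (hlt : nrm (τ α) < S₄.card) (hν : CohWith (S₁ : Set (L → ℂ)) τ ν) :
    ∃ χ ∈ S, χ ∉ S₁ ∧ CohWith (↑S₁ ∪ {χ, conjFun χ}) τ ν := by
  classical
  have hc3 : ∀ φ ∈ S \ ↑S₁, conjFun φ ∈ S \ ↑S₁ := fun φ i =>
    ⟨h.conj_mem _ i.1, fun j => i.2 (conjFun_conjFun φ ▸ hc _ j)⟩
  obtain ⟨ν₃, hν₃⟩ := (h.mono Set.sdiff_subset hc3).coh_of_degree_eq fun φ i ψ j => by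
    rw [hd φ i.1 i.2, hd ψ j.1 j.2]
  obtain ⟨χ, hχ4⟩ : S₄.Nonempty := Finset.card_pos.1 (by exact_mod_cast (nrm_nonneg _).trans_lt hlt)
  have hχ := h4 hχ4
  have cf : ∀ φ ∈ S, IsClassFunction L φ := fun φ i => (h.char φ i).isClassFunction
  have ne : ∀ φ ∈ S \ ↑S₁, φ ≠ ψ₁ := fun φ i j => i.2 (j ▸ hψ₁)
  obtain ⟨m, hm⟩ := hα.classInner_int (hν₃.gen _ hχ)
  have a1 : ∀ φ ∈ S \ ↑S₁, classInner (τ α) (ν₃ φ) = m := fun φ i => by
    rw [← hm, ← sub_eq_zero, ← classInner_sub_right,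
      ← hν₃.agree.sub (by rw [hd φ i.1 i.2, hd χ hχ.1 hχ.2]), hiso _ ((cf _ i.1).sub (cf _ hχ.1)),
      classInner_sub_right, hαS _ i.1 (ne _ i), hαS _ hχ.1 (ne _ hχ), sub_zero]
  obtain rfl : m = 0 := by
    have := (bessel (s := S₄) (e := ν₃) (fun i a j b c => by
      rw [hν₃.inner _ (h4 a) _ (h4 b), h.orth _ (h4 a).1 _ (h4 b).1 c]) (τ α)).trans_lt hlt
    rw [Finset.sum_congr rfl fun φ i => by
      rw [a1 φ (h4 i), hν₃.nrm_eq (h4 i), (hi4 φ i).nrm_eq, div_one], Finset.sum_const,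
      nsmul_eq_mul, Complex.norm_intCast, sq_abs,
      mul_lt_iff_lt_one_right ((nrm_nonneg _).trans_lt hlt)] at this
    have : m ^ 2 < 1 := by exact_mod_cast this
    nlinarith
  have a2 : ∀ ρ ∈ R χ, classInner (τ α) ρ = 0 := fun ρ hρ => by
    obtain ⟨E, e1, e2, e3⟩ := h.exists_subset_of_cohWith hν₃ hχ.1 hχ (hc3 _ hχ)
    have e4 := h.card_eq hχ.1
    rw [(hi4 _ hχ4).nrm_eq] at e3 e4
    obtain ⟨e, rfl⟩ := Finset.card_eq_one.1 (by exact_mod_cast e3 : E.card = 1)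
    rw [Finset.sum_singleton] at e2
    have e5 : classInner (τ α) e = 0 := by rw [← e2, a1 _ hχ, Int.cast_zero]
    by_cases e6 : e = ρ
    · exact e6 ▸ e5
    have e7 : {e, ρ} = R χ := Finset.eq_of_subset_of_card_le
      (Finset.insert_subset (e1 (by simp)) (by simpa using hρ))
      (by rw [Finset.card_pair e6]; exact_mod_cast e4.le)
    have e8 := congrArg (classInner (τ α)) (h.sub_eq_sum hν₃.agree hχ.1)
    rw [← e7, Finset.sum_pair e6, classInner_add_right, classInner_sub_right, a1 _ hχ,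
      a1 _ (hc3 _ hχ), e5] at e8
    simpa using e8.symm
  have hg := h.gen_of_dvd hν.agree hχ.1 (h1 hψ₁) (hd _ hχ.1 hχ.2) (hν.gen _ hψ₁)
  refine ⟨χ, hχ.1, hχ.2, h.extend_with h1 hc hν hχ.1 hχ.2 hψ₁ hg ?_⟩
  obtain ⟨b, hb⟩ := hg.classInner_int (hν.gen _ hψ₁)
  by_contra hb0
  have a3 : ∀ φ ∈ S₁, classInner (ν χ) (ν φ) = b := fun φ i => by
    rw [h.inner_of_notMem h1 hν hχ.1 hχ.2 hψ₁ i, hd1 φ i, div_self (hi1 _ hψ₁).one_ne_zero,
      one_mul, hb]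
  have a4 : ∀ φ ∈ S₁, nrm (ν φ) = 1 := fun φ i => by rw [hν.nrm_eq i, (hi1 φ i).nrm_eq]
  have o1 : ∀ i ∈ S₁, ∀ j ∈ S₁, i ≠ j → classInner (ν i) (ν j) = 0 := fun i a j b c => by
    rw [hν.inner _ a _ b, h.orth _ (h1 a) _ (h1 b) c]
  have a5 := h.nrm_of_notMem hν.agree hχ.1 (h1 hψ₁) (ne _ hχ) (hν.nrm_eq hψ₁) (a := n)
    (by simpa using hd _ hχ.1 hχ.2)
  have a6 := nrm_proj_add_le o1 (h.orthon _ hχ.1).orth'
    (fun i a j b => h.orth_supp h1 hc hν hχ.1 hχ.2 a b) (ν χ)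
  rw [nrm_proj o1, Finset.sum_congr rfl fun φ i => by rw [a3 φ i, a4 φ i, div_one],
    Finset.sum_const, nsmul_eq_mul, Complex.norm_intCast, sq_abs, hcard, a5, hb,
    (hi4 _ hχ4).nrm_eq, Complex.intCast_re] at a6
  have a7 := ((h.orthon _ hχ.1).le_nrm_proj (h.gen _ hχ.1) hg
    (h.inner_sum_of_notMem h1 hc hν hχ.1 hχ.2 hψ₁)).1
  rw [(hi4 _ hχ4).nrm_eq] at a7
  have a8 := nrm_nonneg (ν χ - proj S₁ ν (ν χ) - proj (R χ) id (ν χ))
  have n0 : (0 : ℝ) < n := by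
    have := Finset.card_pos.2 ⟨_, hψ₁⟩
    exact_mod_cast (by omega : 0 < n)
  push_cast at a6
  obtain rfl : b = 1 := by
    have : (b : ℝ) ^ 2 ≤ b := by nlinarith
    have : b ^ 2 ≤ b := by exact_mod_cast this
    have : b ≠ 0 := fun i => hb0 (by rw [hb, i, Int.cast_zero])
    by_contra
    rcases (by omega : b ≤ -1 ∨ 2 ≤ b) with _ | _ <;> nlinarith
  have a9 : ν χ = proj S₁ ν (ν χ) + proj (R χ) id (ν χ) := by
    rw [← sub_eq_zero, ← sub_sub]
    exact eq_zero_of_nrm_le (by push_cast at a6; linarith)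
  obtain ⟨y, hy⟩ := hα.classInner_int (hν.gen _ hψ₁)
  have b1 : ∀ φ ∈ S₁, classInner (τ α) (ν φ) = y + 1 - if φ = ψ₁ then 1 else 0 := fun φ i => by
    split_ifs with j
    · rw [j, hy, add_sub_cancel_right]
    · rw [sub_zero, ← hy, ← sub_eq_iff_eq_add', ← classInner_sub_right, ← hν.agree.sub (hd1 φ i),
        hiso _ ((cf _ (h1 i)).sub (cf _ (h1 hψ₁))), classInner_sub_right, hαS _ (h1 i) j, hαψ]
      ring
  have b2 := hiso _ ((cf _ hχ.1).sub ((cf _ (h1 hψ₁)).smul n))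
  rw [hν.agree.sub_smul (hd _ hχ.1 hχ.2), classInner_sub_right, classInner_sub_right,
    classInner_smul_right, classInner_smul_right, hαψ, hαS _ hχ.1 (ne _ hχ), hy, a9,
    classInner_add_right, classInner_proj_of_orth (e := id) a2, proj, classInner_sum_right,
    Finset.sum_congr rfl fun φ i => by
      rw [a3 φ i, a4 φ i, classInner_smul_right, b1 φ i],
    Complex.conj_natCast] at b2
  simp [Finset.sum_sub_distrib, hψ₁, hcard] at b2
  have : (n : ℤ) * (y + 1) = 1 := by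
    have : (n : ℂ) * (y + 1) = 1 := by linear_combination b2
    exact_mod_cast this
  exact hn (by exact_mod_cast Int.eq_one_of_mul_eq_one_right (by positivity) this)

end Coh

end Cfsg.Agent.Char
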