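import Cfsg.Agent.Char.Sweep
import Cfsg.Agent.Char.Cliff3

/-! Going down, relative M-characters, quasi-primitive characters. -/

set_option autoImplicit false
set_option linter.unusedSectionVars false

namespace Cfsg.Agent.Char

open Cfsg Subgroup
open scoped ComplexConjugate

variable {G : Type*} [Group G]

theorem _root_.Cfsg.IsCharacter.eq_zero_of_irr_add [Finite G] {u v : G → ℂ} (hu : IsCharacter G u)
    (hv : IsCharacter G v) (h : IsIrrCharacter G (u + v)) (h0 : u ≠ 0) : v = 0 := by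
  have := Fintype.ofFinite G
  have h1 := h.nrm_eq
  rw [nrm_add] at h1
  have := hu.isGen.one_le_nrm h0
  have := hu.classInner_re_nonneg hv
  exact eq_zero_of_nrm_le (by linarith)

theorem _root_.Cfsg.IsCharacter.isIrr_of_mul [Finite G] {a b : G → ℂ} (ha : IsCharacter G a)
    (hb : IsCharacter G b) (h : IsIrrCharacter G (a * b)) : IsIrrCharacter G a := by
  have := Fintype.ofFinite G
  have h1 : b 1 ≠ 0 := fun e => h.one_ne_zero (by simp [e])
  obtain ⟨c, hc, h2⟩ := ha.exists_irr_constituent fun e => h.ne_zero (by simp [e])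
  have h3 := ha.sub_irr hc h2
  have h4 := (hc.isCharacter.mul hb).eq_zero_of_irr_add (h3.mul hb) (by convert h using 1; ring)
    fun e => mul_ne_zero hc.one_ne_zero h1 (congrFun e 1)
  rwa [ha.eq_of_constituent_of_one_eq hc h2
    (sub_eq_zero.1 ((mul_eq_zero.1 (congrFun h4 1)).resolve_right h1))]

theorem _root_.Cfsg.IsCharacter.isIrr_of_indFun [Fintype G] {H : Subgroup G} {a : H → ℂ}
    (ha : IsCharacter H a) (h : IsIrrCharacter G (indFun H a)) : IsIrrCharacter H a := by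
  have := Fintype.ofFinite H
  obtain ⟨c, hc, h2⟩ := ha.exists_irr_constituent fun e => h.ne_zero (by simp [e])
  have h3 := ha.sub_irr hc h2
  have h4 := hc.isCharacter.indFun.eq_zero_of_irr_add h3.indFun (by
    rwa [← indFun_add, add_sub_cancel]) (indFun_ne_zero hc.one_ne_zero)
  refine ha.eq_of_constituent_of_one_eq hc h2 (sub_eq_zero.1 ?_) ▸ hc
  by_contra h5
  exact indFun_ne_zero (θ := a - c) h5 h4

section Rel

variable {K M : Subgroup G}

theorem isIrr_subgroupOf_iff (h : K ≤ M) {η : M → ℂ} :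
    IsIrrCharacter (K.subgroupOf M) (fun x => η x) ↔
      IsIrrCharacter K fun x => η ⟨x, h x.2⟩ :=
  ⟨fun e => e.comp_equiv (subgroupOfEquivOfLe h).symm, fun e => e.comp_equiv (subgroupOfEquivOfLe h)⟩

theorem classInner_subgroupOf (h : K ≤ M) [Fintype K] [Fintype (K.subgroupOf M)] (η : M → ℂ)
    (ψ : K → ℂ) : classInner (fun x : K.subgroupOf M => η x) (fun x => ψ (subgroupOfEquivOfLe h x)) =
      classInner (fun x : K => η ⟨x, h x.2⟩) ψ :=
  classInner_comp_equiv (subgroupOfEquivOfLe h).toEquiv (fun x : K => η ⟨x, h x.2⟩) ψ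

theorem sum_coset_rel [Finite G] [K.Normal] [Fintype K] (h : K ≤ M) {η : M → ℂ}
    (hη : IsCharacter M η) (hK : IsIrrCharacter K fun k => η ⟨k, h k.2⟩) (x : M) :
    ∑ k : K, ‖η (⟨k, h k.2⟩ * x)‖ ^ 2 = Nat.card K := by
  have := Fintype.ofFinite (K.subgroupOf M)
  have := sum_coset_norm_sq hη ((isIrr_subgroupOf_iff h).2 hK) x
  rw [Core.card_subgroupOf_of_le h] at this
  rw [← this]
  exact (Equiv.sum_comp (subgroupOfEquivOfLe h).toEquiv fun k : K =>
    ‖η (⟨k, h k.2⟩ * x)‖ ^ 2).symm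

theorem deg_rel [Finite G] [K.Normal] [Fintype K] (h : K ≤ M) {η : M → ℂ}
    (hη : IsIrrCharacter M η) {ψ : K → ℂ} (hψ : IsIrrCharacter K ψ)
    (hc : classInner (fun k : K => η ⟨k, h k.2⟩) ψ ≠ 0) :
    ∃ b : ℕ, b ∣ K.relIndex M ∧ η 1 = b * ψ 1 := by
  have := Fintype.ofFinite (K.subgroupOf M)
  simpa [relIndex] using hη.exists_degree_eq_mul (hψ.comp_equiv (subgroupOfEquivOfLe h))
    (by rwa [classInner_subgroupOf])

theorem exists_conjBy_rel [Finite G] [K.Normal] [Fintype K] (h : K ≤ M) {η : M → ℂ}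
    (hη : IsIrrCharacter M η) {φ ψ : K → ℂ} (hφ : IsIrrCharacter K φ) (hψ : IsIrrCharacter K ψ)
    (h1 : classInner (fun k : K => η ⟨k, h k.2⟩) φ ≠ 0)
    (h2 : classInner (fun k : K => η ⟨k, h k.2⟩) ψ ≠ 0) : ∃ g ∈ M, conjBy φ g = ψ := by
  have := Fintype.ofFinite (K.subgroupOf M)
  obtain ⟨g, hg⟩ := hη.exists_conjBy_eq (hφ.comp_equiv (subgroupOfEquivOfLe h))
    (hψ.comp_equiv (subgroupOfEquivOfLe h)) (by rwa [classInner_subgroupOf])
    (by rwa [classInner_subgroupOf])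
  exact ⟨g, g.2, funext fun k => congrFun hg ((subgroupOfEquivOfLe h).symm k)⟩

end Rel

theorem irr_restrict_of_stab [Finite G] {L : Subgroup G} [L.Normal] (hL : _root_.commutator G ≤ L)
    {θ : G → ℂ} (hθ : IsIrrCharacter G θ)
    (h : ∀ l : G →* ℂˣ, (∀ n ∈ L, l n = 1) → (∀ g, θ g ≠ 0 → l g = 1) → l = 1) :
    IsIrrCharacter L fun n => θ n := by
  classical
  have := Fintype.ofFinite G
  have := Fintype.ofFinite L
  refine (hθ.isCharacter.restrict L).isIrr_of_classInner_eq_one ?_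
  have hc : IsCharacter G (indFun L fun _ => 1) := isCharacter_one.indFun
  rw [← classInner_indFun_left _ _ hθ.isClassFunction, indFun_restrict _ hθ.isClassFunction,
    hc.isClassFunction.eq_sum_irr, Finset.sum_mul, classInner_sum_left,
    Finset.sum_eq_single (irrOne G)]
  · rw [classInner_indFun_left _ _ (irrOne G).2.isClassFunction, irrOne_coe,
      (isIrrCharacter_one (G := L)).classInner_self, one_smul]
    convert hθ.classInner_self
    exact one_mul θ
  · intro β _ hβ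
    by_cases e : classInner (indFun L fun _ => 1) β = 0
    · simp [e]
    have h1 := (classInner_indFun_one_ne_zero_iff β.2).1 e
    obtain ⟨l, hl⟩ := β.2.isCharacter.exists_hom (β.2.one_eq_one_of_commutator fun a b =>
      h1 _ (hL (commutator_mem_commutator (mem_top a) (mem_top b))))
    rw [smul_mul_assoc, classInner_smul_left, hl, mul_comm (fun g => (l g : ℂ)),
      (hθ.mul_hom l).classInner_of_ne hθ fun e => hβ (Subtype.ext ?_), mul_zero]
    rw [hl, h l (fun n hn => by simpa [hl] using h1 n hn) fun g hg => by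
      simpa [hg] using congrFun e g]
    rfl
  · simp

theorem s0857 [Fintype G] (K L : Subgroup G) [hK : K.Normal] [hL : L.Normal] (hLK : L < K)
    (hchief : ∀ M : Subgroup G, M.Normal → L ≤ M → M ≤ K → M = L ∨ M = K) (hab : ⁅K, K⁆ ≤ L)
    (θ : K → ℂ) (hθ : IsIrrCharacter K θ) (hinv : ∀ g, conjBy θ g = θ) :
    IsIrrCharacter L (fun x : L => θ ⟨(x : G), hLK.le x.2⟩) ∨
    (∃ (φ : L → ℂ) (e : ℕ), IsIrrCharacter L φ ∧
      (fun x : L => θ ⟨(x : G), hLK.le x.2⟩) = (e : ℂ) • φ ∧ e ^ 2 = L.relIndex K) ∨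
    (∃ F : Finset (L → ℂ), (∀ φ ∈ F, IsIrrCharacter L φ) ∧ F.card = L.relIndex K ∧
      (fun x : L => θ ⟨(x : G), hLK.le x.2⟩) = ∑ φ ∈ F, φ) := by
  classical
  have := Fintype.ofFinite K
  have := Fintype.ofFinite L
  have hc : _root_.commutator K ≤ L.subgroupOf K := commutator_le.2 fun a _ b _ =>
    hab (commutator_mem_commutator a.2 b.2)
  let V : Subgroup G := L ⊔ normalClosure {g | ∃ h : g ∈ K, θ ⟨g, h⟩ ≠ 0}
  rcases hchief V inferInstance le_sup_left (sup_le hLK.le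
    (normalClosure_le_normal fun g hg => hg.1)) with hV | hV
  · right
    have hv : ∀ k : K, k ∉ L.subgroupOf K → θ k = 0 := fun k hk => by_contra fun e =>
      hk (hV.le (mem_sup_right (subset_normalClosure ⟨k.2, e⟩)))
    have hθL : IsCharacter L fun x : L => θ ⟨(x : G), hLK.le x.2⟩ :=
      hθ.isCharacter.comp (inclusion hLK.le)
    obtain ⟨φ, hφ, h1⟩ := hθL.exists_irr_constituent fun e => hθ.one_ne_zero (congrFun e 1)
    have h2 : ∀ g, classInner (fun x : L => θ ⟨(x : G), hLK.le x.2⟩) (conjBy φ g) =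
        classInner (fun x : L => θ ⟨(x : G), hLK.le x.2⟩) φ := fun g => by
      rw [← classInner_conjBy _ φ g]
      congr 1
      exact funext fun n => (congrFun (hinv g) ⟨n, hLK.le n.2⟩).symm
    have h3 : ∀ g, ∃ k ∈ K, g * k⁻¹ ∈ inertia φ := fun g => by
      obtain ⟨k, hk, e⟩ := exists_conjBy_rel hLK.le hθ hφ (hφ.conjBy g) h1 (by rwa [h2])
      exact ⟨k, hk, conjBy_eq_iff.1 e.symm⟩
    have h4 : (K ⊓ inertia φ).Normal := ⟨fun x hx g => by
      obtain ⟨k, hk, e⟩ := h3 g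
      refine ⟨hK.conj_mem x hx.1 g, ?_⟩
      have e1 : k * x * k⁻¹ ∈ inertia φ := by
        convert mul_mem (le_inertia hφ.isClassFunction (hab (commutator_mem_commutator hk hx.1)))
          hx.2 using 1
        simp [commutatorElement_def]
      change g * x * g⁻¹ ∈ inertia φ
      convert mul_mem (mul_mem e e1) (inv_mem e) using 1
      group⟩
    obtain ⟨e, he⟩ := hθL.classInner_nat hφ.isCharacter
    rcases hchief _ h4 (le_inf hLK.le (le_inertia hφ.isClassFunction)) inf_le_left with h5 | h5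
    · right
      obtain ⟨ξ, hξ, h6, h7⟩ := exists_indS le_rfl hLK.le hφ h5.symm hθ h1
      obtain rfl : ξ = φ := hξ.eq_of_classInner_ne_zero hφ h6
      have h8 : e = 1 := by
        have := Fintype.ofFinite (L.subgroupOf K)
        rw [← classInner_subgroupOf, ← classInner_indFun_right _ _ hθ.isClassFunction, ← indS_eq,
          ← h7, hθ.classInner_self] at he
        exact_mod_cast he.symm
      have h9 : (fun x : L => θ ⟨(x : G), hLK.le x.2⟩) = ∑ φ ∈ conjOrbit ξ, φ := by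
        refine hθL.isClassFunction.ext_irr (isClassFunction_sum _ _ fun φ h => by
          obtain ⟨g, rfl⟩ := mem_conjOrbit.1 h; exact hξ.isClassFunction.conjBy g) fun ψ hψ => ?_
        rw [classInner_sum_left, Finset.sum_congr rfl (g := fun φ => if φ = ψ then 1 else 0)
          fun φ h => by
          obtain ⟨g, rfl⟩ := mem_conjOrbit.1 h; exact (hξ.conjBy g).classInner_eq hψ,
          Finset.sum_ite_eq']
        split_ifs with h
        · obtain ⟨g, rfl⟩ := mem_conjOrbit.1 h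
          rw [h2, he, h8, Nat.cast_one]
        · by_contra e
          obtain ⟨g, -, rfl⟩ := exists_conjBy_rel hLK.le hθ hξ hψ h1 e
          exact h (mem_conjOrbit.2 ⟨g, rfl⟩)
      refine ⟨_, fun φ h => by obtain ⟨g, rfl⟩ := mem_conjOrbit.1 h; exact hξ.conjBy g, ?_, h9⟩
      have := congrFun h9 1
      rw [Finset.sum_apply, Finset.sum_congr rfl (g := fun _ => ξ 1) fun φ h => by
        obtain ⟨g, rfl⟩ := mem_conjOrbit.1 h; simp, Finset.sum_const, nsmul_eq_mul] at this
      have e1 := indS_one hLK.le ξ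
      rw [← h7] at e1
      exact_mod_cast mul_right_cancel₀ hξ.one_ne_zero (this.symm.trans e1)
    · left
      have h6 := hθ.clifford_le hLK.le hφ (h5.ge.trans inf_le_right) h1
      rw [he] at h6
      have := Fintype.ofFinite (L.subgroupOf K)
      exact ⟨φ, e, hφ, h6, sq_eq_index_of_vanish hθ (hφ.comp_equiv (subgroupOfEquivOfLe hLK.le))
        (funext fun n => congrFun h6 (subgroupOfEquivOfLe hLK.le n)) hv⟩
  · left
    refine (isIrr_subgroupOf_iff hLK.le).1 (irr_restrict_of_stab hc hθ fun l h1 h2 => ?_)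
    have h3 : V ≤ l.ker.map K.subtype := by
      refine sup_le (fun x hx => ⟨⟨x, hLK.le hx⟩, h1 _ hx, rfl⟩) ((closure_le _).2 fun x hx => ?_)
      obtain ⟨y, ⟨hy, e⟩, h4⟩ := Group.mem_conjugatesOfSet_iff.1 hx
      obtain ⟨g, rfl⟩ := isConj_iff.1 h4
      exact ⟨⟨_, hK.conj_mem y hy g⟩, h2 _ (by
        rwa [show θ ⟨_, hK.conj_mem y hy g⟩ = θ ⟨y, hy⟩ from congrFun (hinv g) ⟨y, hy⟩]), rfl⟩
    ext k
    obtain ⟨k', h4, h5⟩ := h3 (hV.ge k.2)
    rw [← Subtype.ext h5, MonoidHom.mem_ker.1 h4]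
    rfl

theorem isSolvable_quot_comap {H : Type*} [Group H] (f : H →* G) {N : Subgroup G} [N.Normal]
    (hs : Group.IsSolvable (G ⧸ N)) : Group.IsSolvable (H ⧸ N.comap f) :=
  Group.isSolvable_of_isSolvable_injective (f := QuotientGroup.map _ N f le_rfl)
    ((injective_iff_map_eq_one _).2 fun x hx => by
      obtain ⟨x, rfl⟩ := QuotientGroup.mk_surjective x
      exact (QuotientGroup.eq_one_iff x).2 ((QuotientGroup.eq_one_iff (f x)).1 hx))

theorem commutator_le_of_chief' [Finite G] {N K L : Subgroup G} [N.Normal] [K.Normal] [L.Normal]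
    (hs : Group.IsSolvable (G ⧸ N)) (hNL : N ≤ L) (hLK : L < K)
    (hchief : ∀ M : Subgroup G, M.Normal → L ≤ M → M ≤ K → M = L ∨ M = K) : ⁅K, K⁆ ≤ L := by
  rcases hchief (L ⊔ ⁅K, K⁆) inferInstance le_sup_left (sup_le hLK.le (commutator_le_left _ _))
    with h | h
  · exact le_sup_right.trans h.le
  · have : Group.IsSolvable (G ⧸ L) := Group.isSolvable_of_surjective
      (f := QuotientGroup.map N L (MonoidHom.id G) hNL) fun x => by
        obtain ⟨x, rfl⟩ := QuotientGroup.mk_surjective x; exact ⟨x, rfl⟩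
    have h1 := Group.IsSolvable.commutator_lt_of_ne_bot (H := K.map (QuotientGroup.mk' L))
      fun e => hLK.not_ge (Core.map_mk'_eq_bot_iff.1 e)
    rw [← map_commutator] at h1
    exact absurd (Core.map_mk'_le_map_mk'_iff.2 (by rw [sup_comm, h])) h1.not_ge

theorem induced_of_not_irr [Fintype G] (N : Subgroup G) [N.Normal]
    (hs : Group.IsSolvable (G ⧸ N)) (hchief : ∀ K L : Subgroup G, K.Normal → L.Normal → N ≤ L →
      L < K → (∀ M : Subgroup G, M.Normal → L ≤ M → M ≤ K → M = L ∨ M = K) →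
      ¬ IsSquare (L.relIndex K)) {χ : G → ℂ} (hχ : IsIrrCharacter G χ)
    (h : ¬ IsIrrCharacter N fun n => χ n) :
    ∃ (T : Subgroup G) (ψ : T → ℂ), N ≤ T ∧ T ≠ ⊤ ∧ IsIrrCharacter T ψ ∧ indFun T ψ = χ := by
  classical
  obtain ⟨K, -, ⟨hK, hNK, h1⟩, h2⟩ := Core.exists_minimal_le (H := (⊤ : Subgroup G))
    (P := fun K => K.Normal ∧ N ≤ K ∧ IsIrrCharacter K fun n => χ n)
    ⟨inferInstance, le_top, hχ.comp_equiv topEquiv⟩
  obtain ⟨L, -, ⟨hL, hNL, hLK⟩, h3⟩ := Core.exists_maximal_ge (H := N)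
    (P := fun L => L.Normal ∧ N ≤ L ∧ L < K)
    ⟨inferInstance, le_rfl, lt_of_le_of_ne hNK fun e => h (e ▸ h1)⟩
  have h4 : ∀ M : Subgroup G, M.Normal → L ≤ M → M ≤ K → M = L ∨ M = K := fun M a b c =>
    (c.eq_or_lt.imp_right fun d => h3 M ⟨a, hNL.trans b, d⟩ b).symm
  rcases s0857 K L hLK h4 (commutator_le_of_chief' hs hNL hLK h4) _ h1
    (conjBy_restrict hχ.isClassFunction) with h5 | ⟨φ, e, -, -, h5⟩ | ⟨F, h5, h6, h7⟩
  · exact absurd (h2 L ⟨hL, hNL, h5⟩ hLK.le) hLK.ne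
  · exact absurd ⟨e, by rw [← h5, sq]⟩ (hchief K L hK hL hNL hLK h4)
  · obtain ⟨T, ψ, a, b⟩ := (hχ.homogeneous_or_induced L).resolve_left fun ⟨θ, e, hθ, h8⟩ => by
      have := Fintype.ofFinite L
      have h9 : ∀ φ ∈ F, φ = θ := fun φ hφ => by
        refine (hθ.eq_of_classInner_ne_zero (h5 φ hφ) fun e1 => ?_).symm
        have := congrArg (classInner · φ) (h7.symm.trans h8)
        simp only [classInner_sum_left, classInner_smul_left, e1, mul_zero] at this
        rw [Finset.sum_congr rfl fun ψ h => (h5 ψ h).classInner_eq (h5 φ hφ), Finset.sum_ite_eq',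
          if_pos hφ] at this
        exact one_ne_zero this
      have := Finset.card_le_one.2 fun a ha b hb => (h9 a ha).trans (h9 b hb).symm
      have := Core.relIndex_pos L K
      exact hLK.not_ge (relIndex_eq_one.1 (by omega))
    exact ⟨T, ψ, hNL.trans a, b⟩

theorem exists_min_ind [Fintype G] {χ : G → ℂ} {P : ∀ H : Subgroup G, (H → ℂ) → Prop}
    (h : P ⊤ fun g => χ g) (hχ : IsIrrCharacter G χ) :
    ∃ (H : Subgroup G) (ψ : H → ℂ), IsIrrCharacter H ψ ∧ indFun H ψ = χ ∧ P H ψ ∧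
      ∀ [Fintype H] (T : Subgroup H) (ξ : T → ℂ), IsIrrCharacter T ξ → indFun T ξ = ψ →
        P (T.map H.subtype) (fun x => ξ ((T.equivMapOfInjective H.subtype
          H.subtype_injective).symm x)) → T = ⊤ := by
  obtain ⟨H, -, ⟨ψ, h1, h2, h3⟩, h4⟩ := Core.exists_minimal_le (H := (⊤ : Subgroup G))
    (P := fun H => ∃ ψ : H → ℂ, IsIrrCharacter H ψ ∧ indFun H ψ = χ ∧ P H ψ)
    ⟨_, hχ.comp_equiv topEquiv, funext (indFun_top _ (hχ.isClassFunction.restrict ⊤)), h⟩
  refine ⟨H, ψ, h1, h2, h3, fun T ξ a b c => map_injective H.subtype_injective ?_⟩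
  rw [← MonoidHom.range_eq_map, range_subtype]
  exact h4 _ ⟨_, a.comp_equiv _, by rw [← indFun_indFun_map, b, h2], c⟩ (map_subtype_le T)

theorem s0858 [Fintype G] (N : Subgroup G) [N.Normal] (hsolv : Group.IsSolvable (G ⧸ N))
    (hchief : ∀ (H K L : Subgroup G), N ≤ L → L < K → K ≤ H → (∀ h ∈ H, ∀ k ∈ K, h * k * h⁻¹ ∈ K) →
      (∀ h ∈ H, ∀ l ∈ L, h * l * h⁻¹ ∈ L) → (∀ M : Subgroup G, L ≤ M → M ≤ K →
        (∀ h ∈ H, ∀ m ∈ M, h * m * h⁻¹ ∈ M) → M = L ∨ M = K) → ¬ IsSquare (L.relIndex K))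
    (χ : G → ℂ) (hχ : IsIrrCharacter G χ) :
    ∃ (H : Subgroup G) (hNH : N ≤ H) (ψ : H → ℂ), IsIrrCharacter H ψ ∧ indFun H ψ = χ ∧
      IsIrrCharacter N (fun n : N => ψ ⟨(n : G), hNH n.2⟩) := by
  obtain ⟨H, ψ, h1, h2, h3, h4⟩ := exists_min_ind (P := fun H _ => N ≤ H) le_top hχ
  have := Fintype.ofFinite H
  refine ⟨H, h3, ψ, h1, h2, (isIrr_subgroupOf_iff h3).1 (by_contra fun h => ?_)⟩
  have hm : ∀ K : Subgroup H, K.Normal → ∀ h ∈ H, ∀ k ∈ K.map H.subtype,
      h * k * h⁻¹ ∈ K.map H.subtype := by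
    rintro K hK h hh _ ⟨k, hk, rfl⟩
    exact ⟨_, hK.conj_mem k hk ⟨h, hh⟩, rfl⟩
  obtain ⟨T, ξ, a, b, c, d⟩ := induced_of_not_irr (N.subgroupOf H)
    (isSolvable_quot_comap H.subtype hsolv) (fun K L hK hL e1 e2 e3 => by
      rw [← relIndex_map_map_of_injective L K H.subtype_injective]
      refine hchief H _ _ ((map_subgroupOf_eq_of_le h3).ge.trans (map_mono e1))
        ((map_lt_map_iff_of_injective H.subtype_injective).2 e2) (map_subtype_le _) (hm K hK)
        (hm L hL) fun M f1 f2 f3 => ?_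
      have f4 := f2.trans (map_subtype_le _)
      refine (e3 (M.subgroupOf H) ⟨fun m hm h => f3 h h.2 m hm⟩ (map_le_iff_le_comap.1 f1)
        ((map_le_map_iff_of_injective H.subtype_injective).1 (by
          rwa [map_subgroupOf_eq_of_le f4]))).imp (fun e => ?_) fun e => ?_ <;>
        rw [← e, map_subgroupOf_eq_of_le f4]) h1 h
  exact b (h4 T ξ c d ((map_subgroupOf_eq_of_le h3).ge.trans (map_mono a)))

theorem irr_inf_of_indFun [Fintype G] {V M W : Subgroup G} (hV : W ≤ V) (hM : W ≤ M)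
    (hW : V ⊓ M ≤ W) {γ : V → ℂ} (hγ : IsIrrCharacter V γ)
    (h : IsIrrCharacter M fun m => indFun V γ m) : IsIrrCharacter W fun w => γ ⟨w, hV w.2⟩ := by
  have := Fintype.ofFinite V
  have := Fintype.ofFinite M
  have := Fintype.ofFinite W
  have := Fintype.ofFinite (W.subgroupOf M)
  have h1 : IsCharacter W fun w => γ ⟨w, hV w.2⟩ := hγ.isCharacter.comp (inclusion hV)
  obtain ⟨δ, hδ, h2⟩ := h1.exists_irr_constituent fun e => hγ.one_ne_zero (congrFun e 1)
  have h3 := ((hγ.isCharacter.indFun.restrict V).sub_irr hγ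
    (classInner_restrict_indFun_ne_zero hγ.isCharacter hγ.ne_zero)).comp (inclusion hV)
  have h4 := classInner_add_ne_zero_left h1 h3 hδ.isCharacter h2
  have h5 : classInner (indFun (W.subgroupOf M) fun x => δ (subgroupOfEquivOfLe hM x))
      (fun m : M => indFun V γ m) ≠ 0 := by
    rw [Ne, classInner_eq_zero_comm, classInner_indFun_right _ _ h.isClassFunction,
      classInner_subgroupOf hM fun m => indFun V γ m]
    convert h4 using 3
    ext x
    exact (add_sub_cancel (γ ⟨x, hV x.2⟩) _).symm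
  have h6 := (hδ.comp_equiv (subgroupOfEquivOfLe hM)).isCharacter.indFun.degree_le_of_constituent
    h h5
  obtain ⟨a, ha0, ha⟩ := hγ.exists_nat
  obtain ⟨b, hb0, hb⟩ := hδ.exists_nat
  have h7 := h1.degree_le_of_constituent hδ h2
  have e : γ ⟨(1 : W), hV (1 : W).2⟩ = a := ha
  simp only [indFun_one, OneMemClass.coe_one, map_one, ha, hb] at h6
  rw [e, hb] at h7
  norm_cast at h6 h7
  have h8 : W.relIndex M ≤ V.index := by
    rw [show W = V ⊓ M from le_antisymm (le_inf hV hM) hW, inf_relIndex_right, ← relIndex_top_right]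
    exact relIndex_le_of_le_right le_top (Core.relIndex_pos V ⊤).ne'
  have h9 : a ≤ b := Nat.le_of_mul_le_mul_left (h6.trans (Nat.mul_le_mul_right b h8))
    (Core.index_pos V)
  rwa [h1.eq_of_constituent_of_one_eq hδ h2 (by rw [e, hb, le_antisymm h9 h7])]

theorem comm_of_nilpotent_of_sylow [Finite G] {F : Subgroup G} (hF : Group.IsNilpotent F)
    (h : ∀ p : ℕ, p.Prime → ∀ Q ≤ F, IsPGroup p Q → ∀ a ∈ Q, ∀ b ∈ Q, a * b = b * a) :
    ∀ a ∈ F, ∀ b ∈ F, a * b = b * a := by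
  have e := (Group.isNilpotent_of_finite_tfae (G := F)).out 0 4
  obtain ⟨e⟩ := e.1 hF
  intro a ha b hb
  refine congrArg Subtype.val (e.symm.injective ?_ : (⟨a, ha⟩ * ⟨b, hb⟩ : F) = ⟨b, hb⟩ * ⟨a, ha⟩)
  rw [map_mul, map_mul]
  ext p P
  exact h p (Nat.prime_of_mem_primeFactors p.2) _ (map_subtype_le _) (P.2.map F.subtype) _
    (mem_map_of_mem _ (e.symm ⟨a, ha⟩ p P).2) _ (mem_map_of_mem _ (e.symm ⟨b, hb⟩ p P).2)

theorem one_of_primitive [Fintype G] [Group.IsSolvable G] (M : Subgroup G) [M.Normal]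
    (h : ∀ p : ℕ, p.Prime → ∀ Q ≤ M, IsPGroup p Q → ∀ a ∈ Q, ∀ b ∈ Q, a * b = b * a)
    {β : G → ℂ} (hβ : IsIrrCharacter G β) (hM : IsIrrCharacter M fun m => β m)
    (hp : ∀ (T : Subgroup G) (ξ : T → ℂ), IsIrrCharacter T ξ → indFun T ξ = β → T = ⊤) :
    β 1 = 1 := by
  have := hβ.isClassFunction.charKer_normal
  let f := QuotientGroup.mk' (charKer β)
  have hf : Function.Surjective f := QuotientGroup.mk'_surjective _
  have hk : ∀ a b, f a * f b = f b * f a ↔ β (a * b * a⁻¹ * b⁻¹) = β 1 := fun a b => by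
    rw [← hβ.isCharacter.mem_charKer, ← QuotientGroup.eq_one_iff, ← mul_inv_eq_iff_eq_mul,
      ← mul_inv_eq_one]
    rfl
  have := (inferInstance : M.Normal).map f hf
  let F := fittingSubgroup (G ⧸ charKer β) ⊓ M.map f
  have h1 := comm_of_nilpotent_of_sylow (F := F) (Core.isNilpotent_of_le Core.fitting_isNilpotent
    inf_le_left) fun p hp Q hQ h1 => by
      have := Fact.mk hp
      obtain ⟨P, hP⟩ := PLoc.exists_isSylowOf p M
      obtain ⟨g, -, hg⟩ := (hP.map f).exists_cj_le h1 (hQ.trans inf_le_right)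
      intro a ha b hb
      obtain ⟨x, hx, e1⟩ := hg (PLoc.conj_mem_cj.2 ha)
      obtain ⟨y, hy, e2⟩ := hg (PLoc.conj_mem_cj.2 hb)
      have := congrArg f (h p hp P hP.le hP.isP x hx y hy)
      rw [map_mul, map_mul, e1, e2, conj_mul, conj_mul] at this
      simpa using this
  have h2 : ∀ a ∈ F, ∀ g, a * g = g * a := by
    by_contra! h2
    obtain ⟨a, ha, g, h2⟩ := h2
    obtain ⟨a, rfl⟩ := hf a
    obtain ⟨g, rfl⟩ := hf g
    obtain ⟨T, ξ, -, h3, h4, h5⟩ := hβ.induced_of_abelian_mod_ker (F.comap f)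
      (fun a ha b hb => (hk a b).1 (h1 _ ha _ hb)) ⟨a, ha, g, fun e => h2 ((hk a g).2 e)⟩
    exact h3 (hp T ξ h4 h5)
  have h3 : M.map f ≤ F := by
    have := Core.centralizer_fitting_le (G := M.map f)
    rw [show F = _ from (Core.map_subtype_fitting_of_normal (M.map f)).symm]
    intro x hx
    refine ⟨⟨x, hx⟩, this fun y hy => Subtype.ext (h2 _ ?_ x), rfl⟩
    rw [show F = _ from (Core.map_subtype_fitting_of_normal (M.map f)).symm]
    exact mem_map_of_mem _ hy
  exact hM.one_eq_one_of_commutator fun a b => (hk a b).1 (h2 _ (h3 (mem_map_of_mem f a.2)) _)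

theorem s0859 [Fintype G] [Group.IsSolvable G] (N : Subgroup G) [N.Normal]
    (hab : ∀ (p : ℕ) [Fact p.Prime] (P : Sylow p N), ∀ a ∈ P, ∀ b ∈ P, a * b = b * a)
    {χ : G → ℂ} {H : Subgroup G} (hNH : N ≤ H) {ψ : H → ℂ} (h1 : IsIrrCharacter H ψ)
    (h2 : indFun H ψ = χ) (h3 : IsIrrCharacter N (fun n : N => ψ ⟨(n : G), hNH n.2⟩)) :
    ∃ (U : Subgroup G) (lam : U → ℂ), IsCharacter U lam ∧ lam 1 = 1 ∧ indFun U lam = χ := by
  have := Fintype.ofFinite H
  obtain ⟨U, β, a, b, c, d⟩ := exists_min_ind (χ := ψ)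
    (P := fun U β => IsIrrCharacter ((N.subgroupOf H).subgroupOf U) fun x => β x)
    (((isIrr_subgroupOf_iff hNH).2 h3).comp_equiv (subgroupOfEquivOfLe le_top)) h1
  have := Fintype.ofFinite U
  have e := one_of_primitive ((N.subgroupOf H).subgroupOf U) (fun p hp Q hQ h4 x hx y hy => by
    have := Fact.mk hp
    let f : Q →* N := (H.subtype.comp (U.subtype.comp Q.subtype)).codRestrict N fun x => hQ x.2
    obtain ⟨P, hP⟩ := (h4.of_surjective _ f.rangeRestrict_surjective).exists_le_sylow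
    have := hab p P _ (hP ⟨⟨x, hx⟩, rfl⟩) _ (hP ⟨⟨y, hy⟩, rfl⟩)
    exact Subtype.ext (Subtype.ext (congrArg (fun n : N => (n : G)) this))) a c fun T ξ h4 h5 => d T ξ h4 h5 (by
      have := irr_inf_of_indFun (W := T ⊓ (N.subgroupOf H).subgroupOf U) inf_le_left inf_le_right
        le_rfl h4 (h5 ▸ c)
      let j := T.equivMapOfInjective U.subtype U.subtype_injective
      refine this.comp_of_surjective (H := (N.subgroupOf H).subgroupOf (T.map U.subtype))
        ((T.subtype.comp (j.symm.toMonoidHom.comp (Subgroup.subtype _))).codRestrict _ fun x =>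
          ⟨(j.symm x).2, ?_⟩) fun y => ⟨⟨j ⟨y, y.2.1⟩, y.2.2⟩, Subtype.ext ?_⟩
      · have := x.2
        rw [mem_subgroupOf, ← j.apply_symm_apply x] at this
        exact this
      · simp)
  exact ⟨_, _, (a.comp_equiv (U.equivMapOfInjective H.subtype H.subtype_injective).symm).isCharacter,
    by simpa using e, by rw [← indFun_indFun_map, b, h2]⟩

end Cfsg.Agent.Char
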