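import Cfsg.Agent.Char.Prim

/-! Quasi-primitive characters of solvable groups (Berger). -/

set_option autoImplicit false
set_option linter.unusedSectionVars false

namespace Cfsg.Agent.Char

open Cfsg Subgroup
open scoped ComplexConjugate

variable {G : Type*} [Group G]

theorem exists_chief [Finite G] {N : Subgroup G} [N.Normal] (hN : N ≠ ⊤)
    (hs : Group.IsSolvable (G ⧸ N)) : ∃ M : Subgroup G, M.Normal ∧ N < M ∧ ⁅M, M⁆ ≤ N ∧
      ∃ p k : ℕ, p.Prime ∧ N.relIndex M = p ^ k := by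
  have := QuotientGroup.nontrivial_iff.2 hN
  obtain ⟨M, p, h1, h2, h3, h4⟩ := Core.exists_minNormal_elementaryAbelian (G := G ⧸ N)
  have := h1.1
  have := Fact.mk h2
  obtain ⟨k, hk⟩ := IsPGroup.iff_card.1 h4
  refine ⟨M.comap (QuotientGroup.mk' N), inferInstance, lt_of_le_of_ne (Core.le_comap_mk' N M)
    fun e => h1.2.1 ?_, ?_, p, k, h2, by rw [← Core.card_map_mk', Core.map_comap_mk', hk]⟩
  · rw [← Core.map_comap_mk' N M, ← e, Core.map_mk'_eq_bot_iff]
  · rw [← Core.map_mk'_eq_bot_iff, map_commutator, Core.map_comap_mk', commutator_self_eq_bot_iff]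
    exact h1.isMulCommutative inferInstance

theorem sum_normal_indFun [Fintype G] {H M N : Subgroup G} [hM : M.Normal] [Fintype M] [Fintype N]
    (hNH : N ≤ H) (hN : ∀ x, x ∈ N ↔ x ∈ M ∧ x ∈ H) (θ : H → ℂ) {f : G → ℂ}
    (hf : IsClassFunction G f) : ∑ m : M, indFun H θ m * conj (f m) =
      H.index * ∑ n : N, θ ⟨n, hNH n.2⟩ * conj (f n) := by
  classical
  have := Fintype.ofFinite H
  have := Fintype.ofFinite (N.subgroupOf H)
  let F : G → ℂ := fun g => if g ∈ M then f g else 0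
  have hF : IsClassFunction G F := fun g x => by
    simp only [F, hM.mem_comm_iff (a := x * g), inv_mul_cancel_left, hf g x]
  have h1 := card_mul_classInner (indFun H θ) F
  rw [classInner_indFun_left H θ hF, ← H.index_mul_card, Nat.cast_mul, mul_assoc,
    card_mul_classInner, sum_eq_sum_subgroup (H := M) fun g hg => by simp [F, hg],
    sum_eq_sum_subgroup (H := N.subgroupOf H) fun g hg => by
      simp [F, show (g : G) ∉ M from fun e => hg ((hN g).2 ⟨e, g.2⟩)],
    ← Equiv.sum_comp (subgroupOfEquivOfLe hNH).symm.toEquiv] at h1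
  simp only [F, SetLike.coe_mem, if_true] at h1
  rw [← h1]
  congr 1
  exact Finset.sum_congr rfl fun n _ => by
    rw [if_pos (show (((subgroupOfEquivOfLe hNH).symm.toEquiv n : H) : G) ∈ M from ((hN n).1 n.2).1)]
    rfl

/-- `χ` restricted to `M` is a multiple of an irreducible character -/
def Homog (χ : G → ℂ) (M : Subgroup G) : Prop :=
  ∃ (φ : M → ℂ) (e : ℕ), IsIrrCharacter M φ ∧ (fun m : M => χ m) = (e : ℂ) • φ

theorem inf_normal_of {H K L : Subgroup G} [K.Normal] (h : H ⊔ K = ⊤) (hL : L ≤ H)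
    {N : Subgroup G} (hN : H ≤ normalizer (N : Set G)) (h1 : ⁅K, N⁆ ≤ L) (h2 : L ≤ N) : N.Normal :=
  Core.normal_of_sup_eq_top h hN (le_normalizer_iff.2 fun k hk n hn => by
    convert mul_mem (h2 (h1 (commutator_mem_commutator hk hn))) hn using 1
    simp [commutatorElement_def])

theorem card_eq_index_mul [Finite G] {H M : Subgroup G} [M.Normal] (h : H ⊔ M = ⊤) :
    Nat.card M = H.index * Nat.card (M ⊓ H : Subgroup G) := by
  have h1 := Core.card_inf_mul_relIndex M H
  rw [← relIndex_sup_right, h, relIndex_top_right] at h1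
  have h2 := M.card_mul_index
  rw [← H.index_mul_card, ← h1, ← mul_assoc] at h2
  exact Nat.eq_of_mul_eq_mul_right (Nat.pos_of_ne_zero index_ne_zero_of_finite) h2

theorem sum_of_homog {M : Subgroup G} [Fintype M] {χ : G → ℂ} {η : M → ℂ} {f : ℕ}
    (hη : IsIrrCharacter M η) (h : (fun m : M => χ m) = (f : ℂ) • η) :
    ∑ m : M, χ m * conj (χ m) = Nat.card M * f ^ 2 := by
  rw [← card_mul_classInner (fun m : M => χ m) (fun m : M => χ m), h, classInner_smul_left,
    classInner_smul_right, hη.classInner_self]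
  simp [sq]

theorem sum_norm_ext [Fintype G] {H L N : Subgroup G} [L.Normal] [Fintype N] (hLH : L ≤ H)
    (hLN : L ≤ N) {θ : H → ℂ} (hθ : IsCharacter H θ)
    (hθL : IsIrrCharacter L (fun x => θ ⟨(x : G), hLH x.2⟩)) (g : G) :
    ∑ y : N, ‖extendByZero H θ (g * y * g⁻¹)‖ ^ 2 =
      Nat.card (N ⊓ H.comap (MulAut.conj g).toMonoidHom : Subgroup G) := by
  classical
  set D := N ⊓ H.comap (MulAut.conj g).toMonoidHom
  have := Fintype.ofFinite D
  have hLD : L ≤ D := le_inf hLN fun x hx => hLH (Normal.conj_mem inferInstance x hx g)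
  let f : D →* H := ((MulAut.conj g).toMonoidHom.comp D.subtype).codRestrict H fun x => x.2.2
  have h1 := card_mul_classInner (fun x => θ (f x)) (fun x => θ (f x))
  rw [((hθ.comp f).isIrr_of_comp (inclusion hLD) (hθL.conjBy g)).classInner_self, mul_one] at h1
  let F : G → ℂ := fun y => if y ∈ N then ‖extendByZero H θ (g * y * g⁻¹)‖ ^ 2 else 0
  have h2 := sum_eq_sum_subgroup (H := N) (F := F) fun y hy => if_neg hy
  rw [sum_eq_sum_subgroup (H := D) fun y hy => by
    simp only [F]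
    split_ifs with e
    · rw [extendByZero_of_not_mem H θ (x := g * y * g⁻¹) fun e' => hy ⟨e, e'⟩]; simp
    · rfl] at h2
  simp only [F, SetLike.coe_mem, if_true] at h2
  apply Complex.ofReal_injective
  push_cast
  rw [← h2, h1]
  exact Finset.sum_congr rfl fun y _ => by
    rw [if_pos (show (y : G) ∈ N from y.2.1), Complex.mul_conj', extendByZero_of_mem H θ (x := g * y * g⁻¹) y.2.2]; rfl

theorem le_core_of_sum [Fintype G] {H L N : Subgroup G} [L.Normal] [Fintype N] (hLH : L ≤ H)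
    (hLN : L ≤ N) (hNH : N ≤ H) {θ : H → ℂ} (hθ : IsCharacter H θ)
    (hθL : IsIrrCharacter L (fun x => θ ⟨(x : G), hLH x.2⟩))
    (h : ∑ n : N, θ ⟨n, hNH n.2⟩ * conj (indFun H θ n) = H.index * Nat.card N) :
    N ≤ H.normalCore := by
  intro x hx g
  by_contra hg
  have h0 := sum_norm_ext hLH hLN hθ hθL 1
  simp only [one_mul, inv_one, mul_one] at h0
  have h1 : ∀ g : G, 2 * (∑ n : N, θ ⟨n, hNH n.2⟩ * conj (extendByZero H θ (g * n * g⁻¹))).re ≤
      Nat.card (N ⊓ H.comap (MulAut.conj (1 : G)).toMonoidHom : Subgroup G) +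
      Nat.card (N ⊓ H.comap (MulAut.conj g).toMonoidHom : Subgroup G) := fun g => by
    rw [← h0, ← sum_norm_ext hLH hLN hθ hθL g, Complex.re_sum, Finset.mul_sum, ← Finset.sum_add_distrib]
    refine Finset.sum_le_sum fun n _ => ?_
    rw [extendByZero_of_mem H θ (hNH n.2)]
    have := Complex.re_le_norm (θ ⟨n, hNH n.2⟩ * conj (extendByZero H θ (g * n * g⁻¹)))
    rw [norm_mul, RCLike.norm_conj] at this
    nlinarith [sq_nonneg (‖θ ⟨n, hNH n.2⟩‖ - ‖extendByZero H θ (g * n * g⁻¹)‖)]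
  have h2 : ∀ g : G, (Nat.card (N ⊓ H.comap (MulAut.conj g).toMonoidHom : Subgroup G) : ℝ) ≤
      Nat.card N := fun g => by exact_mod_cast card_le_of_le inf_le_left
  have h3 : (Nat.card (N ⊓ H.comap (MulAut.conj g).toMonoidHom : Subgroup G) : ℝ) < Nat.card N := by
    exact_mod_cast Core.card_lt_of_lt (lt_of_le_of_ne inf_le_left fun e => hg (e.ge hx).2)
  have h4 := Finset.sum_lt_sum (s := Finset.univ) (g := fun _ : G => (Nat.card N : ℝ))
    (f := fun g : G => (∑ n : N, θ ⟨n, hNH n.2⟩ * conj (extendByZero H θ (g * n * g⁻¹))).re)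
    (fun g _ => by linarith [h1 g, h2 g, h2 1]) ⟨g, Finset.mem_univ _, by linarith [h1 g, h2 1]⟩
  rw [← Complex.re_sum, Finset.sum_comm] at h4
  simp only [indFun_apply', map_mul, map_inv₀, map_natCast, map_sum,
    mul_left_comm _ (Nat.card H : ℂ)⁻¹] at h
  rw [← Finset.mul_sum, inv_mul_eq_iff_eq_mul₀ (card_ne_zero H), ← mul_assoc, ← Nat.cast_mul,
    H.card_mul_index] at h
  simp only [← Finset.mul_sum, h] at h4
  simp at h4

theorem exists_compl [Finite G] {H : Subgroup G} (hmax : IsCoatom H)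
    (hsolv : Group.IsSolvable (G ⧸ H.normalCore)) : ∃ K : Subgroup G, K.Normal ∧ H.normalCore < K ∧
      H ⊔ K = ⊤ ∧ (∀ x, x ∈ H.normalCore ↔ x ∈ K ∧ x ∈ H) ∧
      ∃ p a : ℕ, p.Prime ∧ H.normalCore.relIndex K = p ^ a := by
  set L := H.normalCore
  have hLH : L ≤ H := H.normalCore_le
  have hc : ∀ N : Subgroup G, N.Normal → N ≤ H → N ≤ L := fun N _ h => normal_le_normalCore.2 h
  obtain ⟨K, hK, hLK, hKK, p, a, hp, ha⟩ := exists_chief (N := L)
    (fun e => hmax.1 (top_le_iff.1 (e.ge.trans hLH))) hsolv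
  have hHK : H ⊔ K = ⊤ := hmax.2 _ (left_lt_sup.2 fun e => hLK.not_ge (hc K hK e))
  exact ⟨K, hK, hLK, hHK, fun x => ⟨fun h => ⟨hLK.le h, hLH h⟩,
    fun h => hc (K ⊓ H) (inf_normal_of hHK hLH (Core.le_normalizer_inf le_normalizer_of_normal
      le_normalizer) ((commutator_mono le_rfl inf_le_left).trans hKK) (le_inf hLK.le hLH))
      inf_le_right h⟩, p, a, hp, ha⟩

theorem exists_not_homog [Fintype G] {H : Subgroup G} (hmax : IsCoatom H)
    (hsolv : Group.IsSolvable (G ⧸ H.normalCore)) {θ : H → ℂ} (hθ : IsIrrCharacter H θ)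
    (hθL : IsIrrCharacter H.normalCore (fun x => θ ⟨(x : G), H.normalCore_le x.2⟩))
    (hind : IsIrrCharacter G (indFun H θ)) :
    ∃ M : Subgroup G, M.Normal ∧ H.normalCore ≤ M ∧ ¬ Homog (indFun H θ) M := by
  classical
  by_contra! hq
  set L := H.normalCore
  set χ := indFun H θ with hχ
  have hLH : L ≤ H := H.normalCore_le
  have hc : ∀ N : Subgroup G, N.Normal → N ≤ H → N ≤ L := fun N _ h => normal_le_normalCore.2 h
  obtain ⟨K, hK, hLK, hHK, hKH, p, a, hp, ha⟩ := exists_compl hmax hsolv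
  have hcK := card_eq_index_mul hHK
  rw [← show L = K ⊓ H from ext hKH] at hcK
  have hn : H.index = p ^ a := by
    have := Core.card_mul_relIndex hLK.le
    rw [hcK, ha, mul_comm] at this
    exact (Nat.eq_of_mul_eq_mul_right Nat.card_pos this).symm
  have := Fintype.ofFinite K
  have := Fintype.ofFinite L
  obtain ⟨ψ, e, hψ, he⟩ := hq K hK hLK.le
  obtain ⟨φ, c, hφ, hc'⟩ := hq L inferInstance le_rfl
  have i0 : (H.index : ℂ) ≠ 0 := Nat.cast_ne_zero.2 index_ne_zero_of_finite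
  have e0 : e ≠ 0 := by
    rintro rfl
    exact hind.one_ne_zero (by simpa using congrFun he 1)
  have hee : e ^ 2 = H.index := by
    have h1 := sum_normal_indFun hLH hKH θ hind.isClassFunction
    rw [sum_of_homog hψ he, hcK, ← card_mul_classInner (fun x : L => θ ⟨(x : G), hLH x.2⟩)
      (fun m : L => χ m), hc', classInner_smul_right, hθL.classInner_eq hφ] at h1
    have h2 : (e : ℂ) ^ 2 = conj (c : ℂ) * if (fun x : L => θ ⟨(x : G), hLH x.2⟩) = φ then 1 else 0 := by
      push_cast at h1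
      rw [mul_assoc] at h1
      exact mul_left_cancel₀ (card_ne_zero L) (mul_left_cancel₀ i0 h1)
    split_ifs at h2 with h3
    · have h4 := congrFun hc' 1
      rw [← h3] at h4
      have h5 : χ 1 = c * θ 1 := h4
      rw [hχ, indFun_one] at h5
      rw [← mul_right_cancel₀ hθ.one_ne_zero h5, map_natCast, mul_one] at h2
      exact_mod_cast h2
    · simp [e0] at h2
  have hKt : K ≠ ⊤ := by
    rintro rfl
    have h1 := sum_of_homog hψ he
    rw [← card_mul_classInner (fun m : (⊤ : Subgroup G) => χ m) (fun m : (⊤ : Subgroup G) => χ m),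
      IsIrrCharacter.classInner_self (χ := fun m : (⊤ : Subgroup G) => χ m) (hind.comp_equiv topEquiv),
      ← Nat.cast_pow, hee] at h1
    exact hmax.1 (index_eq_one.1 (by exact_mod_cast (mul_left_cancel₀ (card_ne_zero _) h1).symm))
  obtain ⟨M, hM, hKM, -, q, b, hq', hb⟩ := exists_chief hKt
    (Group.isSolvable_of_surjective (f := QuotientGroup.map L K (MonoidHom.id G) hLK.le)
      (QuotientGroup.map_surjective_of_surjective _ _ _ QuotientGroup.mk_surjective _))
  have hLM := hLK.le.trans hKM.le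
  have hcM := card_eq_index_mul (eq_top_iff.2 (hHK.ge.trans (sup_le_sup_left hKM.le H)))
  have hN : ¬ M ⊓ H ≤ L := fun h => by
    have h1 := card_le_of_le h
    have h2 := Core.card_lt_of_lt hKM
    rw [hcK, hcM] at h2
    exact absurd (Nat.lt_of_mul_lt_mul_left h2) h1.not_gt
  by_cases hpq : q = p
  · subst hpq
    have := Fact.mk hp
    have h1 : IsPGroup q (M.map (QuotientGroup.mk' L)) := IsPGroup.of_card (n := a + b) (by
      rw [Core.card_map_mk', ← relIndex_mul_relIndex L K M hLK.le hKM.le, ha, hb, pow_add])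
    have h2 := comap_map_eq_self (f := QuotientGroup.mk' L) (H := M ⊓ H)
      (by rw [QuotientGroup.ker_mk']; exact le_inf hLM hLH)
    have h3 := comap_map_eq_self (f := QuotientGroup.mk' L) (H := M)
      (by rw [QuotientGroup.ker_mk']; exact hLM)
    obtain ⟨_, ⟨x, hx, rfl⟩, h4, h5⟩ := PLoc.exists_mem_normalizer_not_mem h1
      (Q := (M ⊓ H).map (QuotientGroup.mk' L)) (lt_of_le_of_ne (map_mono inf_le_left) fun e => by
        rw [e, h3] at h2
        exact hLK.not_ge (hc K hK (hKM.le.trans (h2.le.trans inf_le_right))))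
    have h6 : x ∈ normalizer ((M ⊓ H : Subgroup G) : Set G) := h2 ▸ le_normalizer_comap _ h4
    refine hN (hc _ (normalizer_eq_top_iff.1 (hmax.2 _ (lt_of_le_of_ne
      (Core.le_normalizer_inf le_normalizer_of_normal le_normalizer) fun e => ?_))) inf_le_right)
    exact h5 (mem_map_of_mem _ ⟨hx, e.ge h6⟩)
  have := Fintype.ofFinite M
  have := Fintype.ofFinite (M ⊓ H : Subgroup G)
  obtain ⟨η, f, hη, hf⟩ := hq M hM hLM
  have h1 : (e : ℂ) • ψ = (f : ℂ) • fun k : K => η ⟨k, hKM.le k.2⟩ :=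
    he.symm.trans (funext fun k => congrFun hf ⟨k, hKM.le k.2⟩)
  obtain ⟨d, hd, hd'⟩ := deg_rel hKM.le hη hψ fun h0 => by
    have := congrArg (classInner · ψ) h1
    simp only [classInner_smul_left, h0, hψ.classInner_self] at this
    exact e0 (by simpa using this)
  have h2 : e = f * d := by
    have h3 : (e : ℂ) * ψ 1 = f * η 1 := congrFun h1 1
    rw [hd', ← mul_assoc] at h3
    exact_mod_cast mul_right_cancel₀ hψ.one_ne_zero h3
  have h3 : d = 1 := Nat.eq_one_of_dvd_coprimes (Nat.Coprime.pow b a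
    ((Nat.coprime_primes hq' hp).2 hpq)) (hb ▸ hd)
    (by rw [← hn, ← hee, h2]; exact (dvd_mul_left d f).trans (dvd_pow_self _ two_ne_zero))
  rw [h3, mul_one] at h2
  have h4 := sum_normal_indFun (M := M) inf_le_right (fun _ => mem_inf) θ hind.isClassFunction
  rw [sum_of_homog hη hf, hcM, ← h2, ← Nat.cast_pow, hee, Nat.cast_mul, mul_assoc] at h4
  exact hN (le_core_of_sum hLH (le_inf hLM hLH) inf_le_right hθ.isCharacter hθL
    ((mul_left_cancel₀ i0 h4).symm.trans (mul_comm _ _)))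

theorem s0890 [Fintype G] (L H : Subgroup G) [L.Normal] (hLH : L ≤ H) (hmax : IsCoatom H)
    (hsolv : Group.IsSolvable (G ⧸ L)) {θ : H → ℂ} (hθ : IsIrrCharacter H θ)
    (hθL : IsIrrCharacter L (fun x : L => θ ⟨(x : G), hLH x.2⟩))
    (hind : IsIrrCharacter G (indFun H θ)) :
    ∃ M : Subgroup G, M.Normal ∧ L ≤ M ∧ ¬ Homog (indFun H θ) M := by
  have h1 : L ≤ H.normalCore := normal_le_normalCore.2 hLH
  obtain ⟨M, h2, h3, h4⟩ := exists_not_homog hmax
    (Group.isSolvable_of_surjective (f := QuotientGroup.map L H.normalCore (MonoidHom.id G) h1)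
      (QuotientGroup.map_surjective_of_surjective _ _ _ QuotientGroup.mk_surjective _)) hθ
    ((hθ.isCharacter.comp (inclusion H.normalCore_le)).isIrr_of_comp (inclusion h1) hθL) hind
  exact ⟨M, h2, h1.trans h3, h4⟩

theorem descend_ind [Fintype G] {Γ : Type*} [Group Γ] [Fintype Γ] {f : Γ →* G}
    (hf : Function.Surjective f) {T : Subgroup G} {ρ : T.comap f → ℂ} (hρ : IsCharacter _ ρ)
    {χ : G → ℂ} (hχ : IsIrrCharacter G χ) (h : indFun (T.comap f) ρ = fun x => χ (f x)) :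
    ∃ ζ, IsCharacter T ζ ∧ indFun T ζ = χ := by
  have := Fintype.ofFinite T
  have := Fintype.ofFinite (T.comap f)
  have h1 := hχ.comp_of_surjective f hf
  have h2 := hρ.isIrr_of_indFun (h ▸ h1)
  have h3 := classInner_indFun_right (T.comap f) ρ h1.isClassFunction
  rw [h, h1.classInner_self] at h3
  have h4 : (fun x : T.comap f => χ (f x)) = ∑ ζ : IrrCharacter T,
      classInner (fun t : T => χ t) ζ • fun x => ζ.1 (f.subgroupComap T x) := by
    ext x
    rw [Finset.sum_apply]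
    exact (hχ.isClassFunction.restrict T).apply_eq_sum_irr (f.subgroupComap T x)
  rw [h4, classInner_sum_left] at h3
  obtain ⟨ζ, -, h5⟩ := Finset.exists_ne_zero_of_sum_ne_zero (h3 ▸ one_ne_zero)
  rw [classInner_smul_left] at h5
  have h6 := (ζ.2.comp_of_surjective _ (f.subgroupComap_surjective_of_surjective T
    hf)).eq_of_classInner_ne_zero h2 (right_ne_zero_of_mul h5)
  refine ⟨ζ, ζ.2.isCharacter, funext fun g => ?_⟩
  obtain ⟨x, rfl⟩ := hf g
  rw [← h6] at h
  exact (congrFun (indFun_comp_surjective f hf ζ.1) x).trans (congrFun h x)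

theorem berger_step [Fintype G] [Group.IsSolvable G] {H : Subgroup G} (hmax : IsCoatom H)
    {θ : H → ℂ} (hθ : IsCharacter H θ) (hind : IsIrrCharacter G (indFun H θ))
    (hL : Homog (indFun H θ) H.normalCore) : ∃ M T : Subgroup G, M.Normal ∧ H.normalCore < M ∧ M ≤ T ∧
      T ≠ ⊤ ∧ ∃ ζ, IsCharacter T ζ ∧ indFun T ζ = indFun H θ := by
  classical
  obtain ⟨K, hK, -, hHK, hKH, -⟩ := exists_compl hmax inferInstance
  set L := H.normalCore
  have hLH : L ≤ H := H.normalCore_le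
  replace hθ := hθ.isIrr_of_indFun hind
  obtain ⟨φ, e, hφ, he⟩ := hL
  have := Fintype.ofFinite L
  have := Fintype.ofFinite H
  have := Fintype.ofFinite (L.subgroupOf H)
  have e0 : (e : ℂ) ≠ 0 := fun h0 => hind.one_ne_zero (by simpa [h0] using congrFun he 1)
  have hinv := invariant_of_restrict_eq_smul hind.isClassFunction e0 he
  let q := subgroupOfEquivOfLe hLH
  have hc : classInner (fun n : L.subgroupOf H => θ n) (fun n => φ (q n)) ≠ 0 := by
    rw [classInner_subgroupOf]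
    intro h0
    have h1 := sum_normal_indFun (M := L) hLH (fun x => ⟨fun h => ⟨h, hLH h⟩, fun h => h.1⟩) θ
      hind.isClassFunction
    rw [sum_of_homog hφ he, ← card_mul_classInner (fun x : L => θ ⟨(x : G), hLH x.2⟩)
      (fun m : L => indFun H θ m), he, classInner_smul_right, h0] at h1
    simp [e0] at h1
  obtain ⟨X, _, _, π, ι, ξ, μ, h⟩ := exists_isCover (hφ.comp_equiv q)
    fun g => funext fun n => congrFun (hinv g) (q n)
  obtain ⟨β, b1, b2, b3⟩ := h.exists_factor (hφ.comp_equiv q) hθ hc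
  let Γ : Subgroup (G × X) := ((QuotientGroup.mk' K).comp (H.subtype.comp
    (π.comp (MonoidHom.snd G X)))).eqLocus ((QuotientGroup.mk' K).comp (MonoidHom.fst G X))
  have hΓ : ∀ y : G × X, y ∈ Γ ↔ (π y.2 : G)⁻¹ * y.1 ∈ K := fun y => QuotientGroup.eq
  have := Fintype.ofFinite Γ
  let f : Γ →* G := (MonoidHom.fst G X).comp Γ.subtype
  let s : Γ →* X := (MonoidHom.snd G X).comp Γ.subtype
  have hf : Function.Surjective f := fun g => by
    obtain ⟨a, ha, k, hk, rfl⟩ := (mem_sup_of_normal_right).1 (hHK.ge (mem_top g))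
    obtain ⟨x, hx⟩ := h.surj ⟨a, ha⟩
    exact ⟨⟨(a * k, x), (hΓ _).2 (by simpa [hx] using hk)⟩, rfl⟩
  let d : H.comap f → L.subgroupOf H := fun y => ⟨(π (s y))⁻¹ * ⟨f y, y.2⟩,
    (hKH _).2 ⟨(hΓ _).1 y.1.2, mul_mem (inv_mem (π (s y)).2) y.2⟩⟩
  let r : H.comap f →* X := MonoidHom.mk' (fun y => s y * ι (d y)) fun y z => by
    have h1 := h.conj_ι (s z)⁻¹ (d y)
    have h2 : d (y * z) = MulAut.conjNormal (π (s z)⁻¹) (d y) * d z := by
      ext; simp [d, mul_assoc]
    simp only [h2, map_mul, ← h1, coe_mul]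
    group
  have r1 : ∀ y, r y = s y * ι (d y) := fun _ => rfl
  have r2 : ∀ y, π (r y) = ⟨f y, y.2⟩ := fun y => by simp [r1, h.π_ι, d]
  have r3 : ∀ y, β (r y) = β (s y) := fun y => b1.isCharacter.apply_mul_of_eq_one' (b2 _) _
  let j : X →* H.comap f := ((((H.subtype.comp π).prod (MonoidHom.id X)).codRestrict Γ fun x =>
    (hΓ _).2 (by simp)).codRestrict _ fun x => (π x).2)
  have r4 : ∀ x, r (j x) = x := fun x => by
    rw [r1, show d (j x) = 1 from Subtype.ext (inv_mul_cancel _), map_one, mul_one]; rfl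
  have i1 := h.irr.comp_of_surjective r fun x => ⟨j x, r4 x⟩
  have hLH' : L.comap f ≤ H.comap f := comap_mono hLH
  have i2 : IsIrrCharacter (L.comap f) fun x => ξ (r ⟨x, hLH' x.2⟩) :=
    (i1.isCharacter.comp (inclusion hLH')).isIrr_of_comp
      ((((H.comap f).subtype.comp (j.comp ι))).codRestrict _ fun n => h.ι_mem n) (by
        convert hφ.comp_equiv q using 2 with n
        exact (congrArg ξ (r4 (ι n))).trans (h.χ_ι n))
  have i3 : indFun (H.comap f) (fun y => ξ (r y)) * (fun y => β (s y)) =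
      fun y => indFun H θ (f y) := by
    rw [indFun_comp_surjective f hf, ← indFun_mul_restrict _ _ (b1.isClassFunction.comp s)]
    congr 1
    ext y
    rw [Pi.mul_apply, ← r3, mul_comm, ← b3, r2]
  have i4 := hind.comp_of_surjective f hf
  have i5 := i1.isCharacter.indFun.isIrr_of_mul (b1.isCharacter.comp s) (i3 ▸ i4)
  obtain ⟨M, hM, hLM, hn⟩ := s0890 (L.comap f) (H.comap f) hLH'
    (isCoatom_comap_of_surjective hf hmax) (isSolvable_quot_comap f inferInstance) i1 i2 i5
  obtain ⟨T, η, hMT, hT, t1, t2⟩ := (i5.homogeneous_or_induced M).resolve_left hn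
  have hk : f.ker ≤ M := (ker_le_comap f L).trans hLM
  obtain ⟨T, rfl⟩ : ∃ T' : Subgroup G, T = T'.comap f := ⟨_, (comap_map_eq_self (hk.trans hMT)).symm⟩
  refine ⟨M.map f, T, hM.map f hf, lt_of_le_of_ne ((map_comap_eq_self_of_surjective hf L).ge.trans
    (map_mono hLM)) fun e => hn ?_, map_le_iff_le_comap.2 hMT, fun e => hT (by rw [e, comap_top]),
    descend_ind hf (t1.isCharacter.mul ((b1.isCharacter.comp s).restrict _)) hind (by
      rw [indFun_mul_restrict _ _ (b1.isClassFunction.comp s), t2, i3])⟩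
  obtain rfl : L.comap f = M := by rw [e, comap_map_eq_self hk]
  have := Fintype.ofFinite (L.comap f)
  have m1 : ∀ x : L.comap f, π (s x) ∈ L.subgroupOf H := fun x => by
    have := mul_mem (show (⟨f x, hLH x.2⟩ : H) ∈ L.subgroupOf H from x.2) (inv_mem (d ⟨x, hLH' x.2⟩).2)
    simpa [d] using this
  have m2 : ∀ x : L.comap f, φ ⟨f x, x.2⟩ = μ ⟨s x, m1 x⟩ * ξ (r ⟨x, hLH' x.2⟩) := fun x => by
    have h1 : r ⟨x, hLH' x.2⟩ ∈ (L.subgroupOf H).comap π := by rw [mem_comap, r2]; exact x.2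
    have h2 := h.θ_π ⟨_, h1⟩
    rw [show (⟨_, h1⟩ : (L.subgroupOf H).comap π) = ⟨s x, m1 x⟩ * ⟨_, h.ι_mem _⟩ from rfl, map_mul,
      h.μ_ι, mul_one] at h2
    refine Eq.trans (congrArg φ (Subtype.ext ?_)) h2
    exact (congrArg Subtype.val (r2 ⟨x, hLH' x.2⟩)).symm
  have m3 : ∀ g, conjBy (fun x : L.comap f => ξ (r ⟨x, hLH' x.2⟩)) g =
      fun x : L.comap f => ξ (r ⟨x, hLH' x.2⟩) := fun g => funext fun x => by
    have h1 := m2 (MulAut.conjNormal g x)
    have h2 : φ ⟨f (MulAut.conjNormal g x), (MulAut.conjNormal g x).2⟩ = φ ⟨f x, x.2⟩ :=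
      congrFun (hinv (f g)) ⟨f x, x.2⟩
    have h3 : μ ⟨s (MulAut.conjNormal g x), m1 _⟩ = μ ⟨s x, m1 x⟩ := h.μ_conj (s g) ⟨s x, m1 x⟩
    rw [h2, h3, m2] at h1
    exact (mul_left_cancel₀ (Units.ne_zero _) h1).symm
  refine ⟨_, (H.comap f).index, i2, ?_⟩
  rw [restrict_indFun_of_le hLH']
  simp only [m3, Finset.sum_const, Finset.card_univ, ← Nat.cast_smul_eq_nsmul ℂ, smul_smul,
    ← Nat.card_eq_fintype_card, ← (H.comap f).card_mul_index, Nat.cast_mul,
    inv_mul_cancel_left₀ (card_ne_zero (H.comap f))]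

theorem s0889 [Fintype G] [Group.IsSolvable G] {χ : G → ℂ} (hχ : IsIrrCharacter G χ)
    (hq : ∀ N : Subgroup G, N.Normal → Homog χ N) (K : Subgroup G) (hK : K ≠ ⊤) (ψ : K → ℂ)
    (hψ : IsCharacter K ψ) : indFun K ψ ≠ χ := by
  intro e
  obtain ⟨L, -, hL⟩ := Finite.exists_le_maximal (p := fun L : Subgroup G => L.Normal ∧
    ∃ T, L ≤ T ∧ T ≠ ⊤ ∧ ∃ ζ, IsCharacter T ζ ∧ indFun T ζ = χ) (a := ⊥)
    ⟨inferInstance, K, bot_le, hK, ψ, hψ, e⟩
  obtain ⟨h1, T, h2, h3, ζ, h4, h5⟩ := hL.1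
  obtain ⟨H, hH, hTH⟩ := (eq_top_or_exists_le_coatom T).resolve_left h3
  have := Fintype.ofFinite H
  rw [← indFun_indFun hTH] at h5
  obtain ⟨M, T', m1, m2, m3, m4, m5⟩ := berger_step hH
    (h4.comp (subgroupOfEquivOfLe hTH).toMonoidHom).indFun (h5 ▸ hχ) (h5 ▸ hq _ inferInstance)
  have h6 : L < M := (normal_le_normalCore.2 (h2.trans hTH)).trans_lt m2
  exact h6.not_ge (hL.2 ⟨m1, T', m3, m4, h5 ▸ m5⟩ h6.le)

end Cfsg.Agent.Char
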