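import Cfsg.Agent.Blk.BS3
import Cfsg.Agent.PLoc.NPC
import Cfsg.Agent.Core.Quaternion

/-! Groups with generalized quaternion Sylow 2-subgroups of order at least 16. -/

set_option autoImplicit false
set_option linter.unusedSectionVars false

namespace Cfsg.Agent.Char.QS

open Cfsg Cfsg.Agent.Blk Cfsg.Agent.PLoc Subgroup
open scoped ComplexConjugate

variable {G : Type*} [Group G] [Finite G]

structure Q16 (S : Subgroup G) (n : ℕ) (x y : G) : Prop where
  xS : x ∈ S
  yS : y ∈ S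
  ord : orderOf x = 2 ^ (n + 3)
  inv : y * x * y⁻¹ = x⁻¹
  gen : ∀ s ∈ S, ∃ i : ℕ, s = x ^ i ∨ s = y * x ^ i
  card : Nat.card S = 2 ^ (n + 4)

theorem exists_q16 {S : Subgroup G} {n : ℕ} (e : S ≃* QuaternionGroup (2 ^ (n + 2))) :
    ∃ x y, Q16 S n x y := by
  refine ⟨e.symm (.a 1), e.symm (.xa 0), SetLike.coe_mem _, SetLike.coe_mem _, ?_, ?_,
    fun s hs => ?_, ?_⟩
  · rw [orderOf_coe, MulEquiv.orderOf_eq, QuaternionGroup.orderOf_a_one]; ring
  · rw [mul_inv_eq_iff_eq_mul, eq_inv_mul_iff_mul_eq]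
    norm_cast
    simp [← map_mul]
  · obtain ⟨q, hq⟩ := e.symm.surjective ⟨s, hs⟩
    obtain rfl : (e.symm q : G) = s := congrArg Subtype.val hq
    rcases q with i | i <;> refine ⟨i.val, ?_⟩ <;> norm_cast <;>
      simp [← map_mul, ← map_pow, QuaternionGroup.a_one_pow]
  · rw [Nat.card_congr e.toEquiv, Nat.card_eq_fintype_card, QuaternionGroup.card]; ring

variable {S : Subgroup G} {n : ℕ} {x y : G}

theorem Q16.comm (h : Q16 S n x y) : ⁅S, S⁆ = zpowers (x ^ 2) := by
  have h1 : ∀ i : ℤ, y * x ^ i * y⁻¹ = x ^ (-i) := fun i => by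
    rw [← conj_zpow, h.inv, inv_zpow']
  have h2 : ∀ i : ℤ, x ^ (2 * i) ∈ zpowers (x ^ 2) := fun i => ⟨i, by
    rw [zpow_mul]; norm_cast⟩
  refine le_antisymm (commutator_le.2 fun a ha b hb => ?_) (zpowers_le.2 ?_)
  · obtain ⟨i, rfl | rfl⟩ := h.gen a ha <;> obtain ⟨j, rfl | rfl⟩ := h.gen b hb <;>
      rw [commutatorElement_def]
    · convert one_mem (zpowers (x ^ 2)) using 1; group
    · convert h2 i using 1
      calc _ = x ^ (i : ℤ) * (y * x ^ (-i : ℤ) * y⁻¹) := by group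
        _ = _ := by rw [h1]; group
    · convert h2 (-j) using 1
      calc _ = (y * x ^ (j : ℤ) * y⁻¹) * x ^ (-j : ℤ) := by group
        _ = _ := by rw [h1]; group
    · convert h2 (j - i) using 1
      calc _ = y * x ^ (i : ℤ) * (y * x ^ (j - i : ℤ) * y⁻¹) * x ^ (-j : ℤ) * y⁻¹ := by group
        _ = y * x ^ (2 * (i - j) : ℤ) * y⁻¹ := by rw [h1]; group
        _ = _ := by rw [h1]; group
  · convert commutator_mem_commutator h.xS h.yS using 1
    rw [commutatorElement_def]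
    calc _ = x * x ^ (- - 1 : ℤ) := by simp [sq]
      _ = _ := by rw [← h1]; group

theorem Q16.ord_pow (h : Q16 S n x y) {k : ℕ} (hk : k ≤ n + 3) :
    orderOf (x ^ 2 ^ k) = 2 ^ (n + 3 - k) := by
  rw [orderOf_pow_of_dvd (by positivity) (h.ord ▸ pow_dvd_pow 2 hk), h.ord,
    Nat.pow_div hk two_pos]

theorem Q16.inf_cent (h : Q16 S n x y) {k : ℕ} (hk : k ≤ n + 1) :
    S ⊓ centralizer {x ^ 2 ^ k} = zpowers x := by
  have hx : x ∈ centralizer ({x ^ 2 ^ k} : Set G) :=
    mem_centralizer_singleton_iff.mpr (Commute.self_pow x _)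
  refine le_antisymm (fun s hs => ?_) (zpowers_le.mpr ⟨h.xS, hx⟩)
  obtain ⟨i, rfl | rfl⟩ := h.gen s hs.1
  · exact pow_mem (mem_zpowers x) i
  · have e := (mul_mem_cancel_right (pow_mem hx i)).mp hs.2
    have hy := Inv.conj_pow_inv h.inv (2 ^ k)
    rw [mem_centralizer_singleton_iff.mp e, mul_inv_cancel_right] at hy
    have : 2 ^ (n + 3 - k) ∣ 2 ^ 1 := h.ord_pow (k := k) (by omega) ▸ orderOf_dvd_of_pow_eq_one (by
      rw [pow_one, sq]; exact mul_eq_one_iff_eq_inv.mpr hy)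
    have := (Nat.pow_dvd_pow_iff_le_right one_lt_two).1 this
    omega

theorem Q16.le_norm (h : Q16 S n x y) (k : ℕ) : S ≤ normalizer (zpowers (x ^ k) : Set G) := by
  intro s hs
  have h1 : x ∈ normalizer (zpowers (x ^ k) : Set G) := by
    rw [← cj_eq_self_iff, cj_zpowers, (Commute.self_pow x _).eq, mul_inv_cancel_right]
  obtain ⟨i, rfl | rfl⟩ := h.gen s hs
  · exact pow_mem h1 i
  · refine mul_mem ?_ (pow_mem h1 i)
    rw [← cj_eq_self_iff, cj_zpowers, Inv.conj_pow_inv h.inv, zpowers_inv]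

theorem Q16.sylow {S : Sylow 2 G} (h : Q16 (S : Subgroup G) n x y) {k : ℕ} (hk : k ≤ n + 1) :
    IsSylowOf 2 (zpowers x) (centralizer {x ^ 2 ^ k}) := by
  rw [← h.inf_cent hk]
  refine (isSylowOf_top S).inf_of_le le_top ?_
  rw [← centralizer_zpowers]
  exact le_normalizer_centralizer (h.le_norm _)

theorem s0842 (S : Sylow 2 G) (n : ℕ) (e : (S : Subgroup G) ≃* QuaternionGroup (2 ^ (n + 2)))
    (D : Subgroup G) (hD : D = ⁅(S : Subgroup G), (S : Subgroup G)⁆) :
    ∃ K : Subgroup G, Odd (Nat.card K) ∧ K ≤ centralizer (D : Set G) ∧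
      normalizer (D : Set G) ≤ normalizer (K : Set G) ∧ K ⊔ (S : Subgroup G) = normalizer (D : Set G) ∧
      K ⊔ ((S : Subgroup G) ⊓ centralizer (D : Set G)) = centralizer (D : Set G) ∧
      ((centralizer (D : Set G)).subgroupOf (normalizer (D : Set G))).index = 2 := by
  obtain ⟨x, y, h⟩ := exists_q16 e
  rw [h.comm] at hD
  have hC : centralizer (D : Set G) = centralizer {x ^ 2 ^ 1} := by rw [hD, centralizer_zpowers]; simp
  have h1 := h.sylow (k := 1) (by omega)
  have h2 := h.inf_cent (k := 1) (by omega)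
  rw [← hC] at h1 h2
  have hn : NPC 2 (centralizer (D : Set G)) := by
    obtain ⟨T, -, hT⟩ := h1.exists_sylow
    refine npc_top_subtype_iff.1 (Inv.npc_of_isCyclic T ?_)
    have : IsCyclic ((T : Subgroup _).map (centralizer (D : Set G)).subtype) := by
      rw [hT]; infer_instance
    exact isCyclic_of_surjective _ (equivMapOfInjective _ _ (subtype_injective _)).symm.surjective
  have hS : (S : Subgroup G) ≤ normalizer (D : Set G) := hD ▸ h.le_norm 2
  have h3 : pResOf 2 (centralizer (D : Set G)) ⊔ (S : Subgroup G) = normalizer (D : Set G) := by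
    refine le_antisymm (sup_le ((pResOf_le _).trans (centralizer_le_normalizer _)) hS) ?_
    rw [← (isSylowOf_sylow S hS).sup_pResOf, sup_comm]
    refine sup_le_sup_right (pResOf_le_iff.2 fun g hg hc => mem_pResOf ?_ hc) _
    exact Inv.mem_centralizer_of_isCyclic (S.2.to_le (hD ▸ zpowers_le.2 (pow_mem h.xS 2)))
      (hD ▸ inferInstance) hg (Nat.coprime_two_right.1 hc)
  refine ⟨pResOf 2 (centralizer (D : Set G)), Nat.coprime_two_right.1 (npc_iff_coprime.1 hn),
    pResOf_le _, (normalizer_le_normalizer_centralizer _).trans (normalizer_le_normalizer_pResOf _),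
    h3, by rw [h2, sup_comm, h1.sup_pResOf], ?_⟩
  have h4 : normalizer (D : Set G) = (S : Subgroup G) ⊔ centralizer (D : Set G) :=
    le_antisymm (h3 ▸ sup_le ((pResOf_le _).trans le_sup_right) le_sup_left)
      (sup_le hS (centralizer_le_normalizer _))
  change (centralizer (D : Set G)).relIndex (normalizer (D : Set G)) = 2
  rw [h4, relIndex_sup_of_le_normalizer (le_normalizer_centralizer hS)]
  have := card_inf_mul_relIndex (centralizer (D : Set G)) S
  rw [inf_comm, h2, Nat.card_zpowers, h.ord, h.card, pow_succ _ (n + 3)] at this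
  exact Nat.eq_of_mul_eq_mul_left (by positivity) this

theorem s0843 (S : Sylow 2 G) (n : ℕ) (e : (S : Subgroup G) ≃* QuaternionGroup (2 ^ (n + 2)))
    (D : Subgroup G) (hD : D = ⁅(S : Subgroup G), (S : Subgroup G)⁆) :
    (∀ y : G, y ∈ centralizer (D : Set G) → Nat.card D ∣ orderOf y → D ≤ zpowers y) ∧
    (∀ g y : G, y ∈ centralizer (D : Set G) → Nat.card D ∣ orderOf y →
      g * y * g⁻¹ ∈ centralizer (D : Set G) → g ∈ normalizer (D : Set G)) ∧
    (∀ g y : G, g ∈ normalizer (D : Set G) → y ∈ centralizer (D : Set G) → Nat.card D ∣ orderOf y →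
      g * y * g⁻¹ ∈ centralizer (D : Set G) ∧ Nat.card D ∣ orderOf (g * y * g⁻¹)) := by
  obtain ⟨x, y, h⟩ := exists_q16 e
  rw [h.comm] at hD
  have hC : centralizer (D : Set G) = centralizer {x ^ 2 ^ 1} := by rw [hD, centralizer_zpowers]; simp
  have h1 := h.sylow (k := 1) (by omega)
  rw [← hC] at h1
  have h2 : Nat.card D = 2 ^ (n + 2) := by
    rw [hD, Nat.card_zpowers]; exact h.ord_pow (k := 1) (by omega)
  have key : ∀ y : G, y ∈ centralizer (D : Set G) → Nat.card D ∣ orderOf y → D ≤ zpowers y := by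
    intro w hw hd
    have h3 := orderOf_pow_orderOf_div (orderOf_pos w).ne' hd
    obtain ⟨c, hc, h4⟩ := h1.exists_cj_le (Q := zpowers (w ^ (orderOf w / Nat.card D)))
      (isPGroup_zpowers (k := n + 2) (orderOf_dvd_iff_pow_eq_one.1 (by rw [h3, h2])))
      (zpowers_le.2 (pow_mem hw _))
    have h5 := Core.eq_of_card_eq_of_isCyclic inferInstance h4
      (show D ≤ zpowers x from hD ▸ zpowers_le.2 (pow_mem (mem_zpowers x) 2))
      (by rw [card_cj, Nat.card_zpowers, h3])
    rw [← cj_eq_self_iff.2 (centralizer_le_normalizer _ hc)] at h5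
    rw [cj_eq_self_iff.2 (centralizer_le_normalizer _ hc)] at h5
    rw [← cj_injective c (h5.trans (cj_eq_self_iff.2 (centralizer_le_normalizer _ hc)).symm)]
    exact zpowers_le.2 (pow_mem (mem_zpowers w) _)
  refine ⟨key, fun g w hw hd hg => ?_, fun g w hg hw hd => ⟨conj_mem_of_mem_normalizer
    (normalizer_le_normalizer_centralizer _ hg) hw, by rwa [orderOf_conj']⟩⟩
  rw [← cj_eq_self_iff]
  exact Core.eq_of_card_eq_of_isCyclic inferInstance (cj_zpowers g w ▸ cj_mono g (key w hw hd))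
    (key _ hg (by rwa [orderOf_conj'])) (card_cj _ _)

theorem exists_M (S : Sylow 2 G) {n : ℕ} (e : (S : Subgroup G) ≃* QuaternionGroup (2 ^ (n + 1))) :
    ∃ M : Subgroup G, M.Normal ∧ Even (Nat.card M) ∧ ¬ 4 ∣ Nat.card M ∧
      ∀ g, orderOf g = 2 → g ∈ M := by
  have h := r1_of_quaternion S e
  obtain ⟨t, htS, ht⟩ := exists_mem_orderOf_eq_prime (H := (S : Subgroup G)) Nat.prime_two (by
    rw [Nat.card_congr e.toEquiv, Nat.card_eq_fintype_card, QuaternionGroup.card]
    exact Dvd.dvd.mul_right (by norm_num) _)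
  have h1 := bs_main _ G rfl h t ht
  have h2 : (zpowers t ⊔ pPrimeCore 2 G).Normal := by
    refine normal_of_forall_mem_normalizer fun g => mem_normalizer_of_cj_le ?_
    rw [cj_sup, cj_zpowers, cj_eq_of_normal]
    refine sup_le (zpowers_le.2 ?_) le_sup_right
    convert mul_mem (mem_sup_right (inv_mem (h1 g))) (mem_sup_left (mem_zpowers t)) using 1
    group
  have h3 := card_sup_dvd (H := zpowers t) (N := pPrimeCore 2 G)
    fun g _ => mem_normalizer_of_normal _ g
  rw [Nat.card_zpowers, ht] at h3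
  refine ⟨_, h2, even_iff_two_dvd.2 (ht ▸ orderOf_dvd_card_of_mem (mem_sup_left (mem_zpowers t))),
    fun h4 => ?_, fun g hg => ?_⟩
  · have := Nat.coprime_two_right.1 (pPrimeCore_coprime (G := G) (p := 2))
    obtain ⟨k, hk⟩ := this
    have := h4.trans h3
    omega
  · obtain ⟨a, ha, e1, e2⟩ := Inv.exists_isConj_mem_sylow S (k := 1) (x := g) (by simpa using hg)
    obtain rfl : a = t := congrArg Subtype.val (e.injective (congrArg Subtype.val
      ((Nat.card_eq_one_iff_unique.mp (Inv.s0218 n)).1.elim ⟨e ⟨a, ha⟩, by simpa using e2⟩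
        ⟨e ⟨t, htS⟩, by simpa using ht⟩)))
    obtain ⟨c, rfl⟩ := isConj_iff.1 e1
    exact h2.conj_mem _ (mem_sup_left (mem_zpowers a)) c

theorem s0845 (S : Sylow 2 G) (n : ℕ) (e : (S : Subgroup G) ≃* QuaternionGroup (2 ^ (n + 2))) :
    ∃ M : Subgroup G, M.Normal ∧ Even (Nat.card M) ∧ ¬ _root_.commutator G ≤ M := by
  obtain ⟨M, h1, h2, h3, -⟩ := exists_M S (n := n + 1) e
  obtain ⟨x, y, h⟩ := exists_q16 e
  refine ⟨M, h1, h2, fun h4 => h3 (Dvd.dvd.trans ?_ (card_dvd_of_le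
    ((commutator_mono le_top le_top).trans h4 : ⁅(S : Subgroup G), (S : Subgroup G)⁆ ≤ M)))⟩
  rw [h.comm, Nat.card_zpowers, show orderOf (x ^ 2) = _ from h.ord_pow (k := 1) (by omega)]
  exact pow_dvd_pow 2 (show 2 ≤ _ by omega)

theorem s0846 (S : Sylow 2 G) (n : ℕ) (e : (S : Subgroup G) ≃* QuaternionGroup (2 ^ (n + 2)))
    (Q : Sylow 2 ↥(closure {g : G | orderOf g = 2})) : IsCyclic Q := by
  obtain ⟨M, -, -, h3, h4⟩ := exists_M S (n := n + 1) e
  obtain ⟨k, hk⟩ := IsPGroup.iff_card.1 Q.2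
  have h5 := (card_subgroup_dvd_card (Q : Subgroup (closure {g : G | orderOf g = 2}))).trans
    (card_dvd_of_le ((closure_le M).2 h4))
  refine isCyclic_of_card_dvd_prime (p := 2) ?_
  rw [hk] at h5 ⊢
  rcases k with _ | _ | k
  · simp
  · simp
  · exact absurd ((pow_dvd_pow 2 (show 2 ≤ _ by omega)).trans h5) h3


theorem bs_16_aux' (h : R1 G) {u y : G} (hu : orderOf u = 4)
    (hy : y * u * y⁻¹ = u⁻¹) {C : Subgroup G} (hC : ∀ {c}, c ∈ C ↔ c * u = u * c) {l : C →* ℂˣ}
    (h1 : ∀ c : C, ¬ 4 ∣ orderOf c → l c = 1) (h2 : ∃ c, l c ^ 2 ≠ 1)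
    (h3 : ∀ c d : C, (d : G) = y * c * y⁻¹ → l d = (l c)⁻¹) :
    ∃ χ₁ χ₂ : G → ℂ, IsIrrCharacter G χ₁ ∧ IsIrrCharacter G χ₂ ∧ χ₁ ≠ (fun _ => 1) ∧
      χ₂ ≠ (fun _ => 1) ∧ χ₁ 1 = χ₂ 1 + 1 ∧ ∀ g : G, ¬ 4 ∣ orderOf g → χ₁ g - χ₂ g = 1 := by
  classical
  have := Fintype.ofFinite G
  let ψ : C → ℂ := (fun _ => 1) - fun c => (l c : ℂ)
  have hψ : IsGeneralizedCharacter C ψ := isGen_one.sub (isCharacter_hom l).isGen
  have h4 : ∀ c : C, ¬ 4 ∣ orderOf c → ψ c = 0 := fun c hc => by simp [ψ, h1 c hc]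
  have hyC : y ∉ C := fun e => by
    rw [hC.mp e, mul_inv_cancel_right] at hy
    have : 4 ∣ 2 := hu ▸ orderOf_dvd_of_pow_eq_one (by rw [sq]; exact mul_eq_one_iff_eq_inv.mpr hy)
    omega
  have h5 : ∀ c ∈ C, 4 ∣ orderOf c → c ^ (orderOf c / 4) = u ∨ c ^ (orderOf c / 4) = u⁻¹ :=
    fun c hc e => h.ord4 hu (orderOf_pow_orderOf_div (orderOf_pos c).ne' e)
      (Commute.pow_right (hC.mp hc).symm _)
  have h6 : ∀ c : C, 4 ∣ orderOf c → indFun C ψ c = ψ c + conj (ψ c) := fun c hc => by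
    have e : ∀ g, extendByZero C ψ (g * c * g⁻¹) = extendByZero C (fun _ => ψ c) g +
        extendByZero C (fun _ => conj (ψ c)) (y⁻¹ * g) := fun g => by
      by_cases hg : g ∈ C
      · rw [extendByZero_conj_mem _ hψ.isClassFunction hg, extendByZero_coe, extendByZero_of_mem _ _ hg,
          extendByZero_of_not_mem _ _ fun e => hyC (by simpa using mul_mem hg (inv_mem e)), add_zero]
      rw [extendByZero_of_not_mem _ _ hg, zero_add]
      by_cases hg' : y⁻¹ * g ∈ C
      · have e1 : y * (y⁻¹ * g * c * (y⁻¹ * g)⁻¹) * y⁻¹ ∈ C := by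
          have := mul_mem (mul_mem hg' c.2) (inv_mem hg')
          rw [hC] at this ⊢
          have e2 : Commute (y * (y⁻¹ * g * c * (y⁻¹ * g)⁻¹) * y⁻¹) (y * u * y⁻¹) :=
            Commute.map this (MulAut.conj y)
          exact Commute.inv_right_iff.mp (hy ▸ e2)
        rw [extendByZero_of_mem _ _ hg', show g * c * g⁻¹ =
          y * (y⁻¹ * g * c * (y⁻¹ * g)⁻¹) * y⁻¹ by group, extendByZero_of_mem _ _ e1]
        simp only [ψ, Pi.sub_apply, map_sub, map_one]
        rw [h3 (⟨_, hg'⟩ * c * ⟨_, hg'⟩⁻¹) _ rfl, ← hom_inv_eq_conj]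
        simp [mul_comm]
      rw [extendByZero_of_not_mem _ _ hg', extendByZero_apply]
      split_ifs with e
      · exfalso
        have e1 := h5 _ e (by rwa [Inv.orderOf_conj', orderOf_coe])
        rw [conj_pow, Inv.orderOf_conj'] at e1
        have e2 : g * u * g⁻¹ = u ∨ g * u * g⁻¹ = u⁻¹ := by
          rcases h5 c c.2 (by rwa [orderOf_coe]) with e2 | e2 <;> rw [e2] at e1
          · exact e1
          · rw [← conj_inv, inv_eq_iff_eq_inv, inv_inj] at e1; exact e1.symm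
        rcases e2 with e2 | e2
        · exact hg (hC.mpr (mul_inv_eq_iff_eq_mul.mp e2))
        · refine hg' (hC.mpr (mul_inv_eq_iff_eq_mul.mp ?_))
          rw [← hy] at e2
          calc _ = y⁻¹ * (g * u * g⁻¹) * y := by group
            _ = _ := by rw [e2]; group
      · rfl
    rw [indFun_apply']
    simp only [e]
    rw [Finset.sum_add_distrib, show ∑ x, extendByZero C _ (y⁻¹ * x) = _ from
      Equiv.sum_comp (Equiv.mulLeft y⁻¹) _,
      sum_extendByZero, sum_extendByZero]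
    simp only [Finset.sum_const, Finset.card_univ, ← Nat.card_eq_fintype_card, nsmul_eq_mul]
    have := card_ne_zero C
    field_simp
  obtain ⟨m, hm, hm', h7⟩ := hψ.indFun.exists_mult_norm
  have l1 : l ≠ 1 := by rintro rfl; simp at h2
  have l2 : l ≠ l⁻¹ := fun e => h2.elim fun c hc => hc (by
    rw [sq]; exact mul_eq_one_iff_eq_inv.mpr (DFunLike.congr_fun e c))
  have i1 := classInner_hom l 1
  have i2 := classInner_hom 1 l
  have i3 := classInner_hom l l⁻¹
  have i4 := classInner_hom 1 l⁻¹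
  rw [if_neg fun e => l1 (MonoidHom.ext fun c => inv_eq_one.mp (DFunLike.congr_fun e c).symm)] at i4
  have i5 := classInner_hom l l
  have i6 := classInner_hom (1 : C →* ℂˣ) 1
  simp only [l1, l1.symm, l2, if_false, if_true,
    MonoidHom.one_apply, Units.val_one] at i1 i2 i3 i4 i5 i6
  have h8 : classInner (indFun C ψ) (indFun C ψ) = 3 := by
    have e : classInner ψ (fun c : C => indFun C ψ c) =
        classInner ψ (ψ + ((fun _ => 1) - fun c => (l⁻¹ c : ℂ))) := by
      rw [classInner_def, classInner_def]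
      congr 1
      refine Finset.sum_congr rfl fun c _ => ?_
      by_cases hc : 4 ∣ orderOf c
      · rw [h6 c hc]; simp [ψ, ← hom_inv_eq_conj]
      · simp [h4 c hc]
    rw [classInner_indFun_left _ _ (isClassFunction_indFun _ _), e]
    simp only [ψ, classInner_add_right, classInner_sub_left, classInner_sub_right, i1, i2, i3, i4,
      i5, i6]
    norm_num
  have h9 : m (irrOne G) = 1 := by
    have e := hm (irrOne G)
    rw [classInner_indFun_left _ _ (irrOne G).2.isClassFunction, classInner_sub_left] at e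
    simp only [irrOne_coe, i1, i6, sub_zero] at e
    exact_mod_cast e.symm
  obtain ⟨a, c, ha, hc, hac, sa, sc, e0⟩ := exists_three h9 (by
    rw [h8] at h7; simp only [← sq]; exact_mod_cast h7.symm)
  have h10 : ∀ g, ¬ 4 ∣ orderOf g → 1 + m a * (a : G → ℂ) g + m c * (c : G → ℂ) g = 0 := fun g hg => by
    have e := indFun_eq_zero_of (P := fun n => ¬ 4 ∣ n) h4 hg
    rw [hm', Finset.sum_apply, sum_three ha hc hac fun k e1 e2 e3 => by
      rw [e0 k e1 e2 e3]; simp, h9] at e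
    simpa using e
  have ha' : (a : G → ℂ) ≠ fun _ => 1 := fun e => ha (Subtype.ext e)
  have hc' : (c : G → ℂ) ≠ fun _ => 1 := fun e => hc (Subtype.ext e)
  have h11 := congrArg Complex.re (h10 1 (by simp))
  have a1 := a.2.one_le_re_one
  have c1 := c.2.one_le_re_one
  rcases sa with sa | sa <;> rcases sc with sc | sc <;> rw [sa, sc] at h10 h11
  · simp at h11; linarith
  · refine ⟨c, a, c.2, a.2, hc', ha', ?_, fun g hg => ?_⟩
    · have := h10 1 (by simp); push_cast at this; linear_combination -this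
    · have := h10 g hg; push_cast at this; linear_combination -this
  · refine ⟨a, c, a.2, c.2, ha', hc', ?_, fun g hg => ?_⟩
    · have := h10 1 (by simp); push_cast at this; linear_combination -this
    · have := h10 g hg; push_cast at this; linear_combination -this
  · simp at h11; linarith

theorem bs_16' (h : R1 G) (S : Sylow 2 G) {n : ℕ}
    (e : (S : Subgroup G) ≃* QuaternionGroup (2 ^ (n + 2))) :
    ∃ χ₁ χ₂ : G → ℂ, IsIrrCharacter G χ₁ ∧ IsIrrCharacter G χ₂ ∧ χ₁ ≠ (fun _ => 1) ∧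
      χ₂ ≠ (fun _ => 1) ∧ χ₁ 1 = χ₂ 1 + 1 ∧ ∀ g : G, ¬ 4 ∣ orderOf g → χ₁ g - χ₂ g = 1 := by
  obtain ⟨x, y, hxS, h1, h2, h3⟩ : ∃ x y : G, x ∈ (S : Subgroup G) ∧ orderOf x = 2 ^ (n + 3) ∧
      y * x * y⁻¹ = x⁻¹ ∧ ∀ s ∈ (S : Subgroup G), ∃ i : ℕ, s = x ^ i ∨ s = y * x ^ i := by
    refine ⟨e.symm (.a 1), e.symm (.xa 0), SetLike.coe_mem _, ?_, ?_, fun s hs => ?_⟩
    · rw [orderOf_coe, MulEquiv.orderOf_eq, QuaternionGroup.orderOf_a_one]; ring
    · rw [mul_inv_eq_iff_eq_mul, eq_inv_mul_iff_mul_eq]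
      norm_cast
      simp [← map_mul]
    · obtain ⟨q, hq⟩ := e.symm.surjective ⟨s, hs⟩
      obtain rfl : (e.symm q : G) = s := congrArg Subtype.val hq
      rcases q with i | i <;> refine ⟨i.val, ?_⟩ <;> norm_cast <;>
        simp [← map_mul, ← map_pow, QuaternionGroup.a_one_pow]
  have hu : orderOf (x ^ 2 ^ (n + 1)) = 4 := by
    rw [orderOf_pow_of_dvd (by positivity) (h1 ▸ pow_dvd_pow 2 (by omega)), h1,
      Nat.pow_div (by omega) two_pos]
    simp
  set u := x ^ 2 ^ (n + 1) with hu'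
  have hy : y * u * y⁻¹ = u⁻¹ := Inv.conj_pow_inv h2 _
  have hx : x ∈ centralizer ({u} : Set G) :=
    mem_centralizer_singleton_iff.mpr (Commute.self_pow x _)
  have h4 : ∀ g : G, g * u * g⁻¹ = u⁻¹ → g ∈ normalizer (centralizer ({u} : Set G) : Set G) :=
    fun g hg => by
      rw [← cj_eq_self_iff, cj_cent, hg]
      ext c
      simp only [mem_centralizer_singleton_iff]
      exact Commute.inv_right_iff
  have h5 : IsSylowOf 2 (zpowers x) (centralizer ({u} : Set G)) := by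
    convert (isSylowOf_top S).inf_of_le le_top fun s hs => ?_
    · refine le_antisymm (zpowers_le.mpr ⟨hxS, hx⟩) fun s hs => ?_
      obtain ⟨i, rfl | rfl⟩ := h3 s hs.1
      · exact pow_mem (mem_zpowers x) i
      · have e := (mul_mem_cancel_right (pow_mem hx i)).mp hs.2
        rw [mem_centralizer_singleton_iff.mp e, mul_inv_cancel_right] at hy
        have : 4 ∣ 2 := hu ▸ orderOf_dvd_of_pow_eq_one (by
          rw [sq]; exact mul_eq_one_iff_eq_inv.mpr hy)
        omega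
    · obtain ⟨i, rfl | rfl⟩ := h3 s hs
      exacts [le_normalizer (pow_mem hx i), mul_mem (h4 y hy) (le_normalizer (pow_mem hx i))]
  obtain ⟨l, e1, e2, e3⟩ := exists_hom_of_cyclic (x := (⟨x, hx⟩ : centralizer ({u} : Set G)))
    (by
      convert h5.subgroupOf le_rfl using 1
      · ext c; simp [mem_subgroupOf, mem_zpowers_iff, Subtype.ext_iff]
      · simp)
    (by rw [orderOf_mk, h1]; exact pow_dvd_pow 2 (show 2 ≤ n + 3 by omega))
  refine bs_16_aux' h hu hy mem_centralizer_singleton_iff (l := l) (fun c hc => ?_)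
    ⟨⟨x, hx⟩, fun e => by simpa [e1, neg_eq_self] using congrArg Units.val e⟩ fun c d e => ?_
  · obtain ⟨z, w, rfl, e4, ⟨k, e5⟩, e6⟩ := exists_ppart Nat.prime_two c
    rw [map_mul, e2 w e6, mul_one]
    rw [e4.orderOf_mul_eq_mul_orderOf_of_coprime (e5 ▸ Nat.Coprime.pow_left k
      ((Nat.Prime.coprime_iff_not_dvd Nat.prime_two).mpr e6)), e5] at hc
    rcases k with _ | _ | k
    · rw [orderOf_eq_one_iff.mp e5, map_one]
    · obtain rfl : z = ⟨x, hx⟩ ^ 2 ^ (n + 2) := Subtype.ext (h _ _ (by simpa using e5) (by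
        rw [SubmonoidClass.mk_pow, orderOf_pow_of_dvd (by positivity)
          (h1 ▸ pow_dvd_pow 2 (by omega)), h1, Nat.pow_div (by omega) two_pos]
        simp) (by
          rw [SubmonoidClass.coe_pow, pow_succ, pow_mul]
          exact Commute.pow_right (mem_centralizer_singleton_iff.mp z.2) 2))
      ext
      rw [map_pow]
      simp [e1, pow_add, mul_comm (2 ^ n), pow_mul]
    · exact absurd (Dvd.dvd.mul_right (pow_dvd_pow 2 (show 2 ≤ k + 1 + 1 by omega)) _) hc
  · obtain ⟨k, i, e4, rfl⟩ := e3 c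
    have e5 := (mem_normalizer_iff.mp (h4 y hy) k).mp k.2
    obtain rfl : d = (⟨x, hx⟩ ^ i)⁻¹ * ⟨_, e5⟩ := Subtype.ext (by
      simp only [e, coe_mul, coe_inv, SubgroupClass.coe_zpow]
      rw [← zpow_neg, ← Inv.conj_zpow_inv h2]; group)
    rw [map_mul, map_mul, e2 k e4, e2 ⟨_, e5⟩ (by rwa [orderOf_mk, Inv.orderOf_conj', orderOf_coe])]
    simp

theorem s0844 (S : Sylow 2 G) (n : ℕ) (e : (S : Subgroup G) ≃* QuaternionGroup (2 ^ (n + 2))) :
    ∃ χ₁ χ₂ : G → ℂ, IsIrrCharacter G χ₁ ∧ IsIrrCharacter G χ₂ ∧ χ₁ ≠ (fun _ => 1) ∧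
      χ₂ ≠ (fun _ => 1) ∧ χ₁ 1 = χ₂ 1 + 1 ∧ ∀ g : G, ¬ 4 ∣ orderOf g → χ₁ g - χ₂ g = 1 :=
  bs_16' (r1_of_quaternion S (n := n + 1) e) S e

end Cfsg.Agent.Char.QS
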