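import Cfsg.Agent.Char.Extend
import Cfsg.Agent.Char.Brauer2
import Cfsg.Agent.Blk.Def
import Cfsg.Agent.PLoc.XS
import Cfsg.Agent.Core.Quaternion

/-! Assorted small results on characters. -/

set_option autoImplicit false
set_option linter.unusedSectionVars false

namespace Cfsg.Agent.Char

open Cfsg Subgroup
open scoped ComplexConjugate

variable {G : Type*} [Group G]

theorem comm_of_forall_irr_one [Finite G] (h : ∀ χ, IsIrrCharacter G χ → χ 1 = 1) (a b : G) :
    a * b = b * a := by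
  have := eq_one_of_forall_irr (g := a * b * a⁻¹ * b⁻¹) fun χ hχ => by
    rw [hχ.isCharacter.commutator_eq_of_one (h χ hχ), h χ hχ]
  rwa [mul_inv_eq_one, mul_inv_eq_iff_eq_mul] at this

theorem _root_.Cfsg.IsCharacter.apply_eq_of_constituents [Fintype G] {χ : G → ℂ}
    (hχ : IsCharacter G χ) {g : G}
    (h : ∀ ψ, IsIrrCharacter G ψ → classInner χ ψ ≠ 0 → ψ g = ψ 1) : χ g = χ 1 := by
  rw [hχ.isClassFunction.apply_eq_sum_irr, hχ.isClassFunction.apply_eq_sum_irr 1]
  refine Finset.sum_congr rfl fun ψ _ => ?_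
  by_cases e : classInner χ ψ = 0
  · rw [e, zero_mul, zero_mul]
  · rw [h ψ ψ.2 e]

theorem _root_.Cfsg.IsCharacter.commutator_of_deg_lt [Finite G] {χ : G → ℂ} (hχ : IsCharacter G χ)
    {n : ℕ} (hn : χ 1 = n) (h : ∀ p : ℕ, p.Prime → p ∣ Nat.card G → n < p) (a b : G) :
    χ (a * b * a⁻¹ * b⁻¹) = χ 1 := by
  have := Fintype.ofFinite G
  refine hχ.apply_eq_of_constituents fun ψ hψ e => ?_
  obtain ⟨d, hd0, hd⟩ := hψ.exists_nat
  have h1 := hχ.degree_le_of_constituent hψ e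
  rw [hd, hn, Complex.natCast_re, Complex.natCast_re, Nat.cast_le] at h1
  have h2 : d = 1 := by
    by_contra h2
    obtain ⟨p, hp, h3⟩ := Nat.exists_prime_and_dvd h2
    have := h p hp (h3.trans (hψ.degree_dvd_card hd))
    have := Nat.le_of_dvd hd0 h3
    omega
  rw [h2, Nat.cast_one] at hd
  rw [hψ.isCharacter.commutator_eq_of_one hd, hd]

/-- the degree of an irreducible character, as a natural number -/
theorem exists_deg_fun [Finite G] : ∃ d : IrrCharacter G → ℕ, (∀ χ, 0 < d χ) ∧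
    (∀ χ : IrrCharacter G, (χ : G → ℂ) 1 = d χ) ∧ ∑ χ, d χ ^ 2 = Nat.card G := by
  choose d h1 h2 using fun χ : IrrCharacter G => χ.2.exists_nat
  refine ⟨d, h1, h2, ?_⟩
  have := sum_irr_one_sq (G := G)
  simp only [h2] at this
  exact_mod_cast this

theorem s0184 [Finite G] (p : ℕ) [hp : Fact p.Prime] (hG : IsPGroup p G) :
    (∃ (n : ℕ) (ρ : Representation ℂ G (Fin n → ℂ)), ρ.IsIrreducible ∧ Function.Injective ρ) ↔
      IsCyclic (center G) := by
  refine ⟨fun ⟨n, ρ, h1, h2⟩ => ?_, fun h => ?_⟩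
  · have hχ := isIrrCharacter_rep ρ h1
    obtain ⟨l, hl⟩ := hχ.exists_hom_of_central (center G).subtype
      fun z g => (mem_center_iff.1 z.2 g).symm
    refine isCyclic_of_injective_ringHom ((Units.coeHom ℂ).comp l)
      ((injective_iff_map_eq_one _).2 fun z hz => Subtype.ext (h2 ?_))
    have := hl z 1
    rw [show (l z : ℂ) = 1 from hz, mul_one, one_mul] at this
    simpa using (rep_eq_one_iff ρ _).1 this
  · have key : ∃ χ, IsIrrCharacter G χ ∧ ∀ g, χ g = χ 1 → g = 1 := by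
      by_cases h1 : Nontrivial G
      · obtain ⟨z, hz, h2⟩ := PLoc.exists_mem_orderOf_eq_prime hp.out
          (Core.dvd_card_of_isPGroup_of_ne_bot (hG.to_subgroup (center G))
            ((center G).nontrivial_iff_ne_bot.1 hG.center_nontrivial))
        have h3 : z ≠ 1 := fun e => hp.out.ne_one (by simp [← h2, e])
        obtain ⟨χ, hχ, h4⟩ : ∃ χ, IsIrrCharacter G χ ∧ χ z ≠ χ 1 := by
          by_contra! h4; exact h3 (eq_one_of_forall_irr h4)
        refine ⟨χ, hχ, fun g hg => by_contra fun h5 => h4 (hχ.isCharacter.mem_charKer.1 ?_)⟩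
        have := hχ.isClassFunction.charKer_normal
        have h6 : charKer χ ⊓ center G ≠ ⊥ := by
          have := hG.isNilpotent
          exact Core.inf_center_ne_bot fun e => h5 (mem_bot.1 (e ▸ hχ.isCharacter.mem_charKer.2 hg))
        obtain ⟨w, hw, h7⟩ := PLoc.exists_mem_orderOf_eq_prime hp.out
          (Core.dvd_card_of_isPGroup_of_ne_bot (hG.to_subgroup _) h6)
        have := Core.eq_of_card_eq_of_isCyclic h (zpowers_le.2 hz) (zpowers_le.2 hw.2)
          (by rw [Nat.card_zpowers, Nat.card_zpowers, h2, h7])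
        exact zpowers_le.2 hw.1 (this ▸ mem_zpowers z)
      · rw [not_nontrivial_iff_subsingleton] at h1
        exact ⟨_, isIrrCharacter_one, fun g _ => Subsingleton.elim _ _⟩
    obtain ⟨_, ⟨n, ρ, h1, rfl⟩, h2⟩ := key
    exact ⟨n, ρ, h1, (injective_iff_map_eq_one ρ).2 fun g hg => h2 g ((rep_eq_one_iff ρ g).2 hg)⟩

theorem exists_irr_deg_lt [Finite G] {p : ℕ} (h : p ^ 2 ∣ Nat.card G)
    (hmany : Nat.card G < p ^ 2 * Nat.card (ConjClasses G)) :
    ∃ χ, IsIrrCharacter G χ ∧ (χ ≠ fun _ => 1) ∧ ∃ d : ℕ, χ 1 = d ∧ d < p := by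
  classical
  obtain ⟨d, h0, h1, h2⟩ := exists_deg_fun (G := G)
  by_contra! h3
  rw [← card_irr_eq_card_conjClasses, Nat.card_eq_fintype_card (α := IrrCharacter G)] at hmany
  rw [← Finset.add_sum_erase _ _ (Finset.mem_univ (irrOne G))] at h2
  have h4 := Finset.card_nsmul_le_sum (Finset.univ.erase (irrOne G)) (fun χ => d χ ^ 2) (p ^ 2)
    fun χ hχ => Nat.pow_le_pow_left (h3 χ χ.2 (fun e => Finset.ne_of_mem_erase hχ (Subtype.ext e))
      _ (h1 χ)) 2
  rw [Finset.card_erase_of_mem (Finset.mem_univ _), Finset.card_univ, smul_eq_mul] at h4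
  obtain ⟨m, hm⟩ := h
  rw [hm] at hmany h2
  have h5 := Nat.lt_of_mul_lt_mul_left hmany
  have h6 : m * p ^ 2 ≤ (Fintype.card (IrrCharacter G) - 1) * p ^ 2 :=
    Nat.mul_le_mul_right _ (by omega)
  have := pow_pos (h0 (irrOne G)) 2
  nlinarith

theorem s0186 [Finite G] [IsSimpleGroup G] (p : ℕ) [hp : Fact p.Prime]
    (hmany : Nat.card G < p ^ 2 * Nat.card (ConjClasses G)) (P : Sylow p G) (a b : G)
    (ha : a ∈ P) (hb : b ∈ P) : a * b = b * a := by
  obtain ⟨k, hk⟩ := IsPGroup.iff_card.1 P.2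
  by_cases h : 2 ≤ k
  · obtain ⟨χ, hχ, h1, d, hd, h2⟩ := exists_irr_deg_lt
      ((pow_dvd_pow p h).trans (hk ▸ card_subgroup_dvd_card (P : Subgroup G))) hmany
    have h3 := (hχ.isCharacter.restrict P).commutator_of_deg_lt (n := d) hd (fun q hq h3 => by
      rwa [(Nat.prime_dvd_prime_iff_eq hq hp.out).1 (hq.dvd_of_dvd_pow (hk ▸ h3))]) ⟨a, ha⟩ ⟨b, hb⟩
    have h4 := hχ.isCharacter.mem_charKer.2 h3
    rw [hχ.charKer_eq_bot_of_simple h1, mem_bot] at h4
    exact mul_inv_eq_iff_eq_mul.1 (mul_inv_eq_one.1 h4)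
  · have : IsCyclic (P : Subgroup G) := isCyclic_of_card_dvd_prime (p := p) (by
      rw [hk]; exact (pow_dvd_pow p (show k ≤ 1 by omega)).trans (by simp))
    exact congrArg Subtype.val (IsCyclic.commGroup.mul_comm (⟨a, ha⟩ : (P : Subgroup G)) ⟨b, hb⟩)

theorem s0855 [Finite G] (p : ℕ) (hp : p.Prime) :
    (∀ χ : IrrCharacter G, ∃ k : ℕ, (χ : G → ℂ) 1 = (p : ℂ) ^ k) ↔
    ∃ A : Subgroup G, A.Normal ∧ (∀ a ∈ A, ∀ b ∈ A, a * b = b * a) ∧ Nat.Coprime (Nat.card A) p ∧
      ∃ k : ℕ, A.index = p ^ k := by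
  classical
  have := Fact.mk hp
  refine ⟨fun h => ?_, fun ⟨A, h1, h2, _, k, hk⟩ χ => ?_⟩
  · set N := pResidual p G
    have := Fintype.ofFinite N
    obtain ⟨d, h0, h1, h2⟩ := exists_deg_fun (G := N)
    have h3 : ∀ θ, ∃ k, d θ = p ^ k := fun θ => by
      obtain ⟨χ, hχ, e⟩ := θ.2.exists_over
      obtain ⟨b, -, hb⟩ := hχ.exists_degree_eq_mul θ.2 e
      obtain ⟨k, hk⟩ := h ⟨χ, hχ⟩
      simp only [hb, h1] at hk
      obtain ⟨j, -, hj⟩ := (Nat.dvd_prime_pow hp).1 (show d θ ∣ p ^ k from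
        ⟨b, by rw [mul_comm]; exact_mod_cast hk.symm⟩)
      exact ⟨j, hj⟩
    have h4 : ¬ p ∣ (_root_.commutator N).index := by
      have e : PLoc.pResOf p (⊤ : Subgroup (Abelianization N)) = ⊤ := by
        have e1 : PLoc.pResOf p (⊤ : Subgroup N) = ⊤ := by
          apply map_injective N.subtype_injective
          rw [PLoc.map_pResOf, ← MonoidHom.range_eq_map, range_subtype]
          simpa [PLoc.pResOf_top] using PLoc.pResOf_pResOf (p := p) (⊤ : Subgroup G)
        have := PLoc.map_pResOf (p := p) (Abelianization.of (G := N)) ⊤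
        rw [e1, map_top_of_surjective _ Quotient.mk''_surjective] at this
        exact this.symm
      have h5 : PLoc.NPC p (⊤ : Subgroup (Abelianization N)) := fun x _ y _ hx hy =>
        (hx.mul_left hy).coprime_dvd_left (Commute.all x y).orderOf_mul_dvd_mul_orderOf
      rw [PLoc.npc_iff_coprime, e, card_top] at h5
      exact (Nat.Prime.coprime_iff_not_dvd hp).1 h5.symm
    have h5 : ¬ p ∣ Nat.card N := fun h5 => h4 (by
      rw [← card_linear_irr, Nat.card_eq_fintype_card, Fintype.card_subtype]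
      rw [← h2, ← Finset.sum_filter_add_sum_filter_not _ (fun χ : IrrCharacter N => χ.1 1 = 1),
        Finset.sum_congr rfl (g := fun _ => 1) fun χ hχ => by
          have := (Finset.mem_filter.1 hχ).2
          rw [h1] at this
          rw [show d χ = 1 by exact_mod_cast this]; rfl] at h5
      rw [Finset.card_eq_sum_ones]
      refine (Nat.dvd_add_left (Finset.dvd_sum fun χ hχ => ?_)).1 h5
      obtain ⟨k, hk⟩ := h3 χ
      have := (Finset.mem_filter.1 hχ).2
      rw [h1, hk] at this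
      rw [hk]
      rcases k with _ | k
      · simp at this
      · exact dvd_pow (dvd_pow_self p k.succ_ne_zero) two_ne_zero)
    refine ⟨N, inferInstance, fun a ha b hb => congrArg Subtype.val (comm_of_forall_irr_one
      (G := N) (fun θ hθ => ?_) ⟨a, ha⟩ ⟨b, hb⟩), ((Nat.Prime.coprime_iff_not_dvd hp).2 h5).symm,
      PLoc.index_pResidual⟩
    obtain ⟨k, hk⟩ := h3 ⟨θ, hθ⟩
    have e := h1 ⟨θ, hθ⟩
    have := hθ.degree_dvd_card e
    rw [hk] at this e
    rcases k with _ | k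
    · simpa using e
    · exact absurd ((dvd_pow_self p k.succ_ne_zero).trans this) h5
  · obtain ⟨d, -, hd⟩ := χ.2.exists_nat
    obtain ⟨j, -, hj⟩ := (Nat.dvd_prime_pow hp).1 (hk ▸ χ.2.degree_dvd_index_of_comm A h2 hd)
    exact ⟨j, by rw [hd, hj, Nat.cast_pow]⟩

/-- values of a Galois stable set of characters -/
theorem card_le_sum_norm_sq [Finite G] (T : Finset (IrrCharacter G)) (g : G)
    (hT : ∀ χ ∈ T, ∀ σ : ℂ ≃+* ℂ, (⟨_, χ.2.map_ringHom σ.toRingHom⟩ : IrrCharacter G) ∈ T)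
    (h0 : ∀ χ ∈ T, (χ : G → ℂ) g ≠ 0) : (T.card : ℝ) ≤ ∑ χ ∈ T, ‖(χ : G → ℂ) g‖ ^ 2 := by
  classical
  let β : ℂ := ∏ χ ∈ T, (χ : G → ℂ) g
  have hβ : IsIntegral ℤ β := IsIntegral.prod _ fun χ _ => χ.2.isCharacter.isIntegral g
  obtain ⟨n, hn⟩ := exists_int_of_fixed hβ fun σ => by
    simp only [β, map_prod]
    refine Finset.prod_bij (fun χ _ => ⟨_, χ.2.map_ringHom σ.toRingHom⟩) (fun χ h => hT χ h σ)
      (fun χ _ ψ _ e => Subtype.ext (funext fun x =>
        σ.injective (congrFun (congrArg Subtype.val e) x))) (fun χ h => ⟨_, hT χ h σ.symm, ?_⟩)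
      fun χ _ => rfl
    exact Subtype.ext (funext fun x => σ.apply_symm_apply _)
  have hpos : ∀ χ ∈ T, 0 < ‖(χ : G → ℂ) g‖ ^ 2 := fun χ h => pow_pos (norm_pos_iff.2 (h0 χ h)) 2
  have hge : (1 : ℝ) ≤ ∏ χ ∈ T, ‖(χ : G → ℂ) g‖ ^ 2 := by
    rw [Finset.prod_pow, ← norm_prod, show ∏ χ ∈ T, (χ : G → ℂ) g = n from hn, Complex.norm_intCast,
      sq_abs]
    have : n ≠ 0 := by rintro rfl; exact Finset.prod_ne_zero_iff.2 h0 (by simpa using hn)
    exact_mod_cast (one_le_sq_iff_one_le_abs n).2 (Int.one_le_abs this)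
  have := Real.log_nonneg hge
  rw [Real.log_prod fun χ h => (hpos χ h).ne'] at this
  have := this.trans (Finset.sum_le_sum fun χ h => Real.log_le_sub_one_of_pos (hpos χ h))
  rw [Finset.sum_sub_distrib] at this
  simpa using this

theorem _root_.Cfsg.IsCharacter.ne_zero_of_pelt [Finite G] {χ : G → ℂ} (hχ : IsCharacter G χ)
    {p d : ℕ} (hp : p.Prime) (hd : χ 1 = d) (h : ¬ p ∣ d) {g : G} (hg : ∃ k, orderOf g = p ^ k) :
    χ g ≠ 0 := by
  obtain ⟨M, hM⟩ := Blk.exists_isPModular p hp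
  have : Blk.PMod p M := ⟨hM⟩
  have := Fact.mk hp
  intro e
  have := Blk.char_mul_sub_mem (M := M) hχ (Commute.one_right g) hg
  rw [mul_one, e, zero_sub, neg_mem_iff, hd, Blk.natCast_mem_LP] at this
  exact h this

theorem s0861 [Finite G] (p : ℕ) [hp : Fact p.Prime] (P : Sylow p G) [(P : Subgroup G).Normal]
    (hab : ∀ a ∈ P, ∀ b ∈ P, a * b = b * a) (g : G) (hg : g ∈ P)
    (hC : centralizer ({g} : Set G) = P) :
    Nat.card (IrrCharacter G) ≤ Nat.card P ∧
      (Nat.card (IrrCharacter G) = Nat.card P → _root_.commutator G ≤ P) := by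
  classical
  obtain ⟨d, h0, h1, -⟩ := exists_deg_fun (G := G)
  let K : IrrCharacter G → Prop := fun χ => ∀ x ∈ (P : Subgroup G), (χ : G → ℂ) x = (χ : G → ℂ) 1
  have h2 := card_le_sum_norm_sq (Finset.univ.filter fun χ => ¬ K χ) g
    (fun χ h σ => Finset.mem_filter.2 ⟨Finset.mem_univ _, fun e => (Finset.mem_filter.1 h).2
      fun x hx => σ.injective (e x hx)⟩)
    fun χ _ => χ.2.isCharacter.ne_zero_of_pelt hp.out (h1 χ)
      (fun e => P.not_dvd_index (e.trans (χ.2.degree_dvd_index_of_comm P hab (h1 χ))))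
      (PLoc.IsPGroup_orderOf P.2 hg)
  have h3 := sum_irr_norm_sq g
  rw [hC, ← Finset.sum_filter_add_sum_filter_not _ K, Finset.sum_congr rfl
    (g := fun χ => ((d χ ^ 2 : ℕ) : ℝ)) fun χ h => by
      rw [(Finset.mem_filter.1 h).2 g hg, h1]; simp] at h3
  have h4 := Finset.card_filter_add_card_filter_not (s := Finset.univ) K
  rw [Finset.card_univ, ← Nat.card_eq_fintype_card] at h4
  have h5 : ∑ χ ∈ Finset.univ.filter K, d χ ^ 2 + (Finset.univ.filter fun χ => ¬ K χ).card ≤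
      Nat.card P := by
    rw [← Nat.cast_sum] at h3
    exact_mod_cast (by rw [← h3]; linarith : ((∑ χ ∈ Finset.univ.filter K, d χ ^ 2 : ℕ) : ℝ) +
      (Finset.univ.filter fun χ => ¬ K χ).card ≤ Nat.card (P : Subgroup G))
  have h6 : ∀ χ ∈ Finset.univ.filter K, 1 ≤ d χ ^ 2 := fun χ _ => pow_pos (h0 χ) 2
  have h7 := Finset.sum_le_sum h6
  rw [← Finset.card_eq_sum_ones] at h7
  refine ⟨by omega, fun e => ?_⟩
  have h8 := (Finset.sum_eq_sum_iff_of_le h6).1 (by rw [← Finset.card_eq_sum_ones]; omega)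
  rw [_root_.commutator, commutator_le]
  intro a _ b _
  rw [← QuotientGroup.eq_one_iff, commutatorElement_def, QuotientGroup.mk_mul, QuotientGroup.mk_mul,
    QuotientGroup.mk_mul, comm_of_forall_irr_one (G := G ⧸ (P : Subgroup G)) (fun θ hθ => ?_) a b]
  · simp
  have := h8 ⟨_, hθ.inflate⟩ (Finset.mem_filter.2 ⟨Finset.mem_univ _, fun x hx => by
    simp [(QuotientGroup.eq_one_iff x).2 hx]⟩)
  have e := h1 ⟨_, hθ.inflate⟩
  rw [(Nat.pow_eq_one.1 this.symm).resolve_right two_ne_zero] at e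
  simpa using e

theorem vanish_of_class_two [Finite G] {p : ℕ} (hp : p.Prime) (hZ : Nat.card (center G) = p)
    (hc : _root_.commutator G ≤ center G) {χ : G → ℂ} (hχ : IsIrrCharacter G χ)
    (h : ∃ z ∈ center G, χ z ≠ χ 1) {x : G} (hx : x ∉ center G) : χ x = 0 := by
  obtain ⟨z, hz, h⟩ := h
  obtain ⟨y, hy⟩ : ∃ y, y * x * y⁻¹ * x⁻¹ ≠ 1 := by
    by_contra! e
    exact hx (mem_center_iff.2 fun y => mul_inv_eq_iff_eq_mul.1 (mul_inv_eq_one.1 (e y)))
  have h1 : y * x * y⁻¹ * x⁻¹ ∈ center G := hc (commutator_mem_commutator (mem_top y) (mem_top x))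
  have h2 := hχ.apply_mul_of_comm (fun g => (mem_center_iff.1 h1 g).symm) x
  rw [inv_mul_cancel_right, hχ.isClassFunction, eq_div_iff hχ.one_ne_zero, mul_comm] at h2
  by_contra h3
  have h4 := hχ.isCharacter.mem_charKer.2 (mul_right_cancel₀ h3 h2).symm
  have := Fact.mk hp
  have h5 := mem_zpowers_of_prime_card hZ (g := ⟨_, h1⟩) (g' := ⟨z, hz⟩)
    fun e => hy (congrArg Subtype.val e)
  obtain ⟨k, hk⟩ := h5
  exact h (hχ.isCharacter.mem_charKer.1 (by
    rw [show z = (y * x * y⁻¹ * x⁻¹) ^ k from (congrArg Subtype.val hk).symm]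
    exact zpow_mem h4 k))

theorem deg_sq_of_vanish [Finite G] {χ : G → ℂ} (hχ : IsIrrCharacter G χ) {d : ℕ} (hd : χ 1 = d)
    (h : ∀ x, x ∉ center G → χ x = 0) : d ^ 2 = (center G).index := by
  have := Fintype.ofFinite G
  obtain ⟨l, hl⟩ := hχ.exists_hom_of_central (center G).subtype
    fun z g => (mem_center_iff.1 z.2 g).symm
  refine sq_eq_index_of_vanish hχ (isIrrCharacter_hom l) (funext fun z => ?_) h
  have := hl z 1
  rw [mul_one, hd, mul_comm] at this
  exact this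

theorem xs_deg [Finite G] {p n : ℕ} [hp : Fact p.Prime] (hP : IsExtraspecial p G)
    (hcard : Nat.card G = p ^ (2 * n + 1)) {χ : G → ℂ} (hχ : IsIrrCharacter G χ)
    (h : ∃ z ∈ center G, χ z ≠ χ 1) : χ 1 = (p : ℂ) ^ n := by
  obtain ⟨d, -, hd⟩ := hχ.exists_nat
  have h1 := deg_sq_of_vanish hχ hd fun x => vanish_of_class_two hp.out hP.2 hP.1.2.2.le hχ h
  have h2 := (center G).index_mul_card
  rw [hP.2, hcard, pow_succ, ← h1, mul_comm 2, pow_mul] at h2
  rw [hd, Nat.pow_left_injective two_ne_zero (Nat.eq_of_mul_eq_mul_right hp.out.pos h2),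
    Nat.cast_pow]

theorem s0893 [Fintype G] (p n : ℕ) [hp : Fact p.Prime] (hP : IsExtraspecial p G)
    (hcard : Nat.card G = p ^ (2 * n + 1)) (A : Subgroup G) (hA : Nat.card A = p ^ (n + 1))
    (lam : A → ℂ) (hlam : IsCharacter A lam ∧ lam 1 = 1)
    (hZ : ∃ a : A, (a : G) ∈ center G ∧ lam a ≠ 1) :
    IsIrrCharacter G (indFun A lam) ∧ ∀ x, x ∉ center G → indFun A lam x = 0 := by
  have := Fintype.ofFinite A
  have h1 : indFun A lam 1 = (p : ℂ) ^ n := by
    have := A.index_mul_card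
    rw [hA, hcard, show 2 * n + 1 = n + (n + 1) by ring, pow_add _ n (n + 1)] at this
    rw [indFun_one, hlam.2, mul_one, Nat.eq_of_mul_eq_mul_right (pow_pos hp.out.pos _) this,
      Nat.cast_pow]
  obtain ⟨χ, hχ, h2⟩ := hlam.1.indFun.exists_irr_constituent fun e => by
    rw [e] at h1
    exact pow_ne_zero n (Nat.cast_ne_zero.2 hp.out.ne_zero) h1.symm
  obtain ⟨a, ha, h3⟩ := hZ
  have h4 : ∃ z ∈ center G, χ z ≠ χ 1 := ⟨a, ha, fun e => h3 (by
    rw [← hlam.2]
    refine (hχ.isCharacter.restrict A).apply_eq_of_constituent (hlam.1.isIrr_of_one hlam.2) ?_ e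
    rwa [classInner_indFun_left _ _ hχ.isClassFunction, Ne, classInner_eq_zero_comm] at h2)⟩
  rw [hlam.1.indFun.eq_of_constituent_of_one_eq hχ h2 (h1.trans (xs_deg hP hcard hχ h4).symm)]
  exact ⟨hχ, fun x => vanish_of_class_two hp.out hP.2 hP.1.2.2.le hχ h4⟩

theorem s0894 [Finite G] (p n : ℕ) [hp : Fact p.Prime] (hP : IsExtraspecial p G)
    (hcard : Nat.card G = p ^ (2 * n + 1)) :
    (∀ χ : IrrCharacter G, (χ : G → ℂ) 1 = 1 ∨ (χ : G → ℂ) 1 = (p : ℂ) ^ n) ∧
      Nat.card {χ : IrrCharacter G // (χ : G → ℂ) 1 = (p : ℂ) ^ n} = p - 1 := by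
  classical
  have h1 : ∀ χ : IrrCharacter G, (χ : G → ℂ) 1 = 1 ∨ (χ : G → ℂ) 1 = (p : ℂ) ^ n := fun χ => by
    by_cases h : ∃ z ∈ center G, (χ : G → ℂ) z ≠ (χ : G → ℂ) 1
    · exact .inr (xs_deg hP hcard χ.2 h)
    · push Not at h
      exact .inl (χ.2.one_eq_one_of_commutator fun a b => h _
        (hP.1.2.2.le (commutator_mem_commutator (mem_top a) (mem_top b))))
  refine ⟨h1, ?_⟩
  have h2 := (center G).index_mul_card
  rw [hP.2, hcard, pow_succ] at h2
  have h3 := Nat.eq_of_mul_eq_mul_right hp.out.pos h2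
  have hn : (p : ℂ) ^ n ≠ 1 := fun e => by
    have e1 : n = 0 := (Nat.pow_eq_one.1 (by exact_mod_cast e)).resolve_left hp.out.ne_one
    rw [e1, mul_zero, pow_zero, index_eq_one] at h3
    have h4 : _root_.commutator G = ⊥ := by
      rw [_root_.commutator, commutator_eq_bot_iff_le_centralizer]
      exact fun a _ b _ => mem_center_iff.1 (h3 ▸ mem_top a) b
    have := hP.2
    rw [← hP.1.2.2, h4, card_bot] at this
    exact hp.out.ne_one this.symm
  have h4 := card_linear_irr (G := G)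
  rw [hP.1.2.2, h3, Nat.card_eq_fintype_card, Fintype.card_subtype] at h4
  have h5 := sum_irr_one_sq (G := G)
  rw [← Finset.sum_filter_add_sum_filter_not _ (fun χ : IrrCharacter G => χ.1 1 = 1),
    Finset.sum_congr rfl (g := fun _ => 1) fun χ h => by rw [(Finset.mem_filter.1 h).2, one_pow],
    Finset.sum_congr (s₂ := Finset.univ.filter fun χ : IrrCharacter G => χ.1 1 = (p : ℂ) ^ n)
      (g := fun _ => (p : ℂ) ^ (2 * n)) (Finset.filter_congr fun χ _ =>
        ⟨(h1 χ).resolve_left, fun e e' => hn (e.symm.trans e')⟩)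
      fun χ h => by rw [(Finset.mem_filter.1 h).2, ← pow_mul, mul_comm],
    Finset.sum_const, Finset.sum_const, h4, hcard, nsmul_eq_mul, nsmul_eq_mul] at h5
  rw [Nat.card_eq_fintype_card, Fintype.card_subtype]
  apply Nat.cast_injective (R := ℂ)
  apply mul_right_cancel₀ (pow_ne_zero (2 * n) (Nat.cast_ne_zero.2 hp.out.ne_zero : (p : ℂ) ≠ 0))
  rw [Nat.cast_sub hp.out.one_le]
  push_cast at h5 ⊢
  linear_combination h5

theorem s0895 [Fintype G] (χ : G → ℂ) (hχ : IsIrrCharacter G χ) (hreal : ∀ g : G, (χ g).im = 0)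
    (d : ℕ) (hd : χ 1 = d) (hodd : Odd d) : (Nat.card G : ℂ)⁻¹ * ∑ s : G, χ (s * s) = 1 := by
  classical
  have h1 := hχ.classInner_self
  obtain ⟨n, ρ, hρ, rfl⟩ := hχ
  obtain rfl : n = d := by simpa using hd
  let R : G →* Matrix (Fin n) (Fin n) ℂ :=
    (LinearMap.toMatrixAlgEquiv' (R := ℂ) (n := Fin n)).toRingEquiv.toMonoidHom.comp ρ
  have hR : ∀ g, ρ.character g = (R g).trace := fun g => by
    rw [Representation.character, LinearMap.trace_eq_matrix_trace ℂ (Pi.basisFun ℂ (Fin n))]; rfl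
  have key : ∀ X : Matrix (Fin n) (Fin n) ℂ, X.transpose = -X →
      ∑ g, R g * X * (R g).transpose = 0 := fun X hX => by
    set Y := ∑ g, R g * X * (R g).transpose with hY
    have e1 : Y.transpose = -Y := by
      simp [hY, Matrix.transpose_sum, hX, Matrix.mul_assoc]
    have e2 : ∀ h, R h * Y = Y * (R h⁻¹).transpose := fun h => by
      rw [hY, Finset.mul_sum, Finset.sum_mul, ← Equiv.sum_comp (Equiv.mulLeft h)
        (fun g => R g * X * (R g).transpose * (R h⁻¹).transpose)]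
      refine Finset.sum_congr rfl fun g _ => ?_
      rw [Equiv.coe_mulLeft, Matrix.mul_assoc (R (h * g) * X), ← Matrix.transpose_mul, ← map_mul,
        inv_mul_cancel_left, map_mul]
      simp only [Matrix.mul_assoc]
    have e3 : Y.det = 0 := by
      have := Matrix.det_transpose Y
      rw [e1, Matrix.det_neg, Fintype.card_fin, hodd.neg_one_pow] at this
      linear_combination (-1 / 2) * this
    rcases ((isIrreducible_iff ρ).1 hρ).2 (LinearMap.range (Matrix.toLin' Y)) (by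
      rintro g _ ⟨v, rfl⟩
      refine ⟨(R g⁻¹).transpose.mulVec v, ?_⟩
      rw [Matrix.toLin'_apply, Matrix.mulVec_mulVec, ← e2, ← Matrix.mulVec_mulVec,
        Matrix.toLin'_apply]
      exact LinearMap.toMatrix'_mulVec _ _) with e | e
    · exact Matrix.toLin'.injective (by rw [LinearMap.range_eq_bot.1 e, map_zero])
    · exact absurd e3 (by
        rw [← LinearMap.det_toLin' Y]
        exact ((LinearMap.isUnit_iff_range_eq_top _).2 e).map LinearMap.det |>.ne_zero)
  have h2 : ∑ g, ρ.character (g * g) = ∑ g, ρ.character g * ρ.character g := by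
    have e : ∀ i j, ∑ g, (R g i i * R g j j - R g i j * R g j i) = 0 := fun i j => by
      have := congrFun (congrFun (key (Matrix.single i j 1 - Matrix.single j i 1) (by simp)) i) j
      rw [Matrix.sum_apply] at this
      refine Eq.trans (Finset.sum_congr rfl fun g _ => ?_) this
      simp [Matrix.mul_sub, sub_mul, Matrix.mul_apply, Matrix.single_apply, ite_and]
    have e1 : ∑ g, ∑ i, ∑ j, (R g i i * R g j j - R g i j * R g j i) = 0 := by
      rw [Finset.sum_comm]
      exact Finset.sum_eq_zero fun i _ => Finset.sum_comm.trans (Finset.sum_eq_zero fun j _ => e i j)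
    rw [eq_comm, ← sub_eq_zero, ← Finset.sum_sub_distrib, ← e1]
    refine Finset.sum_congr rfl fun g _ => ?_
    simp [hR, Matrix.trace, Matrix.mul_apply, Finset.sum_mul_sum]
  rw [h2, ← h1, classInner_def]
  simp only [Complex.conj_eq_iff_im.2 (hreal _)]

theorem s0849 [Fintype G] (H : Subgroup G) (S : Set G)
    (hTI : ∀ g : G, g ∉ H → ∀ s ∈ S, g * s * g⁻¹ ∉ S) (hinv : ∀ s ∈ S, s⁻¹ ∈ S) (φ : H → ℂ)
    (hφS : ∀ x : H, (x : G) ∉ S → φ x = 0) (u v : G) (hu : orderOf u = 2) (hv : orderOf v = 2) :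
    ∑ᶠ p ∈ {p : G × G | IsConj u p.1 ∧ IsConj v p.2}, indFun H φ (p.1 * p.2) =
      (H.index : ℂ) * ∑ᶠ p ∈ {p : H × H | IsConj u (p.1 : G) ∧ IsConj v (p.2 : G)},
        φ (p.1 * p.2) := by
  classical
  have := Fintype.ofFinite H
  rw [finsum_mem_def, finsum_mem_def, finsum_eq_sum_of_fintype, finsum_eq_sum_of_fintype]
  let F : G × G → ℂ := fun p => if IsConj u p.1 ∧ IsConj v p.2 then extendByZero H φ (p.1 * p.2)
    else 0
  have h1 : ∀ p : G × G, {p : G × G | IsConj u p.1 ∧ IsConj v p.2}.indicator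
      (fun p => indFun H φ (p.1 * p.2)) p =
      (Nat.card H : ℂ)⁻¹ * ∑ x : G, F (x * p.1 * x⁻¹, x * p.2 * x⁻¹) := fun p => by
    have e : ∀ a b x : G, IsConj a (x * b * x⁻¹) ↔ IsConj a b := fun a b x =>
      ⟨fun h => h.trans (isConj_iff.2 ⟨x, rfl⟩).symm, fun h => h.trans (isConj_iff.2 ⟨x, rfl⟩)⟩
    simp only [F, e, Set.indicator_apply, Set.mem_ofPred_eq]
    split_ifs
    · rw [indFun_apply']; simp only [conj_mul]
    · simp
  have h2 : ∀ x : G, ∑ p : G × G, F (x * p.1 * x⁻¹, x * p.2 * x⁻¹) = ∑ p, F p := fun x =>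
    Equiv.sum_comp ((MulAut.conj x).toEquiv.prodCongr (MulAut.conj x).toEquiv) F
  have h3 : ∀ a b : G, IsConj a b → orderOf a = 2 → b⁻¹ = b := fun a b h e => by
    rw [inv_eq_iff_mul_eq_one, ← sq, ← e, Blk.orderOf_isConj h, pow_orderOf_eq_one]
  simp only [h1]
  rw [← Finset.mul_sum, Finset.sum_comm]
  simp only [h2]
  rw [Finset.sum_const, Finset.card_univ, ← Nat.card_eq_fintype_card, nsmul_eq_mul, ← mul_assoc,
    ← H.index_mul_card, Nat.cast_mul, mul_comm (H.index : ℂ) (Nat.card H : ℂ),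
    inv_mul_cancel_left₀ (card_ne_zero H)]
  congr 1
  refine (Finset.sum_of_injOn (fun p : H × H => ((p.1 : G), (p.2 : G)))
    (fun p _ q _ e => Prod.ext (Subtype.ext (congrArg Prod.fst e))
      (Subtype.ext (congrArg Prod.snd e))) (fun _ _ => Finset.mem_univ _) (fun p _ hp => ?_)
    fun p _ => ?_).symm
  · simp only [F]
    split_ifs with e
    · rw [extendByZero_apply]
      split_ifs with e1
      · refine hφS _ fun e2 => hp ?_
        have e3 : p.1 ∈ H := by_contra fun e3 => hTI _ e3 _ e2 (by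
          convert hinv _ e2 using 1
          change p.1 * (p.1 * p.2) * p.1⁻¹ = (p.1 * p.2)⁻¹
          rw [mul_inv_rev, h3 v _ e.2 hv]
          nth_rw 1 [← h3 u _ e.1 hu]
          group)
        exact ⟨(⟨_, e3⟩, ⟨_, (mul_mem_cancel_left e3).1 e1⟩), by simp, rfl⟩
      · rfl
    · rfl
  · simp only [F, Set.indicator_apply, Set.mem_ofPred_eq]
    rw [← Subgroup.coe_mul, extendByZero_coe]

end Cfsg.Agent.Char
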